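import Mathlib
import Cfsg.Prelude.Def_LieRecognition

/-! Elementary lemmas on elements of odd order and involutions. -/

set_option autoImplicit false

namespace H21

open Cfsg
open scoped Pointwise

section Basic
variable {G : Type*} [Group G]

/-- an element of odd order has a square root among its powers -/
theorem exists_pow_sq_eq_of_odd {x : G} {n : ℕ} (hn : Odd n) (hx : x ^ n = 1) :
    ∃ k : ℕ, x ^ k * x ^ k = x := by
  obtain ⟨m, rfl⟩ := hn
  refine ⟨m + 1, ?_⟩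
  rw [← pow_add, show m + 1 + (m + 1) = (2 * m + 1) + 1 by ring, pow_succ, hx, one_mul]

/-- an element of odd order is a power of its square -/
theorem eq_pow_sq_of_odd {x : G} {m : ℕ} (hx : x ^ (2 * m + 1) = 1) :
    (x * x) ^ (m + 1) = x := by
  rw [← pow_two, ← pow_mul, show 2 * (m + 1) = (2 * m + 1) + 1 by ring, pow_succ, hx, one_mul]

theorem eq_of_sq_eq_of_odd {x y : G} {n : ℕ} (hn : Odd n) (hx : x ^ n = 1) (hy : y ^ n = 1)
    (h : x * x = y * y) : x = y := by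
  obtain ⟨m, rfl⟩ := hn
  rw [← eq_pow_sq_of_odd hx, ← eq_pow_sq_of_odd hy, h]

theorem eq_one_of_sq_of_odd {x : G} {n : ℕ} (hn : Odd n) (hx : x ^ n = 1) (h : x * x = 1) :
    x = 1 :=
  eq_of_sq_eq_of_odd hn hx (one_pow n) (by rw [h, one_mul])

theorem pow_card_eq_one_of_mem {X : Subgroup G} {x : G} (hx : x ∈ X) : x ^ Nat.card X = 1 := by
  have := pow_card_eq_one' (x := (⟨x, hx⟩ : X))
  exact congrArg Subtype.val this

theorem eq_one_of_sq_of_mem_odd {X : Subgroup G} (hX : Odd (Nat.card X)) {x : G} (hx : x ∈ X)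
    (h : x * x = 1) : x = 1 :=
  eq_one_of_sq_of_odd hX (pow_card_eq_one_of_mem hx) h

theorem commute_of_commute_sq_of_odd {x y : G} {n : ℕ} (hn : Odd n) (hx : x ^ n = 1)
    (h : Commute (x * x) y) : Commute x y := by
  obtain ⟨m, rfl⟩ := hn
  rw [← eq_pow_sq_of_odd hx]
  exact h.pow_left _

/-- an element of odd order inverting `x` centralises it, so `x = x⁻¹` -/
theorem eq_inv_of_odd_inverts {g x : G} {n : ℕ} (hn : Odd n) (hg : g ^ n = 1)
    (h : g * x * g⁻¹ = x⁻¹) : x = x⁻¹ := by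
  have h2 : Commute (g * g) x := by
    have h3 : g * x⁻¹ * g⁻¹ = x := by
      have := congrArg (·⁻¹) h
      simpa [mul_assoc] using this
    have : g * g * x * (g * g)⁻¹ = x := by
      calc g * g * x * (g * g)⁻¹ = g * (g * x * g⁻¹) * g⁻¹ := by group
        _ = x := by rw [h, h3]
    exact mul_inv_eq_iff_eq_mul.mp this
  have h4 := commute_of_commute_sq_of_odd hn hg h2
  rw [h4.eq, mul_inv_cancel_right] at h
  exact h

theorem invol_inv {u : G} (hu : u * u = 1) : u⁻¹ = u := inv_eq_of_mul_eq_one_right hu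

/-- two involutions with product of odd order are conjugate by a power of the product -/
theorem conj_of_odd_mul {u v : G} (hu : u * u = 1) (hv : v * v = 1) {n : ℕ} (hn : Odd n)
    (h : (u * v) ^ n = 1) : ∃ k : ℕ, (u * v) ^ k * v * ((u * v) ^ k)⁻¹ = u := by
  obtain ⟨k, hk⟩ := exists_pow_sq_eq_of_odd hn h
  refine ⟨k, ?_⟩
  have h1 : v * (u * v)⁻¹ * v⁻¹ = u * v := by
    rw [mul_inv_rev, invol_inv hu, invol_inv hv, ← mul_assoc, hv, one_mul]
  have h2 : v * ((u * v) ^ k)⁻¹ * v⁻¹ = (u * v) ^ k := by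
    rw [← inv_pow, ← conj_pow, h1]
  have h3 : v * ((u * v) ^ k)⁻¹ = (u * v) ^ k * v := by
    exact mul_inv_eq_iff_eq_mul.mp h2
  rw [mul_assoc, h3, ← mul_assoc, hk, mul_assoc, hv, mul_one]

/-- if the product of two involutions has even order, there is an involution commuting with both -/
theorem exists_invol_comm_of_not_odd {u v : G} (hu : u * u = 1) (hv : v * v = 1)
    (hfin : IsOfFinOrder (u * v)) (h : ¬ Odd (orderOf (u * v))) :
    ∃ z : G, z ≠ 1 ∧ z * z = 1 ∧ Commute z u ∧ Commute z v ∧ z ∈ Subgroup.zpowers (u * v) := by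
  rw [Nat.not_odd_iff_even] at h
  obtain ⟨m, hm⟩ := h
  have hpos := hfin.orderOf_pos
  have hz2 : (u * v) ^ m * (u * v) ^ m = 1 := by rw [← pow_add, ← hm, pow_orderOf_eq_one]
  have h1 : v * (u * v) * v⁻¹ = (u * v)⁻¹ := by
    rw [mul_inv_rev, invol_inv hu, invol_inv hv, mul_assoc, mul_assoc, hv, mul_one]
  have h2 : v * (u * v) ^ m * v⁻¹ = (u * v) ^ m := by
    rw [← conj_pow, h1, inv_pow, invol_inv hz2]
  have hv' : Commute ((u * v) ^ m) v := (mul_inv_eq_iff_eq_mul.mp h2).symm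
  refine ⟨(u * v) ^ m, ?_, hz2, ?_, hv', Subgroup.npow_mem_zpowers _ _⟩
  · exact pow_ne_one_of_lt_orderOf (by omega) (by omega)
  · have : u = (u * v) * v := by rw [mul_assoc, hv, mul_one]
    have h3 : Commute ((u * v) ^ m) ((u * v) * v) :=
      Commute.mul_right ((Commute.refl _).pow_left m) hv'
    rwa [← this] at h3

/-- an element of finite even order has an involution among its powers -/
theorem exists_invol_pow_of_not_odd {g : G} (hfin : IsOfFinOrder g) (h : ¬ Odd (orderOf g)) :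
    ∃ m : ℕ, g ^ m ≠ 1 ∧ g ^ m * g ^ m = 1 := by
  rw [Nat.not_odd_iff_even] at h
  obtain ⟨m, hm⟩ := h
  have hpos := hfin.orderOf_pos
  exact ⟨m, pow_ne_one_of_lt_orderOf (by omega) (by omega),
    by rw [← pow_add, ← hm, pow_orderOf_eq_one]⟩

theorem even_card_of_invol [Finite G] {X : Subgroup G} {z : G} (hz : z ∈ X) (h1 : z ≠ 1)
    (h2 : z * z = 1) : Even (Nat.card X) := by
  by_contra h
  exact h1 (eq_one_of_sq_of_mem_odd (Nat.not_even_iff_odd.mp h) hz h2)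

theorem exists_invol_of_even_card [Finite G] {X : Subgroup G} (h : Even (Nat.card X)) :
    ∃ z ∈ X, z ≠ 1 ∧ z * z = 1 := by
  have : Fact (Nat.Prime 2) := ⟨Nat.prime_two⟩
  obtain ⟨z, hz⟩ := exists_prime_orderOf_dvd_card' (G := X) 2 (even_iff_two_dvd.mp h)
  refine ⟨z, z.2, ?_, ?_⟩
  · intro h1
    have : z = 1 := Subtype.ext h1
    rw [this, orderOf_one] at hz
    omega
  · have := pow_orderOf_eq_one z
    rw [hz, pow_two] at this
    exact congrArg Subtype.val this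

end Basic

section Inverted
variable {M : Type*} [Group M]

theorem mem_invertedBy {X : Subgroup M} {t x : M} :
    x ∈ invertedBy X t ↔ x ∈ X ∧ t * x * t⁻¹ = x⁻¹ := Iff.rfl

theorem mem_involutionsIn {S : Set M} {x : M} :
    x ∈ involutionsIn S ↔ x ∈ S ∧ x ≠ 1 ∧ x * x = 1 := Iff.rfl

theorem pow_mem_invertedBy {X : Subgroup M} {t x : M} (hx : x ∈ invertedBy X t) (n : ℕ) :
    x ^ n ∈ invertedBy X t :=
  ⟨X.pow_mem hx.1 n, by rw [← conj_pow, hx.2, inv_pow]⟩

theorem inv_mem_invertedBy {X : Subgroup M} {t x : M} (hx : x ∈ invertedBy X t) :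
    x⁻¹ ∈ invertedBy X t :=
  ⟨X.inv_mem hx.1, by rw [← conj_inv, hx.2]⟩

theorem one_mem_invertedBy (X : Subgroup M) (t : M) : (1 : M) ∈ invertedBy X t :=
  ⟨X.one_mem, by simp⟩

theorem exists_sqrt_invertedBy {X : Subgroup M} (hodd : Odd (Nat.card X)) {t x : M}
    (hx : x ∈ invertedBy X t) : ∃ l ∈ invertedBy X t, l * l = x := by
  obtain ⟨k, hk⟩ := exists_pow_sq_eq_of_odd hodd (pow_card_eq_one_of_mem hx.1)
  exact ⟨x ^ k, pow_mem_invertedBy hx k, hk⟩

/-- factorisation `x = y z`, `y` centralised and `z` inverted by the involution `t` -/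
theorem exists_cent_mul_inverted {t : M} (ht : t * t = 1) {X : Subgroup M}
    (hodd : Odd (Nat.card X)) (hnorm : ∀ x ∈ X, t * x * t⁻¹ ∈ X) {x : M} (hx : x ∈ X) :
    ∃ y z : M, y ∈ X ∧ t * y = y * t ∧ z ∈ invertedBy X t ∧ x = y * z := by
  have hw : (t * x * t⁻¹)⁻¹ * x ∈ invertedBy X t := by
    refine ⟨X.mul_mem (X.inv_mem (hnorm x hx)) hx, ?_⟩
    rw [invol_inv ht]
    calc t * ((t * x * t)⁻¹ * x) * t = (t * t⁻¹) * x⁻¹ * t⁻¹ * x * t := by group
      _ = x⁻¹ * t * x * t := by rw [mul_inv_cancel, one_mul, invol_inv ht]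
      _ = ((t * x * t)⁻¹ * x)⁻¹ := by group
  obtain ⟨z, hz, hz2⟩ := exists_sqrt_invertedBy hodd hw
  refine ⟨x * z⁻¹, z, X.mul_mem hx (X.inv_mem hz.1), ?_, hz, by group⟩
  have h1 : t * z⁻¹ * t⁻¹ = z := by simpa using (inv_mem_invertedBy hz).2
  have h2 : z = (t * x * t⁻¹)⁻¹ * x * z⁻¹ := by rw [← hz2]; group
  have h3 : t * (x * z⁻¹) * t⁻¹ = x * z⁻¹ := by
    calc t * (x * z⁻¹) * t⁻¹ = (t * x * t⁻¹) * (t * z⁻¹ * t⁻¹) := by group
      _ = (t * x * t⁻¹) * ((t * x * t⁻¹)⁻¹ * x * z⁻¹) := by rw [h1, ← h2]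
      _ = x * z⁻¹ := by group
  exact mul_inv_eq_iff_eq_mul.mp h3

theorem cent_mul_inverted_unique {t : M} {X : Subgroup M}
    (hodd : Odd (Nat.card X)) {y z y' z' : M} (hy : t * y = y * t) (hz : z ∈ invertedBy X t)
    (hy' : t * y' = y' * t) (hz' : z' ∈ invertedBy X t) (h : y * z = y' * z') :
    y = y' ∧ z = z' := by
  have key : ∀ y z : M, t * y = y * t → z ∈ invertedBy X t →
      z * z = (t * (y * z) * t⁻¹)⁻¹ * (y * z) := by
    intro y z hy hz
    have : t * (y * z) * t⁻¹ = y * z⁻¹ := by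
      rw [← hz.2, ← mul_assoc, hy]; group
    rw [this]; group
  have hzz : z = z' := by
    apply eq_of_sq_eq_of_odd hodd (pow_card_eq_one_of_mem hz.1) (pow_card_eq_one_of_mem hz'.1)
    rw [key y z hy hz, key y' z' hy' hz', h]
  subst hzz
  exact ⟨mul_right_cancel h, rfl⟩

theorem mem_inf_centralizer_singleton {X : Subgroup M} {t y : M} :
    y ∈ X ⊓ Subgroup.centralizer {t} ↔ y ∈ X ∧ t * y = y * t := by
  rw [Subgroup.mem_inf, Subgroup.mem_centralizer_singleton_iff, eq_comm]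

theorem card_eq_cent_mul_inverted {t : M} (ht : t * t = 1) {X : Subgroup M}
    (hodd : Odd (Nat.card X)) (hnorm : ∀ x ∈ X, t * x * t⁻¹ ∈ X) :
    Nat.card X = Nat.card ↥(X ⊓ Subgroup.centralizer {t}) * Nat.card (invertedBy X t) := by
  rw [← Nat.card_prod]
  symm
  refine Nat.card_congr (Equiv.ofBijective
    (fun p : ↥(X ⊓ Subgroup.centralizer {t}) × (invertedBy X t) =>
      (⟨p.1.1 * p.2.1, X.mul_mem p.1.2.1 p.2.2.1⟩ : X)) ⟨?_, ?_⟩)
  · rintro ⟨⟨y, hy⟩, ⟨z, hz⟩⟩ ⟨⟨y', hy'⟩, ⟨z', hz'⟩⟩ h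
    have h' : y * z = y' * z' := congrArg Subtype.val h
    obtain ⟨rfl, rfl⟩ := cent_mul_inverted_unique hodd (mem_inf_centralizer_singleton.mp hy).2 hz
      (mem_inf_centralizer_singleton.mp hy').2 hz' h'
    rfl
  · rintro ⟨x, hx⟩
    obtain ⟨y, z, hy, hyt, hz, rfl⟩ := exists_cent_mul_inverted ht hodd hnorm hx
    exact ⟨⟨⟨y, mem_inf_centralizer_singleton.mpr ⟨hy, hyt⟩⟩, ⟨z, hz⟩⟩, rfl⟩

theorem conj_mem_invertedBy_of_comm {t : M} {X : Subgroup M} {y z : M} (hy : y ∈ X)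
    (hyt : t * y = y * t) (hz : z ∈ invertedBy X t) : y * z * y⁻¹ ∈ invertedBy X t := by
  refine ⟨X.mul_mem (X.mul_mem hy hz.1) (X.inv_mem hy), ?_⟩
  have h1 : t * y * t⁻¹ = y := by rw [hyt]; group
  calc t * (y * z * y⁻¹) * t⁻¹ = (t * y * t⁻¹) * (t * z * t⁻¹) * (t * y * t⁻¹)⁻¹ := by group
    _ = (y * z * y⁻¹)⁻¹ := by rw [h1, hz.2]; group

theorem conj_mem_closure_inverted {t : M} (ht : t * t = 1) {X : Subgroup M}
    (hodd : Odd (Nat.card X)) (hnorm : ∀ x ∈ X, t * x * t⁻¹ ∈ X) {x : M} (hx : x ∈ X)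
    {w : M} (hw : w ∈ Subgroup.closure (invertedBy X t)) :
    x * w * x⁻¹ ∈ Subgroup.closure (invertedBy X t) := by
  obtain ⟨y, z, hy, hyt, hz, rfl⟩ := exists_cent_mul_inverted ht hodd hnorm hx
  have hz' : z ∈ Subgroup.closure (invertedBy X t) := Subgroup.subset_closure hz
  have h1 : z * w * z⁻¹ ∈ Subgroup.closure (invertedBy X t) :=
    Subgroup.mul_mem _ (Subgroup.mul_mem _ hz' hw) (Subgroup.inv_mem _ hz')
  have h2 : ∀ w ∈ Subgroup.closure (invertedBy X t),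
      y * w * y⁻¹ ∈ Subgroup.closure (invertedBy X t) := by
    intro w hw
    induction hw using Subgroup.closure_induction with
    | mem w hw => exact Subgroup.subset_closure (conj_mem_invertedBy_of_comm hy hyt hw)
    | one => simp
    | mul a b _ _ ha hb =>
      have : y * (a * b) * y⁻¹ = (y * a * y⁻¹) * (y * b * y⁻¹) := by group
      rw [this]; exact Subgroup.mul_mem _ ha hb
    | inv a _ ha =>
      have : y * a⁻¹ * y⁻¹ = (y * a * y⁻¹)⁻¹ := by group
      rw [this]; exact Subgroup.inv_mem _ ha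
  have := h2 _ h1
  have e : y * z * w * (y * z)⁻¹ = y * (z * w * z⁻¹) * y⁻¹ := by group
  rwa [e]

theorem s1124 [Finite M]
    (t : M) (ht : orderOf t = 2) (X : Subgroup M) (hodd : Odd (Nat.card X))
    (hnorm : ∀ x ∈ X, t * x * t⁻¹ ∈ X) :
    (∀ x ∈ X, ∃! p : M × M, p.1 ∈ X ⊓ Subgroup.centralizer {t} ∧ p.2 ∈ Cfsg.invertedBy X t ∧ x = p.1 * p.2) ∧
      Nat.card X = Nat.card ↥(X ⊓ Subgroup.centralizer {t}) * Nat.card (Cfsg.invertedBy X t) ∧
      ∀ x ∈ X, MulAut.conj x • Subgroup.closure (Cfsg.invertedBy X t) = Subgroup.closure (Cfsg.invertedBy X t) := by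
  have ht2 : t * t = 1 := by rw [← pow_two, ← ht, pow_orderOf_eq_one]
  refine ⟨fun x hx => ?_, card_eq_cent_mul_inverted ht2 hodd hnorm, fun x hx => ?_⟩
  · obtain ⟨y, z, hy, hyt, hz, rfl⟩ := exists_cent_mul_inverted ht2 hodd hnorm hx
    refine ⟨(y, z), ⟨mem_inf_centralizer_singleton.mpr ⟨hy, hyt⟩, hz, rfl⟩, ?_⟩
    rintro ⟨y', z'⟩ ⟨hy', hz', h⟩
    obtain ⟨rfl, rfl⟩ := cent_mul_inverted_unique hodd hyt hz
      (mem_inf_centralizer_singleton.mp hy').2 hz' h
    rfl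
  · ext w
    rw [Subgroup.mem_pointwise_smul_iff_inv_smul_mem, ← map_inv, MulAut.smul_def, MulAut.conj_apply]
    constructor
    · intro h
      have := conj_mem_closure_inverted ht2 hodd hnorm hx h
      have e : x * (x⁻¹ * w * x⁻¹⁻¹) * x⁻¹ = w := by group
      rwa [e] at this
    · exact conj_mem_closure_inverted ht2 hodd hnorm (X.inv_mem hx)

end Inverted

end H21
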