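import Mathlib
import Cfsg.Agent.H1.CoprimeAbelian

/-! An abelian group acting irreducibly on a finite abelian group: field coordinates. -/

set_option autoImplicit false

open scoped IsMulCommutative

namespace H21

theorem exists_field_coord_add {Γ V : Type*} [Group Γ] [AddCommGroup V] [Finite V]
    (ρ : Γ →* Module.End ℤ V) (A : Subgroup Γ) (hA : ∀ a ∈ A, ∀ b ∈ A, ρ a * ρ b = ρ b * ρ a)
    (hirr : ∀ W : AddSubgroup V, (∀ a ∈ A, ∀ w ∈ W, ρ a w ∈ W) → W = ⊥ ∨ W = ⊤)
    {v₀ : V} (hv : v₀ ≠ 0) (K : Type*) [Field K] [Finite K] (hK : Nat.card K = Nat.card V) :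
    ∃ (e : K ≃+ V) (μ : Γ → K), e 1 = v₀ ∧ (∀ a ∈ A, ∀ k, ρ a (e k) = e (μ a * k)) ∧
      Subring.closure (μ '' A) = ⊤ ∧
      ∀ g : Γ, (∀ a ∈ A, g * a * g⁻¹ ∈ A) →
        ∃ (φ : K ≃+* K) (c : K), ∀ k, ρ g (e k) = e (c * φ k) := by
  classical
  have : Nontrivial V := ⟨v₀, 0, hv⟩
  let s : Set (Module.End ℤ V) := ρ '' A
  have hs : ∀ x ∈ s, ∀ y ∈ s, x * y = y * x := by
    rintro _ ⟨a, ha, rfl⟩ _ ⟨b, hb, rfl⟩
    exact hA a ha b hb
  let R := Subring.closure s
  have hR : IsMulCommutative R := Subring.isMulCommutative_closure hs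
  have hmem : ∀ a ∈ A, ρ a ∈ R := fun a ha => Subring.subset_closure ⟨a, ha, rfl⟩
  have hker : ∀ (x : R) (v : V), (x : Module.End ℤ V) v = 0 → x = 0 ∨ v = 0 := by
    intro x v hxv
    rcases hirr (LinearMap.ker (x : Module.End ℤ V)).toAddSubgroup (by
      intro a ha w hw
      have h1 : (x : Module.End ℤ V) * ρ a = ρ a * x :=
        congrArg Subtype.val (hR.is_comm.comm x (⟨ρ a, hmem a ha⟩ : R))
      have h2 : (x : Module.End ℤ V) w = 0 := hw
      change ((x : Module.End ℤ V) * ρ a) w = 0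
      rw [h1, Module.End.mul_apply, h2, map_zero]) with h | h
    · right
      have : v ∈ (LinearMap.ker (x : Module.End ℤ V)).toAddSubgroup := hxv
      rwa [h] at this
    · left
      ext w
      have : w ∈ (LinearMap.ker (x : Module.End ℤ V)).toAddSubgroup := h ▸ AddSubgroup.mem_top w
      exact this
  let ev : R →+ V :=
    { toFun := fun x => (x : Module.End ℤ V) v₀
      map_zero' := rfl
      map_add' := fun _ _ => rfl }
  have hev1 : Function.Injective ev := by
    rw [injective_iff_map_eq_zero]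
    intro x hx
    exact (hker x v₀ hx).resolve_right hv
  have hev2 : Function.Surjective ev := by
    rw [← AddMonoidHom.range_eq_top]
    refine (hirr ev.range ?_).resolve_left (fun h => hv ?_)
    · rintro a ha _ ⟨x, rfl⟩
      exact ⟨⟨ρ a, hmem a ha⟩ * x, rfl⟩
    · have : v₀ ∈ ev.range := ⟨1, rfl⟩
      rwa [h] at this
  have hnz : NoZeroDivisors R := by
    constructor
    intro x y hxy
    rcases hker x ((y : Module.End ℤ V) v₀) (LinearMap.congr_fun (congrArg Subtype.val hxy) v₀)
      with h | h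
    · exact Or.inl h
    · exact Or.inr ((hker y v₀ h).resolve_right hv)
  have hfin : Finite R := Finite.of_injective _ hev1
  let _ : CommRing R := { (inferInstance : Ring R) with mul_comm := hR.is_comm.comm }
  have hdom : IsDomain R := NoZeroDivisors.to_isDomain R
  let _ : Field R := (Finite.isField_of_domain R).toField
  have := Fintype.ofFinite R
  have := Fintype.ofFinite K
  let ι : K ≃+* R := FiniteField.ringEquivOfCardEq (by
    rw [← Nat.card_eq_fintype_card, ← Nat.card_eq_fintype_card, hK,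
      Nat.card_congr (Equiv.ofBijective ev ⟨hev1, hev2⟩)])
  let e : K ≃+ V := ι.toAddEquiv.trans (AddEquiv.ofBijective ev ⟨hev1, hev2⟩)
  have he : ∀ k, e k = (ι k : Module.End ℤ V) v₀ := fun _ => rfl
  let μ : Γ → K := fun a => if h : ρ a ∈ R then ι.symm ⟨ρ a, h⟩ else 0
  have hμ : ∀ a (ha : a ∈ A), ι (μ a) = ⟨ρ a, hmem a ha⟩ := fun a ha => by
    simp only [μ, dif_pos (hmem a ha), RingEquiv.apply_symm_apply]
  refine ⟨e, μ, by rw [he, map_one]; rfl, fun a ha k => ?_, ?_, fun g hg => ?_⟩
  · rw [he, he, map_mul, hμ a ha]; rfl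
  · rw [eq_top_iff]
    intro k _
    obtain ⟨⟨x, hx⟩, rfl⟩ := ι.symm.surjective k
    induction hx using Subring.closure_induction with
    | mem x hx =>
      obtain ⟨a, ha, rfl⟩ := hx
      apply Subring.subset_closure
      exact ⟨a, ha, by rw [← hμ a ha, RingEquiv.symm_apply_apply]⟩
    | zero => exact (map_zero ι.symm).symm ▸ Subring.zero_mem _
    | one => exact (map_one ι.symm).symm ▸ Subring.one_mem _
    | add x y hx hy h1 h2 =>
      have := Subring.add_mem _ (h1 trivial) (h2 trivial)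
      rwa [← map_add] at this
    | neg x hx h1 =>
      have := Subring.neg_mem _ (h1 trivial)
      rwa [← map_neg] at this
    | mul x y hx hy h1 h2 =>
      have := Subring.mul_mem _ (h1 trivial) (h2 trivial)
      rwa [← map_mul] at this
  · have hinv : ρ g⁻¹ * ρ g = 1 := by rw [← map_mul, inv_mul_cancel, map_one]
    have hinv' : ρ g * ρ g⁻¹ = 1 := by rw [← map_mul, mul_inv_cancel, map_one]
    let c : Module.End ℤ V →+* Module.End ℤ V :=
      { toFun := fun x => ρ g * x * ρ g⁻¹
        map_one' := by rw [mul_one, hinv']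
        map_mul' := fun x y => by
          calc ρ g * (x * y) * ρ g⁻¹ = ρ g * x * (ρ g⁻¹ * ρ g) * y * ρ g⁻¹ := by
                rw [hinv, mul_one, mul_assoc (ρ g) x y]
            _ = _ := by simp only [mul_assoc]
        map_zero' := by rw [mul_zero, zero_mul]
        map_add' := fun x y => by rw [mul_add, add_mul] }
    have hc : R ≤ R.comap c := by
      rw [Subring.closure_le]
      rintro _ ⟨a, ha, rfl⟩
      show ρ g * ρ a * ρ g⁻¹ ∈ R
      rw [← map_mul, ← map_mul]
      exact hmem _ (hg a ha)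
    let ψ : R →+* R := (c.comp R.subtype).codRestrict R (fun x => hc x.2)
    let φ : K →+* K := ι.symm.toRingHom.comp (ψ.comp ι.toRingHom)
    have hφ : Function.Bijective φ := Finite.injective_iff_bijective.mp φ.injective
    obtain ⟨d, hd⟩ := hev2 (ρ g v₀)
    refine ⟨RingEquiv.ofBijective φ hφ, ι.symm d, fun k => ?_⟩
    rw [he, he, mul_comm, map_mul, RingEquiv.apply_symm_apply]
    have h1 : ι (RingEquiv.ofBijective φ hφ k) = ψ (ι k) := RingEquiv.apply_symm_apply ι _
    rw [h1]
    show _ = (ρ g * ι k * ρ g⁻¹) ((d : Module.End ℤ V) v₀)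
    rw [show (d : Module.End ℤ V) v₀ = ρ g v₀ from hd, Module.End.mul_apply, Module.End.mul_apply,
      ← Module.End.mul_apply (ρ g⁻¹), hinv, Module.End.one_apply]

variable {G : Type*} [Group G]

/-- field coordinates on an abelian subgroup `F` acted on irreducibly by an abelian `A` -/
theorem exists_field_coord [Finite G] (F A : Subgroup G) [IsMulCommutative F]
    (hA : ∀ a ∈ A, ∀ b ∈ A, a * b = b * a)
    (hAF : A ≤ Subgroup.normalizer (F : Set G))
    (hirr : ∀ U : Subgroup G, U ≤ F → U ≠ ⊥ → A ≤ Subgroup.normalizer (U : Set G) → U = F)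
    {v₀ : G} (hv : v₀ ∈ F) (hv1 : v₀ ≠ 1) (K : Type*) [Field K] [Finite K]
    (hK : Nat.card K = Nat.card F) :
    ∃ (τ : K → G) (μ : G → K), (∀ x y, τ (x + y) = τ x * τ y) ∧ Function.Injective τ ∧
      (∀ k, τ k ∈ F) ∧ (∀ u ∈ F, ∃ k, τ k = u) ∧ τ 1 = v₀ ∧
      (∀ a ∈ A, ∀ k, a * τ k * a⁻¹ = τ (μ a * k)) ∧ Subring.closure (μ '' A) = ⊤ ∧
      ∀ g ∈ Subgroup.normalizer (F : Set G), (∀ a ∈ A, g * a * g⁻¹ ∈ A) →
        ∃ (φ : K ≃+* K) (c : K), ∀ k, g * τ k * g⁻¹ = τ (c * φ k) := by
  classical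
  let ρ : Subgroup.normalizer (F : Set G) →* Module.End ℤ (Additive F) :=
    { toFun := fun a => (MonoidHom.toAdditive (H1.conjHom F a a.2)).toIntLinearMap
      map_one' := by
        refine LinearMap.ext fun v => ?_
        apply Additive.toMul.injective
        change H1.conjHom F 1 (Subgroup.one_mem _) (Additive.toMul v) = Additive.toMul v
        ext; simp
      map_mul' := fun a b => by
        refine LinearMap.ext fun v => ?_
        apply Additive.toMul.injective
        exact H1.conjHom_mul F a b a.2 b.2 _ }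
  have hρ : ∀ (a : Subgroup.normalizer (F : Set G)) (v : Additive F),
      ((Additive.toMul (ρ a v) : F) : G) = a * (Additive.toMul v : F) * (a : G)⁻¹ :=
    fun _ _ => rfl
  obtain ⟨e, μ, h1, h2, h3, h4⟩ := exists_field_coord_add ρ (A.subgroupOf _)
    (fun a ha b hb => by rw [← map_mul, ← map_mul]; congr 1; exact Subtype.ext (hA a ha b hb))
    (fun W hW => by
      by_cases hW0 : W = ⊥
      · exact Or.inl hW0
      right
      let U : Subgroup G := (AddSubgroup.toSubgroup' W).map F.subtype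
      have hU := hirr U (Subgroup.map_subtype_le _) (fun e => hW0 (by
        rw [eq_bot_iff]
        intro w hw
        have : ((Additive.toMul w : F) : G) ∈ U := ⟨_, hw, rfl⟩
        rw [e, Subgroup.mem_bot] at this
        exact Additive.toMul.injective (Subtype.ext this))) (by
        rw [Subgroup.le_normalizer_iff]
        rintro a ha _ ⟨k, hk, rfl⟩
        exact ⟨_, hW ⟨a, hAF ha⟩ ha _ hk, rfl⟩)
      rw [eq_top_iff]
      intro w _
      have : ((Additive.toMul w : F) : G) ∈ U := by rw [hU]; exact (Additive.toMul w).2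
      obtain ⟨k, hk, e⟩ := this
      obtain rfl : k = Additive.toMul w := Subtype.ext e
      exact hk)
    (v₀ := Additive.ofMul ⟨v₀, hv⟩) (fun e => hv1 (congrArg Subtype.val (Additive.ofMul.injective e)))
    K hK
  refine ⟨fun k => (Additive.toMul (e k) : F),
    fun g => if h : g ∈ Subgroup.normalizer (F : Set G) then μ ⟨g, h⟩ else 0,
    fun x y => by simp only [map_add]; rfl, fun x y h => ?_, fun k => (Additive.toMul (e k)).2,
    fun u hu => ⟨e.symm (Additive.ofMul ⟨u, hu⟩), by simp⟩, by simp only [h1]; rfl,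
    fun a ha k => ?_, ?_, fun g hg hgA => ?_⟩
  · exact e.injective (Additive.toMul.injective (Subtype.ext h))
  · simp only [dif_pos (hAF ha)]
    rw [← h2 ⟨a, hAF ha⟩ ha, hρ]
  · rw [eq_top_iff, ← h3]
    apply Subring.closure_mono
    rintro _ ⟨a, ha, rfl⟩
    exact ⟨a, ha, by simp only [dif_pos a.2]⟩
  · obtain ⟨φ, c, h5⟩ := h4 ⟨g, hg⟩ (fun a ha => hgA a ha)
    exact ⟨φ, c, fun k => by simp only []; rw [← h5, hρ]⟩

theorem exists_field_of_card {p f n : ℕ} (hp : p.Prime) (hn : n = p ^ f) (h1 : 1 < n) :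
    ∃ (K : Type) (_ : Field K) (_ : Fintype K), Nat.card K = n := by
  have := Fact.mk hp
  refine ⟨GaloisField p f, inferInstance, Fintype.ofFinite _, ?_⟩
  rw [hn]
  apply GaloisField.card
  rintro rfl
  simp at hn
  omega

end H21
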