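import Mathlib

/-! Additive and biadditive maps on a finite field as combinations of field automorphisms. -/

set_option autoImplicit false

namespace H21

section
variable {F : Type*} [Field F]

theorem linearIndependent_ringEquiv :
    LinearIndependent F (fun σ : F ≃+* F => ((σ : F →+* F) : F → F)) := by
  have := (linearIndependent_monoidHom F F).comp (fun σ : F ≃+* F => ((σ : F →+* F) : F →* F))
    (fun σ τ h => RingEquiv.ext fun x => DFunLike.congr_fun h x)
  exact this

instance finite_ringEquiv [Finite F] : Finite (F ≃+* F) :=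
  Finite.of_injective (fun σ : F ≃+* F => (σ : F → F)) DFunLike.coe_injective

theorem coeff_unique [Fintype (F ≃+* F)] {c d : (F ≃+* F) → F}
    (h : ∀ x : F, ∑ σ, c σ * σ x = ∑ σ, d σ * σ x) : c = d := by
  have := Fintype.linearIndependent_iff.mp (linearIndependent_ringEquiv (F := F)) (c - d) (by
    ext x
    simp only [Finset.sum_apply, Pi.smul_apply, Pi.sub_apply, smul_eq_mul, sub_mul,
      Finset.sum_sub_distrib, Pi.zero_apply]
    exact sub_eq_zero.mpr (h x))
  ext σ
  exact sub_eq_zero.mp (this σ)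

theorem card_ringEquiv (p : ℕ) [Fact p.Prime] [Finite F] [Algebra (ZMod p) F] :
    Nat.card (F ≃+* F) = Module.finrank (ZMod p) F := by
  rw [← IsGalois.card_aut_eq_finrank]
  refine Nat.card_congr ⟨fun σ => { σ with commutes' := fun r => ?_ }, fun σ => σ.toRingEquiv,
    fun _ => rfl, fun _ => rfl⟩
  have : ((σ : F →+* F).comp (algebraMap (ZMod p) F)) = algebraMap (ZMod p) F :=
    RingHom.ext_zmod _ _
  exact DFunLike.congr_fun this r

theorem exists_coeff_addMonoidHom [Finite F] [Fintype (F ≃+* F)] (f : F →+ F) :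
    ∃ c : (F ≃+* F) → F, ∀ x : F, f x = ∑ σ, c σ * σ x := by
  classical
  obtain ⟨p, hp⟩ := CharP.exists F
  have hpp : Fact p.Prime := ⟨CharP.char_is_prime F p⟩
  let _ : Algebra (ZMod p) F := ZMod.algebra F p
  let Φ : ((F ≃+* F) → F) → (F →+ F) := fun c =>
    { toFun := fun x => ∑ σ, c σ * σ x
      map_zero' := by simp
      map_add' := fun x y => by simp [mul_add, Finset.sum_add_distrib] }
  have hinj : Function.Injective Φ := fun c d h => coeff_unique fun x => DFunLike.congr_fun h x
  have hfin : Finite (F →+ F) :=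
    Finite.of_injective (fun σ : F →+ F => (σ : F → F)) DFunLike.coe_injective
  have hcard : Nat.card (F →+ F) ≤ Nat.card ((F ≃+* F) → F) := by
    rw [Nat.card_congr (AddMonoidHom.toZModLinearMapEquiv p).toEquiv, Nat.card_fun,
      card_ringEquiv p, Module.natCard_eq_pow_finrank (K := ZMod p) (V := F →ₗ[ZMod p] F),
      Module.finrank_linearMap, Module.natCard_eq_pow_finrank (K := ZMod p) (V := F), pow_mul]
  obtain ⟨c, rfl⟩ := (hinj.bijective_of_nat_card_le hcard).2 f
  exact ⟨c, fun _ => rfl⟩

theorem exists_coeff_biadditive [Finite F] [Fintype (F ≃+* F)] (B : F →+ F →+ F) :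
    ∃ c : (F ≃+* F) × (F ≃+* F) → F, ∀ x y : F, B x y = ∑ p, c p * (p.1 x * p.2 y) := by
  classical
  choose d hd using fun x : F => exists_coeff_addMonoidHom (B x)
  have hadd : ∀ x x' : F, d (x + x') = d x + d x' := by
    intro x x'
    apply coeff_unique
    intro y
    simp only [Pi.add_apply, add_mul, Finset.sum_add_distrib, ← hd, map_add,
      AddMonoidHom.add_apply]
  choose e he using fun τ : F ≃+* F => exists_coeff_addMonoidHom
    (AddMonoidHom.mk' (fun x => d x τ) (fun x x' => by rw [hadd]; rfl))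
  refine ⟨fun p => e p.2 p.1, fun x y => ?_⟩
  rw [hd, Fintype.sum_prod_type_right]
  refine Finset.sum_congr rfl fun τ _ => ?_
  have := he τ x
  simp only [AddMonoidHom.mk'_apply] at this
  rw [this, Finset.sum_mul]
  exact Finset.sum_congr rfl fun σ _ => by ring

theorem s1140 [Fintype F] :
    LinearIndependent F (fun σ : F ≃+* F => ((σ : F →+* F) : F → F)) ∧
      (∀ f : F →+ F, ∃ (s : Finset (F ≃+* F)) (c : (F ≃+* F) → F), ∀ x : F, f x = ∑ σ ∈ s, c σ * σ x) ∧
      ∀ B : F →+ F →+ F, ∃ (s : Finset ((F ≃+* F) × (F ≃+* F))) (c : (F ≃+* F) × (F ≃+* F) → F),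
        ∀ x y : F, B x y = ∑ p ∈ s, c p * (p.1 x * p.2 y) := by
  have := Fintype.ofFinite (F ≃+* F)
  exact ⟨linearIndependent_ringEquiv, fun f => ⟨Finset.univ, exists_coeff_addMonoidHom f⟩,
    fun B => ⟨Finset.univ, exists_coeff_biadditive B⟩⟩

theorem s1168 [Fintype F] [CharP F 2] (q : F → F)
    (hq : ∀ x y z : F, q (x + y + z) + q (x + y) + q (x + z) + q (y + z) + q x + q y + q z = 0) :
    ∃ (s : Finset ((F ≃+* F) × (F ≃+* F))) (c : (F ≃+* F) × (F ≃+* F) → F),
      ∀ x : F, q x = ∑ p ∈ s, c p * (p.1 x * p.2 x) := by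
  have := Fintype.ofFinite (F ≃+* F)
  let _ : Algebra (ZMod 2) F := ZMod.algebra F 2
  have h2 : (2 : F) = 0 := CharP.cast_eq_zero F 2
  have h0 : q 0 = 0 := by
    have := hq 0 0 0
    simp only [add_zero] at this
    linear_combination this - 3 * q 0 * h2
  have hc : ∀ a : ZMod 2, a = 0 ∨ a = 1 := by decide
  let Q : QuadraticMap (ZMod 2) F F := QuadraticMap.ofPolar q
    (fun a x => by rcases hc a with rfl | rfl <;> simp [h0])
    (fun x x' y => by
      simp only [QuadraticMap.polar]
      linear_combination hq x x' y - (q (x + x') + q (x + y) + q (x' + y)) * h2)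
    (fun a x y => by rcases hc a with rfl | rfl <;> simp [h0, QuadraticMap.polar])
  obtain ⟨B, hB⟩ := LinearMap.BilinMap.toQuadraticMap_surjective Q
  obtain ⟨c, hc⟩ := exists_coeff_biadditive (F := F)
    (AddMonoidHom.mk' (fun x => (B x).toAddMonoidHom) (fun x y => by ext; simp))
  refine ⟨Finset.univ, c, fun x => ?_⟩
  rw [← hc]
  have : Q x = q x := rfl
  rw [← this, ← hB]
  rfl

end

end H21
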