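import Mathlib
import Cfsg.Agent.H21.FieldAut

/-! Field lemmas for Higman's theorem on Suzuki 2-groups. -/

set_option autoImplicit false

namespace H21

variable {F : Type*} [Field F]

/-- multiplicative functions -/
def IsMulFun {M : Type*} [Monoid M] (f : M → F) : Prop := f 1 = 1 ∧ ∀ x y, f (x * y) = f x * f y

theorem dedekind {M ι : Type*} [Monoid M] (s : Finset ι) (a : ι → F) (f : ι → M → F)
    (hf : ∀ i, IsMulFun (f i)) (h : ∀ x, ∑ i ∈ s, a i * f i x = 0) {i₀ : ι} (hi : i₀ ∈ s)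
    (ha : a i₀ ≠ 0) : ∃ j ∈ s, j ≠ i₀ ∧ a j ≠ 0 ∧ f j = f i₀ := by
  classical
  let g : ι → (M →* F) := fun i => { toFun := f i, map_one' := (hf i).1, map_mul' := (hf i).2 }
  have h1 := linearIndependent_iff.mp (linearIndependent_monoidHom M F)
    (∑ i ∈ s, Finsupp.single (g i) (a i)) (by
      rw [map_sum]
      ext x
      simpa [g] using h x)
  have h2 := DFunLike.congr_fun h1 (g i₀)
  rw [Finsupp.finsetSum_apply, Finsupp.coe_zero, Pi.zero_apply] at h2
  by_contra hn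
  push Not at hn
  rw [Finset.sum_eq_single i₀ (fun j hj hne => ?_) (fun h' => absurd hi h'),
    Finsupp.single_eq_same] at h2
  · exact ha h2
  · by_cases e : a j = 0
    · simp [e]
    · exact Finsupp.single_eq_of_ne fun e' =>
        hn j hj hne e (funext fun x => (DFunLike.congr_fun e' x).symm)

theorem exists_eq_of_sum_eq {M ι κ : Type*} [Monoid M] (s : Finset ι) (t : Finset κ) (a : ι → F)
    (f : ι → M → F) (b : κ → F) (g : κ → M → F) (hf : ∀ i, IsMulFun (f i))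
    (hg : ∀ j, IsMulFun (g j)) (h : ∀ x, ∑ i ∈ s, a i * f i x = ∑ j ∈ t, b j * g j x) {i₀ : ι}
    (hi : i₀ ∈ s) (ha : a i₀ ≠ 0) (hu : ∀ i ∈ s, f i = f i₀ → i = i₀) :
    ∃ j ∈ t, b j ≠ 0 ∧ g j = f i₀ := by
  obtain ⟨j, hj, h1, h2, h3⟩ := dedekind (s.disjSum t) (Sum.elim a (fun j => -b j)) (Sum.elim f g)
    (by rintro (i | j); exacts [hf i, hg j]) (fun x => by
      rw [Finset.sum_disjSum]
      simp [h x]) (i₀ := Sum.inl i₀) (Finset.inl_mem_disjSum.mpr hi) ha
  rcases j with i | j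
  · exact absurd (congrArg Sum.inl (hu i (Finset.inl_mem_disjSum.mp hj) h3)) h1
  · exact ⟨j, Finset.inr_mem_disjSum.mp hj, neg_ne_zero.mp h2, h3⟩

theorem isMulFun_pair (σ τ : F ≃+* F) : IsMulFun (fun z : F × F => σ z.1 * τ z.2) :=
  ⟨by simp, fun x y => by simp only [Prod.fst_mul, Prod.snd_mul, map_mul]; ring⟩

theorem pair_inj {p p' : (F ≃+* F) × (F ≃+* F)}
    (h : (fun z : F × F => p.1 z.1 * p.2 z.2) = fun z : F × F => p'.1 z.1 * p'.2 z.2) : p = p' :=
  Prod.ext (RingEquiv.ext fun x => by simpa using congrFun h (x, 1))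
    (RingEquiv.ext fun x => by simpa using congrFun h (1, x))

theorem coeff_equivariant [Fintype (F ≃+* F)] {B : F → F → F} {c : (F ≃+* F) × (F ≃+* F) → F}
    (hB : ∀ x y, B x y = ∑ p, c p * (p.1 x * p.2 y)) {u v w : F}
    (h : ∀ x y, B (u * x) (v * y) = w * B x y) {p : (F ≃+* F) × (F ≃+* F)} (hp : c p ≠ 0) :
    p.1 u * p.2 v = w := by
  by_contra hne
  obtain ⟨p', -, h1, -, h2⟩ := dedekind Finset.univ (fun p => c p * (p.1 u * p.2 v - w))
    (fun p (z : F × F) => p.1 z.1 * p.2 z.2) (fun p => isMulFun_pair p.1 p.2) (fun z => by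
      have := h z.1 z.2
      rw [hB, hB, Finset.mul_sum, ← sub_eq_zero, ← Finset.sum_sub_distrib] at this
      rw [← this]
      exact Finset.sum_congr rfl fun p _ => by simp only [map_mul]; ring)
    (Finset.mem_univ p) (mul_ne_zero hp (sub_ne_zero.mpr hne))
  exact h1 (pair_inj h2)

theorem eq_of_mul_additive (h2 : (2 : F) = 0) {α β γ : F ≃+* F} (h : ∀ x, α x * β x = γ x)
    (x : F) : α x = β x := by
  have h1 := h (x + 1)
  simp only [map_add, map_one] at h1
  linear_combination h1 - h x - β x * h2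

theorem sq_inj (h2 : (2 : F) = 0) {x y : F} (h : x ^ 2 = y ^ 2) : x = y := by
  have : (x - y) ^ 2 = 0 := by linear_combination h + (y ^ 2 - x * y) * h2
  exact sub_eq_zero.mp (pow_eq_zero_iff two_ne_zero |>.mp this)

theorem id_or_id (h2 : (2 : F) = 0) (hq : ∃ t : F, t ≠ 0 ∧ t ≠ 1) {ρ ρ' : F ≃+* F}
    (h : ∀ x, ρ x ^ 2 * ρ' x ^ 2 = x ^ 3) : (∀ x, ρ x = x) ∨ ∀ x, ρ' x = x := by
  have hm : ∀ σ : F ≃+* F, IsMulFun (fun x => σ x ^ 2) := fun σ =>
    ⟨by simp, fun x y => by simp only [map_mul]; ring⟩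
  obtain ⟨j, -, -, hj⟩ := exists_eq_of_sum_eq (M := F) (Finset.univ : Finset Bool)
    (Finset.univ : Finset Bool) (fun _ => (1 : F)) (fun i x => if i then x ^ 2 else x) (fun _ => 1)
    (fun i x => if i then ρ x ^ 2 else ρ' x ^ 2)
    (by rintro (_ | _); exacts [⟨rfl, fun _ _ => rfl⟩, hm (RingEquiv.refl F)])
    (by rintro (_ | _); exacts [hm ρ', hm ρ]) (fun x => by
      have h1 := h (x + 1)
      simp only [map_add, map_one] at h1
      simp only [Fintype.univ_bool, Finset.mem_singleton, Bool.true_eq_false, not_false_eq_true,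
        Finset.sum_insert, Finset.sum_singleton, if_true, Bool.false_eq_true, if_false, one_mul]
      linear_combination h x - h1 + (ρ x ^ 2 * ρ' x + ρ x * ρ' x ^ 2 + 2 * ρ x * ρ' x + ρ x + ρ' x
        - x ^ 2 - x) * h2) (i₀ := true) (Finset.mem_univ _) one_ne_zero (by
      rintro (_ | _) - e
      · obtain ⟨t, h0, h1⟩ := hq
        have := congrFun e t
        simp only [Bool.false_eq_true, if_false, if_true] at this
        exact absurd (mul_left_cancel₀ h0 (by linear_combination -this : t * t = t * 1)) h1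
      · rfl)
  rcases j with _ | _
  · exact Or.inr fun x => sq_inj h2 (by simpa using congrFun hj x)
  · exact Or.inl fun x => sq_inj h2 (by simpa using congrFun hj x)

section
variable [Fintype (F ≃+* F)] {K : Type*}

theorem lemmaK (h2 : (2 : F) = 0) {B T : F → F → F} {b c : (F ≃+* F) × (F ≃+* F) → F}
    (hB : ∀ x y, B x y = ∑ p, b p * (p.1 x * p.2 y))
    (hT : ∀ x y, T x y = ∑ p, c p * (p.1 x * p.2 y)) {χ l : K → F}
    (he : ∀ k x a, T (χ k * x) (l k * a) = l k * T x a) (hid : ∀ x y, T x (B x y) = B x y)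
    {p : (F ≃+* F) × (F ≃+* F)} (hp : b p ≠ 0) :
    ∃ ρ : F ≃+* F, ∀ k, p.1 (χ k) * ρ (l k) ^ 2 = l k ^ 2 := by
  obtain ⟨⟨r, p'⟩, -, h1, h3⟩ := exists_eq_of_sum_eq (M := F × F) Finset.univ Finset.univ b
    (fun p z => p.1 z.1 * p.2 z.2)
    (fun j : ((F ≃+* F) × (F ≃+* F)) × ((F ≃+* F) × (F ≃+* F)) => c j.1 * j.1.2 (b j.2))
    (fun j z => j.1.1 z.1 * j.1.2 (j.2.1 z.1) * j.1.2 (j.2.2 z.2))
    (fun p => isMulFun_pair p.1 p.2)
    (fun j => ⟨by simp, fun x y => by simp only [Prod.fst_mul, Prod.snd_mul, map_mul]; ring⟩)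
    (fun z => by
      rw [← hB, ← hid, hT]
      conv_rhs => rw [Fintype.sum_prod_type]
      refine Finset.sum_congr rfl fun r _ => ?_
      rw [hB, map_sum, Finset.mul_sum, Finset.mul_sum]
      exact Finset.sum_congr rfl fun p' _ => by simp only [map_mul]; ring)
    (Finset.mem_univ p) hp (fun i _ e => pair_inj e)
  have h4 : ∀ x, r.1 x * (p'.1.trans r.2) x = p.1 x := fun x => by simpa using congrFun h3 (x, 1)
  refine ⟨r.2, fun k => ?_⟩
  have h5 : r.1 (χ k) * r.2 (l k) = l k := coeff_equivariant hT (he k) (left_ne_zero_of_mul h1)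
  rw [← h4, ← eq_of_mul_additive h2 h4]
  linear_combination (r.1 (χ k) * r.2 (l k) + l k) * h5

theorem eq_zero_of_coeff {B : F → F → F} {b : (F ≃+* F) × (F ≃+* F) → F}
    (hB : ∀ x y, B x y = ∑ p, b p * (p.1 x * p.2 y)) (h : ∀ p, b p = 0) (x y : F) : B x y = 0 := by
  simp [hB, h]

end

section
variable [Finite F] {K : Type*}

theorem not_forall_eq_one (hq : ∃ t : F, t ≠ 0 ∧ t ≠ 1) {χ : K → F}
    (hχ : ∀ t, t ≠ 0 → ∃ k, χ k = t) (σ : F ≃+* F) : ¬ ∀ k, σ (χ k) = 1 := by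
  intro h
  obtain ⟨t, h0, h1⟩ := hq
  obtain ⟨k, rfl⟩ := hχ t h0
  exact h1 (σ.injective (by rw [h k, map_one]))

theorem eq_zero_of_idem (h2 : (2 : F) = 0) (hq : ∃ t : F, t ≠ 0 ∧ t ≠ 1) (T : F →+ F →+ F)
    {χ l : K → F} (hχ : ∀ t, t ≠ 0 → ∃ k, χ k = t) (hl : ∀ t, t ≠ 0 → ∃ k, l k = t)
    (hl0 : ∀ k, l k ≠ 0) (he : ∀ k x a, T (χ k * x) (l k * a) = l k * T x a)
    (hid : ∀ x y, T x (T x y) = T x y) (x y : F) : T x y = 0 := by
  have := Fintype.ofFinite (F ≃+* F)
  obtain ⟨c, hc⟩ := exists_coeff_biadditive T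
  refine eq_zero_of_coeff (B := fun x y => T x y) hc (fun p => ?_) x y
  by_contra hp
  obtain ⟨ρ, hρ⟩ := lemmaK h2 (B := fun x y => T x y) (T := fun x y => T x y) hc hc he hid hp
  have h3 : ∀ k, p.1 (χ k) * p.2 (l k) = l k := fun k =>
    coeff_equivariant (B := fun x y => T x y) hc (he k) hp
  have : CharP F 2 := CharTwo.of_one_ne_zero_of_two_eq_zero one_ne_zero h2
  have h4 : ∀ t, (RingEquiv.refl F) t * p.2 t = (ρ.trans (frobeniusEquiv F 2)) t := fun t => by
    by_cases ht : t = 0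
    · simp [ht]
    obtain ⟨k, rfl⟩ := hl t ht
    have h5 : p.1 (χ k) ≠ 0 := left_ne_zero_of_mul (by rw [h3]; exact ht)
    refine mul_left_cancel₀ h5 ?_
    simp only [RingEquiv.refl_apply, RingEquiv.trans_apply, frobeniusEquiv_def]
    linear_combination l k * h3 k - hρ k
  refine not_forall_eq_one hq hχ p.1 fun k => mul_right_cancel₀ (hl0 k) ?_
  have h5 := eq_of_mul_additive h2 h4 (l k)
  rw [RingEquiv.refl_apply] at h5
  have h6 := h3 k
  rw [← h5] at h6
  rw [one_mul, h6]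

theorem eq_zero_of_two_ids (h2 : (2 : F) = 0) (hq : ∃ t : F, t ≠ 0 ∧ t ≠ 1) (B T₁ T₂ : F →+ F →+ F)
    {χ₁ χ₂ l : K → F} (hχ₁ : ∀ t, t ≠ 0 → ∃ k, χ₁ k = t) (hχ₂ : ∀ t, t ≠ 0 → ∃ k, χ₂ k = t)
    (hl : ∀ t, t ≠ 0 → ∃ k, l k = t) (hl0 : ∀ k, l k ≠ 0)
    (hB : ∀ k x y, B (χ₁ k * x) (χ₂ k * y) = l k * B x y)
    (he₁ : ∀ k x a, T₁ (χ₁ k * x) (l k * a) = l k * T₁ x a)
    (he₂ : ∀ k x a, T₂ (χ₂ k * x) (l k * a) = l k * T₂ x a)
    (hid₁ : ∀ x y, T₁ x (B x y) = B x y) (hid₂ : ∀ x y, T₂ y (B x y) = B x y) (x y : F) :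
    B x y = 0 := by
  have := Fintype.ofFinite (F ≃+* F)
  obtain ⟨b, hb⟩ := exists_coeff_biadditive B
  obtain ⟨c₁, hc₁⟩ := exists_coeff_biadditive T₁
  obtain ⟨c₂, hc₂⟩ := exists_coeff_biadditive T₂
  refine eq_zero_of_coeff (B := fun x y => B x y) hb (fun p => ?_) x y
  by_contra hp
  obtain ⟨ρ, hρ⟩ := lemmaK h2 (B := fun x y => B x y) (T := fun x y => T₁ x y) hb hc₁ he₁ hid₁ hp
  obtain ⟨ρ', hρ'⟩ := lemmaK h2 (B := fun y x => B x y) (T := fun x y => T₂ x y)
    (b := fun p => b p.swap) (fun y x => by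
      rw [hb, ← (Equiv.prodComm _ _).sum_comp]
      exact Finset.sum_congr rfl fun p _ => by simp [mul_comm]) hc₂ he₂ (fun y x => hid₂ x y)
    (p := p.swap) hp
  have h3 : ∀ k, p.1 (χ₁ k) * p.2 (χ₂ k) = l k := fun k =>
    coeff_equivariant (B := fun x y => B x y) hb (hB k) hp
  simp only [Prod.fst_swap] at hρ'
  rcases id_or_id h2 hq (ρ := ρ) (ρ' := ρ') (fun t => by
    by_cases ht : t = 0
    · simp [ht]
    obtain ⟨k, rfl⟩ := hl t ht
    refine mul_left_cancel₀ ht ?_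
    linear_combination (p.2 (χ₂ k) * ρ' (l k) ^ 2) * hρ k + l k ^ 2 * hρ' k
      - (ρ (l k) ^ 2 * ρ' (l k) ^ 2) * h3 k) with h4 | h4
  · refine not_forall_eq_one hq hχ₁ p.1 fun k => mul_right_cancel₀ (pow_ne_zero 2 (hl0 k)) ?_
    have h6 := hρ k
    rw [h4] at h6
    rw [one_mul, h6]
  · refine not_forall_eq_one hq hχ₂ p.2 fun k => mul_right_cancel₀ (pow_ne_zero 2 (hl0 k)) ?_
    have h6 := hρ' k
    rw [h4] at h6
    rw [one_mul, h6]

theorem eq_zero_of_alt (h2 : (2 : F) = 0) (B : F →+ F →+ F) {l : K → F}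
    (hl : ∀ t, t ≠ 0 → ∃ k, l k = t) (hB : ∀ k x y, B (l k * x) (l k * y) = l k * B x y)
    (halt : ∀ x, B x x = 0) (x y : F) : B x y = 0 := by
  have := Fintype.ofFinite (F ≃+* F)
  obtain ⟨b, hb⟩ := exists_coeff_biadditive B
  refine eq_zero_of_coeff (B := fun x y => B x y) hb (fun p => ?_) x y
  have key : ∀ p, b p ≠ 0 → ∀ t, p.1 t * p.2 t = (RingEquiv.refl F) t := fun p hp t => by
    by_cases ht : t = 0
    · simp [ht]
    obtain ⟨k, rfl⟩ := hl t ht
    exact coeff_equivariant (B := fun x y => B x y) hb (hB k) hp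
  by_contra hp
  have h1 := halt 1
  rw [hb, Finset.sum_eq_single p (fun p' _ hne => ?_) (fun h => absurd (Finset.mem_univ _) h)] at h1
  · exact hp (by simpa using h1)
  by_contra h3
  have h4 := left_ne_zero_of_mul h3
  have h5 : ∀ t, p'.1 t = p.1 t := fun t => sq_inj h2 (by
    have e1 := key p hp t
    have e2 := key p' h4 t
    rw [← eq_of_mul_additive h2 (key p hp)] at e1
    rw [← eq_of_mul_additive h2 (key p' h4)] at e2
    rw [pow_two, pow_two, e1, e2])
  exact hne (Prod.ext (RingEquiv.ext h5) (RingEquiv.ext fun t => by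
    rw [← eq_of_mul_additive h2 (key p hp), ← eq_of_mul_additive h2 (key p' h4), h5]))

theorem quad_eq (h2 : (2 : F) = 0) (Q : F → F) (B : F →+ F →+ F)
    (hQ : ∀ x y, Q (x + y) = Q x + Q y + B x y) {χ l : K → F} (hχ : ∀ t, t ≠ 0 → ∃ k, χ k = t)
    (he : ∀ k x, Q (χ k * x) = l k * Q x) :
    ∃ σ τ : F ≃+* F, ∀ x, Q x = Q 1 * (σ x * τ x) := by
  have := Fintype.ofFinite F
  have : CharP F 2 := CharTwo.of_one_ne_zero_of_two_eq_zero one_ne_zero h2
  have h0 : Q 0 = 0 := by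
    have := hQ 0 0
    simp only [add_zero, map_zero] at this
    linear_combination -this
  have h1 : ∀ x y, Q 1 * Q (x * y) = Q x * Q y := fun x y => by
    by_cases hx : x = 0
    · simp [hx, h0]
    obtain ⟨k, rfl⟩ := hχ x hx
    have := he k 1
    rw [mul_one] at this
    rw [he, this]; ring
  by_cases hc : Q 1 = 0
  · refine ⟨RingEquiv.refl F, RingEquiv.refl F, fun x => ?_⟩
    have := h1 x x
    rw [hc, zero_mul] at this ⊢
    exact mul_self_eq_zero.mp this.symm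
  obtain ⟨s, c, hs⟩ := s1168 Q fun x y z => by
    simp only [hQ, map_add, AddMonoidHom.add_apply]
    linear_combination (2 * Q x + 2 * Q y + 2 * Q z + B x y + B x z + B y z) * h2
  obtain ⟨p, -, -, hp⟩ := exists_eq_of_sum_eq (M := F) (Finset.univ : Finset Unit) s
    (fun _ => Q 1) (fun _ x => Q x / Q 1) c (fun p x => p.1 x * p.2 x)
    (fun _ => ⟨div_self hc, fun x y => by field_simp; linear_combination h1 x y⟩)
    (fun p => ⟨by simp, fun x y => by simp only [map_mul]; ring⟩)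
    (fun x => by rw [← hs]; simp; field_simp) (Finset.mem_univ ()) hc (fun _ _ _ => rfl)
  exact ⟨p.1, p.2, fun x => by rw [congrFun hp x]; field_simp⟩

theorem lemma2b_aux (h2 : (2 : F) = 0) (hq : ∃ t : F, t ≠ 0 ∧ t ≠ 1) (T : F →+ F →+ F) {c : F}
    (hc : c ≠ 0) {σ τ : F ≃+* F} (hne : σ ≠ τ)
    (hid : ∀ x y, T y (c * (σ x * τ x)) = c * (σ x * τ y + τ x * σ y) +
      T x (c * (σ x * τ y + τ x * σ y))) :
    ∃ ρ : F ≃+* F, (∀ x, ρ (σ x) = τ x) ∧ ∀ y, ρ (ρ y) ^ 2 = y := by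
  have := Fintype.ofFinite (F ≃+* F)
  obtain ⟨t, ht⟩ := exists_coeff_biadditive T
  obtain ⟨⟨r, i⟩, -, -, h3⟩ := exists_eq_of_sum_eq (M := F × F) (Finset.univ : Finset Bool)
    (Finset.univ : Finset (((F ≃+* F) × (F ≃+* F)) × Fin 3)) (fun _ => c)
    (fun i z => if i then σ z.1 * τ z.2 else τ z.1 * σ z.2) (fun j => t j.1 * j.1.2 c)
    (fun j z => ![j.1.2 (σ z.1) * j.1.2 (τ z.1) * j.1.1 z.2,
      j.1.1 z.1 * j.1.2 (σ z.1) * j.1.2 (τ z.2), j.1.1 z.1 * j.1.2 (τ z.1) * j.1.2 (σ z.2)] j.2)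
    (by rintro (_ | _); exacts [isMulFun_pair τ σ, isMulFun_pair σ τ])
    (by
      rintro ⟨r, i⟩
      fin_cases i <;>
      exact ⟨by simp, fun x y => by simp [Prod.fst_mul, Prod.snd_mul, map_mul]; ring⟩)
    (fun z => by
      have h1 := hid z.1 z.2
      rw [ht, ht] at h1
      have h3 : c * (σ z.1 * τ z.2 + τ z.1 * σ z.2) =
          ∑ p, t p * (p.1 z.2 * p.2 (c * (σ z.1 * τ z.1))) +
          ∑ p, t p * (p.1 z.1 * p.2 (c * (σ z.1 * τ z.2 + τ z.1 * σ z.2))) := by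
        rw [h1]
        linear_combination -(∑ p, t p * (p.1 z.1 * p.2 (c * (σ z.1 * τ z.2 + τ z.1 * σ z.2)))) * h2
      rw [Fintype.sum_bool, if_pos rfl, if_neg Bool.false_ne_true, ← mul_add, h3,
        ← Finset.sum_add_distrib]
      conv_rhs => rw [Fintype.sum_prod_type]
      refine Finset.sum_congr rfl fun p _ => ?_
      simp [Fin.sum_univ_three]
      ring) (i₀ := true) (Finset.mem_univ _) hc (by
      rintro (_ | _) - e
      · exact absurd (RingEquiv.ext fun x => by simpa using (congrFun e (x, 1)).symm) hne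
      · rfl)
  simp only [if_true] at h3
  fin_cases i
  · have h4 : ∀ x, (σ.trans r.2) x * (τ.trans r.2) x = σ x := fun x => by
      simpa using congrFun h3 (x, 1)
    exact absurd (RingEquiv.ext fun x => r.2.injective (eq_of_mul_additive h2 h4 x)) hne
  · exfalso
    have h4 : ∀ x, r.1 x * (σ.trans r.2) x = σ x := fun x => by simpa using congrFun h3 (x, 1)
    have h5 : ∀ y, r.2 (τ y) = τ y := fun y => by simpa using congrFun h3 (1, y)
    obtain ⟨s, h0, h1⟩ := hq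
    have h6 := h4 (σ.symm s)
    rw [eq_of_mul_additive h2 h4, RingEquiv.trans_apply, RingEquiv.apply_symm_apply,
      ← τ.apply_symm_apply s, h5, τ.apply_symm_apply] at h6
    exact h1 (mul_left_cancel₀ h0 (h6.trans (mul_one s).symm))
  · have h4 : ∀ x, r.1 x * (τ.trans r.2) x = σ x := fun x => by simpa using congrFun h3 (x, 1)
    have h5 : ∀ y, r.2 (σ y) = τ y := fun y => by simpa using congrFun h3 (1, y)
    refine ⟨r.2, h5, fun y => ?_⟩
    have h6 := h4 (σ.symm y)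
    rw [eq_of_mul_additive h2 h4, RingEquiv.trans_apply, ← h5, RingEquiv.apply_symm_apply] at h6
    rw [pow_two, h6]

theorem lemma2b (h2 : (2 : F) = 0) (hq : ∃ t : F, t ≠ 0 ∧ t ≠ 1) (Q : F → F) (B T : F →+ F →+ F)
    (hQ : ∀ x y, Q (x + y) = Q x + Q y + B x y) {χ l : K → F} (hχ : ∀ t, t ≠ 0 → ∃ k, χ k = t)
    (he : ∀ k x, Q (χ k * x) = l k * Q x) (hid : ∀ x y, T y (Q x) = B x y + T x (B x y))
    (x y : F) : B x y = 0 := by
  obtain ⟨σ, τ, h⟩ := quad_eq h2 Q B hQ hχ he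
  have hB : ∀ x y, B x y = Q 1 * (σ x * τ y + τ x * σ y) := fun x y => by
    have := hQ x y
    rw [h (x + y), h x, h y, map_add, map_add] at this
    linear_combination -this
  by_contra hne
  have hc : Q 1 ≠ 0 := fun e => hne (by rw [hB, e, zero_mul])
  have hστ : σ ≠ τ := fun e => hne (by rw [hB, e]; linear_combination Q 1 * τ x * τ y * h2)
  obtain ⟨ρ, h3, h4⟩ := lemma2b_aux h2 hq T hc hστ fun x y => by rw [← h, ← hB, hid]
  obtain ⟨ρ', h5, h6⟩ := lemma2b_aux h2 hq T hc hστ.symm fun x y => by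
    rw [mul_comm (τ x), ← h, add_comm (τ x * σ y), ← hB, hid]
  have h7 : ∀ y, ρ' (ρ y) = y := fun y => by rw [← σ.apply_symm_apply y, h3, h5]
  have h8 : ∀ y, ρ (ρ y) = y ^ 2 := fun y => by rw [← h6 (ρ (ρ y)), h7, h7]
  obtain ⟨s, h0, h1⟩ := hq
  have key : ∀ s : F, s ≠ 0 → s ≠ 1 → s ^ 2 + s + 1 = 0 := fun s h0 h1 => by
    have h9 := h4 s
    rw [h8] at h9
    refine mul_left_cancel₀ (mul_ne_zero h0 (sub_ne_zero.mpr h1)) ?_
    linear_combination h9
  have h9 := key s h0 h1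
  have h10 := key (ρ s) (by simpa using h0) (fun e => h1 (ρ.injective (by rw [e, map_one])))
  have h11 : (ρ s - s) * (ρ s - s ^ 2) = 0 := by
    linear_combination h10 + (s - 1 - ρ s) * h9
  have h12 := h8 s
  rcases mul_eq_zero.mp h11 with e | e
  · rw [sub_eq_zero.mp e, sub_eq_zero.mp e] at h12
    exact h1 (mul_left_cancel₀ h0 (by linear_combination -h12))
  · rw [sub_eq_zero.mp e, map_pow, sub_eq_zero.mp e] at h12
    exact h1 (mul_left_cancel₀ h0 (by linear_combination (s ^ 2 - s) * h9 - h12))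

end

/-- Chevalley–Warning bound for anisotropic quadratic maps over the field with two elements -/
theorem finrank_le_of_anisotropic {V W : Type*} [AddCommGroup V] [Module (ZMod 2) V] [Finite V]
    [AddCommGroup W] [Module (ZMod 2) W] [Finite W] (Q : QuadraticMap (ZMod 2) V W)
    (h : ∀ v, Q v = 0 → v = 0) : Module.finrank (ZMod 2) V ≤ 2 * Module.finrank (ZMod 2) W := by
  classical
  by_contra hlt
  obtain ⟨B, rfl⟩ := LinearMap.BilinMap.toQuadraticMap_surjective Q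
  let b := Module.finBasis (ZMod 2) V
  let c := Module.finBasis (ZMod 2) W
  let f : Fin (Module.finrank (ZMod 2) W) → MvPolynomial (Fin (Module.finrank (ZMod 2) V)) (ZMod 2) :=
    fun i => ∑ j, ∑ k, MvPolynomial.C (c.repr (B (b j) (b k)) i) * (MvPolynomial.X j * MvPolynomial.X k)
  have hdeg : ∀ i, (f i).totalDegree ≤ 2 := fun i =>
    MvPolynomial.totalDegree_finsetSum_le fun j _ => MvPolynomial.totalDegree_finsetSum_le fun k _ =>
      (MvPolynomial.totalDegree_mul _ _).trans (by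
        rw [MvPolynomial.totalDegree_C, zero_add]
        exact (MvPolynomial.totalDegree_mul _ _).trans (by simp))
  have hev : ∀ x i, MvPolynomial.eval x (f i) = c.repr (B (b.equivFun.symm x) (b.equivFun.symm x)) i := by
    intro x i
    simp only [f, map_sum, map_mul, MvPolynomial.eval_C, MvPolynomial.eval_X,
      Module.Basis.equivFun_symm_apply, LinearMap.sum_apply, map_smul, LinearMap.smul_apply,
      Finsupp.coe_finsetSum, Finset.sum_apply, Finsupp.coe_smul, Pi.smul_apply, smul_eq_mul]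
    rw [Finset.sum_comm]
    exact Finset.sum_congr rfl fun j _ => by
      rw [Finset.mul_sum]
      exact Finset.sum_congr rfl fun k _ => by ring
  have h1 := char_dvd_card_solutions_of_fintype_sum_lt (K := ZMod 2) 2 (f := f) (by
    refine lt_of_le_of_lt (Finset.sum_le_sum fun i _ => hdeg i) ?_
    simp only [Finset.sum_const, Finset.card_univ, Fintype.card_fin, smul_eq_mul]
    omega)
  rw [← @Nat.card_eq_fintype_card _ (_), Nat.card_eq_one_iff_exists.mpr
    ⟨⟨0, fun i => by rw [hev]; simp⟩, fun x => Subtype.ext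
    (b.equivFun.symm.injective ((h _ (c.repr.injective (Finsupp.ext fun i => by
      rw [map_zero, Finsupp.zero_apply]; exact (hev x i).symm.trans (x.2 i)))).trans
      (map_zero _).symm))⟩] at h1
  exact absurd h1 (by decide)

end H21
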