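import Mathlib
import Cfsg.Agent.H21.Higman1
import Cfsg.Agent.H21.FieldCoord
import Cfsg.Agent.H21.OddInv
import Cfsg.Agent.H2.MinNormal

/-! A 2-group with an abelian group of automorphisms regular on its involutions: coordinates on sections. -/

set_option autoImplicit false

namespace H21

open scoped commutatorElement

/-- `K` is abelian and acts on the 2-group `P`, regularly on the involutions, of which there are several -/
structure SzH (K P : Type*) [Group P] [Group K] [MulDistribMulAction K P] : Prop where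
  two : IsPGroup 2 P
  comm : ∀ k l : K, k * l = l * k
  trans : ∀ {x y : P}, x ≠ 1 → x * x = 1 → y ≠ 1 → y * y = 1 → ∃ k : K, k • x = y
  free : ∀ {k : K} {x : P}, x ≠ 1 → x * x = 1 → k • x = x → k = 1
  many : ∃ x y : P, x ≠ y ∧ x ≠ 1 ∧ x * x = 1 ∧ y ≠ 1 ∧ y * y = 1

/-- invariant subgroups -/
def KInv (K : Type*) {P : Type*} [Group P] [Group K] [MulDistribMulAction K P] (B : Subgroup P) :
    Prop := ∀ k : K, ∀ x ∈ B, k • x ∈ B

/-- the subgroup generated by the squares -/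
def Sq {P : Type*} [Group P] (C : Subgroup P) : Subgroup P :=
  Subgroup.closure {x | ∃ c ∈ C, c * c = x}

/-- a field coordinate on the section `C / B` -/
structure Crd {K P F : Type*} [Group P] [Group K] [MulDistribMulAction K P] [Field F]
    (C B : Subgroup P) (π : P → F) (χ : K → F) : Prop where
  add : ∀ x ∈ C, ∀ y ∈ C, π (x * y) = π x + π y
  ker : ∀ x ∈ C, π x = 0 ↔ x ∈ B
  surj : ∀ t, ∃ x ∈ C, π x = t
  smul : ∀ k : K, ∀ x ∈ C, π (k • x) = χ k * π x
  onto : ∀ t, t ≠ 0 → ∃ k, χ k = t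
  ne_zero : ∀ k, χ k ≠ 0

variable {K P F : Type*} [Group P] [Group K] [MulDistribMulAction K P] [Field F]

theorem smul_commutatorElement (k : K) (x y : P) : k • ⁅x, y⁆ = ⁅k • x, k • y⁆ := by
  simp [commutatorElement_def, smul_mul', smul_inv']

theorem sq_mem_Sq {C : Subgroup P} {c : P} (hc : c ∈ C) : c * c ∈ Sq C :=
  Subgroup.subset_closure ⟨c, hc, rfl⟩

theorem Sq_le_iff {C D : Subgroup P} : Sq C ≤ D ↔ ∀ c ∈ C, c * c ∈ D := by
  rw [Sq, Subgroup.closure_le]
  exact ⟨fun h c hc => h ⟨c, hc, rfl⟩, by rintro h _ ⟨c, hc, rfl⟩; exact h c hc⟩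

theorem Sq_le (C : Subgroup P) : Sq C ≤ C := Sq_le_iff.mpr fun _ hc => mul_mem hc hc

theorem Sq_mono {C D : Subgroup P} (h : C ≤ D) : Sq C ≤ Sq D :=
  Sq_le_iff.mpr fun _ hc => sq_mem_Sq (h hc)

theorem comm_mem_Sq {C : Subgroup P} {x y : P} (hx : x ∈ C) (hy : y ∈ C) : ⁅x, y⁆ ∈ Sq C := by
  have : ⁅x, y⁆ = (x * y * (x * y)) * ((y⁻¹ * x⁻¹ * y) * (y⁻¹ * x⁻¹ * y)) * (y⁻¹ * y⁻¹) := by
    rw [commutatorElement_def]; group
  rw [this]
  exact mul_mem (mul_mem (sq_mem_Sq (mul_mem hx hy))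
    (sq_mem_Sq (mul_mem (mul_mem (inv_mem hy) (inv_mem hx)) hy))) (sq_mem_Sq (inv_mem hy))

theorem map_Sq_le {C : Subgroup P} (f : P →* P) (hf : ∀ x ∈ C, f x ∈ C) {x : P} (hx : x ∈ Sq C) :
    f x ∈ Sq C :=
  (Sq_le_iff (D := (Sq C).comap f)).mpr
    (fun c hc => by rw [Subgroup.mem_comap, map_mul]; exact sq_mem_Sq (hf c hc)) hx

theorem Sq_normal {C : Subgroup P} (hC : C.Normal) : (Sq C).Normal :=
  ⟨fun _ hx g => map_Sq_le (MulAut.conj g).toMonoidHom (fun y hy => hC.conj_mem y hy g) hx⟩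

theorem KInv.Sq {C : Subgroup P} (hC : KInv K C) : KInv K (Sq C) :=
  fun k _ hx => map_Sq_le (MulDistribMulAction.toMonoidHom P k) (hC k) hx

theorem mem_Sq_iff {A : Subgroup P} (hA : ∀ x ∈ A, ∀ y ∈ A, x * y = y * x) {x : P} :
    x ∈ Sq A ↔ ∃ a ∈ A, a * a = x := by
  refine ⟨fun hx => ?_, by rintro ⟨a, ha, rfl⟩; exact sq_mem_Sq ha⟩
  induction hx using Subgroup.closure_induction with
  | mem x hx => exact hx
  | one => exact ⟨1, one_mem A, one_mul 1⟩
  | mul x y _ _ h1 h2 =>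
    obtain ⟨a, ha, rfl⟩ := h1
    obtain ⟨b, hb, rfl⟩ := h2
    exact ⟨a * b, mul_mem ha hb, by
      rw [mul_assoc, ← mul_assoc b a b, ← hA a ha b hb]; simp only [mul_assoc]⟩
  | inv x _ h1 =>
    obtain ⟨a, ha, rfl⟩ := h1
    exact ⟨a⁻¹, inv_mem ha, by rw [mul_inv_rev]⟩

theorem kinv_bot : KInv K (⊥ : Subgroup P) := fun k x hx => by
  rw [Subgroup.mem_bot.mp hx, smul_one]; exact one_mem _

theorem kinv_top : KInv K (⊤ : Subgroup P) := fun _ _ _ => Subgroup.mem_top _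

theorem KInv.sup {A B : Subgroup P} (hA : KInv K A) (hB : KInv K B) : KInv K (A ⊔ B) :=
  fun k _ hx => (sup_le (fun y hy => Subgroup.mem_sup_left (hA k y hy))
    (fun y hy => Subgroup.mem_sup_right (hB k y hy)) :
      A ⊔ B ≤ (A ⊔ B).comap (MulDistribMulAction.toMonoidHom P k)) hx

theorem KInv.commutator {A B : Subgroup P} (hA : KInv K A) (hB : KInv K B) : KInv K ⁅A, B⁆ :=
  fun k _ hx => (Subgroup.commutator_le.mpr (fun x hx y hy => by
    rw [Subgroup.mem_comap, MulDistribMulAction.toMonoidHom_apply, smul_commutatorElement]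
    exact Subgroup.commutator_mem_commutator (hA k x hx) (hB k y hy)) :
      ⁅A, B⁆ ≤ ⁅A, B⁆.comap (MulDistribMulAction.toMonoidHom P k)) hx

namespace Crd

variable {C B : Subgroup P} {π : P → F} {χ : K → F}

theorem one (h : Crd C B π χ) : π 1 = 0 := (h.ker 1 (one_mem C)).mpr (one_mem B)

theorem inv (h : Crd C B π χ) {x : P} (hx : x ∈ C) : π x⁻¹ = -π x := by
  have := h.add x hx x⁻¹ (inv_mem hx)
  rw [mul_inv_cancel, h.one] at this
  linear_combination -this

theorem eq_iff (h : Crd C B π χ) {x y : P} (hx : x ∈ C) (hy : y ∈ C) : π x = π y ↔ x⁻¹ * y ∈ B := by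
  rw [← h.ker _ (mul_mem (inv_mem hx) hy), h.add _ (inv_mem hx) _ hy, h.inv hx, neg_add_eq_zero]

theorem exists_mem (h : Crd C B π χ) {D : Subgroup P} (hD : D ≤ C) (hK : KInv K D) {x : P}
    (hx : x ∈ D) (h0 : π x ≠ 0) (t : F) : ∃ y ∈ D, π y = t := by
  by_cases ht : t = 0
  · exact ⟨1, one_mem D, by rw [h.one, ht]⟩
  obtain ⟨k, hk⟩ := h.onto (t / π x) (div_ne_zero ht h0)
  exact ⟨k • x, hK k x hx, by rw [h.smul k x (hD hx), hk, div_mul_cancel₀ _ h0]⟩

theorem exists_fun (h : Crd C B π χ) (g : P → F) (hg : ∀ x ∈ C, ∀ b ∈ B, g (x * b) = g x) :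
    ∃ Q : F → F, ∀ x ∈ C, Q (π x) = g x := by
  choose s hs1 hs2 using h.surj
  refine ⟨fun t => g (s t), fun x hx => ?_⟩
  have := hg _ (hs1 (π x)) _ ((h.eq_iff (hs1 (π x)) hx).mp (hs2 _))
  rw [mul_inv_cancel_left] at this
  exact this.symm

theorem exists_addHom (h : Crd C B π χ) (hBC : B ≤ C) {M : Type*} [AddCommGroup M] (g : P → M)
    (hg : ∀ x ∈ C, ∀ y ∈ C, g (x * y) = g x + g y) (h0 : ∀ b ∈ B, g b = 0) :
    ∃ Q : F →+ M, ∀ x ∈ C, Q (π x) = g x := by
  choose s hs1 hs2 using h.surj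
  have key : ∀ x ∈ C, g (s (π x)) = g x := fun x hx => by
    have h1 := (h.eq_iff (hs1 (π x)) hx).mp (hs2 _)
    have := hg _ (hs1 (π x)) _ (hBC h1)
    rw [mul_inv_cancel_left, h0 _ h1, add_zero] at this
    exact this.symm
  refine ⟨AddMonoidHom.mk' (fun t => g (s t)) fun t t' => ?_, key⟩
  rw [← hg _ (hs1 t) _ (hs1 t'), ← key _ (mul_mem (hs1 t) (hs1 t')), h.add _ (hs1 t) _ (hs1 t'),
    hs2, hs2]

theorem exists_biadd (h : Crd C B π χ) (hBC : B ≤ C) {C' B' : Subgroup P} {π' : P → F} {χ' : K → F}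
    (h' : Crd C' B' π' χ') (hBC' : B' ≤ C') (f : P → P → F)
    (h1 : ∀ x ∈ C, ∀ x' ∈ C, ∀ y ∈ C', f (x * x') y = f x y + f x' y)
    (h2 : ∀ x ∈ C, ∀ y ∈ C', ∀ y' ∈ C', f x (y * y') = f x y + f x y')
    (h3 : ∀ x ∈ B, ∀ y ∈ C', f x y = 0) (h4 : ∀ x ∈ C, ∀ y ∈ B', f x y = 0) :
    ∃ T : F →+ F →+ F, ∀ x ∈ C, ∀ y ∈ C', T (π x) (π' y) = f x y := by
  classical
  have key : ∀ x : P, ∃ Q : F →+ F, x ∈ C → ∀ y ∈ C', Q (π' y) = f x y := fun x => by
    by_cases hx : x ∈ C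
    · obtain ⟨Q, hQ⟩ := h'.exists_addHom hBC' (f x) (h2 x hx) (h4 x hx)
      exact ⟨Q, fun _ => hQ⟩
    · exact ⟨0, fun e => absurd e hx⟩
  choose Q hQ using key
  obtain ⟨T, hT⟩ := h.exists_addHom hBC Q (fun x hx x' hx' => AddMonoidHom.ext fun t => by
      obtain ⟨y, hy, rfl⟩ := h'.surj t
      rw [AddMonoidHom.add_apply, hQ _ (mul_mem hx hx') y hy, hQ x hx y hy, hQ x' hx' y hy,
        h1 x hx x' hx' y hy])
    (fun b hb => AddMonoidHom.ext fun t => by
      obtain ⟨y, hy, rfl⟩ := h'.surj t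
      rw [hQ b (hBC hb) y hy, h3 b hb y hy, AddMonoidHom.zero_apply])
  exact ⟨T, fun x hx y hy => by rw [hT x hx, hQ x hx y hy]⟩

end Crd

namespace SzH

variable [Finite P]

theorem isNilpotent (h : SzH K P) : Group.IsNilpotent P :=
  haveI : Fact (Nat.Prime 2) := ⟨Nat.prime_two⟩
  h.two.isNilpotent

omit [Finite P] in
theorem exists_invol_pow (h : SzH K P) {x : P} (hx : x ≠ 1) :
    ∃ m : ℕ, x ^ 2 ^ m ≠ 1 ∧ x ^ 2 ^ m * x ^ 2 ^ m = 1 := by
  classical
  have h1 := h.two x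
  have h2 := Nat.find_spec h1
  obtain ⟨m, hm⟩ := Nat.exists_eq_succ_of_ne_zero (n := Nat.find h1) (fun e => hx (by
    rwa [e, pow_zero, pow_one] at h2))
  refine ⟨m, Nat.find_min h1 (by omega), ?_⟩
  rw [← h2, hm, pow_succ, pow_mul, pow_two]

theorem central (h : SzH K P) {x : P} (hx : x * x = 1) (g : P) : g * x = x * g := by
  by_cases hx1 : x = 1
  · rw [hx1, mul_one, one_mul]
  have := h.isNilpotent
  obtain ⟨⟨z, hz⟩, hz1⟩ := Subgroup.ne_bot_iff_exists_ne_one.mp (H2.inf_center_ne_bot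
    (N := (⊤ : Subgroup P)) fun e => hx1 (by rw [← Subgroup.mem_bot, ← e]; trivial))
  obtain ⟨m, h1, h2⟩ := h.exists_invol_pow (x := z) fun e => hz1 (Subtype.ext e)
  obtain ⟨k, rfl⟩ := h.trans h1 h2 hx1 hx
  rw [← smul_inv_smul k g, ← smul_mul', ← smul_mul',
    Subgroup.mem_center_iff.mp (pow_mem hz.2 _)]

/-- the elements of order at most two -/
def Om (h : SzH K P) : Subgroup P where
  carrier := {x | x * x = 1}
  one_mem' := one_mul 1
  mul_mem' := fun {x y} hx hy => by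
    change x * y * (x * y) = 1
    rw [mul_assoc, ← mul_assoc y, h.central hx y, mul_assoc, hy, mul_one, hx]
  inv_mem' := fun {x} hx => by
    change x⁻¹ * x⁻¹ = 1
    rw [← mul_inv_rev, hx, inv_one]

theorem mem_Om (h : SzH K P) {x : P} : x ∈ h.Om ↔ x * x = 1 := Iff.rfl

theorem kinv_Om (h : SzH K P) : KInv K h.Om := fun k x hx => by
  rw [mem_Om, ← smul_mul', h.mem_Om.mp hx, smul_one]

theorem normal_Om (h : SzH K P) : h.Om.Normal :=
  ⟨fun x hx g => by rw [h.central hx g, mul_inv_cancel_right]; exact hx⟩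

theorem Om_ne_bot (h : SzH K P) : h.Om ≠ ⊥ := fun e => by
  obtain ⟨x, -, -, h1, h2, -⟩ := h.many
  exact h1 (by rw [← Subgroup.mem_bot, ← e]; exact h2)

theorem Om_le (h : SzH K P) {B : Subgroup P} (hB : KInv K B) (h1 : B ≠ ⊥) : h.Om ≤ B := by
  intro x hx
  by_cases hx1 : x = 1
  · rw [hx1]; exact one_mem B
  obtain ⟨⟨b, hb⟩, hb1⟩ := Subgroup.ne_bot_iff_exists_ne_one.mp h1
  obtain ⟨m, h2, h3⟩ := h.exists_invol_pow (x := b) fun e => hb1 (Subtype.ext e)
  obtain ⟨k, rfl⟩ := h.trans h2 h3 hx1 hx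
  exact hB k _ (pow_mem hb _)

omit [Finite P] in
theorem free' (h : SzH K P) {k : K} (hk : k ≠ 1) {x : P} (hx : k • x = x) : x = 1 := by
  by_contra hx1
  obtain ⟨m, h1, h2⟩ := h.exists_invol_pow hx1
  exact hk (h.free h1 h2 (by rw [smul_pow', hx]))

theorem free_mod (h : SzH K P) {B : Subgroup P} (hB : KInv K B) {k : K} (hk : k ≠ 1) {x : P}
    (hx : x⁻¹ * k • x ∈ B) : x ∈ B := by
  let f : B → B := fun b => ⟨b * (k • (b : P))⁻¹, mul_mem b.2 (inv_mem (hB k b b.2))⟩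
  have hf : Function.Injective f := fun b c e => by
    have h1 : (b : P) * (k • (b : P))⁻¹ = c * (k • (c : P))⁻¹ := Subtype.mk.inj e
    refine Subtype.ext (inv_mul_eq_one.mp (h.free' hk ?_)).symm
    rw [smul_mul', smul_inv']
    calc (k • (c : P))⁻¹ * k • (b : P) = (c : P)⁻¹ * (c * (k • (c : P))⁻¹) * k • (b : P) := by group
      _ = _ := by rw [← h1]; group
  obtain ⟨b, hb⟩ := (Finite.injective_iff_surjective.mp hf) ⟨_, hx⟩
  have h1 : (b : P) * (k • (b : P))⁻¹ = x⁻¹ * k • x := Subtype.mk.inj hb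
  have h2 : x * b = 1 := h.free' hk (by
    rw [smul_mul']
    calc k • x * k • (b : P) = x * (x⁻¹ * k • x) * k • (b : P) := by group
      _ = _ := by rw [← h1]; group)
  rw [eq_inv_of_mul_eq_one_left h2]
  exact inv_mem b.2

theorem card_K (h : SzH K P) : Nat.card K + 1 = Nat.card h.Om := by
  obtain ⟨x, -, -, h1, h2, -⟩ := h.many
  let f : K → {y : h.Om // y ≠ 1} := fun k => ⟨⟨k • x, h.kinv_Om k x h2⟩, fun e =>
    h1 (by rw [← inv_smul_smul k x, Subtype.mk.inj e, smul_one])⟩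
  have hf : Function.Bijective f := ⟨fun k l e => (inv_mul_eq_one.mp (h.free h1 h2 (by
    rw [mul_smul, show k • x = l • x from Subtype.mk.inj (Subtype.mk.inj e), inv_smul_smul]))).symm, fun y => by
    obtain ⟨k, hk⟩ := h.trans h1 h2 (fun e => y.2 (Subtype.ext e)) y.1.2
    exact ⟨k, Subtype.ext (Subtype.ext hk)⟩⟩
  classical
  rw [Nat.card_congr (Equiv.ofBijective f hf), ← Nat.card_congr (Equiv.optionSubtypeNe (1 : h.Om)),
    Finite.card_option]

theorem finite_K (h : SzH K P) : Finite K := by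
  obtain ⟨x, -, -, h1, h2, -⟩ := h.many
  exact Finite.of_injective (fun k : K => k • x) fun k l e => (inv_mul_eq_one.mp (h.free h1 h2 (by
    rw [mul_smul, show k • x = l • x from e, inv_smul_smul]))).symm

theorem exists_card_Om (h : SzH K P) : ∃ n : ℕ, n ≠ 0 ∧ Nat.card h.Om = 2 ^ n := by
  have : Fact (Nat.Prime 2) := ⟨Nat.prime_two⟩
  obtain ⟨n, hn⟩ := IsPGroup.iff_card.mp (h.two.to_subgroup h.Om)
  exact ⟨n, by rintro rfl; exact h.Om_ne_bot (Subgroup.card_eq_one.mp hn), hn⟩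

theorem exists_field (h : SzH K P) :
    ∃ (F : Type) (_ : Field F) (_ : Fintype F), Nat.card F = Nat.card K + 1 := by
  obtain ⟨n, hn, e⟩ := h.exists_card_Om
  rw [h.card_K]
  exact exists_field_of_card Nat.prime_two e (by rw [e]; exact Nat.one_lt_two_pow hn)

theorem exists_crd {F : Type} [Field F] [Finite F] (h : SzH K P) (hF : Nat.card F = Nat.card K + 1) {B C : Subgroup P}
    (hBC : B ≤ C) (hne : B ≠ C) [hn : B.Normal] (hB : KInv K B) (hC : KInv K C)
    (hab : ∀ x ∈ C, ∀ y ∈ C, ⁅x, y⁆ ∈ B)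
    (hirr : ∀ D : Subgroup P, B ≤ D → D ≤ C → KInv K D → D = B ∨ D = C) :
    ∃ (π : P → F) (χ : K → F), Crd C B π χ := by
  classical
  have := h.finite_K
  have : Fact (Nat.Prime 2) := ⟨Nat.prime_two⟩
  let B' := B.subgroupOf C
  let _ : CommGroup (C ⧸ B') := { (inferInstance : Group (C ⧸ B')) with
    mul_comm := fun a b => by
      obtain ⟨x, rfl⟩ := QuotientGroup.mk_surjective a
      obtain ⟨y, rfl⟩ := QuotientGroup.mk_surjective b
      rw [← QuotientGroup.mk_mul, ← QuotientGroup.mk_mul, QuotientGroup.eq, Subgroup.mem_subgroupOf]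
      have := hab _ (inv_mem y.2) _ (inv_mem x.2)
      simpa [commutatorElement_def, mul_assoc] using this }
  let φ : K → (C →* C) := fun k =>
    ((MulDistribMulAction.toMonoidHom P k).comp C.subtype).codRestrict C fun x => hC k x x.2
  let ψ : K → (C ⧸ B' →* C ⧸ B') := fun k => QuotientGroup.map B' B' (φ k) fun x hx => hB k x hx
  let ρ : K →* Module.End ℤ (Additive (C ⧸ B')) :=
    { toFun := fun k => (MonoidHom.toAdditive (ψ k)).toIntLinearMap
      map_one' := by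
        refine LinearMap.ext fun v => ?_
        obtain ⟨x, hx⟩ := QuotientGroup.mk_surjective (Additive.toMul v)
        apply Additive.toMul.injective
        change ψ 1 (Additive.toMul v) = Additive.toMul v
        rw [← hx]
        exact congrArg QuotientGroup.mk (Subtype.ext (one_smul K (x : P)))
      map_mul' := fun k l => by
        refine LinearMap.ext fun v => ?_
        obtain ⟨x, hx⟩ := QuotientGroup.mk_surjective (Additive.toMul v)
        apply Additive.toMul.injective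
        change ψ (k * l) (Additive.toMul v) = ψ k (ψ l (Additive.toMul v))
        rw [← hx]
        exact congrArg QuotientGroup.mk (Subtype.ext (mul_smul k l (x : P))) }
  let m : C → Additive (C ⧸ B') := fun x => Additive.ofMul (QuotientGroup.mk x)
  have hm0 : ∀ x : C, m x = 0 ↔ (x : P) ∈ B := fun x => QuotientGroup.eq_one_iff x
  have hmρ : ∀ (k : K) (x : C), ρ k (m x) = m ⟨k • (x : P), hC k x x.2⟩ := fun _ _ => rfl
  have hmadd : ∀ x y : C, m (x * y) = m x + m y := fun _ _ => rfl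
  have hms : ∀ v, ∃ x, m x = v := fun v => QuotientGroup.mk_surjective (Additive.toMul v)
  obtain ⟨x₀, hx₀, hx₀'⟩ := SetLike.exists_of_lt (lt_of_le_of_ne hBC hne)
  have hv₀ : m ⟨x₀, hx₀⟩ ≠ 0 := fun e => hx₀' ((hm0 _).mp e)
  have hfree : ∀ k l : K, ρ k (m ⟨x₀, hx₀⟩) = ρ l (m ⟨x₀, hx₀⟩) → k = l := fun k l e => by
    by_contra hkl
    refine hx₀' (h.free_mod hB (k := l⁻¹ * k) (fun e' => hkl (inv_mul_eq_one.mp e').symm) ?_)
    have h1 : (⟨l • x₀, hC l x₀ hx₀⟩ : C)⁻¹ * ⟨k • x₀, hC k x₀ hx₀⟩ ∈ B' :=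
      QuotientGroup.eq.mp (Additive.ofMul.injective e).symm
    have h2 := hB l⁻¹ _ h1
    simpa [smul_mul', smul_inv', mul_smul] using h2
  have key : ∀ (F : Type) [Field F] [Finite F], Nat.card F = Nat.card (Additive (C ⧸ B')) →
      ∃ (e : F ≃+ Additive (C ⧸ B')) (μ : K → F), (∀ k t, ρ k (e t) = e (μ k * t)) ∧
        Subring.closure (Set.range μ) = ⊤ ∧ Function.Injective μ ∧ ∀ k, μ k ≠ 0 := by
    intro F _ _ hF
    obtain ⟨e, μ, h1, h2, h3, -⟩ := exists_field_coord_add ρ ⊤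
      (fun a _ b _ => by rw [← map_mul, ← map_mul, h.comm]) (fun W hW => by
        let D : Subgroup P := ((AddSubgroup.toSubgroup' W).comap (QuotientGroup.mk' B')).map C.subtype
        have hD : ∀ x : C, (x : P) ∈ D ↔ m x ∈ W := fun x =>
          ⟨fun ⟨y, hy, e⟩ => (show y = x from Subtype.ext e) ▸ hy, fun hx => ⟨x, hx, rfl⟩⟩
        rcases hirr D (fun b hb => (hD ⟨b, hBC hb⟩).mpr (by
            rw [(hm0 _).mpr hb]; exact zero_mem W)) (Subgroup.map_subtype_le _) (by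
            rintro k _ ⟨y, hy, rfl⟩
            exact (hD ⟨k • (y : P), hC k y y.2⟩).mpr (hW k trivial _ hy)) with e | e
        · left
          rw [eq_bot_iff]
          intro w hw
          obtain ⟨x, rfl⟩ := hms w
          exact (hm0 x).mpr (e ▸ (hD x).mpr hw)
        · right
          rw [eq_top_iff]
          intro w _
          obtain ⟨x, rfl⟩ := hms w
          exact (hD x).mp (e.ge x.2)) hv₀ F hF
    refine ⟨e, μ, fun k => h2 k trivial, by simpa using h3, fun k l e' => hfree k l ?_,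
      fun k e' => hv₀ ?_⟩
    · rw [← h1, h2 k trivial, h2 l trivial, e']
    · have h4 := h2 k trivial 1
      rw [e', zero_mul, map_zero, h1] at h4
      have h5 := congrArg (ρ k⁻¹) h4
      rwa [← Module.End.mul_apply, ← map_mul, inv_mul_cancel, map_one, map_zero] at h5
  have hcard : Nat.card (Additive (C ⧸ B')) = Nat.card K + 1 := by
    obtain ⟨r, hr⟩ := IsPGroup.iff_card.mp ((h.two.to_subgroup C).to_quotient B')
    have h1 : 1 < Nat.card (C ⧸ B') := Finite.one_lt_card_iff_nontrivial.mpr ⟨⟨_, _, hv₀⟩⟩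
    obtain ⟨F', _, _, hF'⟩ := exists_field_of_card Nat.prime_two hr h1
    obtain ⟨e, μ, h2, h3, h4, h5⟩ := key F' hF'
    obtain ⟨n, hn0, hn⟩ := h.exists_card_Om
    have hc : Nat.card (Additive (C ⧸ B')) = Nat.card F'ˣ + 1 := by
      rw [Nat.card_units, hF']
      change Nat.card (C ⧸ B') = _
      omega
    have hμ : ∀ k l, μ (k * l) = μ k * μ l := fun k l => by
      have := h2 (k * l) 1
      rw [map_mul, Module.End.mul_apply, h2, h2] at this
      simpa using (e.injective this).symm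
    have hμ1 : μ 1 = 1 := by
      have := h2 1 1
      rw [map_one, Module.End.one_apply] at this
      simpa using (e.injective this).symm
    let μ' : K →* F' := { toFun := μ, map_one' := hμ1, map_mul' := hμ }
    have : CharP F' 2 := by
      obtain ⟨p, hp⟩ := CharP.exists F'
      have hpp := CharP.char_is_prime F' p
      obtain ⟨s, -, hs⟩ := FiniteField.card F' p
      rw [← Nat.card_eq_fintype_card, hF', hr] at hs
      have : p = 2 := (Nat.prime_dvd_prime_iff_eq hpp Nat.prime_two).mp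
        (hpp.dvd_of_dvd_pow (hs ▸ dvd_pow_self p s.ne_zero))
      rwa [this] at hp
    have h6 : ∀ t : F', t ^ 2 ^ n = t := fun t => by
      have h7 : Subring.closure (Set.range μ) ≤
          (iterateFrobenius F' 2 n).eqLocus (RingHom.id F') := by
        rw [Subring.closure_le]
        rintro _ ⟨k, rfl⟩
        change μ' k ^ 2 ^ n = μ' k
        rw [← hn, ← h.card_K, pow_succ, ← map_pow, pow_card_eq_one', map_one, one_mul]
      exact h7 (h3 ▸ Subring.mem_top t)
    rw [hc]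
    congr 1
    refine le_antisymm (Nat.le_of_dvd Nat.card_pos ?_) (Nat.card_le_card_of_injective
      (fun k => Units.mk0 (μ k) (h5 k)) fun k l e' => h4 (congrArg Units.val e'))
    rw [← IsCyclic.exponent_eq_card]
    refine Monoid.exponent_dvd_of_forall_pow_eq_one fun u => Units.ext (mul_right_cancel₀ u.ne_zero ?_)
    rw [Units.val_pow_eq_pow_val, ← pow_succ, h.card_K, hn, h6, Units.val_one, one_mul]
  obtain ⟨e, μ, h2, -, h4, h5⟩ := key F (hF.trans hcard.symm)
  refine ⟨fun x => if hx : x ∈ C then e.symm (m ⟨x, hx⟩) else 0, μ, fun x hx y hy => ?_,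
    fun x hx => ?_, fun t => ?_, fun k x hx => ?_, fun t ht => ?_, h5⟩
  · simp only [dif_pos hx, dif_pos hy, dif_pos (mul_mem hx hy)]
    rw [← map_add, ← hmadd]; rfl
  · simp only [dif_pos hx]
    rw [map_eq_zero_iff _ e.symm.injective, hm0]
  · obtain ⟨x, hx⟩ := hms (e t)
    exact ⟨x, x.2, by simp only [dif_pos x.2]; rw [hx, e.symm_apply_apply]⟩
  · simp only [dif_pos hx, dif_pos (hC k x hx)]
    rw [e.symm_apply_eq, ← h2, e.apply_symm_apply, hmρ]
  · have := (Nat.bijective_iff_injective_and_card (fun k => Units.mk0 (μ k) (h5 k))).mpr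
      ⟨fun k l e' => h4 (congrArg Units.val e'), by rw [Nat.card_units, hF]; rfl⟩
    obtain ⟨k, hk⟩ := this.2 (Units.mk0 t ht)
    exact ⟨k, congrArg Units.val hk⟩

theorem exists_crd_Om {F : Type} [Field F] [Finite F] (h : SzH K P) (hF : Nat.card F = Nat.card K + 1) :
    ∃ (ζ : P → F) (l : K → F), Crd h.Om ⊥ ζ l :=
  h.exists_crd hF bot_le h.Om_ne_bot.symm kinv_bot h.kinv_Om
    (fun x hx y _ => by
      rw [Subgroup.mem_bot, commutatorElement_eq_one_iff_mul_comm, h.central hx y])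
    fun D _ h1 h2 => by
      by_cases e : D = ⊥
      exacts [Or.inl e, Or.inr (le_antisymm h1 (h.Om_le h2 e))]

theorem two_eq_zero (h : SzH K P) {ζ : P → F} {l : K → F} (hζ : Crd h.Om ⊥ ζ l) : (2 : F) = 0 := by
  obtain ⟨x, hx, e⟩ := hζ.surj 1
  have := hζ.add x hx x hx
  rw [h.mem_Om.mp hx, hζ.one, e] at this
  rw [this]; norm_num

theorem exists_ne_zero_one (h : SzH K P) {ζ : P → F} {l : K → F} (hζ : Crd h.Om ⊥ ζ l) :
    ∃ t : F, t ≠ 0 ∧ t ≠ 1 := by
  obtain ⟨x, y, h0, h1, h2, h3, h4⟩ := h.many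
  have e1 : ζ x ≠ 0 := fun e => h1 ((hζ.ker x h2).mp e)
  have e2 : ζ y ≠ 0 := fun e => h3 ((hζ.ker y h4).mp e)
  by_cases e3 : ζ x = 1
  · exact ⟨ζ y, e2, fun e => h0 (inv_mul_eq_one.mp ((hζ.eq_iff h2 h4).mp (e3.trans e.symm)))⟩
  · exact ⟨ζ x, e1, e3⟩

end SzH

end H21
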