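import Mathlib
import Cfsg.Agent.H21.Higman2

/-! Higman's theorem on Suzuki 2-groups: abelian invariant subgroups and their covers. -/

set_option autoImplicit false

namespace H21

open scoped commutatorElement

variable {K P : Type*} [Group P] [Group K] [MulDistribMulAction K P]

/-- `A` has exponent exactly `2 ^ (e + 1)` -/
def Expo (A : Subgroup P) (e : ℕ) : Prop :=
  (∀ a ∈ A, a ^ 2 ^ (e + 1) = 1) ∧ ∃ a ∈ A, a ^ 2 ^ e ≠ 1

/-- an abelian normal invariant subgroup -/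
structure AbN (K : Type*) {P : Type*} [Group P] [Group K] [MulDistribMulAction K P]
    (A : Subgroup P) : Prop where
  ab : ∀ x ∈ A, ∀ y ∈ A, x * y = y * x
  normal : A.Normal
  inv : KInv K A

/-- `C / A` is a minimal normal invariant subgroup of `P / A` -/
structure Cover (K : Type*) {P : Type*} [Group P] [Group K] [MulDistribMulAction K P]
    (A C : Subgroup P) : Prop where
  lt : A < C
  normal : C.Normal
  inv : KInv K C
  min : ∀ D : Subgroup P, D.Normal → KInv K D → A < D → D ≤ C → D = C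

theorem sq_pow_two_pow (b : P) (e : ℕ) : (b * b) ^ 2 ^ e = b ^ 2 ^ (e + 1) := by
  rw [← pow_two, ← pow_mul, pow_succ']

theorem pow_two_pow_mul_self (b : P) (e : ℕ) : b ^ 2 ^ e * b ^ 2 ^ e = b ^ 2 ^ (e + 1) := by
  rw [← pow_two, ← pow_mul, pow_succ]

theorem exists_cover [Finite P] {A M : Subgroup P} (h : A < M) (hM : M.Normal) (hK : KInv K M) :
    ∃ C, C ≤ M ∧ Cover K A C := by
  obtain ⟨C, ⟨h1, h2, h3, h4⟩, h5⟩ := WellFounded.has_min (wellFounded_lt (α := Subgroup P))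
    {D | D.Normal ∧ KInv K D ∧ A < D ∧ D ≤ M} ⟨M, hM, hK, h, le_rfl⟩
  exact ⟨C, h4, h3, h1, h2, fun D d1 d2 d3 d4 =>
    eq_of_le_of_not_lt d4 (h5 D ⟨d1, d2, d3, d4.trans h4⟩)⟩

theorem comm_mem_of_normal {A : Subgroup P} (hA : A.Normal) (g : P) {a : P} (ha : a ∈ A) :
    ⁅g, a⁆ ∈ A := mul_mem (hA.conj_mem a ha g) (inv_mem ha)

theorem comm_mul_left (x y z : P) : ⁅x * y, z⁆ = ⁅x, ⁅y, z⁆⁆ * ⁅y, z⁆ * ⁅x, z⁆ := by
  simp only [commutatorElement_def]; group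

theorem comm_mul_right (x y z : P) : ⁅x, y * z⁆ = ⁅x, y⁆ * (⁅y, ⁅x, z⁆⁆ * ⁅x, z⁆) := by
  simp only [commutatorElement_def]; group

theorem comm_sq_right (x y : P) : ⁅y, x * x⁆ = ⁅y, x⁆ * (⁅x, ⁅y, x⁆⁆ * ⁅y, x⁆) :=
  comm_mul_right y x x

namespace SzH

variable [Finite P]

theorem exists_expo (h : SzH K P) {A : Subgroup P} (hA : A ≠ ⊥) : ∃ e, Expo A e := by
  classical
  have : Fact (Nat.Prime 2) := ⟨Nat.prime_two⟩
  obtain ⟨n, hn⟩ := IsPGroup.iff_card.mp h.two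
  have h1 : ∃ n, ∀ a ∈ A, a ^ 2 ^ n = 1 := ⟨n, fun a _ => by rw [← hn, pow_card_eq_one']⟩
  have h2 := Nat.find_spec h1
  obtain ⟨m, hm⟩ := Nat.exists_eq_succ_of_ne_zero (n := Nat.find h1) (fun e => hA (by
    rw [e] at h2
    exact eq_bot_iff.mpr fun a ha => by simpa using h2 a ha))
  have h3 := Nat.find_min h1 (m := m) (by omega)
  push Not at h3
  rw [hm] at h2
  exact ⟨m, h2, h3⟩

theorem pow_mem_Om (h : SzH K P) {A : Subgroup P} {e : ℕ} (he : Expo A e) {a : P} (ha : a ∈ A) :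
    a ^ 2 ^ e ∈ h.Om := by
  rw [mem_Om, pow_two_pow_mul_self, he.1 a ha]

theorem surj_Om (h : SzH K P) {A : Subgroup P} (hA : KInv K A) {e : ℕ} (he : Expo A e) {z : P}
    (hz : z * z = 1) : ∃ a ∈ A, a ^ 2 ^ e = z := by
  by_cases hz1 : z = 1
  · exact ⟨1, one_mem A, by rw [one_pow, hz1]⟩
  obtain ⟨a, ha, h1⟩ := he.2
  obtain ⟨k, rfl⟩ := h.trans h1 (h.pow_mem_Om he ha) hz1 hz
  exact ⟨k • a, hA k a ha, (smul_pow' k a _).symm⟩

theorem mem_Sq_of_pow (h : SzH K P) {A : Subgroup P} (hA : AbN K A) {e : ℕ} (he : Expo A e) :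
    ∀ j ≤ e, ∀ a ∈ A, a ^ 2 ^ j = 1 → a ∈ Sq A := by
  intro j
  induction j with
  | zero => intro _ a _ h1; rw [pow_zero, pow_one] at h1; rw [h1]; exact one_mem _
  | succ j ih =>
    intro hj a ha h1
    obtain ⟨b, hb, h2⟩ := h.surj_Om hA.inv he (z := a ^ 2 ^ j) (by rw [pow_two_pow_mul_self, h1])
    obtain ⟨m, rfl⟩ := Nat.exists_eq_add_of_le hj
    have h3 : b ^ 2 ^ (m + 1) ∈ Sq A := by
      rw [← pow_two_pow_mul_self]; exact sq_mem_Sq (pow_mem hb _)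
    have h4 := ih (by omega) (a * (b ^ 2 ^ (m + 1))⁻¹) (mul_mem ha (inv_mem (pow_mem hb _))) (by
      rw [Commute.mul_pow (hA.ab _ ha _ (inv_mem (pow_mem hb _))), inv_pow, ← pow_mul, ← pow_add,
        show m + 1 + j = j + 1 + m by omega, h2, mul_inv_cancel])
    simpa using mul_mem h4 h3

variable {F : Type} [Field F] {ζ : P → F} {l : K → F}

theorem crd_pow (h : SzH K P) (hζ : Crd h.Om ⊥ ζ l) {A : Subgroup P} (hA : AbN K A) {e : ℕ}
    (he : Expo A e) : Crd A (Sq A) (fun a => ζ (a ^ 2 ^ e)) l := by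
  refine ⟨fun x hx y hy => ?_, fun x hx => ?_, fun t => ?_, fun k x hx => ?_, hζ.onto, hζ.ne_zero⟩
  · rw [Commute.mul_pow (hA.ab x hx y hy), hζ.add _ (h.pow_mem_Om he hx) _ (h.pow_mem_Om he hy)]
  · rw [hζ.ker _ (h.pow_mem_Om he hx), Subgroup.mem_bot]
    refine ⟨h.mem_Sq_of_pow hA he e le_rfl x hx, fun h1 => ?_⟩
    obtain ⟨a, ha, rfl⟩ := (mem_Sq_iff hA.ab).mp h1
    rw [sq_pow_two_pow, he.1 a ha]
  · obtain ⟨z, hz, rfl⟩ := hζ.surj t
    obtain ⟨a, ha, rfl⟩ := h.surj_Om hA.inv he hz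
    exact ⟨a, ha, rfl⟩
  · rw [← smul_pow', hζ.smul k _ (h.pow_mem_Om he hx)]

theorem le_Sq_of_ne (h : SzH K P) (hζ : Crd h.Om ⊥ ζ l) {A B : Subgroup P} (hA : AbN K A) {e : ℕ}
    (he : Expo A e) (hBA : B ≤ A) (hB : KInv K B) (hne : B ≠ A) : B ≤ Sq A := by
  intro b hb
  by_contra hn
  have hρ := h.crd_pow hζ hA he
  have key : ∀ i, ∀ a ∈ A, ∃ b ∈ B, ∃ c ∈ A, a = b * c ^ 2 ^ i := by
    intro i
    induction i with
    | zero => exact fun a ha => ⟨1, one_mem B, a, ha, by simp⟩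
    | succ i ih =>
      intro a ha
      obtain ⟨b₁, hb₁, c, hc, rfl⟩ := ih a ha
      obtain ⟨b₂, hb₂, h1⟩ := hρ.exists_mem hBA hB hb (fun e => hn ((hρ.ker b (hBA hb)).mp e))
        (ζ (c ^ 2 ^ e))
      obtain ⟨d, hd, h2⟩ := (mem_Sq_iff hA.ab).mp ((hρ.eq_iff (hBA hb₂) hc).mp h1)
      refine ⟨b₁ * b₂ ^ 2 ^ i, mul_mem hb₁ (pow_mem hb₂ _), d, hd, ?_⟩
      rw [← sq_pow_two_pow, mul_assoc, ← Commute.mul_pow (hA.ab _ (hBA hb₂) _ (mul_mem hd hd)), h2,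
        mul_inv_cancel_left]
  refine hne (le_antisymm hBA fun a ha => ?_)
  obtain ⟨b, hb, c, hc, rfl⟩ := key (e + 1) a ha
  rw [he.1 c hc, mul_one]
  exact hb

theorem comm_mem_Sq' (h : SzH K P) (hζ : Crd h.Om ⊥ ζ l) {A : Subgroup P} (hA : AbN K A) {e : ℕ}
    (he : Expo A e) (g : P) {a : P} (ha : a ∈ A) : ⁅g, a⁆ ∈ Sq A := by
  have := h.isNilpotent
  have := hA.normal
  have h1 := H2.commutator_lt_of_isNilpotent (M := A) (K := ⊤) inferInstance le_top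
    Subgroup.le_normalizer_of_normal (by
      obtain ⟨a, ha, h1⟩ := he.2
      intro e
      rw [e, Subgroup.mem_bot] at ha
      exact h1 (by rw [ha, one_pow]))
  rw [← commutatorElement_inv]
  exact inv_mem (h.le_Sq_of_ne hζ hA he h1.le (hA.inv.commutator kinv_top) h1.ne
    (Subgroup.commutator_mem_commutator ha (Subgroup.mem_top g)))

theorem mem_of_comm_four (h : SzH K P) {A : Subgroup P} (hA : AbN K A) (hO : h.Om ≤ A) {u : P}
    (hu : u * u ∈ Sq A) (hc : ∀ a ∈ A, ∃ c ∈ A, ⁅u, a⁆ = c ^ 4) : u ∈ A := by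
  have := hA.normal
  let _ : CommGroup A := { (inferInstance : Group A) with
    mul_comm := fun x y => Subtype.ext (hA.ab x x.2 y y.2) }
  let φ : A →* A := MonoidHom.id A * (MulAut.conjNormal u).toMonoidHom
  have hφ : ∀ d : A, (φ d : P) = d * (u * d * u⁻¹) := fun _ => rfl
  have h1 : ∀ d : A, ∃ c : A, φ d = d ^ 2 * c ^ 4 := fun d => by
    obtain ⟨c, hc1, hc2⟩ := hc d d.2
    refine ⟨⟨c, hc1⟩, Subtype.ext ?_⟩
    rw [hφ, Subgroup.coe_mul, Subgroup.coe_pow, Subgroup.coe_pow, ← hc2, pow_two, mul_assoc (d : P),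
      hA.ab d d.2 _ (comm_mem_of_normal hA.normal u d.2), commutatorElement_def]
    group
  have key : ∀ i, ∀ a : A, ∃ b d : A, a ^ 2 = φ b * d ^ 2 ^ (i + 1) := by
    intro i
    induction i with
    | zero => exact fun a => ⟨1, a, by simp⟩
    | succ i ih =>
      intro a
      obtain ⟨b, d, h2⟩ := ih a
      obtain ⟨c, h3⟩ := h1 d
      refine ⟨b * d ^ 2 ^ i, c⁻¹, ?_⟩
      rw [h2, map_mul, map_pow, h3, mul_pow, ← pow_mul, ← pow_mul, inv_pow,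
        show 4 * 2 ^ i = 2 ^ (i + 1 + 1) by ring, show 2 * 2 ^ i = 2 ^ (i + 1) by ring, mul_assoc,
        mul_inv_cancel_right]
  have : Fact (Nat.Prime 2) := ⟨Nat.prime_two⟩
  obtain ⟨n, hn⟩ := IsPGroup.iff_card.mp (h.two.to_subgroup A)
  obtain ⟨a, ha, h2⟩ := (mem_Sq_iff hA.ab).mp (inv_mem hu)
  obtain ⟨b, d, h3⟩ := key n ⟨a, ha⟩
  rw [pow_succ 2 n, pow_mul, ← hn, pow_card_eq_one', one_pow, mul_one] at h3
  have h4 : a * a = b * (u * b * u⁻¹) := by rw [← hφ, ← h3, pow_two]; rfl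
  have h5 : b * u ∈ A := hO (by
    rw [mem_Om]
    calc b * u * (b * u) = b * (u * b * u⁻¹) * (u * u) := by group
      _ = 1 := by rw [← h4, h2, inv_mul_cancel])
  simpa using mul_mem (inv_mem b.2) h5

theorem cover_comm (h : SzH K P) {A C : Subgroup P} (hn : A.Normal) (hA : KInv K A)
    (hC : Cover K A C) {c : P} (hc : c ∈ C) (g : P) : ⁅c, g⁆ ∈ A := by
  have := h.isNilpotent
  have := hC.normal
  have hm : ∀ x : P, x ∈ (Subgroup.center (P ⧸ A)).comap (QuotientGroup.mk' A) ↔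
      ∀ g, ⁅x, g⁆ ∈ A := fun x => by
    rw [Subgroup.mem_comap, Subgroup.mem_center_iff]
    refine ⟨fun h1 g => ?_, fun h1 g => ?_⟩
    · rw [← QuotientGroup.eq_one_iff, ← QuotientGroup.mk'_apply, map_commutatorElement,
        commutatorElement_eq_one_iff_mul_comm]
      exact (h1 _).symm
    · obtain ⟨g, rfl⟩ := QuotientGroup.mk'_surjective A g
      have := h1 g
      rw [← QuotientGroup.eq_one_iff, ← QuotientGroup.mk'_apply, map_commutatorElement,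
        commutatorElement_eq_one_iff_mul_comm] at this
      exact this.symm
  have h1 := hC.min (C ⊓ (Subgroup.center (P ⧸ A)).comap (QuotientGroup.mk' A)) inferInstance
    (fun k x hx => ⟨hC.inv k x hx.1, (hm _).mpr fun g => by
      rw [← smul_inv_smul k g, ← smul_commutatorElement]
      exact hA k _ ((hm x).mp hx.2 _)⟩) (by
      refine lt_of_le_of_ne (fun a ha => ⟨hC.lt.le ha, (hm a).mpr fun g => by
        rw [← commutatorElement_inv]; exact inv_mem (comm_mem_of_normal hn g ha)⟩) fun e => ?_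
      have : (C.map (QuotientGroup.mk' A)).Normal := hC.normal.map _ (QuotientGroup.mk'_surjective A)
      obtain ⟨⟨_, ⟨x, hx, rfl⟩, hx2⟩, hx1⟩ := Subgroup.ne_bot_iff_exists_ne_one.mp
        (H2.inf_center_ne_bot (N := C.map (QuotientGroup.mk' A)) fun e => hC.lt.not_ge (by
          rwa [Subgroup.map_eq_bot_iff, QuotientGroup.ker_mk'] at e))
      exact hx1 (Subtype.ext ((QuotientGroup.eq_one_iff x).mpr (e.ge ⟨hx, hx2⟩)))) inf_le_left
  exact (hm c).mp (h1.ge hc).2 g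

theorem cover_irr (h : SzH K P) {A C : Subgroup P} (hn : A.Normal) (hA : KInv K A)
    (hC : Cover K A C) (D : Subgroup P) (h1 : A ≤ D) (h2 : D ≤ C) (h3 : KInv K D) :
    D = A ∨ D = C := by
  rcases h1.eq_or_lt with e | e
  · exact Or.inl e.symm
  refine Or.inr (hC.min D ⟨fun x hx g => ?_⟩ h3 e h2)
  have : g * x * g⁻¹ = ⁅x, g⁆⁻¹ * x := by rw [commutatorElement_def]; group
  rw [this]
  exact mul_mem (inv_mem (h1 (h.cover_comm hn hA hC (h2 hx) g))) hx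

theorem cover_sq (h : SzH K P) {A C : Subgroup P} (hn : A.Normal) (hA : KInv K A)
    (hC : Cover K A C) : Sq C ≤ A := by
  classical
  let D : Subgroup P :=
    { carrier := {x | x ∈ C ∧ x * x ∈ A}
      one_mem' := ⟨one_mem C, by rw [one_mul]; exact one_mem A⟩
      mul_mem' := fun {x y} hx hy => ⟨mul_mem hx.1 hy.1, by
        have : x * y * (x * y) = x * x * ⁅x⁻¹, y⁆ * (y * y) := by
          rw [commutatorElement_def]; group
        rw [this]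
        exact mul_mem (mul_mem hx.2 (h.cover_comm hn hA hC (inv_mem hx.1) y)) hy.2⟩
      inv_mem' := fun {x} hx => ⟨inv_mem hx.1, by rw [← mul_inv_rev]; exact inv_mem hx.2⟩ }
  rcases h.cover_irr hn hA hC D (fun a ha => ⟨hC.lt.le ha, mul_mem ha ha⟩) (fun x hx => hx.1)
    (fun k x hx => ⟨hC.inv k x hx.1, by rw [← smul_mul']; exact hA k _ hx.2⟩) with e | e
  · exfalso
    obtain ⟨c, hc, hcA⟩ := SetLike.exists_of_lt hC.lt
    have h1 : ∃ m, c ^ 2 ^ m ∈ A := by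
      obtain ⟨m, hm⟩ := h.two c
      exact ⟨m, by rw [hm]; exact one_mem A⟩
    have h2 := Nat.find_spec h1
    obtain ⟨m, hm⟩ := Nat.exists_eq_succ_of_ne_zero (n := Nat.find h1) (fun e => hcA (by
      rwa [e, pow_zero, pow_one] at h2))
    refine Nat.find_min h1 (m := m) (by omega) (e.le ⟨pow_mem hc _, ?_⟩)
    rwa [pow_two_pow_mul_self, ← Nat.succ_eq_add_one, ← hm]
  · exact Sq_le_iff.mpr fun c hc => (e.ge hc).2

theorem cover_crd [Finite F] (h : SzH K P) (hF : Nat.card F = Nat.card K + 1) {A C : Subgroup P}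
    (hn : A.Normal) (hA : KInv K A) (hC : Cover K A C) : ∃ (π : P → F) (χ : K → F), Crd C A π χ :=
  h.exists_crd hF hC.lt.le hC.lt.ne hA hC.inv (fun _ hx y _ => h.cover_comm hn hA hC hx y)
    (h.cover_irr hn hA hC)

/-- the action of `P` on the two lowest layers of `A` -/
theorem exists_T (h : SzH K P) (hζ : Crd h.Om ⊥ ζ l) {A C : Subgroup P} (hA : AbN K A) {e : ℕ}
    (he : Expo A e) (h1 : 1 ≤ e) {π : P → F} {χ : K → F} (hπ : Crd C A π χ) (hAC : A ≤ C)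
    (hC : KInv K C) :
    ∃ T : F →+ F →+ F, (∀ k x a, T (χ k * x) (l k * a) = l k * T x a) ∧
      ∀ x ∈ C, ∀ a ∈ A, ∀ b ∈ A, ⁅x, a⁆ = b * b → T (π x) (ζ (a ^ 2 ^ e)) = ζ (b ^ 2 ^ e) := by
  obtain ⟨m, rfl⟩ := Nat.exists_eq_add_of_le' h1
  have hρ := h.crd_pow hζ hA he
  have hS : ∀ s ∈ Sq A, s ^ 2 ^ m ∈ h.Om := fun s hs => by
    obtain ⟨b, hb, rfl⟩ := (mem_Sq_iff hA.ab).mp hs
    rw [sq_pow_two_pow]; exact h.pow_mem_Om he hb
  have hadd : ∀ s ∈ Sq A, ∀ s' ∈ Sq A, ζ ((s * s') ^ 2 ^ m) = ζ (s ^ 2 ^ m) + ζ (s' ^ 2 ^ m) :=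
    fun s hs s' hs' => by
      rw [Commute.mul_pow (hA.ab _ (Sq_le A hs) _ (Sq_le A hs')), hζ.add _ (hS s hs) _ (hS s' hs')]
  have hc := h.comm_mem_Sq' hζ hA he
  have hzero : ∀ x, ∀ s ∈ Sq A, ζ (⁅x, s⁆ ^ 2 ^ m) = 0 := fun x s hs => by
    obtain ⟨b, hb, rfl⟩ := (mem_Sq_iff hA.ab).mp hs
    rw [comm_mul_right, commutatorElement_eq_one_iff_mul_comm.mpr
      (hA.ab b hb _ (Sq_le A (hc x hb))), one_mul, sq_pow_two_pow]
    exact (hρ.ker _ (Sq_le A (hc x hb))).mpr (hc x hb)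
  obtain ⟨T, hT⟩ := hπ.exists_biadd hAC hρ (Sq_le A) (fun x a => ζ (⁅x, a⁆ ^ 2 ^ m))
    (fun x _ y _ a ha => by
      rw [comm_mul_left, hadd _ (mul_mem (hc x (Sq_le A (hc y ha))) (hc y ha)) _ (hc x ha),
        hadd _ (hc x (Sq_le A (hc y ha))) _ (hc y ha), hzero x _ (hc y ha), zero_add, add_comm])
    (fun x _ a ha b hb => by
      rw [comm_mul_right, commutatorElement_eq_one_iff_mul_comm.mpr
        (hA.ab a ha _ (Sq_le A (hc x hb))), one_mul, hadd _ (hc x ha) _ (hc x hb)])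
    (fun x hx a ha => by
      rw [commutatorElement_eq_one_iff_mul_comm.mpr (hA.ab x hx a ha), one_pow, hζ.one])
    (fun x _ s hs => hzero x s hs)
  refine ⟨T, fun k s t => ?_, fun x hx a ha b hb e => by rw [hT x hx a ha, e, sq_pow_two_pow]⟩
  obtain ⟨x, hx, rfl⟩ := hπ.surj s
  obtain ⟨a, ha, rfl⟩ := hρ.surj t
  rw [← hπ.smul k x hx, ← hρ.smul k a ha, hT _ (hC k x hx) _ (hA.inv k a ha), hT x hx a ha,
    ← smul_commutatorElement, ← smul_pow', hζ.smul k _ (hS _ (hc x ha))]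

/-- the commutator form with values in the top layer of `A` -/
theorem exists_B (h : SzH K P) (hζ : Crd h.Om ⊥ ζ l) {A C B C' B' : Subgroup P} (hA : AbN K A)
    {e : ℕ} (he : Expo A e) {π π' : P → F} {χ χ' : K → F} (hπ : Crd C B π χ) (hBC : B ≤ C)
    (hπ' : Crd C' B' π' χ') (hBC' : B' ≤ C') (hC : KInv K C) (hC' : KInv K C')
    (hm : ∀ x ∈ C, ∀ y ∈ C', ⁅x, y⁆ ∈ A) (h1 : ∀ x ∈ B, ∀ y ∈ C', ⁅x, y⁆ ∈ Sq A)
    (h2 : ∀ x ∈ C, ∀ y ∈ B', ⁅x, y⁆ ∈ Sq A) :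
    ∃ T : F →+ F →+ F, (∀ k x y, T (χ k * x) (χ' k * y) = l k * T x y) ∧
      ∀ x ∈ C, ∀ y ∈ C', T (π x) (π' y) = ζ (⁅x, y⁆ ^ 2 ^ e) := by
  have hρ := h.crd_pow hζ hA he
  have hc := h.comm_mem_Sq' hζ hA he
  have h0 : ∀ g, ∀ a ∈ A, ζ (⁅g, a⁆ ^ 2 ^ e) = 0 := fun g a ha =>
    (hρ.ker _ (Sq_le A (hc g ha))).mpr (hc g ha)
  obtain ⟨T, hT⟩ := hπ.exists_biadd hBC hπ' hBC' (fun x y => ζ (⁅x, y⁆ ^ 2 ^ e))
    (fun x hx y hy z hz => by
      rw [comm_mul_left, hρ.add _ (mul_mem (Sq_le A (hc x (hm y hy z hz))) (hm y hy z hz)) _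
        (hm x hx z hz), hρ.add _ (Sq_le A (hc x (hm y hy z hz))) _ (hm y hy z hz),
        h0 x _ (hm y hy z hz), zero_add, add_comm])
    (fun x hx y hy z hz => by
      rw [comm_mul_right, hρ.add _ (hm x hx y hy) _ (mul_mem (Sq_le A (hc y (hm x hx z hz)))
        (hm x hx z hz)), hρ.add _ (Sq_le A (hc y (hm x hx z hz))) _ (hm x hx z hz),
        h0 y _ (hm x hx z hz), zero_add])
    (fun x hx y hy => (hρ.ker _ (hm x (hBC hx) y hy)).mpr (h1 x hx y hy))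
    (fun x hx y hy => (hρ.ker _ (hm x hx y (hBC' hy))).mpr (h2 x hx y hy))
  refine ⟨T, fun k s t => ?_, hT⟩
  obtain ⟨x, hx, rfl⟩ := hπ.surj s
  obtain ⟨y, hy, rfl⟩ := hπ'.surj t
  rw [← hπ.smul k x hx, ← hπ'.smul k y hy, hT _ (hC k x hx) _ (hC' k y hy), hT x hx y hy,
    ← smul_commutatorElement, hρ.smul k _ (hm x hx y hy)]

theorem comm_Sq_mem (h : SzH K P) (hζ : Crd h.Om ⊥ ζ l) {A C : Subgroup P} (hA : AbN K A)
    {e : ℕ} (he : Expo A e) (hm : ∀ x ∈ C, ∀ y ∈ C, ⁅x, y⁆ ∈ A) {x y : P} (hx : x ∈ C)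
    (hy : y ∈ Sq C) : ⁅x, y⁆ ∈ Sq A := by
  have hc := h.comm_mem_Sq' hζ hA he
  induction hy using Subgroup.closure_induction with
  | mem y hy =>
    obtain ⟨c, hc', rfl⟩ := hy
    rw [comm_mul_right, hA.ab _ (Sq_le A (hc c (hm x hx c hc'))) _ (hm x hx c hc'), ← mul_assoc]
    exact mul_mem (sq_mem_Sq (hm x hx c hc')) (hc c (hm x hx c hc'))
  | one => rw [commutatorElement_one_right]; exact one_mem _
  | mul y z _ _ h1 h2 =>
    rw [comm_mul_right]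
    exact mul_mem h1 (mul_mem (hc y (Sq_le A h2)) h2)
  | inv y _ h1 =>
    have : ⁅x, y⁻¹⁆ = y⁻¹ * ⁅x, y⁆⁻¹ * y⁻¹⁻¹ := by simp only [commutatorElement_def]; group
    rw [this]
    exact (Sq_normal hA.normal).conj_mem _ (inv_mem h1) _

end SzH

end H21
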