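import Mathlib
import Cfsg.Agent.H21.Higman3

/-! Higman's theorem on Suzuki 2-groups: the exponent is four. -/

set_option autoImplicit false

namespace H21

open scoped commutatorElement

variable {K P : Type*} [Group P] [Group K] [MulDistribMulAction K P]

theorem mul_sq_eq (x y : P) : x * y * (x * y) = x * x * ⁅x⁻¹, y⁆ * (y * y) := by
  rw [commutatorElement_def]; group

theorem neg_eq_of_two {F : Type*} [Field F] (h2 : (2 : F) = 0) (x : F) : -x = x := by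
  linear_combination -x * h2

/-- Maschke's theorem for an elementary abelian quotient of a 2-group -/
theorem exists_kinv_compl [Finite K] (hK : Odd (Nat.card K)) {A M : Subgroup P} [A.Normal]
    (hA : KInv K A) (hM : KInv K M) (hAM : A ≤ M) (hsq : ∀ x : P, x * x ∈ A) (hne : M ≠ ⊤) :
    ∃ W : Subgroup P, KInv K W ∧ A < W ∧ W ⊓ M ≤ A := by
  classical
  have := Fintype.ofFinite K
  have hc : ∀ x y : P, ⁅x, y⁆ ∈ A := fun x y =>
    (Sq_le_iff (C := ⊤)).mpr (fun c _ => hsq c) (comm_mem_Sq trivial trivial)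
  let _ : CommGroup (P ⧸ A) := { (inferInstance : Group (P ⧸ A)) with
    mul_comm := fun a b => by
      obtain ⟨x, rfl⟩ := QuotientGroup.mk_surjective a
      obtain ⟨y, rfl⟩ := QuotientGroup.mk_surjective b
      rw [← QuotientGroup.mk_mul, ← QuotientGroup.mk_mul, QuotientGroup.eq]
      simpa [commutatorElement_def, mul_assoc] using hc y⁻¹ x⁻¹ }
  have h2 : ∀ v : Additive (P ⧸ A), 2 • v = 0 := fun v => by
    obtain ⟨x, hx⟩ := QuotientGroup.mk_surjective (Additive.toMul v)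
    apply Additive.toMul.injective
    rw [toMul_nsmul, ← hx, pow_two, ← QuotientGroup.mk_mul]
    exact (QuotientGroup.eq_one_iff _).mpr (hsq x)
  let _ : Module (ZMod 2) (Additive (P ⧸ A)) := AddCommGroup.zmodModule h2
  let m : P → Additive (P ⧸ A) := fun x => Additive.ofMul (QuotientGroup.mk x)
  have hms : ∀ v, ∃ x, m x = v := fun v => QuotientGroup.mk_surjective (Additive.toMul v)
  let ψ : K → (Additive (P ⧸ A) →+ Additive (P ⧸ A)) := fun k => MonoidHom.toAdditive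
    (QuotientGroup.map A A (MulDistribMulAction.toMonoidHom P k) fun x hx => hA k x hx)
  have hψ : ∀ k x, ψ k (m x) = m (k • x) := fun _ _ => rfl
  have hψ2 : ∀ k l v, ψ k (ψ l v) = ψ (k * l) v := fun k l v => by
    obtain ⟨x, rfl⟩ := hms v
    rw [hψ, hψ, hψ, mul_smul]
  have hψ1 : ∀ v, ψ 1 v = v := fun v => by
    obtain ⟨x, rfl⟩ := hms v
    rw [hψ, one_smul]
  let U : Submodule (ZMod 2) (Additive (P ⧸ A)) :=
    AddSubgroup.toZModSubmodule 2 (Subgroup.toAddSubgroup (M.map (QuotientGroup.mk' A)))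
  have hU : ∀ x, m x ∈ U ↔ x ∈ M := fun x => by
    change x ∈ (M.map (QuotientGroup.mk' A)).comap (QuotientGroup.mk' A) ↔ _
    rw [Subgroup.comap_map_eq, QuotientGroup.ker_mk', sup_eq_left.mpr hAM]
  have hUψ : ∀ k, ∀ v ∈ U, ψ k v ∈ U := fun k v hv => by
    obtain ⟨x, rfl⟩ := hms v
    exact (hU _).mpr (hM k x ((hU x).mp hv))
  obtain ⟨p, hp⟩ := U.subtype.exists_leftInverse_of_injective U.ker_subtype
  have hp' : ∀ v ∈ U, (p v : Additive (P ⧸ A)) = v := fun v hv =>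
    congrArg Subtype.val (LinearMap.congr_fun hp ⟨v, hv⟩)
  let q : Additive (P ⧸ A) →+ Additive (P ⧸ A) :=
    ∑ k : K, (ψ k).comp ((U.subtype.comp p).toAddMonoidHom.comp (ψ k⁻¹))
  have hq : ∀ v, q v = ∑ k : K, ψ k (p (ψ k⁻¹ v)) := fun v => by
    simp [q, AddMonoidHom.finsetSum_apply]
  have hq1 : ∀ v, q v ∈ U := fun v => by
    rw [hq]; exact U.sum_mem fun k _ => hUψ k _ (p _).2
  have hq2 : ∀ v ∈ U, q v = v := fun v hv => by
    rw [hq, Finset.sum_congr rfl (g := fun _ => v) (fun k _ => by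
      rw [hp' _ (hUψ _ _ hv), hψ2, mul_inv_cancel, hψ1]), Finset.sum_const, Finset.card_univ,
      ← Nat.card_eq_fintype_card]
    obtain ⟨r, hr⟩ := hK
    rw [hr, add_nsmul, mul_nsmul, h2, nsmul_zero, zero_add, one_nsmul]
  have hq3 : ∀ l v, q (ψ l v) = ψ l (q v) := fun l v => by
    rw [hq, hq, map_sum, ← Equiv.sum_comp (Equiv.mulLeft l)]
    refine Finset.sum_congr rfl fun k _ => ?_
    rw [Equiv.coe_mulLeft, hψ2, hψ2, mul_inv_rev, inv_mul_cancel_right]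
  let W : Subgroup P := (AddSubgroup.toSubgroup' q.ker).comap (QuotientGroup.mk' A)
  have hW : ∀ x, x ∈ W ↔ q (m x) = 0 := fun _ => Iff.rfl
  have hm0 : ∀ x, m x = 0 ↔ x ∈ A := fun x => QuotientGroup.eq_one_iff x
  refine ⟨W, fun k x hx => by rw [hW, ← hψ, hq3, (hW x).mp hx, map_zero],
    lt_of_le_of_ne (fun a ha => by rw [hW, (hm0 a).mpr ha, map_zero]) fun e => hne ?_,
    fun x hx => (hm0 x).mp ?_⟩
  · rw [eq_top_iff]
    intro x _
    obtain ⟨y, hy⟩ := hms (m x - q (m x))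
    have h3 : y ∈ A := e.ge ((hW y).mpr (by rw [hy, map_sub, hq2 _ (hq1 _), sub_self]))
    rw [(hm0 y).mpr h3, eq_comm, sub_eq_zero] at hy
    rw [← hU, hy]
    exact hq1 _
  · rw [← hq2 _ ((hU x).mpr hx.2), (hW x).mp hx.1]

namespace SzH

variable [Finite P] {F : Type} [Field F] [Finite F] {ζ : P → F} {l : K → F}

theorem odd_card_K (h : SzH K P) : Odd (Nat.card K) := by
  obtain ⟨n, hn, e⟩ := h.exists_card_Om
  rw [← h.card_K] at e
  obtain ⟨m, rfl⟩ := Nat.exists_eq_succ_of_ne_zero hn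
  rw [pow_succ] at e
  exact ⟨2 ^ m - 1, by have := Nat.one_le_two_pow (n := m); omega⟩

omit [Finite F] in
theorem not_le_Sq (h : SzH K P) (hζ : Crd h.Om ⊥ ζ l) {A : Subgroup P} (hA : AbN K A) {e : ℕ}
    (he : Expo A e) : ¬ A ≤ Sq A := fun hle => by
  obtain ⟨a, ha, h1⟩ := (h.crd_pow hζ hA he).surj 1
  exact one_ne_zero (h1.symm.trans (((h.crd_pow hζ hA he).ker a ha).mpr (hle ha)))

theorem case_one (h : SzH K P) (hF : Nat.card F = Nat.card K + 1) (hζ : Crd h.Om ⊥ ζ l)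
    {A C : Subgroup P} (hA : AbN K A) (hO : h.Om ≤ A) {e : ℕ} (he : Expo A e) (hC : Cover K A C)
    (hs : Sq C ≤ Sq A) : e ≤ 1 := by
  by_contra hlt
  have h2 := h.two_eq_zero hζ
  obtain ⟨π, χ, hπ⟩ := h.cover_crd hF hA.normal hA.inv hC
  have hρ := h.crd_pow hζ hA he
  obtain ⟨T, h3, h4⟩ := h.exists_T hζ hA he (by omega) hπ hC.lt.le hC.inv
  have h5 : ∀ x, ∀ a ∈ A, ∃ b ∈ A, ⁅x, a⁆ = b * b := fun x a ha => by
    obtain ⟨b, hb, e⟩ := (mem_Sq_iff hA.ab).mp (h.comm_mem_Sq' hζ hA he x ha)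
    exact ⟨b, hb, e.symm⟩
  have h6 := eq_zero_of_idem h2 (h.exists_ne_zero_one hζ) T hπ.onto hζ.onto hζ.ne_zero h3
    fun s t => by
      obtain ⟨x, hx, rfl⟩ := hπ.surj s
      obtain ⟨a, ha, rfl⟩ := hρ.surj t
      obtain ⟨b, hb, e1⟩ := h5 x a ha
      obtain ⟨c, hc, e2⟩ := h5 x b hb
      rw [h4 x hx a ha b hb e1, h4 x hx b hb c hc e2]
      have h7 : ⁅x * x, a⁆ = 1 := commutatorElement_eq_one_iff_mul_comm.mpr
        (hA.ab _ (Sq_le A (hs (sq_mem_Sq hx))) a ha)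
      rw [comm_mul_left, e1, comm_mul_right, e2, commutatorElement_eq_one_iff_mul_comm.mpr
        (hA.ab b hb _ (mul_mem hc hc)), one_mul] at h7
      have h8 : (c * b) ^ 2 ^ e = 1 := by
        obtain ⟨m, rfl⟩ : ∃ m, e = 2 + m := ⟨e - 2, by omega⟩
        rw [pow_add, pow_mul, Commute.mul_pow (hA.ab c hc b hb), show c ^ 2 ^ 2 * b ^ 2 ^ 2 =
          c * c * (c * c) * (b * b) * (b * b) by simp [pow_succ, mul_assoc], h7, one_pow]
      have h9 := hρ.add c hc b hb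
      simp only [h8, hζ.one] at h9
      linear_combination -h9 - ζ (b ^ 2 ^ e) * h2
  refine hC.lt.not_ge fun x hx => h.mem_of_comm_four hA hO (hs (sq_mem_Sq hx)) fun a ha => ?_
  obtain ⟨b, hb, e1⟩ := h5 x a ha
  obtain ⟨c, hc, rfl⟩ := (mem_Sq_iff hA.ab).mp ((hρ.ker b hb).mp
    ((h4 x hx a ha b hb e1).symm.trans (h6 _ _)))
  exact ⟨c, hc, by rw [e1]; simp only [pow_succ, pow_zero]; group⟩

theorem case_two (h : SzH K P) (hF : Nat.card F = Nat.card K + 1) (hζ : Crd h.Om ⊥ ζ l)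
    {A C : Subgroup P} (hA : AbN K A) {e : ℕ} (he : Expo A e) (hC : Cover K A C)
    (hs : ¬ Sq C ≤ Sq A) (hna : ⁅C, C⁆ ≠ ⊥) : e = 0 := by
  have h2 := h.two_eq_zero hζ
  have hρ := h.crd_pow hζ hA he
  have hsA := h.cover_sq hA.normal hA.inv hC
  have hsq : ∀ x ∈ C, x * x ∈ A := Sq_le_iff.mp hsA
  have hS : Sq C = A := by
    by_contra hne
    exact hs (h.le_Sq_of_ne hζ hA he hsA hC.inv.Sq hne)
  have hcm : ∀ x ∈ C, ∀ y, ⁅x, y⁆ ∈ A := fun x hx y => h.cover_comm hA.normal hA.inv hC hx y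
  have hA'A : ⁅C, C⁆ ≤ A := Subgroup.commutator_le.mpr fun x hx y _ => hcm x hx y
  have := hC.normal
  have hA' : AbN K ⁅C, C⁆ := ⟨fun x hx y hy => hA.ab x (hA'A hx) y (hA'A hy), inferInstance,
    hC.inv.commutator hC.inv⟩
  have hm' : ∀ x ∈ C, ∀ y ∈ C, ⁅x, y⁆ ∈ ⁅C, C⁆ := fun x hx y hy =>
    Subgroup.commutator_mem_commutator hx hy
  obtain ⟨e', he'⟩ := h.exists_expo hna
  have hB : ∀ {π : P → F} {χ : K → F}, Crd C A π χ → ∃ T : F →+ F →+ F,
      (∀ k x y, T (χ k * x) (χ k * y) = l k * T x y) ∧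
      (∀ x ∈ C, ∀ y ∈ C, T (π x) (π y) = ζ (⁅x, y⁆ ^ 2 ^ e')) ∧ ¬ ∀ s t, T s t = 0 := fun hπ => by
    obtain ⟨T, h3, h4⟩ := h.exists_B hζ hA' he' hπ hC.lt.le hπ hC.lt.le hC.inv hC.inv hm'
      (fun x hx y hy => by
        rw [← commutatorElement_inv]
        exact inv_mem (h.comm_Sq_mem hζ hA' he' hm' hy (hS.ge hx)))
      (fun x hx y hy => h.comm_Sq_mem hζ hA' he' hm' hx (hS.ge hy))
    refine ⟨T, h3, h4, fun h5 => h.not_le_Sq hζ hA' he' (Subgroup.commutator_le.mpr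
      fun x hx y hy => ((h.crd_pow hζ hA' he').ker _ (hm' x hx y hy)).mp ?_)⟩
    exact (h4 x hx y hy).symm.trans (h5 _ _)
  have hadd : ∀ x ∈ C, ∀ y ∈ C, ζ ((x * y * (x * y)) ^ 2 ^ e) =
      ζ ((x * x) ^ 2 ^ e) + ζ ((y * y) ^ 2 ^ e) + ζ (⁅x⁻¹, y⁆ ^ 2 ^ e) := fun x hx y hy => by
    rw [mul_sq_eq, hρ.add _ (mul_mem (hsq x hx) (hcm _ (inv_mem hx) y)) _ (hsq y hy),
      hρ.add _ (hsq x hx) _ (hcm _ (inv_mem hx) y)]
    ring
  have hsmul : ∀ k : K, ∀ x ∈ C, ζ ((k • x * k • x) ^ 2 ^ e) = l k * ζ ((x * x) ^ 2 ^ e) :=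
    fun k x hx => by rw [← smul_mul', hρ.smul k _ (hsq x hx)]
  by_cases hEq : ⁅C, C⁆ = A
  swap
  · exfalso
    have h3 := h.le_Sq_of_ne hζ hA he hA'A hA'.inv hEq
    have hadd' : ∀ x ∈ C, ∀ y ∈ C, ζ ((x * y * (x * y)) ^ 2 ^ e) =
        ζ ((x * x) ^ 2 ^ e) + ζ ((y * y) ^ 2 ^ e) := fun x hx y hy => by
      rw [hadd x hx y hy, (hρ.ker _ (hcm _ (inv_mem hx) y)).mpr (h3 (hm' _ (inv_mem hx) y hy)),
        add_zero]
    let D : Subgroup P :=
      { carrier := {x | x ∈ C ∧ x * x ∈ Sq A}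
        one_mem' := ⟨one_mem C, by rw [one_mul]; exact one_mem _⟩
        mul_mem' := fun {x y} hx hy => ⟨mul_mem hx.1 hy.1, by
          rw [mul_sq_eq]
          exact mul_mem (mul_mem hx.2 (h3 (hm' _ (inv_mem hx.1) y hy.1))) hy.2⟩
        inv_mem' := fun {x} hx => ⟨inv_mem hx.1, by rw [← mul_inv_rev]; exact inv_mem hx.2⟩ }
    have hD : D = A := (h.cover_irr hA.normal hA.inv hC D
      (fun a ha => ⟨hC.lt.le ha, sq_mem_Sq ha⟩) (fun x hx => hx.1) (fun k x hx =>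
        ⟨hC.inv k x hx.1, by rw [← smul_mul']; exact hA.inv.Sq k _ hx.2⟩)).resolve_right
      fun e => hs (Sq_le_iff.mpr fun c hc => (e.ge hc).2)
    have hker : ∀ x ∈ C, ζ ((x * x) ^ 2 ^ e) = 0 ↔ x ∈ A := fun x hx => by
      rw [hρ.ker _ (hsq x hx)]
      exact ⟨fun h4 => hD.le ⟨hx, h4⟩, fun h4 => (hD.ge h4).2⟩
    have hπ : Crd C A (fun x => ζ ((x * x) ^ 2 ^ e)) l := ⟨hadd', hker, fun t => by
      obtain ⟨x, hx, hxA⟩ := SetLike.exists_of_lt hC.lt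
      by_cases ht : t = 0
      · exact ⟨1, one_mem C, by rw [ht]; exact (hker 1 (one_mem C)).mpr (one_mem A)⟩
      have h0 : ζ ((x * x) ^ 2 ^ e) ≠ 0 := fun e => hxA ((hker x hx).mp e)
      obtain ⟨k, hk⟩ := hζ.onto (t / ζ ((x * x) ^ 2 ^ e)) (div_ne_zero ht h0)
      exact ⟨k • x, hC.inv k x hx, by rw [hsmul k x hx, hk, div_mul_cancel₀ _ h0]⟩,
      hsmul, hζ.onto, hζ.ne_zero⟩
    obtain ⟨T, h4, h5, h6⟩ := hB hπ
    refine h6 (eq_zero_of_alt h2 T hζ.onto h4 fun s => ?_)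
    obtain ⟨x, hx, rfl⟩ := hπ.surj s
    rw [h5 x hx x hx, commutatorElement_self, one_pow, hζ.one]
  by_contra h0
  obtain rfl : e' = e := by
    rw [hEq] at he'
    by_contra hne
    rcases Nat.lt_or_gt_of_ne hne with h3 | h3
    · obtain ⟨a, ha, h4⟩ := he.2
      obtain ⟨m, rfl⟩ := Nat.exists_eq_add_of_lt h3
      exact h4 (by rw [show e' + m + 1 = e' + 1 + m by omega, pow_add, pow_mul, he'.1 a ha, one_pow])
    · obtain ⟨a, ha, h4⟩ := he'.2
      obtain ⟨m, rfl⟩ := Nat.exists_eq_add_of_lt h3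
      exact h4 (by rw [show e + m + 1 = e + 1 + m by omega, pow_add, pow_mul, he.1 a ha, one_pow])
  obtain ⟨π, χ, hπ⟩ := h.cover_crd hF hA.normal hA.inv hC
  obtain ⟨B, -, h4, h5⟩ := hB hπ
  obtain ⟨T, -, h6⟩ := h.exists_T hζ hA he (by omega) hπ hC.lt.le hC.inv
  obtain ⟨Q, hQ⟩ := hπ.exists_fun (fun x => ζ ((x * x) ^ 2 ^ e')) fun x hx b hb => by
    have h7 := h.comm_mem_Sq' hζ hA he x⁻¹ hb
    rw [hadd x hx b (hC.lt.le hb), (hρ.ker _ (mul_mem hb hb)).mpr (sq_mem_Sq hb),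
      (hρ.ker _ (Sq_le A h7)).mpr h7, add_zero, add_zero]
  refine h5 (lemma2b h2 (h.exists_ne_zero_one hζ) Q B T (fun s t => ?_) hπ.onto (l := l)
    (fun k s => ?_) fun s t => ?_)
  · obtain ⟨x, hx, rfl⟩ := hπ.surj s
    obtain ⟨y, hy, rfl⟩ := hπ.surj t
    rw [← hπ.add x hx y hy, hQ _ (mul_mem hx hy), hQ x hx, hQ y hy, hadd x hx y hy,
      ← h4 _ (inv_mem hx) y hy, hπ.inv hx, neg_eq_of_two h2]
  · obtain ⟨x, hx, rfl⟩ := hπ.surj s
    rw [← hπ.smul k x hx, hQ _ (hC.inv k x hx), hQ x hx, hsmul k x hx]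
  · obtain ⟨x, hx, rfl⟩ := hπ.surj s
    obtain ⟨y, hy, rfl⟩ := hπ.surj t
    have hd := hcm y hy x
    obtain ⟨c, hc, e1⟩ := (mem_Sq_iff hA.ab).mp (h.comm_mem_Sq' hζ hA he x hd)
    have h7 : B (π x) (π y) = ζ (⁅y, x⁆ ^ 2 ^ e') := by
      rw [h4 x hx y hy, ← commutatorElement_inv, hρ.inv hd, neg_eq_of_two h2]
    rw [hQ x hx, h7, h6 x hx _ hd c hc e1.symm, h6 y hy _ (hsq x hx) (⁅y, x⁆ * c) (mul_mem hd hc) (by
      rw [comm_mul_right, ← e1, mul_assoc c c, hA.ab c hc _ hd]; simp only [mul_assoc]),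
      hρ.add _ hd c hc]

theorem covers_comm (h : SzH K P) (hF : Nat.card F = Nat.card K + 1) (hζ : Crd h.Om ⊥ ζ l)
    {A C D : Subgroup P} (hA : AbN K A) (he : Expo A 1) (hsq : ∀ x : P, x * x ∈ A)
    (hC : Cover K A C) (hD : Cover K A D) (h1 : Sq C ≤ Sq A) (h3 : Sq D ≤ Sq A) {x y : P}
    (hx : x ∈ C) (hy : y ∈ D) : ⁅x, y⁆ ∈ Sq A := by
  have h2 := h.two_eq_zero hζ
  have hρ := h.crd_pow hζ hA he
  have hc := h.comm_mem_Sq' hζ hA he
  have hm : ∀ x y : P, ⁅x, y⁆ ∈ A := fun x y =>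
    (Sq_le_iff (C := ⊤)).mpr (fun c _ => hsq c) (comm_mem_Sq trivial trivial)
  obtain ⟨π₁, χ₁, hπ₁⟩ := h.cover_crd hF hA.normal hA.inv hC
  obtain ⟨π₂, χ₂, hπ₂⟩ := h.cover_crd hF hA.normal hA.inv hD
  obtain ⟨T₁, e1, e2⟩ := h.exists_T hζ hA he le_rfl hπ₁ hC.lt.le hC.inv
  obtain ⟨T₂, e3, e4⟩ := h.exists_T hζ hA he le_rfl hπ₂ hD.lt.le hD.inv
  obtain ⟨B, e5, e6⟩ := h.exists_B hζ hA he hπ₁ hC.lt.le hπ₂ hD.lt.le hC.inv hD.inv
    (fun x _ y _ => hm x y)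
    (fun x hx y _ => by rw [← commutatorElement_inv]; exact inv_mem (hc y hx))
    (fun x _ y hy => hc x hy)
  have key : ∀ x y : P, x * x ∈ Sq A → ⁅x, ⁅y, x⁆⁆ = ⁅y, x⁆⁻¹ * ⁅y, x⁆⁻¹ := fun x y hx => by
    obtain ⟨a, ha, e⟩ := (mem_Sq_iff hA.ab).mp hx
    have h4 : ⁅y, x * x⁆ = 1 := commutatorElement_eq_one_iff_mul_comm.mpr (h.central (by
      rw [← e, ← pow_two, ← pow_two, ← pow_mul]; exact he.1 a ha) y)
    rw [comm_mul_right] at h4
    calc ⁅x, ⁅y, x⁆⁆ = ⁅y, x⁆⁻¹ * (⁅y, x⁆ * (⁅x, ⁅y, x⁆⁆ * ⁅y, x⁆)) * ⁅y, x⁆⁻¹ := by group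
      _ = _ := by rw [h4, mul_one]
  have h5 : ∀ x y : P, ζ (⁅x, y⁆⁻¹ ^ 2 ^ 1) = ζ (⁅x, y⁆ ^ 2 ^ 1) := fun x y => by
    rw [hρ.inv (hm x y), neg_eq_of_two h2]
  refine (hρ.ker _ (hm x y)).mp ((e6 x hx y hy).symm.trans (eq_zero_of_two_ids h2
    (h.exists_ne_zero_one hζ) B T₁ T₂ hπ₁.onto hπ₂.onto hζ.onto hζ.ne_zero e5 e1 e3
    (fun s t => ?_) (fun s t => ?_) _ _))
  · obtain ⟨x, hx, rfl⟩ := hπ₁.surj s
    obtain ⟨y, hy, rfl⟩ := hπ₂.surj t
    rw [e6 x hx y hy, ← h5, commutatorElement_inv,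
      e2 x hx _ (hm y x) _ (inv_mem (hm y x)) (key x y (h1 (sq_mem_Sq hx))), h5]
  · obtain ⟨x, hx, rfl⟩ := hπ₁.surj s
    obtain ⟨y, hy, rfl⟩ := hπ₂.surj t
    rw [e6 x hx y hy, e4 y hy _ (hm x y) _ (inv_mem (hm x y)) (key y x (h3 (sq_mem_Sq hy))), h5]

/-- Higman: squares are central of order at most two -/
theorem sq_mem_Om (h : SzH K P) (hna : ∃ x y : P, x * y ≠ y * x) (x : P) : x * x ∈ h.Om := by
  obtain ⟨F, _, _, hF⟩ := h.exists_field
  obtain ⟨ζ, l, hζ⟩ := h.exists_crd_Om hF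
  obtain ⟨A, ⟨hA, hO⟩, hmax⟩ := WellFounded.has_min (wellFounded_gt (α := Subgroup P))
    {A | AbN K A ∧ h.Om ≤ A} ⟨h.Om, ⟨fun x hx y _ => (h.central hx y).symm, h.normal_Om, h.kinv_Om⟩,
      le_rfl⟩
  obtain ⟨e, he⟩ := h.exists_expo (A := A) fun e => h.Om_ne_bot (le_bot_iff.mp (e ▸ hO))
  have hna' : ∀ C, Cover K A C → ⁅C, C⁆ ≠ ⊥ := fun C hC e => hmax C ⟨⟨fun x hx y hy =>
    commutatorElement_eq_one_iff_mul_comm.mp (Subgroup.mem_bot.mp
      (e ▸ Subgroup.commutator_mem_commutator hx hy)), hC.normal, hC.inv⟩, hO.trans hC.lt.le⟩ hC.lt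
  have hone : e ≠ 0 → ∀ C, Cover K A C → Sq C ≤ Sq A := fun h0 C hC => by
    by_contra hs
    exact h0 (h.case_two hF hζ hA he hC hs (hna' C hC))
  have hAt : A < ⊤ := lt_top_iff_ne_top.mpr fun e => by
    obtain ⟨x, y, hxy⟩ := hna
    exact hxy (hA.ab x (e ▸ trivial) y (e ▸ trivial))
  have he1 : e ≤ 1 := by
    obtain ⟨C, -, hC⟩ := exists_cover (K := K) hAt inferInstance kinv_top
    by_contra hlt
    exact hlt (h.case_one hF hζ hA hO he hC (hone (by omega) C hC))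
  have hn := hA.normal
  have hST : (Sq (⊤ : Subgroup P)).Normal := Sq_normal inferInstance
  have hcent : ∀ B : Subgroup P, (∀ a ∈ A, ∀ b ∈ B, b * a = a * b) →
      (∀ g, ∀ b ∈ B, ⁅b, g⁆ ∈ h.Om) → A ⊔ Sq ⊤ ≤ Subgroup.centralizer B := fun B h1 h2 =>
    sup_le (fun a ha b hb => h1 a ha b hb) (Sq_le_iff.mpr fun g _ b hb => by
      rw [← commutatorElement_eq_one_iff_mul_comm, comm_mul_right,
        commutatorElement_eq_one_iff_mul_comm.mpr (h.central (h2 g b hb) g), one_mul]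
      exact h2 g b hb)
  have hSA : ∀ a ∈ Sq A, e = 1 → a ∈ h.Om := fun a ha h1 => by
    obtain ⟨b, hb, rfl⟩ := (mem_Sq_iff hA.ab).mp ha
    subst h1
    rw [mem_Om, ← pow_two, ← pow_two, ← pow_mul]; exact he.1 b hb
  have hA0 : ∀ a ∈ A, e = 0 → a ∈ h.Om := fun a ha h1 => by
    subst h1
    rw [mem_Om, ← pow_two]; exact he.1 a ha
  have hsq : ∀ x : P, x * x ∈ A := by
    by_contra hc
    obtain ⟨C, h1, hC⟩ := exists_cover (A := A) (M := A ⊔ Sq ⊤) (lt_of_le_of_ne le_sup_left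
      fun e => hc fun x => e.ge (Subgroup.mem_sup_right (sq_mem_Sq trivial))) inferInstance
      (hA.inv.sup kinv_top.Sq)
    rcases Nat.le_one_iff_eq_zero_or_eq_one.mp he1 with h0 | h0
    · refine hna' C hC (Subgroup.commutator_eq_bot_iff_le_centralizer.mpr (h1.trans (hcent C
        (fun a ha b _ => h.central (hA0 a ha h0) b) fun g b hb =>
          hA0 _ (h.cover_comm hA.normal hA.inv hC hb g) h0)))
    · refine hC.lt.not_ge fun u hu => h.mem_of_comm_four hA hO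
        (hone (by omega) C hC (sq_mem_Sq hu)) fun a ha => ⟨1, one_mem A, ?_⟩
      rw [one_pow, commutatorElement_eq_one_iff_mul_comm]
      exact (hcent A (fun a ha b hb => hA.ab b hb a ha) (fun g b hb => by
        rw [← commutatorElement_inv]
        exact inv_mem (hSA _ (h.comm_mem_Sq' hζ hA he g hb) h0)) (h1 hu) a ha).symm
  rcases Nat.le_one_iff_eq_zero_or_eq_one.mp he1 with h0 | h0
  · exact hA0 _ (hsq x) h0
  subst h0
  -- the elements commuting with all covers modulo `Sq A`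
  have hS := Sq_normal hA.normal
  let Z : Set P → Subgroup P := fun S =>
    { carrier := {x | ∀ y ∈ S, ⁅x, y⁆ ∈ Sq A}
      one_mem' := fun y _ => by rw [commutatorElement_one_left]; exact one_mem _
      mul_mem' := fun {x y} hx hy z hz => by
        rw [comm_mul_left]
        exact mul_mem (mul_mem (comm_mem_of_normal hS x (hy z hz)) (hy z hz)) (hx z hz)
      inv_mem' := fun {x} hx y hy => by
        have : ⁅x⁻¹, y⁆ = x⁻¹ * ⁅x, y⁆⁻¹ * x⁻¹⁻¹ := by simp only [commutatorElement_def]; group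
        rw [this]
        exact hS.conj_mem _ (inv_mem (hx y hy)) _ }
  have hgen : ∀ M : Subgroup P, KInv K M → A ≤ M → (∀ C, Cover K A C → C ≤ M) → M = ⊤ :=
    fun M h1 h2 h3 => by
      by_contra hne
      have := h.finite_K
      obtain ⟨W, h4, h5, h6⟩ := exists_kinv_compl h.odd_card_K hA.inv h1 h2 hsq hne
      obtain ⟨C, h7, hC⟩ := exists_cover h5 ⟨fun w hw g => by
        have : g * w * g⁻¹ = ⁅g, w⁆ * w := by rw [commutatorElement_def]; group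
        rw [this]
        exact mul_mem (h5.le ((Sq_le_iff (C := ⊤)).mpr (fun c _ => hsq c)
          (comm_mem_Sq trivial trivial))) hw⟩ h4
      exact hC.lt.not_ge fun c hc => h6 ⟨h7 hc, h3 C hC hc⟩
  have hZ : ∀ S : Set P, (∀ k : K, ∀ y ∈ S, k • y ∈ S) → KInv K (Z S) ∧ A ≤ Z S := fun S h1 =>
    ⟨fun k x hx y hy => by
      rw [← smul_inv_smul k y, ← smul_commutatorElement]
      exact hA.inv.Sq k _ (hx _ (h1 _ y hy)), fun a ha y _ => by
      rw [← commutatorElement_inv]; exact inv_mem (h.comm_mem_Sq' hζ hA he y ha)⟩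
  have h1 : ∀ C, Cover K A C → ∀ x, ∀ y ∈ C, ⁅x, y⁆ ∈ Sq A := fun C hC x =>
    (hgen (Z C) (hZ C hC.inv).1 (hZ C hC.inv).2 fun D hD x hx y hy =>
      h.covers_comm hF hζ hA he hsq hD hC (hone one_ne_zero D hD) (hone one_ne_zero C hC) hx hy).ge
      (Subgroup.mem_top x)
  have h2 : ∀ x y : P, ⁅x, y⁆ ∈ Sq A := fun x y =>
    (hgen (Z Set.univ) (hZ Set.univ fun _ _ _ => Set.mem_univ _).1
      (hZ Set.univ fun _ _ _ => Set.mem_univ _).2
      fun C hC x hx y _ => by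
        rw [← commutatorElement_inv]; exact inv_mem (h1 C hC y x hx)).ge (Subgroup.mem_top x) y
          (Set.mem_univ _)
  let D : Subgroup P :=
    { carrier := {x | x * x ∈ Sq A}
      one_mem' := by rw [Set.mem_setOf_eq, one_mul]; exact one_mem _
      mul_mem' := fun {x y} hx hy => by
        rw [Set.mem_setOf_eq, mul_sq_eq]
        exact mul_mem (mul_mem hx (h2 _ _)) hy
      inv_mem' := fun {x} hx => by rw [Set.mem_setOf_eq, ← mul_inv_rev]; exact inv_mem hx }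
  exact hSA _ ((hgen D (fun k x hx => by
    change k • x * k • x ∈ Sq A
    rw [← smul_mul']; exact hA.inv.Sq k _ hx) (fun a ha => sq_mem_Sq ha)
    fun C hC c hc => hone one_ne_zero C hC (sq_mem_Sq hc)).ge (Subgroup.mem_top x)) rfl

end SzH

end H21
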