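import Mathlib
import Cfsg.Prelude.Def_LieRecognition
import Cfsg.Agent.H21.Higman4

/-! Higman's theorem on Suzuki 2-groups: the centre, the order, and the groups of type A. -/

set_option autoImplicit false

namespace H21

open scoped commutatorElement

theorem normal_of_sq {E : Type*} [Group E] {N : Subgroup E} (hN : ∀ x, x * x ∈ N) : N.Normal :=
  ⟨fun w hw g => by
    have : g * w * g⁻¹ = ⁅g, w⁆ * w := by rw [commutatorElement_def]; group
    rw [this]
    exact mul_mem ((Sq_le_iff (C := ⊤)).mpr (fun c _ => hN c) (comm_mem_Sq trivial trivial)) hw⟩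

/-- the quotient by a subgroup containing all squares is commutative -/
abbrev sqQuotComm {E : Type*} [Group E] (N : Subgroup E) [N.Normal] (hN : ∀ x, x * x ∈ N) :
    CommGroup (E ⧸ N) :=
  { (inferInstance : Group (E ⧸ N)) with
    mul_comm := fun a b => by
      obtain ⟨x, rfl⟩ := QuotientGroup.mk_surjective a
      obtain ⟨y, rfl⟩ := QuotientGroup.mk_surjective b
      rw [← QuotientGroup.mk_mul, ← QuotientGroup.mk_mul, QuotientGroup.eq]
      simpa [commutatorElement_def, mul_assoc] using (Sq_le_iff (C := ⊤)).mpr (fun c _ => hN c)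
        (comm_mem_Sq (x := y⁻¹) (y := x⁻¹) trivial trivial) }

theorem two_nsmul_quot {E : Type*} [Group E] (N : Subgroup E) [N.Normal] (hN : ∀ x, x * x ∈ N)
    (v : Additive (E ⧸ N)) : 2 • v = 0 := by
  obtain ⟨x, hx⟩ := QuotientGroup.mk_surjective (Additive.toMul v)
  apply Additive.toMul.injective
  rw [toMul_nsmul, ← hx, pow_two, ← QuotientGroup.mk_mul]
  exact (QuotientGroup.eq_one_iff _).mpr (hN x)

theorem exists_retraction {E W : Type*} [Group E] [AddCommGroup W] (h2 : ∀ w : W, 2 • w = 0)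
    (N : Subgroup E) (hN : ∀ x, x * x ∈ N) (i : W → E) (hi : ∀ v w, i (v + w) = i v * i w)
    (h0 : ∀ w, i w ∈ N → w = 0) :
    ∃ f : E → W, (∀ x y, f (x * y) = f x + f y) ∧ (∀ x ∈ N, f x = 0) ∧ ∀ w, f (i w) = w := by
  have := normal_of_sq hN
  let _ := sqQuotComm N hN
  let _ : Module (ZMod 2) (Additive (E ⧸ N)) := AddCommGroup.zmodModule (two_nsmul_quot N hN)
  let _ : Module (ZMod 2) W := AddCommGroup.zmodModule h2
  let j : W →+ Additive (E ⧸ N) := AddMonoidHom.mk'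
    (fun w => Additive.ofMul (QuotientGroup.mk (i w))) fun v w => by rw [hi]; rfl
  obtain ⟨p, hp⟩ := (j.toZModLinearMap 2).exists_leftInverse_of_injective
    (LinearMap.ker_eq_bot'.mpr fun w hw => h0 w ((QuotientGroup.eq_one_iff _).mp hw))
  refine ⟨fun x => p (Additive.ofMul (QuotientGroup.mk x)), fun x y => by rw [← map_add]; rfl,
    fun x hx => ?_, fun w => LinearMap.congr_fun hp w⟩
  simp only [(QuotientGroup.eq_one_iff x).mpr hx, ofMul_one, map_zero]

/-- the central extension of `P` by `W` with a bimultiplicative cocycle -/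
abbrev twGroup {P W : Type*} [Group P] [AddCommGroup W] (β : P → P → W)
    (h1 : ∀ x y z, β (x * y) z = β x z + β y z) (h2 : ∀ x y z, β x (y * z) = β x y + β x z) :
    Group (P × W) where
  mul a b := (a.1 * b.1, a.2 + b.2 + β a.1 b.1)
  one := (1, 0)
  inv a := (a.1⁻¹, -a.2 - β a.1⁻¹ a.1)
  mul_assoc a b c := Prod.ext (mul_assoc a.1 b.1 c.1) (by
    change a.2 + b.2 + β a.1 b.1 + c.2 + β (a.1 * b.1) c.1 =
      a.2 + (b.2 + c.2 + β b.1 c.1) + β a.1 (b.1 * c.1)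
    rw [h1, h2]; abel)
  one_mul a := Prod.ext (one_mul a.1) (by
    change 0 + a.2 + β 1 a.1 = a.2
    have := h1 1 1 a.1
    rw [one_mul, left_eq_add] at this
    rw [this, zero_add, add_zero])
  mul_one a := Prod.ext (mul_one a.1) (by
    change a.2 + 0 + β a.1 1 = a.2
    have := h2 a.1 1 1
    rw [one_mul, left_eq_add] at this
    rw [this, add_zero, add_zero])
  inv_mul_cancel a := Prod.ext (inv_mul_cancel a.1) (by
    change -a.2 - β a.1⁻¹ a.1 + a.2 + β a.1⁻¹ a.1 = 0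
    abel)

/-- a central extension of elementary abelian 2-groups is determined by its squaring map -/
theorem exists_eta {P W : Type*} [Group P] [AddCommGroup W] (hW : ∀ w : W, 2 • w = 0)
    (β : P → P → W) (h1 : ∀ x y z, β (x * y) z = β x z + β y z)
    (h2 : ∀ x y z, β x (y * z) = β x y + β x z) (Z : Subgroup P) (ζ : P → W)
    (hζ : ∀ x ∈ Z, ∀ y ∈ Z, ζ (x * y) = ζ x + ζ y) (hβ : ∀ x ∈ Z, ∀ y ∈ Z, β x y = 0)
    (hsq : ∀ x, x * x ∈ Z ∧ ζ (x * x) = β x x) :
    ∃ η : P → W, (∀ x y, η (x * y) = η x + η y + β x y) ∧ ∀ z ∈ Z, η z = ζ z := by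
  let _ := twGroup β h1 h2
  have hm : ∀ a b : P × W, a * b = (a.1 * b.1, a.2 + b.2 + β a.1 b.1) := fun _ _ => rfl
  have hζ1 : ζ 1 = 0 := by
    have := hζ 1 (one_mem Z) 1 (one_mem Z)
    rwa [one_mul, left_eq_add] at this
  have hβ1 : ∀ x, β x 1 = 0 := fun x => by
    have := h2 x 1 1
    rwa [one_mul, left_eq_add] at this
  let N : Subgroup (P × W) :=
    { carrier := {a | a.1 ∈ Z ∧ a.2 = ζ a.1}
      one_mem' := ⟨one_mem Z, hζ1.symm⟩
      mul_mem' := fun {a b} ha hb => ⟨mul_mem ha.1 hb.1, by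
        change a.2 + b.2 + β a.1 b.1 = ζ (a.1 * b.1)
        rw [hβ _ ha.1 _ hb.1, hζ _ ha.1 _ hb.1, ha.2, hb.2, add_zero]⟩
      inv_mem' := fun {a} ha => ⟨inv_mem ha.1, by
        change -a.2 - β a.1⁻¹ a.1 = ζ a.1⁻¹
        have := hζ _ ha.1 _ (inv_mem ha.1)
        rw [mul_inv_cancel, hζ1] at this
        rw [hβ _ (inv_mem ha.1) _ ha.1, sub_zero, ha.2, neg_eq_of_add_eq_zero_right this.symm]⟩ }
  obtain ⟨f, h3, h4, h5⟩ := exists_retraction hW N (fun a => ⟨(hsq a.1).1, by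
      change a.2 + a.2 + β a.1 a.1 = ζ (a.1 * a.1)
      rw [← two_nsmul, hW, zero_add, (hsq a.1).2]⟩) (fun w => (1, w))
    (fun v w => by rw [hm, one_mul, hβ1, add_zero]) fun w hw => hw.2.trans hζ1
  have h6 : ∀ x w, f (x, w) = f (x, 0) + w := fun x w => by
    rw [← h5 w, ← h3, hm, h5, mul_one, hβ1, zero_add, add_zero]
  refine ⟨fun x => -f (x, 0), fun x y => ?_, fun z hz => ?_⟩
  · have := h3 (x, 0) (y, 0)
    rw [hm, h6, add_zero, zero_add] at this
    rw [← neg_add, ← this]; abel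
  · have := h4 (z, ζ z) ⟨hz, rfl⟩
    rw [h6] at this
    exact neg_eq_of_add_eq_zero_right this

theorem index_le_of_anisotropic {P W : Type*} [Group P] [Finite P] [AddCommGroup W] [Finite W]
    (hW : ∀ w : W, 2 • w = 0) (Z : Subgroup P) (hsq : ∀ x, x * x ∈ Z) (Q : P → W) (β : P → P → W)
    (hQ : ∀ x y, Q (x * y) = Q x + Q y + β x y) (hβ : ∀ x y z, β (x * y) z = β x z + β y z)
    (hZ : ∀ x, ∀ z ∈ Z, Q (x * z) = Q x) (h1 : Q 1 = 0) (h0 : ∀ x, Q x = 0 → x ∈ Z) :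
    Z.index ≤ Nat.card W ^ 2 := by
  have := normal_of_sq hsq
  let _ := sqQuotComm Z hsq
  let _ : Module (ZMod 2) (Additive (P ⧸ Z)) := AddCommGroup.zmodModule (two_nsmul_quot Z hsq)
  let _ : Module (ZMod 2) W := AddCommGroup.zmodModule hW
  let m : P → Additive (P ⧸ Z) := fun x => Additive.ofMul (QuotientGroup.mk x)
  have hms : ∀ v, ∃ x, m x = v := fun v => QuotientGroup.mk_surjective (Additive.toMul v)
  have hmm : ∀ x y, m x + m y = m (x * y) := fun _ _ => rfl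
  let f : Additive (P ⧸ Z) → W := fun v => Q (Additive.toMul v).out
  have hf : ∀ x, f (m x) = Q x := fun x => by
    obtain ⟨z, hz⟩ := QuotientGroup.mk_out_eq_mul Z x
    exact (congrArg Q hz).trans (hZ x z z.2)
  have hf0 : f 0 = 0 := (hf 1).trans h1
  have hp : ∀ x y, QuadraticMap.polar f (m x) (m y) = β x y := fun x y => by
    rw [QuadraticMap.polar, hmm, hf, hf, hf, hQ]; abel
  have h01 : ∀ a : ZMod 2, a = 0 ∨ a = 1 := by decide
  have h3 := finrank_le_of_anisotropic (QuadraticMap.ofPolar (R := ZMod 2) f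
    (fun a v => by rcases h01 a with rfl | rfl <;> simp [hf0])
    (fun u v w => by
      obtain ⟨x, rfl⟩ := hms u
      obtain ⟨y, rfl⟩ := hms v
      obtain ⟨z, rfl⟩ := hms w
      rw [hmm, hp, hp, hp, hβ])
    (fun a v w => by rcases h01 a with rfl | rfl <;> simp [QuadraticMap.polar, hf0]))
    fun v hv => by
      obtain ⟨x, rfl⟩ := hms v
      exact (QuotientGroup.eq_one_iff x).mpr (h0 x ((hf x).symm.trans hv))
  have h4 : Z.index = Nat.card (Additive (P ⧸ Z)) := rfl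
  rw [h4, Module.natCard_eq_pow_finrank (K := ZMod 2), Module.natCard_eq_pow_finrank (K := ZMod 2)
    (V := W), ← pow_mul, mul_comm]
  exact Nat.pow_le_pow_right (by simp) h3

variable {K P : Type*} [Group P] [Group K] [MulDistribMulAction K P]

theorem Crd.card {F : Type*} [Field F] {C B : Subgroup P} {π : P → F} {χ : K → F}
    (h : Crd C B π χ) (hBC : B ≤ C) : Nat.card C = Nat.card B * Nat.card F := by
  let f : C →* Multiplicative F := MonoidHom.mk' (fun x => Multiplicative.ofAdd (π x))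
    fun x y => congrArg Multiplicative.ofAdd (h.add x x.2 y y.2)
  have h1 : f.ker = B.subgroupOf C := Subgroup.ext fun x => h.ker x x.2
  have h2 : f.range = ⊤ := eq_top_iff.mpr fun t _ => by
    obtain ⟨x, hx, e⟩ := h.surj (Multiplicative.toAdd t)
    exact ⟨⟨x, hx⟩, congrArg Multiplicative.ofAdd e⟩
  rw [← f.ker.card_mul_index, Subgroup.index_ker, h1, h2, Subgroup.card_top,
    Nat.card_congr (Subgroup.subgroupOfEquivOfLe hBC).toEquiv]
  rfl

namespace SzH

variable [Finite P]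

theorem center_eq (h : SzH K P) (hna : ∃ x y : P, x * y ≠ y * x) : Subgroup.center P = h.Om := by
  refine le_antisymm (fun z hz => ?_) fun x hx => Subgroup.mem_center_iff.mpr (h.central hx)
  by_contra hz2
  obtain ⟨x, y, hxy⟩ := hna
  have h1 := h.sq_mem_Om ⟨x, y, hxy⟩
  by_cases hx : x * x = 1
  · exact hxy (h.central hx y).symm
  obtain ⟨k, hk⟩ := h.trans hz2 (h1 z) hx (h1 x)
  have h2 : ∀ g, g * k • z = k • z * g := fun g => by
    rw [← smul_inv_smul k g, ← smul_mul', ← smul_mul', Subgroup.mem_center_iff.mp hz]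
  have h3 : x * (k • z)⁻¹ * (x * (k • z)⁻¹) = 1 := by
    rw [smul_mul'] at hk
    calc x * (k • z)⁻¹ * (x * (k • z)⁻¹) = x * (k • z)⁻¹ * (x * k • z) * (k • z * k • z)⁻¹ := by group
      _ = 1 := by rw [h2 x, hk]; group
  have h4 := h.central h3 y
  apply hxy
  calc x * y = x * (k • z)⁻¹ * (k • z * y) := by group
    _ = y * x := by rw [← h2 y, ← mul_assoc, ← h4]; group

theorem comm_mem_Om (h : SzH K P) (hna : ∃ x y : P, x * y ≠ y * x) (x y : P) : ⁅x, y⁆ ∈ h.Om :=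
  (Sq_le_iff (C := ⊤)).mpr (fun c _ => h.sq_mem_Om hna c) (comm_mem_Sq trivial trivial)

theorem exists_card_eq (h : SzH K P) (A : Subgroup P) (hn : A.Normal) (hA : KInv K A) :
    ∃ r : ℕ, Nat.card P = Nat.card A * Nat.card h.Om ^ r := by
  obtain ⟨F, _, _, hF⟩ := h.exists_field
  induction A using WellFoundedGT.induction with
  | ind A ih =>
    by_cases hA' : A = ⊤
    · exact ⟨0, by rw [hA', Subgroup.card_top, pow_zero, mul_one]⟩
    obtain ⟨C, -, hC⟩ := exists_cover (K := K) (lt_top_iff_ne_top.mpr hA') inferInstance kinv_top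
    obtain ⟨π, χ, hπ⟩ := h.cover_crd hF hn hA hC
    obtain ⟨r, hr⟩ := ih C hC.lt hC.normal hC.inv
    exact ⟨r + 1, by rw [hr, hπ.card hC.lt.le, hF, h.card_K]; ring⟩

theorem comm_add (h : SzH K P) (hna : ∃ x y : P, x * y ≠ y * x) {F : Type*} [Field F] {ζ : P → F}
    {l : K → F} (hζ : Crd h.Om ⊥ ζ l) (x y z : P) :
    ζ ⁅(x * y)⁻¹, z⁆ = ζ ⁅x⁻¹, z⁆ + ζ ⁅y⁻¹, z⁆ ∧ ζ ⁅x⁻¹, y * z⁆ = ζ ⁅x⁻¹, y⁆ + ζ ⁅x⁻¹, z⁆ := by
  have h1 := h.comm_mem_Om hna
  have h2 : ∀ a b c : P, ⁅a, ⁅b, c⁆⁆ = 1 := fun a b c =>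
    commutatorElement_eq_one_iff_mul_comm.mpr (h.central (h1 b c) a)
  rw [mul_inv_rev, comm_mul_left, comm_mul_right, h2, h2]
  simp only [one_mul]
  exact ⟨hζ.add _ (h1 _ _) _ (h1 _ _), hζ.add _ (h1 _ _) _ (h1 _ _)⟩

theorem sq_add (h : SzH K P) (hna : ∃ x y : P, x * y ≠ y * x) {F : Type*} [Field F] {ζ : P → F}
    {l : K → F} (hζ : Crd h.Om ⊥ ζ l) (x y : P) :
    ζ (x * y * (x * y)) = ζ (x * x) + ζ (y * y) + ζ ⁅x⁻¹, y⁆ := by
  have h1 := h.comm_mem_Om hna
  have h2 := h.sq_mem_Om hna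
  rw [mul_sq_eq, hζ.add _ (mul_mem (h2 _) (h1 _ _)) _ (h2 _), hζ.add _ (h2 _) _ (h1 _ _)]
  ring

theorem sq_mul_Om (h : SzH K P) (x : P) {z : P} (hz : z ∈ h.Om) : x * z * (x * z) = x * x := by
  rw [mul_assoc, ← mul_assoc z, ← h.central hz x, mul_assoc, h.mem_Om.mp hz, mul_one]

/-- Higman: the order is `q ^ 2` or `q ^ 3` -/
theorem card_eq (h : SzH K P) (hna : ∃ x y : P, x * y ≠ y * x) :
    Nat.card P = Nat.card h.Om ^ 2 ∨ Nat.card P = Nat.card h.Om ^ 3 := by
  obtain ⟨F, _, _, hF⟩ := h.exists_field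
  obtain ⟨ζ, l, hζ⟩ := h.exists_crd_Om hF
  have h2 := h.two_eq_zero hζ
  have h3 := index_le_of_anisotropic (W := F) (fun w => by rw [nsmul_eq_mul, Nat.cast_ofNat, h2, zero_mul])
    h.Om (h.sq_mem_Om hna) (fun x => ζ (x * x)) (fun x y => ζ ⁅x⁻¹, y⁆) (h.sq_add hna hζ)
    (fun x y z => (h.comm_add hna hζ x y z).1) (fun x z hz => by rw [h.sq_mul_Om x hz])
    (by rw [one_mul, hζ.one]) fun x hx => (hζ.ker _ (h.sq_mem_Om hna x)).mp hx
  obtain ⟨r, hr⟩ := h.exists_card_eq h.Om h.normal_Om h.kinv_Om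
  have h4 : 1 < Nat.card h.Om := (Subgroup.one_lt_card_iff_ne_bot _).mpr h.Om_ne_bot
  have h5 : h.Om.index = Nat.card h.Om ^ r :=
    Nat.eq_of_mul_eq_mul_left (by omega) (h.Om.card_mul_index.trans hr)
  rw [hF, h.card_K, h5, Nat.pow_le_pow_iff_right h4] at h3
  have h6 : r ≠ 0 := by
    rintro rfl
    obtain ⟨x, y, hxy⟩ := hna
    rw [pow_zero, Subgroup.index_eq_one] at h5
    exact hxy (h.central (h5.ge (Subgroup.mem_top x)) y).symm
  rw [hr]
  rcases (by omega : r = 1 ∨ r = 2) with rfl | rfl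
  · left; ring
  · right; ring

theorem exponent_eq (h : SzH K P) (hna : ∃ x y : P, x * y ≠ y * x) : Monoid.exponent P = 4 := by
  have h1 : Monoid.exponent P ∣ 2 ^ 2 := Monoid.exponent_dvd_of_forall_pow_eq_one fun x => by
    rw [← h.mem_Om.mp (h.sq_mem_Om hna x)]; simp [pow_succ, mul_assoc]
  obtain ⟨i, hi, e⟩ := (Nat.dvd_prime_pow Nat.prime_two).mp h1
  rw [e]
  by_contra h2
  obtain ⟨x, y, hxy⟩ := hna
  have h3 : i ≤ 1 := by
    by_contra h3
    exact h2 (by rw [show i = 2 by omega]; rfl)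
  have h4 : x ^ 2 ^ 1 = 1 := by
    obtain ⟨c, hc⟩ := pow_dvd_pow 2 h3
    rw [hc, pow_mul, ← e, Monoid.pow_exponent_eq_one, one_pow]
  exact hxy (h.central (by rw [← pow_two]; exact h4) y).symm

end SzH

/-- coordinates `(π, η)` on a group of type A, compatible with the action of `K` -/
structure TypeA {F : Type*} [Field F] (φ : F ≃+* F) (π η : P → F) (χ : K → F) : Prop where
  bij : Function.Bijective fun g => (π g, η g)
  π_mul : ∀ g h, π (g * h) = π g + π h
  η_mul : ∀ g h, η (g * h) = η g + η h + φ (π g) * π h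
  π_smul : ∀ (k : K) g, π (k • g) = χ k * π g
  η_smul : ∀ (k : K) g, η (k • g) = χ k * φ (χ k) * η g
  onto : ∀ t, t ≠ 0 → ∃ k, χ k = t
  ne_zero : ∀ k, χ k ≠ 0

theorem odd_orderOf_of_inj {F : Type*} [Field F] [Finite F] {φ : F ≃+* F}
    (h : ∀ x, x * φ x = 1 → x = 1) : Odd (orderOf φ) := by
  have h1 : ∀ y, φ (φ y) = y → φ y = y := fun y hy => by
    by_cases h0 : y = 0
    · rw [h0, map_zero]
    have h2 : φ y ≠ 0 := (map_ne_zero φ).mpr h0
    have := h (φ y / y) (by rw [map_div₀, hy]; field_simp)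
    rwa [div_eq_one_iff_eq h0] at this
  obtain ⟨⟨_, k, rfl⟩, hk⟩ := FixedPoints.toAlgAut_surjective (Subgroup.zpowers (φ * φ)) F
    { φ with commutes' := fun y => h1 y (y.2 ⟨_, Subgroup.mem_zpowers _⟩) }
  have h2 : (φ * φ) ^ k = φ := RingEquiv.ext fun x => congrArg (fun f => f x) hk
  have h3 : φ ^ (2 * k - 1) = 1 := by
    rw [zpow_sub_one, zpow_mul, zpow_two, h2, mul_inv_cancel]
  rw [← Nat.not_even_iff_odd, even_iff_two_dvd]
  intro h4
  have := (Int.natCast_dvd_natCast.mpr h4).trans (orderOf_dvd_iff_zpow_eq_one.mpr h3)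
  omega

namespace SzH

variable [Finite P]

/-- Higman: a Suzuki 2-group of order `q ^ 2` is of type A -/
theorem exists_typeA (h : SzH K P) (hna : ∃ x y : P, x * y ≠ y * x)
    (hc : Nat.card P = Nat.card h.Om ^ 2) {F : Type} [Field F] [Finite F]
    (hF : Nat.card F = Nat.card K + 1) : ∃ (φ : F ≃+* F) (π η : P → F) (χ : K → F),
      φ ≠ RingEquiv.refl F ∧ Odd (orderOf φ) ∧ TypeA φ π η χ := by
  classical
  have := h.finite_K
  have := Fintype.ofFinite K
  obtain ⟨ζ, l, hζ⟩ := h.exists_crd_Om hF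
  have h2 := h.two_eq_zero hζ
  have hsq := h.sq_mem_Om hna
  have hcm := h.comm_mem_Om hna
  have hO : h.Om < ⊤ := lt_top_iff_ne_top.mpr fun e => by
    obtain ⟨x, y, hxy⟩ := hna
    exact hxy (h.central (e.ge (Subgroup.mem_top x)) y).symm
  obtain ⟨C, -, hC⟩ := exists_cover (K := K) hO inferInstance kinv_top
  obtain ⟨π, χ, hπ⟩ := h.cover_crd hF h.normal_Om h.kinv_Om hC
  obtain rfl : C = ⊤ := Subgroup.eq_top_of_card_eq C (by
    rw [hπ.card hC.lt.le, hF, h.card_K, hc, pow_two])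
  obtain ⟨Q, hQ⟩ := hπ.exists_fun (fun x => ζ (x * x)) fun x _ z hz => by rw [h.sq_mul_Om x hz]
  obtain ⟨B, hB⟩ := hπ.exists_biadd le_top hπ le_top (fun x y => ζ ⁅x⁻¹, y⁆)
    (fun x _ y _ z _ => (h.comm_add hna hζ x y z).1) (fun x _ y _ z _ => (h.comm_add hna hζ x y z).2)
    (fun x hx y _ => by
      rw [commutatorElement_eq_one_iff_mul_comm.mpr (h.central (inv_mem hx) y).symm, hζ.one])
    (fun x _ y hy => by
      rw [commutatorElement_eq_one_iff_mul_comm.mpr (h.central hy _), hζ.one])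
  have hQB : ∀ s t, Q (s + t) = Q s + Q t + B s t := fun s t => by
    obtain ⟨x, hx, rfl⟩ := hπ.surj s
    obtain ⟨y, hy, rfl⟩ := hπ.surj t
    rw [← hπ.add x hx y hy, hQ _ trivial, hQ x hx, hQ y hy, hB x hx y hy, h.sq_add hna hζ]
  have hQl : ∀ k s, Q (χ k * s) = l k * Q s := fun k s => by
    obtain ⟨x, hx, rfl⟩ := hπ.surj s
    rw [← hπ.smul k x hx, hQ _ trivial, hQ x hx, ← smul_mul', hζ.smul k _ (hsq x)]
  have hQ0 : ∀ s, Q s = 0 → s = 0 := fun s hs => by
    obtain ⟨x, hx, rfl⟩ := hπ.surj s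
    exact (hπ.ker x hx).mpr ((hζ.ker _ (hsq x)).mp ((hQ x hx).symm.trans hs))
  obtain ⟨σ, τ, hστ⟩ := quad_eq h2 Q B hQB hπ.onto hQl
  have hc0 : Q 1 ≠ 0 := fun e => one_ne_zero (hQ0 1 e)
  let φ : F ≃+* F := σ.symm.trans τ
  have hφ : ∀ s, φ (σ s) = τ s := fun s => congrArg τ (σ.symm_apply_apply s)
  have hl : ∀ k, l k = σ (χ k) * φ (σ (χ k)) := fun k => by
    have := hQl k 1
    rw [hστ, mul_one, mul_comm] at this
    rw [hφ, mul_right_cancel₀ hc0 this]
  have hπm : ∀ x y, σ (π (x * y)) = σ (π x) + σ (π y) := fun x y => by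
    rw [hπ.add x trivial y trivial, map_add]
  obtain ⟨η, h3, h4⟩ := exists_eta (W := F)
    (fun w => by rw [nsmul_eq_mul, Nat.cast_ofNat, h2, zero_mul])
    (fun x y => φ (σ (π x)) * σ (π y)) (fun x y z => by rw [hπm, map_add, add_mul])
    (fun x y z => by rw [hπm, mul_add]) h.Om (fun x => ζ x / Q 1)
    (fun x hx y hy => by rw [hζ.add x hx y hy, add_div])
    (fun x _ y hy => by rw [(hπ.ker y trivial).mpr hy, map_zero, mul_zero])
    fun x => ⟨hsq x, by rw [← hQ x trivial, hστ, hφ]; field_simp⟩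
  have hodd : ∀ c : F, ∑ _k : K, c = c := fun c => by
    obtain ⟨r, hr⟩ := h.odd_card_K
    rw [Finset.sum_const, Finset.card_univ, ← Nat.card_eq_fintype_card, hr, nsmul_eq_mul]
    push_cast
    rw [h2]; ring
  have hlm : ∀ k k', l (k * k') = l k * l k' := fun k k' => by
    obtain ⟨z, hz, e⟩ := hζ.surj 1
    have := hζ.smul (k * k') z hz
    rwa [mul_smul, hζ.smul k _ (h.kinv_Om k' z hz), hζ.smul k' z hz, e, mul_one, mul_one,
      eq_comm] at this
  let η' : P → F := fun x => ∑ k : K, η (k • x) / l k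
  have h5 : ∀ x y, η' (x * y) = η' x + η' y + φ (σ (π x)) * σ (π y) := fun x y => by
    rw [← hodd (φ (σ (π x)) * σ (π y)), ← Finset.sum_add_distrib, ← Finset.sum_add_distrib]
    refine Finset.sum_congr rfl fun k _ => ?_
    have := hζ.ne_zero k
    rw [smul_mul', h3, hπ.smul k x trivial, hπ.smul k y trivial, map_mul, map_mul, map_mul]
    field_simp
    rw [hl k]; ring
  have h6 : ∀ z ∈ h.Om, η' z = ζ z / Q 1 := fun z hz => by
    rw [← hodd (ζ z / Q 1)]
    refine Finset.sum_congr rfl fun k _ => ?_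
    have := hζ.ne_zero k
    rw [h4 _ (h.kinv_Om k z hz), hζ.smul k z hz]
    field_simp
  have hinj : Function.Injective fun g => (σ (π g), η' g) := fun x y e => by
    have e1 : x⁻¹ * y ∈ h.Om := (hπ.eq_iff trivial trivial).mp (σ.injective (Prod.mk.inj e).1)
    have e2 := h5 x (x⁻¹ * y)
    rw [mul_inv_cancel_left, (hπ.ker _ trivial).mpr e1, map_zero, mul_zero, add_zero,
      ← show η' x = η' y from (Prod.mk.inj e).2, left_eq_add, h6 _ e1,
      div_eq_zero_iff, or_iff_left hc0, hζ.ker _ e1, Subgroup.mem_bot] at e2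
    exact inv_mul_eq_one.mp e2
  refine ⟨φ, fun x => σ (π x), η', fun k => σ (χ k), fun e => ?_, odd_orderOf_of_inj fun x hx => ?_,
    (Nat.bijective_iff_injective_and_card _).mpr ⟨hinj, by
      rw [Nat.card_prod, hc, hF, h.card_K, pow_two]⟩, hπm, h5,
    fun k x => by rw [hπ.smul k x trivial, map_mul], fun k x => ?_, fun t ht => ?_,
    fun k => (map_ne_zero σ).mpr (hπ.ne_zero k)⟩
  · obtain ⟨x, y, hxy⟩ := hna
    refine hxy (hinj (Prod.ext ?_ ?_))
    · change σ (π (x * y)) = σ (π (y * x))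
      rw [hπm, hπm, add_comm]
    · change η' (x * y) = η' (y * x)
      rw [h5, h5, e, RingEquiv.refl_apply, RingEquiv.refl_apply]; ring
  · obtain ⟨k, hk⟩ := hπ.onto (σ.symm x) ((map_ne_zero σ.symm).mpr fun e => by
      rw [e, zero_mul] at hx; exact zero_ne_one hx)
    have h7 : l k = 1 := by rw [hl, hk, σ.apply_symm_apply, hx]
    obtain ⟨z, hz, e⟩ := hζ.surj 1
    have h8 : k = 1 := h.free (x := z) (fun e' => by rw [e', hζ.one] at e; exact zero_ne_one e) hz
      (inv_mul_eq_one.mp ((hζ.eq_iff (h.kinv_Om k z hz) hz).mp (by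
        rw [hζ.smul k z hz, h7, one_mul])))
    obtain ⟨w, hw, e'⟩ := hπ.surj 1
    have h9 := hπ.smul k w hw
    rw [h8, one_smul, e', mul_one, ← h8, hk] at h9
    rw [← σ.apply_symm_apply x, ← h9, map_one]
  · rw [← hl, Finset.mul_sum, ← Equiv.sum_comp (Equiv.mulRight k)]
    refine Finset.sum_congr rfl fun k' _ => ?_
    have := hζ.ne_zero k
    have := hζ.ne_zero k'
    rw [Equiv.coe_mulRight, mul_smul, hlm]
    field_simp
  · obtain ⟨k, hk⟩ := hπ.onto (σ.symm t) ((map_ne_zero σ.symm).mpr ht)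
    exact ⟨k, by rw [hk, σ.apply_symm_apply]⟩

end SzH

/-- the matrices of the group of type A -/
def typeAMat {F : Type*} [Field F] (φ : F →+* F) (x y : F) : GL (Fin 3) F :=
  Matrix.GeneralLinearGroup.mkOfDetNeZero !![1, 0, 0; x, 1, 0; y, φ x, 1] (by
    simp [Matrix.det_fin_three])

theorem typeAMat_mul {F : Type*} [Field F] (φ : F →+* F) (x y x' y' : F) :
    typeAMat φ x y * typeAMat φ x' y' = typeAMat φ (x + x') (y + y' + φ x * x') := by
  refine Units.ext ?_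
  rw [Units.val_mul]
  ext i j
  fin_cases i <;> fin_cases j <;> simp [typeAMat, Matrix.mul_apply, Fin.sum_univ_three] <;> ring

theorem TypeA.iso {F : Type*} [Field F] {φ : F ≃+* F} {π η : P → F} {χ : K → F}
    (h : TypeA φ π η χ) : Nonempty (P ≃* Cfsg.suzukiTypeA F (φ : F →+* F)) := by
  let f : P →* GL (Fin 3) F := MonoidHom.mk' (fun g => typeAMat (φ : F →+* F) (π g) (η g))
    fun x y => by rw [typeAMat_mul, h.π_mul, h.η_mul]; rfl
  have h1 : Function.Injective f := fun x y e => h.bij.1 (Prod.ext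
    (congrArg (fun m : GL (Fin 3) F => m.1 1 0) e) (congrArg (fun m : GL (Fin 3) F => m.1 2 0) e))
  have h2 : f.range = Cfsg.suzukiTypeA F (φ : F →+* F) := le_antisymm
    (by rintro _ ⟨g, rfl⟩; exact Subgroup.subset_closure ⟨π g, η g, rfl⟩)
    ((Subgroup.closure_le _).mpr fun m ⟨x, y, hm⟩ => by
      obtain ⟨g, hg⟩ := h.bij.2 (x, y)
      refine ⟨g, Units.ext ?_⟩
      rw [hm, ← (Prod.mk.inj hg).1, ← (Prod.mk.inj hg).2]
      rfl)
  exact ⟨(MonoidHom.ofInjective h1).trans (MulEquiv.subgroupCongr h2)⟩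

theorem szH_of_isSuzuki {P : Type*} [Group P] (hP : Cfsg.IsSuzukiTwoGroup P) :
    ∃ K : Subgroup (MulAut P), SzH K P := by
  obtain ⟨-, h1, -, h2, K, h3, h4⟩ := hP
  refine ⟨K, h1, fun k l => mul_comm' k l, fun h5 h6 h7 h8 => (h4 _ _ h5 h6 h7 h8).exists,
    fun h5 h6 h7 => (h4 _ _ h5 h6 h5 h6).unique h7 rfl, h2⟩

theorem s1137 {P : Type*} [Group P] (hP : Cfsg.IsSuzukiTwoGroup P) :
    (∀ x : P, (x ≠ 1 ∧ x * x = 1) ↔ (x ∈ Subgroup.center P ∧ x ≠ 1)) ∧
      ∀ z ∈ Subgroup.center P, z * z = 1 := by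
  obtain ⟨K, h⟩ := szH_of_isSuzuki hP
  have := hP.1
  rw [h.center_eq hP.2.2.1]
  exact ⟨fun x => and_comm, fun z hz => hz⟩

theorem s1138 {P : Type*} [Group P] (hP : Cfsg.IsSuzukiTwoGroup P) :
    (∀ x : P, x * x ∈ Subgroup.center P) ∧ (∀ x y : P, x⁻¹ * y⁻¹ * x * y ∈ Subgroup.center P) ∧
      (Nat.card P = Nat.card (Subgroup.center P) ^ 2 ∨
        Nat.card P = Nat.card (Subgroup.center P) ^ 3) ∧ Monoid.exponent P = 4 := by
  obtain ⟨K, h⟩ := szH_of_isSuzuki hP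
  have := hP.1
  have hna := hP.2.2.1
  rw [h.center_eq hna]
  exact ⟨h.sq_mem_Om hna, fun x y => by
    simpa [commutatorElement_def] using h.comm_mem_Om hna x⁻¹ y⁻¹, h.card_eq hna, h.exponent_eq hna⟩

theorem s1139 {P : Type*} [Group P] (hP : Cfsg.IsSuzukiTwoGroup P)
    (hcard : Nat.card P = Nat.card (Subgroup.center P) ^ 2) :
    ∃ (F : Type) (_ : Field F) (_ : Fintype F) (φ : F ≃+* F),
      Fintype.card F = Nat.card (Subgroup.center P) ∧ φ ≠ RingEquiv.refl F ∧ Odd (orderOf φ) ∧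
      Nonempty (P ≃* Cfsg.suzukiTypeA F (φ : F →+* F)) := by
  obtain ⟨K, h⟩ := szH_of_isSuzuki hP
  have := hP.1
  have hna := hP.2.2.1
  rw [h.center_eq hna] at hcard ⊢
  obtain ⟨F, _, _, hF⟩ := h.exists_field
  obtain ⟨φ, π, η, χ, h1, h2, h3⟩ := h.exists_typeA hna hcard hF
  exact ⟨F, _, _, φ, by rw [← Nat.card_eq_fintype_card, hF, h.card_K], h1, h2, h3.iso⟩

end H21
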