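import Mathlib
import Cfsg.Prelude.Def_Solvable
import Cfsg.Agent.H1.CoprimeAbelian
import Cfsg.Agent.H2.MinNormal
import Cfsg.Agent.H3.PGroup

/-! A special case of a theorem of Huppert: odd order groups transitive on non-zero vectors. -/

set_option autoImplicit false

namespace H21
namespace Hup

open Cfsg MulAction Subgroup
open scoped commutatorElement

theorem eq_of_card_eq_cyc {G : Type*} [Group G] [Finite G] [IsCyclic G] {H K : Subgroup G}
    (h : Nat.card H = Nat.card K) : H = K := by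
  classical
  have := Fintype.ofFinite G
  have key : ∀ H : Subgroup G, (H : Set G).toFinset =
      Finset.univ.filter (fun a : G => a ^ Nat.card H = 1) := fun H => by
    refine Finset.eq_of_subset_of_card_le (fun a ha => ?_) ?_
    · simp only [Set.mem_toFinset, SetLike.mem_coe] at ha
      exact Finset.mem_filter.2 ⟨Finset.mem_univ _,
        congrArg Subtype.val (pow_card_eq_one' (x := (⟨a, ha⟩ : H)))⟩
    · refine (IsCyclic.card_pow_eq_one_le Nat.card_pos).trans (le_of_eq ?_)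
      rw [Set.toFinset_card, Nat.card_eq_fintype_card]; rfl
  apply SetLike.coe_injective
  rw [← Set.toFinset_inj, key, key, h]

variable {P E : Type*} [Group P] [AddCommGroup E] [DistribMulAction P E]

/-- A non-cyclic abelian group has a non-trivial element with a non-zero fixed vector. -/
theorem exists_fixed [Finite P] [Finite E] (R : Subgroup P) [IsMulCommutative R]
    (hR : ¬ IsCyclic R) (U : AddSubgroup E) (hU : U ≠ ⊥) (hinv : ∀ x ∈ R, ∀ u ∈ U, x • u ∈ U) :
    ∃ x ∈ R, x ≠ 1 ∧ ∃ u ∈ U, u ≠ 0 ∧ x • u = u := by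
  classical
  have hfin : Finite (AddSubgroup E) := Finite.of_injective _ SetLike.coe_injective
  obtain ⟨U0, ⟨h0, hle, hi⟩, hmin⟩ := (wellFounded_lt (α := AddSubgroup E)).has_min
    {V : AddSubgroup E | V ≠ ⊥ ∧ V ≤ U ∧ ∀ x ∈ R, ∀ u ∈ V, x • u ∈ V} ⟨U, hU, le_rfl, hinv⟩
  let f : R → U0 →+ U0 := fun x =>
    { toFun := fun u => ⟨(x : P) • (u : E), hi _ x.2 _ u.2⟩
      map_zero' := Subtype.ext (smul_zero _)
      map_add' := fun u v => Subtype.ext (smul_add _ _ _) }
  let ρ : R →* Module.End ℤ U0 :=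
    { toFun := fun x => (f x).toIntLinearMap
      map_one' := LinearMap.ext fun u => Subtype.ext (one_smul _ _)
      map_mul' := fun x y => LinearMap.ext fun u => Subtype.ext (mul_smul _ _ _) }
  have hρ : ∀ (x : R) (u : U0), ((ρ x u : U0) : E) = (x : P) • (u : E) := fun _ _ => rfl
  obtain ⟨c, hc⟩ := H1.exists_generator_of_irreducible ρ (by
    intro W hW
    by_cases hb : W = ⊥
    · exact Or.inl hb
    right
    by_contra ht
    apply hmin (W.map U0.subtype)
    · refine ⟨?_, (AddSubgroup.map_subtype_le W).trans hle, ?_⟩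
      · intro h
        exact hb ((AddSubgroup.map_eq_bot_iff_of_injective _ U0.subtype_injective).mp h)
      · rintro x hx _ ⟨w, hw, rfl⟩
        exact ⟨_, hW ⟨x, hx⟩ w hw, rfl⟩
    · refine lt_of_le_of_ne (AddSubgroup.map_subtype_le W) fun h => ht ?_
      rw [eq_top_iff]
      intro u _
      have : (u : E) ∈ W.map U0.subtype := by rw [h]; exact u.2
      obtain ⟨w, hw, e⟩ := this
      obtain rfl : w = u := Subtype.ext e
      exact hw)
  have : ∃ b : R, b ∉ zpowers c := by
    by_contra h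
    push Not at h
    exact hR ⟨⟨c, h⟩⟩
  obtain ⟨b, hb⟩ := this
  obtain ⟨n, hn⟩ := hc b
  obtain ⟨u, hu, hu0⟩ := (AddSubgroup.bot_or_exists_ne_zero U0).resolve_left h0
  refine ⟨((c ^ n)⁻¹ * b : R), Subtype.coe_prop _, ?_, u, hle hu, hu0, ?_⟩
  · intro h
    apply hb
    have : (c ^ n)⁻¹ * b = 1 := Subtype.ext h
    rw [inv_mul_eq_one] at this
    rw [← this]
    exact zpow_mem_zpowers c n
  · have e : ρ ((c ^ n)⁻¹ * b) = 1 := by rw [map_mul, hn, ← map_mul, inv_mul_cancel, map_one]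
    have := hρ ((c ^ n)⁻¹ * b) ⟨u, hu⟩
    rw [e] at this
    exact this.symm

/-- the norm map of a subgroup -/
noncomputable def nrm [Finite P] (T : Subgroup P) : E →+ E :=
  letI := Fintype.ofFinite T
  { toFun := fun v => ∑ x : T, (x : P) • v
    map_zero' := by simp
    map_add' := fun u v => by simp [smul_add, Finset.sum_add_distrib] }

section nrm

variable [Finite P] {T : Subgroup P}

theorem smul_nrm {y : P} (hy : y ∈ T) (v : E) : y • nrm T v = nrm T v := by
  letI := Fintype.ofFinite T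
  change y • ∑ x : T, (x : P) • v = ∑ x : T, (x : P) • v
  rw [Finset.smul_sum]
  exact Fintype.sum_equiv (Equiv.mulLeft (⟨y, hy⟩ : T)) _ _ fun x => (mul_smul _ _ _).symm

theorem nrm_of_fixed {v : E} (h : ∀ y ∈ T, y • v = v) : nrm T v = Nat.card T • v := by
  letI := Fintype.ofFinite T
  change ∑ x : T, (x : P) • v = _
  rw [Finset.sum_congr rfl fun (x : T) _ => h x x.2, Finset.sum_const, Nat.card_eq_fintype_card]
  rfl

theorem nrm_smul {g : P} (hg : ∀ x ∈ T, g * x * g⁻¹ ∈ T) (v : E) :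
    nrm T (g • v) = g • nrm T v := by
  letI := Fintype.ofFinite T
  change ∑ x : T, (x : P) • g • v = g • ∑ x : T, (x : P) • v
  rw [Finset.smul_sum]
  let φ : T → T := fun x => ⟨g * x * g⁻¹, hg x x.2⟩
  have hφ : Function.Bijective φ := by
    apply Finite.injective_iff_bijective.mp
    intro x y h
    have : g * x * g⁻¹ = g * y * g⁻¹ := congrArg Subtype.val h
    exact Subtype.ext (by simpa using this)
  refine (Fintype.sum_bijective φ hφ _ _ fun x => ?_).symm
  change g • (x : P) • v = (g * x * g⁻¹) • g • v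
  rw [mul_smul, mul_smul, inv_smul_smul]

theorem nrm_mem {U : AddSubgroup E} (hU : ∀ x ∈ T, ∀ u ∈ U, x • u ∈ U) {v : E} (hv : v ∈ U) :
    nrm T v ∈ U := by
  letI := Fintype.ofFinite T
  change ∑ x : T, (x : P) • v ∈ U
  exact U.sum_mem fun x _ => hU x x.2 v hv

end nrm

theorem smul_eq_of_mem_zpowers {x y : P} {v : E} (h : x • v = v) (hy : y ∈ zpowers x) :
    y • v = v :=
  (zpowers_le.mpr (show x ∈ stabilizer P v from h)) hy

theorem isCyclic_of_const [Finite P] [Finite E] [FaithfulSMul P E] {p : ℕ} [hp : Fact p.Prime]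
    (hp2 : p ≠ 2) (hP : IsPGroup p P) (hinj : ∀ e : E, p • e = 0 → e = 0)
    (hconst : ∀ a b : E, a ≠ 0 → b ≠ 0 →
      Nat.card (stabilizer P a) = Nat.card (stabilizer P b)) : IsCyclic P := by
  by_contra hnc
  obtain ⟨R, hRn, ⟨hRc, hRe⟩, hRcard⟩ := H3.exists_normal_elementary_sq hp2 hP hnc
  have hcomm : ∀ x ∈ R, ∀ y ∈ R, x * y = y * x := fun x hx y hy =>
    congrArg Subtype.val (hRc.1.1 ⟨x, hx⟩ ⟨y, hy⟩)
  have hord : ∀ x ∈ R, x ≠ 1 → Nat.card (zpowers x) = p := fun x hx h1 => by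
    rw [Nat.card_zpowers]; exact orderOf_eq_prime (hRe x hx) h1
  have hRnc : ¬ IsCyclic R := by
    intro h
    obtain ⟨⟨c, hc⟩, hgen⟩ := h.exists_generator
    have h1 : zpowers c = R := by
      refine le_antisymm (zpowers_le.mpr hc) fun y hy => ?_
      obtain ⟨n, hn⟩ := hgen ⟨y, hy⟩
      exact ⟨n, congrArg Subtype.val hn⟩
    have h2 : Nat.card R ∣ p := by
      rw [← h1, Nat.card_zpowers]; exact orderOf_dvd_of_pow_eq_one (hRe c hc)
    rw [hRcard] at h2
    have := Nat.le_of_dvd hp.out.pos h2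
    have := hp.out.two_le
    nlinarith
  have hsym : ∀ x ∈ R, ∀ y : P, y ≠ 1 → y ∈ zpowers x → x ∈ zpowers y := by
    intro x hx y hy1 hy
    have hx1 : x ≠ 1 := by rintro rfl; exact hy1 (by simpa using hy)
    have hyR : y ∈ R := zpowers_le.mpr hx hy
    have : zpowers y = zpowers x :=
      eq_of_le_of_card_ge (zpowers_le.mpr hy) (by rw [hord x hx hx1, hord y hyR hy1])
    rw [this]; exact mem_zpowers x
  let U : AddSubgroup E := (nrm R : E →+ E).ker
  have hU : ∀ g : P, ∀ u ∈ U, g • u ∈ U := fun g u hu => by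
    change nrm R (g • u) = 0
    rw [nrm_smul fun x hx => hRn.conj_mem x hx g, show nrm R u = 0 from hu, smul_zero]
  -- a vector of `U` fixed by two independent elements vanishes
  have hB : ∀ x ∈ R, x ≠ 1 → ∀ y ∈ R, y ∉ zpowers x → ∀ v ∈ U, x • v = v → y • v = v → v = 0 := by
    intro x hx hx1 y hy hyx v hv e1 e2
    have hS : R ⊓ stabilizer P v = R := by
      have hd : Nat.card ↥(R ⊓ stabilizer P v) ∣ p ^ 2 := hRcard ▸ card_dvd_of_le inf_le_left
      obtain ⟨i, hi, hc⟩ := (Nat.dvd_prime_pow hp.out).mp hd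
      have hlt : zpowers x < R ⊓ stabilizer P v :=
        lt_of_le_of_ne (zpowers_le.mpr ⟨hx, e1⟩) fun h => hyx (h ▸ ⟨hy, e2⟩)
      have hlt' := H2.card_lt_of_lt hlt
      rw [hord x hx hx1, hc] at hlt'
      have hi2 : i = 2 := by
        have : 1 < i := (Nat.pow_lt_pow_iff_right hp.out.one_lt).mp (by simpa using hlt')
        omega
      exact eq_of_le_of_card_ge inf_le_left (by rw [hc, hi2, hRcard])
    have h1 : nrm R v = Nat.card R • v := nrm_of_fixed fun z hz => (hS.ge hz).2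
    rw [show nrm R v = 0 from hv, hRcard, pow_two, mul_smul] at h1
    exact hinj _ (hinj _ h1.symm)
  have hne : ∀ x : P, x ≠ 1 → ∃ v : E, x • v - v ≠ 0 := by
    intro x hx
    by_contra h
    push Not at h
    exact hx (FaithfulSMul.eq_of_smul_eq_smul (α := E) fun v => by
      rw [one_smul]; exact sub_eq_zero.mp (h v))
  have hsubU : ∀ T : Subgroup P, ∀ x ∈ T, ∀ v : E, nrm T (x • v - v) = 0 := fun T x hx v => by
    rw [map_sub, nrm_smul fun y hy => T.mul_mem (T.mul_mem hx hy) (T.inv_mem hx), smul_nrm hx,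
      sub_self]
  have hU0 : U ≠ ⊥ := by
    have : Nontrivial R := by
      rw [← Finite.one_lt_card_iff_nontrivial, hRcard]
      exact Nat.one_lt_pow two_ne_zero hp.out.one_lt
    obtain ⟨⟨x, hx⟩, hx1⟩ := exists_ne (1 : R)
    obtain ⟨v, hv⟩ := hne x fun h => hx1 (Subtype.ext h)
    intro h
    exact hv ((AddSubgroup.eq_bot_iff_forall _).mp h _ (hsubU R x hx v))
  obtain ⟨x1, hx1R, hx1, a, haU, ha0, ha⟩ := exists_fixed R hRnc U hU0 fun x _ => hU x
  have hzc : ∀ x ∈ R, ∀ g ∈ R, ∀ y ∈ zpowers x, g * y * g⁻¹ ∈ zpowers x := by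
    intro x hx g hg y hy
    rw [hcomm g hg y (zpowers_le.mpr hx hy), mul_inv_cancel_right]; exact hy
  obtain ⟨x2, hx2R, hx2, b, ⟨hbU, hbU'⟩, hb0, hb⟩ := exists_fixed R hRnc
    (U ⊓ (nrm (zpowers x1) : E →+ E).ker) (by
      obtain ⟨v, hv⟩ := hne x1 hx1
      intro h
      exact hv ((AddSubgroup.eq_bot_iff_forall _).mp h _
        ⟨hsubU R x1 hx1R v, hsubU _ x1 (mem_zpowers x1) v⟩))
    (fun x hx u hu => ⟨hU x u hu.1, by
      change nrm (zpowers x1) (x • u) = 0
      rw [nrm_smul (hzc x1 hx1R x hx), show nrm (zpowers x1) u = 0 from hu.2, smul_zero]⟩)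
  have hN1 : ∀ x ∈ R, x ≠ 1 → ∀ v : E, x • v = v → nrm (zpowers x) v = p • v := by
    intro x hx h1 v hv
    rw [nrm_of_fixed fun y hy => smul_eq_of_mem_zpowers hv hy, hord x hx h1]
  have hN0 : ∀ x ∈ R, ∀ y ∈ R, y ≠ 1 → x ∉ zpowers y → ∀ v ∈ U, y • v = v →
      nrm (zpowers x) v = 0 := by
    intro x hx y hy hy1 hxy v hv e
    refine hB y hy hy1 x hx hxy _ (nrm_mem (fun z _ => hU z) hv) ?_ (smul_nrm (mem_zpowers x) v)
    rw [← nrm_smul (hzc x hx y hy), e]
  have h21 : x2 ∉ zpowers x1 := by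
    intro h
    have := hN1 x1 hx1R hx1 b (smul_eq_of_mem_zpowers hb (hsym x1 hx1R x2 hx2 h))
    rw [show nrm (zpowers x1) b = 0 from hbU'] at this
    exact hb0 (hinj _ this.symm)
  have hab : a ≠ b := by
    rintro rfl
    exact ha0 (hB x1 hx1R hx1 x2 hx2R h21 a haU ha hb)
  have hab0 : a + b ≠ 0 := by
    intro h
    have : b = -a := by rw [eq_neg_iff_add_eq_zero, add_comm, h]
    refine hb0 (hB x1 hx1R hx1 x2 hx2R h21 b hbU ?_ hb)
    rw [this, smul_neg, ha]
  have hkey : ∀ g : P, g • (a + b) = a + b → g • a = a := by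
    intro g hg
    have h3R : g * x1 * g⁻¹ ∈ R := hRn.conj_mem x1 hx1R g
    have h3 : g * x1 * g⁻¹ ≠ 1 := by simpa using hx1
    have h4R : g * x2 * g⁻¹ ∈ R := hRn.conj_mem x2 hx2R g
    have h4 : g * x2 * g⁻¹ ≠ 1 := by simpa using hx2
    have h34 : g * x1 * g⁻¹ ∉ zpowers (g * x2 * g⁻¹) := by
      rintro ⟨n, hn⟩
      simp only [conj_zpow, mul_left_inj, mul_right_inj] at hn
      exact h21 (hsym x2 hx2R x1 hx1 ⟨n, hn⟩)
    have e1 := hN1 _ h3R h3 (g • a) (by rw [mul_smul, mul_smul, inv_smul_smul, ha])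
    have e2 := hN0 _ h3R _ h4R h4 h34 (g • b) (hU g b hbU)
      (by rw [mul_smul, mul_smul, inv_smul_smul, hb])
    have e3 : p • g • a = nrm (zpowers (g * x1 * g⁻¹)) a + nrm (zpowers (g * x1 * g⁻¹)) b := by
      rw [← map_add, ← hg, smul_add, map_add, e1, e2, add_zero]
    have hinj' : ∀ u v : E, p • u = p • v → u = v := fun u v h =>
      sub_eq_zero.mp (hinj _ (by rw [smul_sub, h, sub_self]))
    by_cases c1 : g * x1 * g⁻¹ ∈ zpowers x1
    · have c2 : g * x1 * g⁻¹ ∉ zpowers x2 := fun c2 =>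
        h21 (zpowers_le.mpr c1 (hsym x2 hx2R _ h3 c2))
      rw [hN1 _ h3R h3 a (smul_eq_of_mem_zpowers ha c1), hN0 _ h3R _ hx2R hx2 c2 b hbU hb,
        add_zero] at e3
      exact hinj' _ _ e3
    · rw [hN0 _ h3R _ hx1R hx1 c1 a haU ha, zero_add] at e3
      by_cases c2 : g * x1 * g⁻¹ ∈ zpowers x2
      · rw [hN1 _ h3R h3 b (smul_eq_of_mem_zpowers hb c2)] at e3
        have f1 : g • a = b := hinj' _ _ e3
        have f2 : g • b = a := by
          rw [smul_add, f1, add_comm a b] at hg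
          exact add_left_cancel hg
        obtain ⟨k, hk⟩ := hP g
        have hodd : Odd (p ^ k) := (hp.out.odd_of_ne_two hp2).pow
        obtain ⟨m, hm⟩ := hodd
        have f3 : g * g ∈ stabilizer P a := by
          change (g * g) • a = a
          rw [mul_smul, f1, f2]
        have f4 : (g * g) ^ (m + 1) = g := by
          rw [← pow_two, ← pow_mul, show 2 * (m + 1) = 2 * m + 1 + 1 by ring, pow_succ, ← hm, hk,
            one_mul]
        have := (stabilizer P a).pow_mem f3 (m + 1)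
        rw [f4] at this
        exact this
      · rw [hN0 _ h3R _ hx2R hx2 c2 b hbU hb] at e3
        exact absurd (smul_eq_zero_iff_eq g |>.mp (hinj _ e3)) ha0
  have hs1 : stabilizer P (a + b) = stabilizer P a :=
    eq_of_le_of_card_ge (fun g hg => hkey g hg) (hconst _ _ ha0 hab0).le
  have h1 : x1 • (a + b) = a + b := hs1.ge (show x1 ∈ stabilizer P a from ha)
  rw [smul_add, ha] at h1
  exact hb0 (hB x1 hx1R hx1 x2 hx2R h21 b hbU (add_left_cancel h1) hb)

theorem s1160 [Finite P] [Finite E] [FaithfulSMul P E]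
    {p q : ℕ} [hp : Fact p.Prime] (hp2 : p ≠ 2) (hP : IsPGroup p P) (hq : q.Prime)
    (hE : ∀ e : E, q • e = 0)
    (hconst : ∀ a b : E, a ≠ 0 → b ≠ 0 →
      Nat.card (stabilizer P a) = Nat.card (stabilizer P b)) :
    IsCyclic P ∧ ∀ g : P, g ≠ 1 → ∀ a : E, g • a = a → a = 0 := by
  have hc : IsCyclic P := by
    by_cases hpq : p = q
    · subst hpq
      have : Subsingleton P := by
        refine ⟨fun g h => FaithfulSMul.eq_of_smul_eq_smul (α := E) fun v => ?_⟩
        by_cases hv : v = 0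
        · rw [hv, smul_zero, smul_zero]
        have hd : p ∣ Nat.card E := by
          rw [← addOrderOf_eq_prime (hE v) hv]; exact addOrderOf_dvd_natCard v
        obtain ⟨b, hb, hb0⟩ := hP.exists_fixed_point_of_prime_dvd_card_of_fixed_point E hd
          (a := 0) (fun g => smul_zero g)
        have h1 : stabilizer P b = ⊤ := eq_top_iff.mpr fun g _ => hb g
        have h2 : stabilizer P v = ⊤ := by
          apply eq_top_of_card_eq
          rw [hconst v b hv hb0.symm, h1, card_top]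
        rw [show g • v = v from h2.ge (mem_top g), show h • v = v from h2.ge (mem_top h)]
      infer_instance
    · refine isCyclic_of_const hp2 hP (fun e he => ?_) hconst
      have h1 := addOrderOf_dvd_of_nsmul_eq_zero he
      have h2 := addOrderOf_dvd_of_nsmul_eq_zero (hE e)
      have h3 := Nat.dvd_gcd h1 h2
      rw [(Nat.coprime_primes hp.out hq).mpr hpq, Nat.dvd_one] at h3
      exact AddMonoid.addOrderOf_eq_one_iff.mp h3
  refine ⟨hc, fun g hg a ha => ?_⟩
  by_contra ha0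
  refine hg (FaithfulSMul.eq_of_smul_eq_smul (α := E) fun v => ?_)
  rw [one_smul]
  by_cases hv : v = 0
  · rw [hv, smul_zero]
  exact (eq_of_card_eq_cyc (hconst a v ha0 hv)).le ha

theorem card_stabilizer_normal (N : Subgroup P) [hN : N.Normal] (d : P) (a : E) :
    Nat.card (stabilizer N (d • a)) = Nat.card (stabilizer N a) := by
  refine Nat.card_congr
    { toFun := fun x => ⟨⟨d⁻¹ * x.1 * d, hN.conj_mem' _ x.1.2 d⟩, ?_⟩
      invFun := fun x => ⟨⟨d * x.1 * d⁻¹, hN.conj_mem _ x.1.2 d⟩, ?_⟩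
      left_inv := fun x => Subtype.ext (Subtype.ext (by simp [mul_assoc]))
      right_inv := fun x => Subtype.ext (Subtype.ext (by simp [mul_assoc])) }
  · have : ((x.1 : N) : P) • d • a = d • a := x.2
    change (d⁻¹ * x.1 * d) • a = a
    rw [mul_smul, mul_smul, this, inv_smul_smul]
  · have : ((x.1 : N) : P) • a = a := x.2
    change (d * x.1 * d⁻¹) • d • a = d • a
    rw [mul_smul, mul_smul, inv_smul_smul, this]

theorem commutator_le_centralizer_of_cyclic {G : Type*} [Group G] (C : Subgroup G) [hC : C.Normal]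
    [hc : IsCyclic C] : commutator G ≤ centralizer (C : Set G) := by
  obtain ⟨⟨c, hcC⟩, hgen⟩ := hc.exists_generator
  have hz : ∀ y ∈ C, ∃ n : ℤ, c ^ n = y := fun y hy => by
    obtain ⟨n, hn⟩ := hgen ⟨y, hy⟩
    exact ⟨n, congrArg Subtype.val hn⟩
  have key : ∀ g h : G, g * (h * c * h⁻¹) * g⁻¹ = h * (g * c * g⁻¹) * h⁻¹ := by
    intro g h
    obtain ⟨m, hm⟩ := hz _ (hC.conj_mem c hcC g)
    obtain ⟨n, hn⟩ := hz _ (hC.conj_mem c hcC h)
    rw [← hn, ← conj_zpow, ← hm, ← conj_zpow, ← hn, ← zpow_mul, ← zpow_mul, mul_comm]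
  rw [commutator_def, commutator_le]
  intro g _ h _ y hy
  obtain ⟨n, rfl⟩ := hz y hy
  have h1 : (h * g)⁻¹ * (g * h) * c = c * ((h * g)⁻¹ * (g * h)) := by
    have := key g h
    calc (h * g)⁻¹ * (g * h) * c = (h * g)⁻¹ * (g * (h * c * h⁻¹) * g⁻¹) * (g * h) := by group
      _ = c * ((h * g)⁻¹ * (g * h)) := by rw [this]; group
  have h2 : ∀ y ∈ C, y * ((h * g)⁻¹ * (g * h)) = (h * g)⁻¹ * (g * h) * y := by
    intro y hy
    obtain ⟨n, rfl⟩ := hz y hy
    exact (Commute.zpow_left (show Commute c _ from h1.symm) n)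
  have h3 := h2 _ (hC.conj_mem' _ hy (h * g))
  rw [commutatorElement_def]
  calc c ^ n * (g * h * g⁻¹ * h⁻¹)
      = (h * g) * ((h * g)⁻¹ * c ^ n * (h * g) * ((h * g)⁻¹ * (g * h))) * (h * g)⁻¹ := by group
    _ = g * h * g⁻¹ * h⁻¹ * c ^ n := by rw [h3]; group

theorem s1161 [Finite P] [Finite E] [FaithfulSMul P E] [Group.IsSolvable P]
    (hodd : Odd (Nat.card P)) {q : ℕ} (hq : q.Prime) (hE : ∀ e : E, q • e = 0)
    (htrans : ∀ a b : E, a ≠ 0 → b ≠ 0 → ∃ d : P, d • a = b) :
    IsCyclic ↥(fittingSubgroup P) ∧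
      (∀ g ∈ fittingSubgroup P, g ≠ 1 → ∀ a : E, g • a = a → a = 0) ∧
      commutator P ≤ fittingSubgroup P := by
  have hcore : ∀ (p : ℕ) [Fact p.Prime], IsCyclic (pCore p P) ∧
      ∀ g ∈ pCore p P, g ≠ 1 → ∀ a : E, g • a = a → a = 0 := by
    intro p hp
    by_cases hp2 : p = 2
    · subst hp2
      have : pCore 2 P = ⊥ := H2.IsPGroup.eq_bot_of_coprime (H2.pCore_isPGroup 2 P)
        (Nat.Coprime.coprime_dvd_left (card_subgroup_dvd_card _) hodd.coprime_two_right)
      rw [this]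
      exact ⟨inferInstance, fun g hg h => absurd (mem_bot.mp hg) h⟩
    have := s1160 (P := pCore p P) (E := E) hp2 (H2.pCore_isPGroup p P) hq hE (by
      intro a b ha hb
      obtain ⟨d, rfl⟩ := htrans a b ha hb
      exact (card_stabilizer_normal _ d a).symm)
    exact ⟨this.1, fun g hg h1 a ha => this.2 ⟨g, hg⟩ (fun h => h1 (congrArg Subtype.val h)) a ha⟩
  have hZ : IsZGroup (fittingSubgroup P) := ⟨fun p hp S => by
    haveI := Fact.mk hp
    have h1 : (S : Subgroup (fittingSubgroup P)).map (fittingSubgroup P).subtype ≤ pCore p P :=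
      H2.le_pCore_of_le_fitting (S.2.map _) (map_subtype_le _)
    have := (hcore p).1
    have := isCyclic_of_injective (inclusion h1) (inclusion_injective h1)
    exact isCyclic_of_surjective _ (equivMapOfInjective _ _ (subtype_injective _)).symm.surjective⟩
  have hc : IsCyclic (fittingSubgroup P) := inferInstance
  refine ⟨hc, fun g hg h1 a ha => ?_,
    (commutator_le_centralizer_of_cyclic _).trans (H2.centralizer_fitting_le P)⟩
  have ho : orderOf g ≠ 1 := fun h => h1 (orderOf_eq_one_iff.mp h)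
  obtain ⟨p, hp, m, hm⟩ := Nat.exists_prime_and_dvd ho
  haveI := Fact.mk hp
  have hm0 : m ≠ 0 := by rintro rfl; exact (orderOf_pos g).ne' (by simpa using hm)
  have h2 : orderOf (g ^ m) = p := by
    rw [orderOf_pow' _ hm0, hm, Nat.gcd_mul_left_left, Nat.mul_div_cancel _ (Nat.pos_of_ne_zero hm0)]
  have h3 : zpowers (g ^ m) ≤ pCore p P := H2.le_pCore_of_le_fitting
    (IsPGroup.of_card (n := 1) (by rw [Nat.card_zpowers, h2, pow_one]))
    (zpowers_le.mpr (pow_mem hg m))
  refine (hcore p).2 _ (h3 (mem_zpowers _)) (fun h => ?_) a ((stabilizer P a).pow_mem ha m)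
  rw [h, orderOf_one] at h2
  exact hp.one_lt.ne h2

end Hup
end H21
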