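import Mathlib
import Cfsg.Agent.H21.Huppert
import Cfsg.Agent.H21.OddInv

/-! The elements inverted by an involutory automorphism whose fixed points are a point stabiliser. -/

set_option autoImplicit false

namespace H21
namespace Hup

open Cfsg MulAction Subgroup
open scoped commutatorElement

variable {D E : Type*} [Group D] [Finite D]

theorem exists_fix_mul_inv (hodd : Odd (Nat.card D)) (τ : D →* D) (hτ : ∀ x, τ (τ x) = x)
    (B : Subgroup D) (hB : ∀ x ∈ B, τ x ∈ B) {x : D} (hx : x ∈ B) :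
    ∃ v ∈ B, ∃ k ∈ B, τ v = v ∧ τ k = k⁻¹ ∧ x = v * k := by
  obtain ⟨n, hn⟩ := exists_pow_sq_eq_of_odd (x := (τ x)⁻¹ * x) hodd pow_card_eq_one'
  have hy : (τ x)⁻¹ * x ∈ B := B.mul_mem (B.inv_mem (hB x hx)) hx
  have hk : τ (((τ x)⁻¹ * x) ^ n) = (((τ x)⁻¹ * x) ^ n)⁻¹ := by
    rw [map_pow, map_mul, map_inv, hτ, ← inv_pow, mul_inv_rev, inv_inv]
  refine ⟨x * (((τ x)⁻¹ * x) ^ n)⁻¹, B.mul_mem hx (B.inv_mem (B.pow_mem hy n)), _,
    B.pow_mem hy n, ?_, hk, by simp⟩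
  rw [map_mul, map_inv, hk, inv_inv, eq_mul_inv_iff_mul_eq, mul_assoc, hn, mul_inv_cancel_left]

theorem eq_of_inv_of_fix (hodd : Odd (Nat.card D)) (τ : D →* D) {w k l : D} (hw : τ w = w)
    (hk : τ k = k⁻¹) (hl : τ l = l⁻¹) (e : k = w * l) : k = l := by
  apply eq_of_sq_eq_of_odd hodd pow_card_eq_one' pow_card_eq_one'
  have h1 : k⁻¹ = w * l⁻¹ := by rw [← hk, e, map_mul, hw, hl]
  calc k * k = (k⁻¹)⁻¹ * k := by rw [inv_inv]
    _ = l * l := by rw [h1]; nth_rewrite 1 [e]; group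

variable [AddCommGroup E] [Finite E] [DistribMulAction D E]

theorem exists_fit [Group.IsSolvable D] (hodd : Odd (Nat.card D)) {q : ℕ} (hq : q.Prime)
    (hE : ∀ e : E, q • e = 0) (htrans : ∀ a b : E, a ≠ 0 → b ≠ 0 → ∃ d : D, d • a = b) :
    ∃ W F : Subgroup D, W.Normal ∧ F.Normal ∧ (∀ w, w ∈ W ↔ ∀ e : E, w • e = e) ∧ W ≤ F ∧
      (∃ c ∈ F, ∀ f ∈ F, ∃ n : ℤ, f * (c ^ n)⁻¹ ∈ W) ∧
      (∀ f ∈ F, ∀ e : E, e ≠ 0 → f • e = e → f ∈ W) ∧ (∀ x y : D, ⁅x, y⁆ ∈ F) ∧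
      ∀ B : Subgroup D, B.Normal → (∀ x ∈ B, ∀ y ∈ B, ⁅x, y⁆ ∈ W) → B ≤ F := by
  let ψ := MulAction.toPermHom D E
  letI : DistribMulAction (D ⧸ ψ.ker) E :=
    { MulAction.compHom E (QuotientGroup.kerLift ψ) with
      smul_zero := fun x => by
        obtain ⟨d, rfl⟩ := QuotientGroup.mk_surjective x
        exact smul_zero d
      smul_add := fun x u v => by
        obtain ⟨d, rfl⟩ := QuotientGroup.mk_surjective x
        exact smul_add d u v }
  have hsm : ∀ (d : D) (e : E), (d : D ⧸ ψ.ker) • e = d • e := fun _ _ => rfl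
  haveI : FaithfulSMul (D ⧸ ψ.ker) E := ⟨fun {x y} h =>
    QuotientGroup.kerLift_injective ψ (Equiv.ext h)⟩
  have hodd' : Odd (Nat.card (D ⧸ ψ.ker)) := hodd.of_dvd_nat (card_quotient_dvd_card _)
  obtain ⟨h1, h2, h3⟩ := s1161 (P := D ⧸ ψ.ker) (E := E) hodd' hq hE (fun a b ha hb => by
    obtain ⟨d, hd⟩ := htrans a b ha hb
    exact ⟨d, hd⟩)
  refine ⟨ψ.ker, (fittingSubgroup (D ⧸ ψ.ker)).comap (QuotientGroup.mk' _), inferInstance,
    inferInstance, fun w => ⟨fun h e => congrArg (fun f : Equiv.Perm E => f e) h,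
      fun h => Equiv.ext h⟩, ?_, ?_, ?_, ?_, ?_⟩
  · intro w hw
    rw [mem_comap, QuotientGroup.mk'_apply, (QuotientGroup.eq_one_iff w).mpr hw]
    exact one_mem _
  · obtain ⟨⟨c, hc⟩, hgen⟩ := h1.exists_generator
    obtain ⟨c, rfl⟩ := QuotientGroup.mk_surjective c
    refine ⟨c, hc, fun f hf => ?_⟩
    obtain ⟨n, hn⟩ := hgen ⟨(f : D ⧸ ψ.ker), hf⟩
    have hn' : ((c : D ⧸ ψ.ker)) ^ n = f := congrArg Subtype.val hn
    refine ⟨n, (QuotientGroup.eq_one_iff _).mp ?_⟩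
    rw [QuotientGroup.mk_mul, QuotientGroup.mk_inv, QuotientGroup.mk_zpow, hn', mul_inv_cancel]
  · intro f hf e he hfe
    by_contra hn
    exact he (h2 _ hf (fun h => hn ((QuotientGroup.eq_one_iff f).mp h)) e hfe)
  · intro x y
    rw [mem_comap, map_commutatorElement]
    exact h3 (commutator_mem_commutator (mem_top _) (mem_top _))
  · intro B hB hc
    rw [← map_le_iff_le_comap]
    haveI : IsMulCommutative (B.map (QuotientGroup.mk' ψ.ker)) := ⟨⟨by
      rintro ⟨_, x, hx, rfl⟩ ⟨_, y, hy, rfl⟩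
      apply Subtype.ext
      change QuotientGroup.mk' ψ.ker x * QuotientGroup.mk' ψ.ker y =
        QuotientGroup.mk' ψ.ker y * QuotientGroup.mk' ψ.ker x
      rw [← commutatorElement_eq_one_iff_mul_comm, ← map_commutatorElement]
      exact (QuotientGroup.eq_one_iff _).mpr (hc x hx y hy)⟩⟩
    exact H2.le_fitting_of_isMulCommutative (hB.map _ (QuotientGroup.mk'_surjective _))

theorem cyclic_inverted [Group.IsSolvable D] (hodd : Odd (Nat.card D)) {q : ℕ} (hq : q.Prime)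
    (hE : ∀ e : E, q • e = 0) (htrans : ∀ a b : E, a ≠ 0 → b ≠ 0 → ∃ d : D, d • a = b)
    (τ : D →* D) (hτ : ∀ x, τ (τ x) = x) {s : E} (hs : s ≠ 0) (hV : ∀ d, d • s = s ↔ τ d = d) :
    ∃ c : D, ∀ k, τ k = k⁻¹ ↔ k ∈ zpowers c := by
  obtain ⟨W, F, hWn, hFn, hW, hWF, ⟨c, hc, hgen⟩, hfpf, hcomm, hmax⟩ :=
    exists_fit hodd hq hE htrans
  have hWτ : ∀ w ∈ W, τ w = w := fun w hw => (hV w).mp ((hW w).mp hw s)
  have hFτ : ∀ x ∈ F, τ x ∈ F := by
    have : F.map τ ≤ F := by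
      refine hmax _ (hFn.map τ fun x => ⟨τ x, hτ x⟩) ?_
      rintro _ ⟨x, hx, rfl⟩ _ ⟨y, hy, rfl⟩
      rw [← map_commutatorElement]
      have : ⁅x, y⁆ ∈ W := by
        obtain ⟨m, hm⟩ := hgen x hx
        obtain ⟨n, hn⟩ := hgen y hy
        rw [← QuotientGroup.eq_one_iff] at hm hn ⊢
        rw [QuotientGroup.mk_mul, QuotientGroup.mk_inv, QuotientGroup.mk_zpow,
          mul_inv_eq_one] at hm hn
        change QuotientGroup.mk' W ⁅x, y⁆ = 1
        rw [map_commutatorElement, commutatorElement_eq_one_iff_commute, QuotientGroup.mk'_apply,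
          QuotientGroup.mk'_apply, hm, hn]
        exact Commute.zpow_zpow_self _ m n
      rw [hWτ _ this]; exact this
    exact fun x hx => this ⟨x, hx, rfl⟩
  have hab : ∀ x y : D ⧸ F, x * y = y * x := by
    intro x y
    obtain ⟨x, rfl⟩ := QuotientGroup.mk'_surjective F x
    obtain ⟨y, rfl⟩ := QuotientGroup.mk'_surjective F y
    rw [← commutatorElement_eq_one_iff_mul_comm, ← map_commutatorElement]
    exact (QuotientGroup.eq_one_iff _).mpr (hcomm x y)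
  let B : Subgroup D :=
    { carrier := {x | τ x * x ∈ F}
      one_mem' := by simp [F.one_mem]
      mul_mem' := fun {x y} hx hy => by
        simp only [Set.mem_ofPred_eq, ← QuotientGroup.eq_one_iff, map_mul,
          QuotientGroup.mk_mul] at hx hy ⊢
        rw [hab (τ x : D ⧸ F), mul_assoc, ← mul_assoc (τ x : D ⧸ F), hx, one_mul, hy]
      inv_mem' := fun {x} hx => by
        simp only [Set.mem_ofPred_eq, ← QuotientGroup.eq_one_iff, map_inv,
          QuotientGroup.mk_mul, QuotientGroup.mk_inv] at hx ⊢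
        rw [← mul_inv_rev, hab, hx, inv_one] }
  have hFB : F ≤ B := fun x hx => F.mul_mem (hFτ x hx) hx
  have hBn : B.Normal := ⟨fun x hx g => by
    have : g * x * g⁻¹ = ⁅g, x⁆ * x := by rw [commutatorElement_def]; group
    rw [this]
    exact B.mul_mem (hFB (hcomm g x)) hx⟩
  have hBτ : ∀ x ∈ B, τ x ∈ B := fun x hx => by
    change τ (τ x) * τ x ∈ F
    rw [← map_mul]
    exact hFτ _ hx
  have hdec : ∀ x ∈ B, ∃ w ∈ W, ∃ k, τ k = k⁻¹ ∧ x = w * k := by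
    intro x hx
    obtain ⟨v, hv, k, -, h1, h2, h3⟩ := exists_fix_mul_inv hodd τ hτ B hBτ hx
    refine ⟨v, hfpf v ?_ s hs ((hV v).mpr h1), k, h2, h3⟩
    have h4 : v * v ∈ F := by
      have : τ v * v ∈ F := hv
      rwa [h1] at this
    obtain ⟨m, hm⟩ := hodd
    have := F.pow_mem h4 (m + 1)
    rwa [eq_pow_sq_of_odd (by rw [← hm]; exact pow_card_eq_one')] at this
  have hinvB : ∀ x ∈ B, ((τ x : D) : D ⧸ W) = (x : D ⧸ W)⁻¹ := by
    intro x hx
    obtain ⟨w, hw, k, hk, rfl⟩ := hdec x hx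
    rw [map_mul, hWτ w hw, hk, QuotientGroup.mk_mul, QuotientGroup.mk_mul,
      (QuotientGroup.eq_one_iff w).mpr hw, one_mul, one_mul, QuotientGroup.mk_inv]
  have hBF : B ≤ F := hmax B hBn fun x hx y hy => by
    have h1 := hinvB _ (B.mul_mem hx hy)
    rw [map_mul, QuotientGroup.mk_mul, hinvB x hx, hinvB y hy, QuotientGroup.mk_mul,
      ← mul_inv_rev, inv_inj] at h1
    rw [← QuotientGroup.eq_one_iff]
    change QuotientGroup.mk' W ⁅x, y⁆ = 1
    rw [map_commutatorElement, commutatorElement_eq_one_iff_mul_comm]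
    exact h1.symm
  obtain ⟨w0, hw0, k0, hk0, rfl⟩ := hdec c (hFB hc)
  have hpow : ∀ n : ℤ, τ (k0 ^ n) = (k0 ^ n)⁻¹ := fun n => by rw [map_zpow, hk0, inv_zpow]
  refine ⟨k0, fun k => ⟨fun hk => ?_, ?_⟩⟩
  · have hkB : k ∈ B := by
      change τ k * k ∈ F
      rw [hk, inv_mul_cancel]; exact F.one_mem
    obtain ⟨n, hn⟩ := hgen k (hBF hkB)
    have h1 : k * (k0 ^ n)⁻¹ ∈ W := by
      rw [← QuotientGroup.eq_one_iff] at hn ⊢
      rw [QuotientGroup.mk_mul, QuotientGroup.mk_inv, QuotientGroup.mk_zpow] at hn ⊢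
      rwa [QuotientGroup.mk_mul, (QuotientGroup.eq_one_iff w0).mpr hw0, one_mul] at hn
    exact ⟨n, (eq_of_inv_of_fix hodd τ (hWτ _ h1) hk (hpow n) (by simp)).symm⟩
  · rintro ⟨n, rfl⟩
    exact hpow n

end Hup
end H21
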