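import Mathlib
import Cfsg.Prelude.Def_LieRecognition
import Cfsg.Prelude.Def_Solvable
import Cfsg.Agent.H21.OddInv

/-! The rank-one set-up: first consequences. -/

set_option autoImplicit false

namespace H21
namespace RankOne

open Cfsg MulAction

variable {G Ω : Type*} [Group G] [MulAction G Ω] {a : Ω} {t : G} {Q : Subgroup G}

theorem two_trans (hS : IsRankOneSetup G Ω a t Q) {x y z w : Ω} (h1 : x ≠ y) (h2 : z ≠ w) :
    ∃ g : G, g • x = z ∧ g • y = w :=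
  is_two_pretransitive_iff.mp hS.two_transitive h1 h2

theorem ta_ne (hS : IsRankOneSetup G Ω a t Q) : t • a ≠ a := hS.not_mem

theorem tta (hS : IsRankOneSetup G Ω a t Q) (c : Ω) : t • t • c = c := by
  rw [← mul_smul, hS.mul_self, one_smul]

theorem t_inv (hS : IsRankOneSetup G Ω a t Q) : t⁻¹ = t := invol_inv hS.mul_self

theorem trans (hS : IsRankOneSetup G Ω a t Q) (x y : Ω) : ∃ g : G, g • x = y := by
  have key : ∀ x : Ω, ∃ x' : Ω, x ≠ x' := by
    intro x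
    by_cases h : x = a
    · exact ⟨t • a, h ▸ (ta_ne hS).symm⟩
    · exact ⟨a, h⟩
  obtain ⟨x', hx⟩ := key x
  obtain ⟨y', hy⟩ := key y
  obtain ⟨g, hg, -⟩ := two_trans hS hx hy
  exact ⟨g, hg⟩

theorem mem_D {d : G} : d ∈ stabilizer G a ⊓ stabilizer G (t • a) ↔ d • a = a ∧ d • t • a = t • a :=
  Iff.rfl

theorem Q_fix (hS : IsRankOneSetup G Ω a t Q) {q : G} (hq : q ∈ Q) : q • a = a := hS.le hq

theorem conj_mem_Q (hS : IsRankOneSetup G Ω a t Q) {h q : G} (hh : h • a = a) (hq : q ∈ Q) :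
    h * q * h⁻¹ ∈ Q := hS.conj_mem h hh q hq

theorem conj_mem_Q' (hS : IsRankOneSetup G Ω a t Q) {h q : G} (hh : h • a = a) (hq : q ∈ Q) :
    h⁻¹ * q * h ∈ Q := by
  have := hS.conj_mem h⁻¹ ((stabilizer G a).inv_mem hh) q hq
  rwa [inv_inv] at this

theorem eq_one_of_mem_Q_of_fix_b (hS : IsRankOneSetup G Ω a t Q) {q : G} (hq : q ∈ Q)
    (h : q • t • a = t • a) : q = 1 := by
  have : q ∈ Q ⊓ stabilizer G (t • a) := ⟨hq, h⟩
  rwa [hS.inf_eq_bot, Subgroup.mem_bot] at this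

theorem t_conj_mem_D (hS : IsRankOneSetup G Ω a t Q) {d : G}
    (hd : d ∈ stabilizer G a ⊓ stabilizer G (t • a)) :
    t * d * t⁻¹ ∈ stabilizer G a ⊓ stabilizer G (t • a) := by
  rw [mem_D] at hd ⊢
  rw [t_inv hS]
  constructor
  · rw [mul_smul, mul_smul, hd.2, tta hS]
  · rw [mul_smul, mul_smul, tta hS, hd.1]

theorem t_conj_mem_D' (hS : IsRankOneSetup G Ω a t Q) {d : G}
    (hd : d ∈ stabilizer G a ⊓ stabilizer G (t • a)) :
    t * d * t ∈ stabilizer G a ⊓ stabilizer G (t • a) := by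
  have := t_conj_mem_D hS hd
  rwa [t_inv hS] at this

theorem exists_QD (hS : IsRankOneSetup G Ω a t Q) {h : G} (hh : h • a = a) :
    ∃ q ∈ Q, ∃ d ∈ stabilizer G a ⊓ stabilizer G (t • a), h = q * d := by
  have h1 : h ∈ Q ⊔ (stabilizer G a ⊓ stabilizer G (t • a)) := by rw [hS.sup_eq]; exact hh
  rw [Subgroup.sup_eq_closure] at h1
  clear hh
  induction h1 using Subgroup.closure_induction with
  | mem x hx =>
    rcases hx with hx | hx
    · exact ⟨x, hx, 1, Subgroup.one_mem _, by simp⟩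
    · exact ⟨1, Q.one_mem, x, hx, by simp⟩
  | one => exact ⟨1, Q.one_mem, 1, Subgroup.one_mem _, by simp⟩
  | mul x y _ _ hx hy =>
    obtain ⟨q, hq, d, hd, rfl⟩ := hx
    obtain ⟨q', hq', d', hd', rfl⟩ := hy
    exact ⟨q * (d * q' * d⁻¹), Q.mul_mem hq (conj_mem_Q hS hd.1 hq'), d * d',
      Subgroup.mul_mem _ hd hd', by group⟩
  | inv x _ hx =>
    obtain ⟨q, hq, d, hd, rfl⟩ := hx
    exact ⟨d⁻¹ * q⁻¹ * d, conj_mem_Q' hS hd.1 (Q.inv_mem hq), d⁻¹, Subgroup.inv_mem _ hd, by group⟩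

theorem exists_Q_smul_b (hS : IsRankOneSetup G Ω a t Q) {c : Ω} (hc : c ≠ a) :
    ∃ q ∈ Q, q • t • a = c := by
  obtain ⟨g, hg1, hg2⟩ := two_trans hS (ta_ne hS).symm hc.symm
  obtain ⟨q, hq, d, hd, rfl⟩ := exists_QD hS hg1
  refine ⟨q, hq, ?_⟩
  rw [mul_smul, (mem_D.mp hd).2] at hg2
  exact hg2

theorem exists_Q_smul (hS : IsRankOneSetup G Ω a t Q) {b c : Ω} (hb : b ≠ a) (hc : c ≠ a) :
    ∃ q ∈ Q, q • b = c := by
  obtain ⟨q, hq, rfl⟩ := exists_Q_smul_b hS hb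
  obtain ⟨q', hq', rfl⟩ := exists_Q_smul_b hS hc
  exact ⟨q' * q⁻¹, Q.mul_mem hq' (Q.inv_mem hq), by rw [mul_smul, inv_smul_smul]⟩

theorem eq_one_of_mem_Q_of_fix (hS : IsRankOneSetup G Ω a t Q) {q : G} (hq : q ∈ Q) {c : Ω}
    (hc : c ≠ a) (h : q • c = c) : q = 1 := by
  obtain ⟨r, hr, rfl⟩ := exists_Q_smul_b hS hc
  have h1 : r⁻¹ * q * r = 1 := by
    apply eq_one_of_mem_Q_of_fix_b hS (Q.mul_mem (Q.mul_mem (Q.inv_mem hr) hq) hr)
    rw [mul_smul, mul_smul, h, inv_smul_smul]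
  calc q = r * (r⁻¹ * q * r) * r⁻¹ := by group
    _ = 1 := by rw [h1]; group

theorem eq_of_mem_Q_of_smul_eq (hS : IsRankOneSetup G Ω a t Q) {q q' : G} (hq : q ∈ Q)
    (hq' : q' ∈ Q) {c : Ω} (hc : c ≠ a) (h : q • c = q' • c) : q = q' := by
  have : q'⁻¹ * q = 1 :=
    eq_one_of_mem_Q_of_fix hS (Q.mul_mem (Q.inv_mem hq') hq) hc (by rw [mul_smul, h, inv_smul_smul])
  exact (inv_mul_eq_one.mp this).symm

theorem smul_ne_of_fix {h : G} (hh : h • a = a) {c : Ω} (hc : c ≠ a) : h • c ≠ a := by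
  intro h1
  exact hc ((MulAction.injective h) (h1.trans hh.symm))

theorem eq_one_of_mem_Q_of_mem_D (hS : IsRankOneSetup G Ω a t Q) {q : G} (hq : q ∈ Q)
    (hd : q ∈ stabilizer G a ⊓ stabilizer G (t • a)) : q = 1 :=
  eq_one_of_mem_Q_of_fix_b hS hq hd.2

theorem QD_unique (hS : IsRankOneSetup G Ω a t Q) {q q' d d' : G} (hq : q ∈ Q) (hq' : q' ∈ Q)
    (hd : d ∈ stabilizer G a ⊓ stabilizer G (t • a))
    (hd' : d' ∈ stabilizer G a ⊓ stabilizer G (t • a)) (h : q * d = q' * d') :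
    q = q' ∧ d = d' := by
  have : q = q' := by
    apply eq_of_mem_Q_of_smul_eq hS hq hq' (ta_ne hS)
    have h1 : (q * d) • t • a = (q' * d') • t • a := by rw [h]
    rwa [mul_smul, mul_smul, (mem_D.mp hd).2, (mem_D.mp hd').2] at h1
  subst this
  exact ⟨rfl, mul_left_cancel h⟩

/-- existence of the canonical form -/
theorem exists_canonical (hS : IsRankOneSetup G Ω a t Q) {g : G} (hg : g • a ≠ a) :
    ∃ x y : G, x • a = a ∧ y ∈ Q ∧ g = x * t * y := by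
  have h1 : g⁻¹ • a ≠ a := by
    intro h; apply hg
    calc g • a = g • g⁻¹ • a := by rw [h]
      _ = a := smul_inv_smul g a
  obtain ⟨y, hy, hy2⟩ := exists_Q_smul hS h1 (ta_ne hS)
  refine ⟨g * y⁻¹ * t, y, ?_, hy, ?_⟩
  · rw [mul_smul, mul_smul, ← hy2, inv_smul_smul, smul_inv_smul]
  · rw [mul_assoc (g * y⁻¹), hS.mul_self]; group

theorem canonical_unique (hS : IsRankOneSetup G Ω a t Q) {x y x' y' : G} (hx : x • a = a)
    (hy : y ∈ Q) (hx' : x' • a = a) (hy' : y' ∈ Q) (h : x * t * y = x' * t * y') :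
    x = x' ∧ y = y' := by
  have key : ∀ x y : G, x • a = a → (x * t * y)⁻¹ • a = y⁻¹ • t • a := by
    intro x y hx
    have : x⁻¹ • a = a := (stabilizer G a).inv_mem hx
    rw [mul_inv_rev, mul_inv_rev, mul_smul, mul_smul, this, t_inv hS]
  have h1 : y⁻¹ = y'⁻¹ := by
    apply eq_of_mem_Q_of_smul_eq hS (Q.inv_mem hy) (Q.inv_mem hy') (ta_ne hS)
    rw [← key x y hx, ← key x' y' hx', h]
  have h2 : y = y' := inv_injective h1
  subst h2
  exact ⟨mul_right_cancel (mul_right_cancel h), rfl⟩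

theorem canonical_unique3 (hS : IsRankOneSetup G Ω a t Q) {g h f g' h' f' : G} (hg : g ∈ Q)
    (hh : h ∈ stabilizer G a ⊓ stabilizer G (t • a)) (hf : f ∈ Q) (hg' : g' ∈ Q)
    (hh' : h' ∈ stabilizer G a ⊓ stabilizer G (t • a)) (hf' : f' ∈ Q)
    (e : g * h * t * f = g' * h' * t * f') : g = g' ∧ h = h' ∧ f = f' := by
  obtain ⟨h1, h2⟩ := canonical_unique hS (x := g * h) (x' := g' * h')
    ((stabilizer G a).mul_mem (hS.le hg) hh.1) hf ((stabilizer G a).mul_mem (hS.le hg') hh'.1) hf' e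
  obtain ⟨h3, h4⟩ := QD_unique hS hg hg' hh hh' h1
  exact ⟨h3, h4, h2⟩

theorem card_Omega [Finite G] (hS : IsRankOneSetup G Ω a t Q) : Nat.card Ω = Nat.card Q + 1 := by
  classical
  have e : Q ≃ {c : Ω // c ≠ a} := Equiv.ofBijective
    (fun q => ⟨(q : G) • t • a, smul_ne_of_fix (Q_fix hS q.2) (ta_ne hS)⟩) ⟨by
      intro q q' h
      exact Subtype.ext (eq_of_mem_Q_of_smul_eq hS q.2 q'.2 (ta_ne hS) (congrArg Subtype.val h)), by
      rintro ⟨c, hc⟩
      obtain ⟨q, hq, rfl⟩ := exists_Q_smul_b hS hc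
      exact ⟨⟨q, hq⟩, rfl⟩⟩
  rw [← Nat.card_congr (Equiv.optionSubtypeNe a), ← Nat.card_congr e.optionCongr,
    Finite.card_option]

theorem finite_Omega [Finite G] (hS : IsRankOneSetup G Ω a t Q) : Finite Ω :=
  Nat.finite_of_card_ne_zero (by rw [card_Omega hS]; omega)

theorem card_H (hS : IsRankOneSetup G Ω a t Q) :
    Nat.card (stabilizer G a) =
      Nat.card Q * Nat.card ↥(stabilizer G a ⊓ stabilizer G (t • a)) := by
  rw [← Nat.card_prod]
  symm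
  refine Nat.card_congr (Equiv.ofBijective
    (fun p : Q × ↥(stabilizer G a ⊓ stabilizer G (t • a)) =>
      (⟨p.1.1 * p.2.1, (stabilizer G a).mul_mem (hS.le p.1.2) p.2.2.1⟩ : stabilizer G a)) ⟨?_, ?_⟩)
  · rintro ⟨⟨q, hq⟩, ⟨d, hd⟩⟩ ⟨⟨q', hq'⟩, ⟨d', hd'⟩⟩ h
    obtain ⟨rfl, rfl⟩ := QD_unique hS hq hq' hd hd' (congrArg Subtype.val h)
    rfl
  · rintro ⟨h, hh⟩
    obtain ⟨q, hq, d, hd, rfl⟩ := exists_QD hS hh
    exact ⟨⟨⟨q, hq⟩, ⟨d, hd⟩⟩, rfl⟩

theorem index_H (hS : IsRankOneSetup G Ω a t Q) : (stabilizer G a).index = Nat.card Ω := by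
  have : IsPretransitive G Ω := ⟨trans hS⟩
  exact index_stabilizer_of_transitive G a

theorem card_G [Finite G] (hS : IsRankOneSetup G Ω a t Q) :
    Nat.card G = Nat.card Q * Nat.card ↥(stabilizer G a ⊓ stabilizer G (t • a)) *
      (Nat.card Q + 1) := by
  rw [← card_H hS, ← card_Omega hS, ← index_H hS, Subgroup.card_mul_index]

theorem odd_index_Q [Finite G] (hS : IsRankOneSetup G Ω a t Q) : Odd Q.index := by
  have h1 := card_G hS
  rw [← Subgroup.card_mul_index Q, mul_assoc] at h1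
  rw [Nat.eq_of_mul_eq_mul_left Nat.card_pos h1]
  exact hS.odd_card.mul hS.even_card.add_one

theorem exists_sylow_le [Finite G] (hS : IsRankOneSetup G Ω a t Q) :
    ∃ P : Sylow 2 G, (P : Subgroup G) ≤ Q := by
  have : Fact (Nat.Prime 2) := ⟨Nat.prime_two⟩
  obtain ⟨P⟩ : Nonempty (Sylow 2 Q) := inferInstance
  have hP : IsPGroup 2 ((P : Subgroup Q).map Q.subtype) := P.2.map _
  have hi : ¬ 2 ∣ ((P : Subgroup Q).map Q.subtype).index := by
    rw [Subgroup.index_map_subtype]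
    intro h
    rcases (Nat.Prime.dvd_mul Nat.prime_two).mp h with h | h
    · exact P.not_dvd_index h
    · exact (Nat.not_even_iff_odd.mpr (odd_index_Q hS)) (even_iff_two_dvd.mpr h)
  exact ⟨hP.toSylow hi, Subgroup.map_subtype_le _⟩

theorem pow_card_D {d : G} (hd : d ∈ stabilizer G a ⊓ stabilizer G (t • a)) :
    d ^ Nat.card ↥(stabilizer G a ⊓ stabilizer G (t • a)) = 1 := pow_card_eq_one_of_mem hd

theorem eq_one_of_mem_D_sq (hS : IsRankOneSetup G Ω a t Q) {d : G}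
    (hd : d ∈ stabilizer G a ⊓ stabilizer G (t • a)) (h : d * d = 1) : d = 1 :=
  eq_one_of_sq_of_mem_odd hS.odd_card hd h

theorem invol_mem_Q (hS : IsRankOneSetup G Ω a t Q) {s : G} (hs : s • a = a) (h2 : s * s = 1) :
    s ∈ Q := by
  obtain ⟨q, hq, d, hd, rfl⟩ := exists_QD hS hs
  have h1 : q * (d * q * d⁻¹) * (d * d) = 1 * 1 := by rw [one_mul, ← h2]; group
  have h3 := (QD_unique hS (Q.mul_mem hq (conj_mem_Q hS hd.1 hq)) Q.one_mem
    (Subgroup.mul_mem _ hd hd) (Subgroup.one_mem _) h1).2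
  rw [eq_one_of_mem_D_sq hS hd h3, mul_one]
  exact hq

/-- an involution fixes at most one point -/
theorem invol_fix_unique (hS : IsRankOneSetup G Ω a t Q) {u : G} (h1 : u ≠ 1) (h2 : u * u = 1)
    {c d : Ω} (hc : u • c = c) (hd : u • d = d) : c = d := by
  by_contra hcd
  obtain ⟨g, hg1, hg2⟩ := two_trans hS hcd (ta_ne hS).symm
  have h3 : g * u * g⁻¹ ∈ stabilizer G a ⊓ stabilizer G (t • a) := by
    rw [mem_D]
    constructor
    · rw [← hg1, mul_smul, mul_smul, inv_smul_smul, hc]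
    · rw [← hg2, mul_smul, mul_smul, inv_smul_smul, hd]
  have h4 := eq_one_of_mem_D_sq hS h3 (by
    calc g * u * g⁻¹ * (g * u * g⁻¹) = g * (u * u) * g⁻¹ := by group
      _ = 1 := by rw [h2]; group)
  apply h1
  calc u = g⁻¹ * (g * u * g⁻¹) * g := by group
    _ = 1 := by rw [h4]; group

/-- an involution fixes a point -/
theorem invol_exists_fix [Finite G] (hS : IsRankOneSetup G Ω a t Q) {u : G} (h2 : u * u = 1) :
    ∃ c : Ω, u • c = c := by
  have : Fact (Nat.Prime 2) := ⟨Nat.prime_two⟩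
  have := finite_Omega hS
  have hp : IsPGroup 2 (Subgroup.zpowers u) := by
    apply IsPGroup.of_card_dvd_pow (n := 1)
    rw [Nat.card_zpowers]
    exact orderOf_dvd_of_pow_eq_one (by rw [pow_one, pow_two, h2])
  have hΩ : ¬ 2 ∣ Nat.card Ω := by
    rw [card_Omega hS, ← even_iff_two_dvd, Nat.not_even_iff_odd]
    exact hS.even_card.add_one
  obtain ⟨c, hc⟩ := hp.nonempty_fixed_point_of_prime_not_dvd_card Ω hΩ
  exact ⟨c, hc ⟨u, Subgroup.mem_zpowers u⟩⟩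

theorem fix_of_commute (hS : IsRankOneSetup G Ω a t Q) {u : G} (h1 : u ≠ 1) (h2 : u * u = 1)
    {c : Ω} (hc : u • c = c) {x : G} (hx : Commute u x) : x • c = c := by
  apply invol_fix_unique hS h1 h2 _ hc
  rw [← mul_smul, hx.eq, mul_smul, hc]

theorem exists_invol_Q [Finite G] (hS : IsRankOneSetup G Ω a t Q) :
    ∃ s ∈ Q, s ≠ 1 ∧ s * s = 1 := exists_invol_of_even_card hS.even_card

theorem conj_invol {g u : G} (h1 : u ≠ 1) (h2 : u * u = 1) :
    g * u * g⁻¹ ≠ 1 ∧ g * u * g⁻¹ * (g * u * g⁻¹) = 1 := by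
  constructor
  · intro h
    apply h1
    calc u = g⁻¹ * (g * u * g⁻¹) * g := by group
      _ = 1 := by rw [h]; group
  · calc g * u * g⁻¹ * (g * u * g⁻¹) = g * (u * u) * g⁻¹ := by group
      _ = 1 := by rw [h2]; group

theorem exists_invol_fix [Finite G] (hS : IsRankOneSetup G Ω a t Q) (c : Ω) :
    ∃ s : G, s • c = c ∧ s ≠ 1 ∧ s * s = 1 := by
  obtain ⟨s, hs, h1, h2⟩ := exists_invol_Q hS
  obtain ⟨g, rfl⟩ := trans hS a c
  exact ⟨g * s * g⁻¹, by rw [mul_smul, mul_smul, inv_smul_smul, Q_fix hS hs], conj_invol h1 h2⟩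

/-- involutions without a common fixed point have a product of odd order -/
theorem odd_orderOf_mul [Finite G] (hS : IsRankOneSetup G Ω a t Q) {s u : G} {c : Ω}
    (hs : s • c = c) (hs1 : s ≠ 1) (hs2 : s * s = 1) (hu : u • c ≠ c) (hu2 : u * u = 1) :
    Odd (orderOf (s * u)) := by
  by_contra h
  obtain ⟨z, hz1, hz2, hzs, hzu, -⟩ :=
    exists_invol_comm_of_not_odd hs2 hu2 (isOfFinOrder_of_finite _) h
  have h3 : z • c = c := fix_of_commute hS hs1 hs2 hs hzs.symm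
  exact hu (fix_of_commute hS hz1 hz2 h3 hzu)

theorem conj_of_not_fix [Finite G] (hS : IsRankOneSetup G Ω a t Q) {s u : G} {c : Ω}
    (hs : s • c = c) (hs1 : s ≠ 1) (hs2 : s * s = 1) (hu : u • c ≠ c) (hu2 : u * u = 1) :
    ∃ g : G, g * u * g⁻¹ = s := by
  obtain ⟨k, hk⟩ := conj_of_odd_mul hs2 hu2 (odd_orderOf_mul hS hs hs1 hs2 hu hu2)
    (pow_orderOf_eq_one _)
  exact ⟨_, hk⟩

theorem invol_conj [Finite G] (hS : IsRankOneSetup G Ω a t Q) {u v : G} (hu1 : u ≠ 1)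
    (hu2 : u * u = 1) (hv1 : v ≠ 1) (hv2 : v * v = 1) : ∃ g : G, g * u * g⁻¹ = v := by
  obtain ⟨c, hc⟩ := invol_exists_fix hS hv2
  by_cases h : u • c = c
  · obtain ⟨d, hd⟩ : ∃ d : Ω, d ≠ c := by
      by_cases h : c = a
      · exact ⟨t • a, by rw [h]; exact ta_ne hS⟩
      · exact ⟨a, Ne.symm h⟩
    obtain ⟨w, hw, hw1, hw2⟩ := exists_invol_fix hS d
    have hwc : w • c ≠ c := fun h' => hd (invol_fix_unique hS hw1 hw2 hw h')
    obtain ⟨g, hg⟩ := conj_of_not_fix hS hc hv1 hv2 hwc hw2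
    obtain ⟨g', hg'⟩ := conj_of_not_fix hS h hu1 hu2 hwc hw2
    exact ⟨g * g'⁻¹, by rw [← hg, ← hg']; group⟩
  · exact conj_of_not_fix hS hc hv1 hv2 h hu2

theorem s1118 [Finite G] (hS : IsRankOneSetup G Ω a t Q) :
    (∀ X : Set G, X ⊆ (Q : Set G) → (∃ x ∈ X, x ≠ 1) → Subgroup.normalizer X ≤ MulAction.stabilizer G a) ∧
      Subgroup.normalizer (Q : Set G) = MulAction.stabilizer G a ∧
      Subgroup.normalizer (MulAction.stabilizer G a : Set G) = MulAction.stabilizer G a := by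
  have h1 : ∀ X : Set G, X ⊆ (Q : Set G) → (∃ x ∈ X, x ≠ 1) →
      Subgroup.normalizer X ≤ MulAction.stabilizer G a := by
    rintro X hX ⟨x, hx, hx1⟩ g hg
    have h2 : g * x * g⁻¹ ∈ Q := hX ((Subgroup.mem_set_normalizer_iff.mp hg x).mp hx)
    by_contra h3
    have h4 : g * x * g⁻¹ = 1 := by
      apply eq_one_of_mem_Q_of_fix hS h2 h3
      rw [mul_smul, mul_smul, inv_smul_smul, Q_fix hS (hX hx)]
    apply hx1
    calc x = g⁻¹ * (g * x * g⁻¹) * g := by group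
      _ = 1 := by rw [h4]; group
  obtain ⟨s, hs, hs1, hs2⟩ := exists_invol_Q hS
  refine ⟨h1, le_antisymm (h1 _ subset_rfl ⟨s, hs, hs1⟩) ?_, le_antisymm ?_ Subgroup.le_normalizer⟩
  · intro g hg
    rw [Subgroup.mem_normalizer_iff]
    intro x
    refine ⟨conj_mem_Q hS hg, fun h => ?_⟩
    have := conj_mem_Q' hS hg h
    have e : g⁻¹ * (g * x * g⁻¹) * g = x := by group
    rwa [e] at this
  · intro g hg
    have h2 : g * s * g⁻¹ ∈ stabilizer G a := (Subgroup.mem_normalizer_iff.mp hg s).mp (hS.le hs)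
    obtain ⟨h3, h4⟩ := conj_invol (g := g) hs1 hs2
    apply invol_fix_unique hS h3 h4 _ h2
    rw [mul_smul, mul_smul, inv_smul_smul, Q_fix hS hs]

theorem s1119 [Finite G] (hS : IsRankOneSetup G Ω a t Q) :
    (∀ b c : Ω, b ≠ a → c ≠ a → ∃! x : Q, (x : G) • b = c) ∧
      Nat.card Ω = Nat.card Q + 1 ∧
      Nat.card G = Nat.card Q * Nat.card ↥(MulAction.stabilizer G a ⊓ MulAction.stabilizer G (t • a)) * (Nat.card Q + 1) ∧
      (∃ P : Sylow 2 G, (P : Subgroup G) ≤ Q) ∧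
      ∀ g : G, g ∉ MulAction.stabilizer G a → ∃! p : G × G, p.1 ∈ MulAction.stabilizer G a ∧ p.2 ∈ Q ∧ g = p.1 * t * p.2 := by
  refine ⟨fun b c hb hc => ?_, card_Omega hS, card_G hS, exists_sylow_le hS, fun g hg => ?_⟩
  · obtain ⟨q, hq, rfl⟩ := exists_Q_smul hS hb hc
    exact ⟨⟨q, hq⟩, rfl, fun q' h => Subtype.ext (eq_of_mem_Q_of_smul_eq hS q'.2 hq hb h)⟩
  · obtain ⟨x, y, hx, hy, rfl⟩ := exists_canonical hS hg
    refine ⟨(x, y), ⟨hx, hy, rfl⟩, ?_⟩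
    rintro ⟨x', y'⟩ ⟨hx', hy', h⟩
    obtain ⟨rfl, rfl⟩ := canonical_unique hS hx hy hx' hy' h
    rfl

theorem s1121 [Finite G] (hS : IsRankOneSetup G Ω a t Q) :
    (∀ s u : G, s ∈ MulAction.stabilizer G a → s ≠ 1 → s * s = 1 → u ∉ MulAction.stabilizer G a → u ≠ 1 → u * u = 1 → Odd (orderOf (s * u))) ∧
      ∀ u v : G, u ≠ 1 → u * u = 1 → v ≠ 1 → v * v = 1 → ∃ g : G, g * u * g⁻¹ = v :=
  ⟨fun _ _ hs hs1 hs2 hu _ hu2 => odd_orderOf_mul hS hs hs1 hs2 hu hu2,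
    fun _ _ hu1 hu2 hv1 hv2 => invol_conj hS hu1 hu2 hv1 hv2⟩

theorem s1120 [Finite G] (hS : IsRankOneSetup G Ω a t Q)
    (h2 : ∃ x y : G, x ≠ 1 ∧ y ≠ 1 ∧ x ≠ y ∧ x * x = 1 ∧ y * y = 1 ∧ x * y = y * x) :
    Cfsg.pPrimeCore 2 G = (MulAction.stabilizer G a).normalCore := by
  obtain ⟨x, y, hx1, hy1, hxy, hx2, hy2, hc⟩ := h2
  apply le_antisymm
  · apply sSup_le
    rintro M ⟨hM, hMc⟩
    rw [Subgroup.normal_le_normalCore]
    have hModd : Odd (Nat.card M) := Nat.coprime_two_right.mp hMc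
    obtain ⟨c, hxc⟩ := invol_exists_fix hS hx2
    have hyc : y • c = c := fix_of_commute hS hx1 hx2 hxc hc
    have hfix : ∀ m ∈ M, m • c = c := by
      intro m hm
      by_contra hmc
      obtain ⟨h3, h4⟩ := conj_invol (g := m) hy1 hy2
      have h5 : (m * y * m⁻¹) • c ≠ c := by
        intro h
        apply hmc
        apply invol_fix_unique hS h3 h4 _ h
        rw [mul_smul, mul_smul, inv_smul_smul, hyc]
      have hodd := odd_orderOf_mul hS hxc hx1 hx2 h5 h4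
      have hxy2 : x * y * (x * y) = 1 := by
        calc x * y * (x * y) = x * (y * x) * y := by group
          _ = (x * x) * (y * y) := by rw [← hc]; group
          _ = 1 := by rw [hx2, hy2, one_mul]
      have hm1 : (QuotientGroup.mk m : G ⧸ M) = 1 := (QuotientGroup.eq_one_iff m).mpr hm
      have h6 : (QuotientGroup.mk (x * y) : G ⧸ M) = QuotientGroup.mk (x * (m * y * m⁻¹)) := by
        simp [hm1]
      have h7 : (QuotientGroup.mk (x * y) : G ⧸ M) = 1 := by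
        apply eq_one_of_sq_of_odd hodd
        · rw [h6, ← QuotientGroup.mk_pow, pow_orderOf_eq_one, QuotientGroup.mk_one]
        · rw [← QuotientGroup.mk_mul, hxy2, QuotientGroup.mk_one]
      have h8 : x * y = 1 := eq_one_of_sq_of_mem_odd hModd ((QuotientGroup.eq_one_iff _).mp h7) hxy2
      apply hxy
      rw [← invol_inv hx2]
      exact inv_eq_of_mul_eq_one_right h8
    intro m hm
    obtain ⟨g, rfl⟩ := trans hS c a
    have := hfix (g⁻¹ * m * g) (by simpa using hM.conj_mem m hm g⁻¹)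
    rw [mul_smul, mul_smul, inv_smul_eq_iff] at this
    exact this
  · apply le_sSup
    refine ⟨inferInstance, Nat.coprime_two_right.mpr ?_⟩
    have hle : (stabilizer G a).normalCore ≤ stabilizer G a ⊓ stabilizer G (t • a) := by
      intro n hn
      refine ⟨Subgroup.normalCore_le _ hn, ?_⟩
      have := hn t⁻¹
      rw [mem_stabilizer_iff, inv_inv, mul_smul, mul_smul, inv_smul_eq_iff] at this
      exact this
    exact hS.odd_card.of_dvd_nat (Subgroup.card_dvd_of_le hle)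

theorem s1165 (hS : IsRankOneSetup G Ω a t Q)
    (x g h f : G) (hx : x ∈ Q) (hg : g ∈ Q) (hh : h ∈ (MulAction.stabilizer G a ⊓ MulAction.stabilizer G (t • a))) (hf : f ∈ Q)
    (heq : t * x * t = g * h * t * f) :
    (∀ g₁ h₁ f₁ : G, g₁ ∈ Q → h₁ ∈ (MulAction.stabilizer G a ⊓ MulAction.stabilizer G (t • a)) → f₁ ∈ Q → t * x⁻¹ * t = g₁ * h₁ * t * f₁ →
        f₁ = g⁻¹ ∧ h₁ = t * h⁻¹ * t) ∧
      (∀ g₂ h₂ f₂ : G, g₂ ∈ Q → h₂ ∈ (MulAction.stabilizer G a ⊓ MulAction.stabilizer G (t • a)) → f₂ ∈ Q → t * f * t = g₂ * h₂ * t * f₂ →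
        f₂ = x ∧ h₂ = h⁻¹) ∧
      ∀ c ∈ (MulAction.stabilizer G a ⊓ MulAction.stabilizer G (t • a)), ∀ g₃ h₃ f₃ : G, g₃ ∈ Q → h₃ ∈ (MulAction.stabilizer G a ⊓ MulAction.stabilizer G (t • a)) → f₃ ∈ Q →
        t * (c⁻¹ * x * c) * t = g₃ * h₃ * t * f₃ →
          f₃ = (t * c * t)⁻¹ * f * (t * c * t) ∧ h₃ = (t * c * t)⁻¹ * h * c := by
  have tt := hS.mul_self
  have ti := t_inv hS
  refine ⟨fun g₁ h₁ f₁ hg₁ hh₁ hf₁ e => ?_, fun g₂ h₂ f₂ hg₂ hh₂ hf₂ e => ?_,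
    fun c hc g₃ h₃ f₃ hg₃ hh₃ hf₃ e => ?_⟩
  · have e2 : g₁ * h₁ * t * f₁ = f⁻¹ * (t * h⁻¹ * t) * t * g⁻¹ := by
      rw [← e]
      calc t * x⁻¹ * t = (t⁻¹ * x * t⁻¹)⁻¹ := by group
        _ = (g * h * t * f)⁻¹ := by rw [ti, heq]
        _ = f⁻¹ * (t⁻¹ * h⁻¹) * 1 * g⁻¹ := by group
        _ = _ := by rw [ti, ← tt]; group
    obtain ⟨-, h2, h3⟩ := canonical_unique3 hS hg₁ hh₁ hf₁ (Q.inv_mem hf)
      (t_conj_mem_D' hS (Subgroup.inv_mem _ hh)) (Q.inv_mem hg) e2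
    exact ⟨h3, h2⟩
  · have e2 : g₂ * h₂ * t * f₂ = (h⁻¹ * g⁻¹ * h) * h⁻¹ * t * x := by
      rw [← e]
      calc t * f * t = h⁻¹ * g⁻¹ * (g * h * t * f) * t := by group
        _ = h⁻¹ * g⁻¹ * t * x * (t * t) := by rw [← heq]; group
        _ = _ := by rw [tt]; group
    obtain ⟨-, h2, h3⟩ := canonical_unique3 hS hg₂ hh₂ hf₂ (conj_mem_Q' hS hh.1 (Q.inv_mem hg))
      (Subgroup.inv_mem _ hh) hx e2
    exact ⟨h3, h2⟩
  · have hc' := t_conj_mem_D' hS hc
    have e1 : t * (t * c * t) * t = c := by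
      calc t * (t * c * t) * t = (t * t) * c * (t * t) := by group
        _ = c := by rw [tt]; group
    have e0 : t * c = (t * c * t) * t := by rw [mul_assoc (t * c), tt, mul_one]
    have e0' : t * c⁻¹ = (t * c * t)⁻¹ * t := by
      rw [mul_inv_rev, mul_inv_rev, ti, mul_assoc, mul_assoc, tt, mul_one]
    have e0'' : c * t = t * (t * c * t) := by rw [← mul_assoc, ← mul_assoc, tt, one_mul]
    generalize t * c * t = c' at *
    have e2 : g₃ * h₃ * t * f₃ = (c'⁻¹ * g * c') * (c'⁻¹ * h * c) * t * (c'⁻¹ * f * c') := by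
      rw [← e]
      calc t * (c⁻¹ * x * c) * t = (t * c⁻¹) * x * (c * t) := by group
        _ = c'⁻¹ * (t * x * t) * c' := by rw [e0', e0'']; group
        _ = c'⁻¹ * g * h * (t * c') * c'⁻¹ * f * c' := by rw [heq]; group
        _ = _ := by rw [← e0'']; group
    obtain ⟨-, h2, h3⟩ := canonical_unique3 hS hg₃ hh₃ hf₃ (conj_mem_Q' hS hc'.1 hg)
      (Subgroup.mul_mem _ (Subgroup.mul_mem _ (Subgroup.inv_mem _ hc') hh) hc)
      (conj_mem_Q' hS hc'.1 hf) e2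
    exact ⟨h3, h2⟩

theorem s1166 (hS : IsRankOneSetup G Ω a t Q)
    (x y gx hx fx gy hy fy : G) (hxQ : x ∈ Q) (hyQ : y ∈ Q) (hxy : x * y ≠ 1)
    (hgx : gx ∈ Q) (hhx : hx ∈ (MulAction.stabilizer G a ⊓ MulAction.stabilizer G (t • a))) (ex : t * x * t = gx * hx * t * fx)
    (hhy : hy ∈ (MulAction.stabilizer G a ⊓ MulAction.stabilizer G (t • a))) (hfy : fy ∈ Q) (ey : t * y * t = gy * hy * t * fy) :
    fx * gy ≠ 1 ∧
      ∀ gz hz fz g' h' f' : G, gz ∈ Q → hz ∈ (MulAction.stabilizer G a ⊓ MulAction.stabilizer G (t • a)) → fz ∈ Q → t * (fx * gy) * t = gz * hz * t * fz →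
        g' ∈ Q → h' ∈ (MulAction.stabilizer G a ⊓ MulAction.stabilizer G (t • a)) → f' ∈ Q → t * (x * y) * t = g' * h' * t * f' →
          f' = (t * hy * t)⁻¹ * fz * (t * hy * t) * fy ∧ h' = hx * hz * hy := by
  have tt := hS.mul_self
  have hy' := t_conj_mem_D' hS hhy
  have e0 : hy * t = t * (t * hy * t) := by rw [← mul_assoc, ← mul_assoc, tt, one_mul]
  generalize t * hy * t = k at *
  have e1 : t * (x * y) * t = gx * hx * (t * (fx * gy) * t) * k * fy := by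
    calc t * (x * y) * t = t * x * (t * t) * y * t := by rw [tt]; group
      _ = (t * x * t) * (t * y * t) := by group
      _ = gx * hx * t * (fx * gy) * (hy * t) * fy := by rw [ex, ey]; group
      _ = _ := by rw [e0]; group
  constructor
  · intro h
    rw [h, mul_one, tt, mul_one] at e1
    apply hxy
    apply eq_one_of_mem_Q_of_fix_b hS (Q.mul_mem hxQ hyQ)
    have h1 : (t * (x * y) * t) • a = a := by
      rw [e1, mul_smul, mul_smul, mul_smul, Q_fix hS hfy, (mem_D.mp hy').1, (mem_D.mp hhx).1,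
        Q_fix hS hgx]
    rw [mul_smul, mul_smul] at h1
    rw [← tta hS ((x * y) • t • a), h1]
  · intro gz hz fz g' h' f' hgz hhz hfz ez hg' hh' hf' e'
    have e2 : g' * h' * t * f' = (gx * (hx * gz * hx⁻¹)) * (hx * hz * hy) * t * (k⁻¹ * fz * k * fy) := by
      rw [← e', e1, ez]
      calc gx * hx * (gz * hz * t * fz) * k * fy
          = gx * hx * gz * hz * (t * k) * (k⁻¹ * fz * k * fy) := by group
        _ = _ := by rw [← e0]; group
    obtain ⟨-, h2, h3⟩ := canonical_unique3 hS hg' hh' hf'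
      (Q.mul_mem hgx (conj_mem_Q hS hhx.1 hgz))
      (Subgroup.mul_mem _ (Subgroup.mul_mem _ hhx hhz) hhy)
      (Q.mul_mem (conj_mem_Q' hS hy'.1 hfz) hfy) e2
    exact ⟨h3, h2⟩

end RankOne
end H21
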