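import Mathlib
import Cfsg.Prelude.Def_LieRecognition
import Cfsg.Agent.H21.RankOne1

/-! The rank-one set-up: the set `K`, the structure equation, centralisers. -/

set_option autoImplicit false

namespace H21
namespace RankOne

open Cfsg MulAction

variable {G Ω : Type*} [Group G] [MulAction G Ω] {a : Ω} {t : G} {Q : Subgroup G}

theorem mul_t_invol (hS : IsRankOneSetup G Ω a t Q) {k : G}
    (hk : k ∈ invertedBy (stabilizer G a ⊓ stabilizer G (t • a)) t) :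
    k * t * (k * t) = 1 ∧ (k * t) • a = t • a := by
  constructor
  · have := hk.2
    rw [t_inv hS] at this
    rw [mul_assoc k, ← mul_assoc t, this, mul_inv_cancel]
  · rw [mul_smul, (mem_D.mp hk.1).2]

theorem mul_t_mem_K (hS : IsRankOneSetup G Ω a t Q) {u : G} (hu2 : u * u = 1)
    (hu : u • a = t • a) : u * t ∈ invertedBy (stabilizer G a ⊓ stabilizer G (t • a)) t := by
  refine ⟨mem_D.mpr ⟨?_, ?_⟩, ?_⟩
  · rw [mul_smul, ← hu, ← mul_smul, hu2, one_smul]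
  · rw [mul_smul, tta hS, hu]
  · rw [mul_inv_rev, invol_inv hu2, t_inv hS, mul_assoc, mul_assoc, hS.mul_self, mul_one]

theorem t_mul_K (hS : IsRankOneSetup G Ω a t Q) {k : G}
    (hk : k ∈ invertedBy (stabilizer G a ⊓ stabilizer G (t • a)) t) : t * k = k⁻¹ * t := by
  rw [← hk.2]; group

theorem t_mul_K_inv (hS : IsRankOneSetup G Ω a t Q) {k : G}
    (hk : k ∈ invertedBy (stabilizer G a ⊓ stabilizer G (t • a)) t) : t * k⁻¹ = k * t := by
  have := t_mul_K hS (inv_mem_invertedBy hk)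
  rwa [inv_inv] at this

/-- an element of `D` inverted by an involution moving `a` and centralising an involution of `G_a`
is trivial -/
theorem eq_one_of_inverted_of_comm [Finite G] (hS : IsRankOneSetup G Ω a t Q) {x u s : G}
    (hx : x ∈ stabilizer G a ⊓ stabilizer G (t • a)) (hu2 : u * u = 1) (hu : u • a ≠ a)
    (hux : u * x * u⁻¹ = x⁻¹) (hs : s • a = a) (hs1 : s ≠ 1) (hs2 : s * s = 1)
    (hc : Commute s x) : x = 1 := by
  have hodd := odd_orderOf_mul hS hs hs1 hs2 hu hu2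
  have h1 : (s * u) * x * (s * u)⁻¹ = x⁻¹ := by
    calc (s * u) * x * (s * u)⁻¹ = s * (u * x * u⁻¹) * s⁻¹ := by group
      _ = x⁻¹ := by rw [hux, hc.inv_right.eq]; group
  have h2 := eq_inv_of_odd_inverts hodd (pow_orderOf_eq_one _) h1
  apply eq_one_of_mem_D_sq hS hx
  nth_rewrite 1 [h2]
  exact inv_mul_cancel x

theorem K_conj_inj [Finite G] (hS : IsRankOneSetup G Ω a t Q) {s k l : G}
    (hs : s ∈ involutionsIn (stabilizer G a : Set G))
    (hk : k ∈ invertedBy (stabilizer G a ⊓ stabilizer G (t • a)) t)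
    (hl : l ∈ invertedBy (stabilizer G a ⊓ stabilizer G (t • a)) t)
    (h : k⁻¹ * s * k = l⁻¹ * s * l) : k = l := by
  have h1 : k * l⁻¹ = 1 := by
    obtain ⟨h2, h3⟩ := mul_t_invol hS hk
    apply eq_one_of_inverted_of_comm hS (Subgroup.mul_mem _ hk.1 (Subgroup.inv_mem _ hl.1)) h2
      (by rw [h3]; exact ta_ne hS) _ hs.1 hs.2.1 hs.2.2
    · show s * (k * l⁻¹) = k * l⁻¹ * s
      calc s * (k * l⁻¹) = k * (k⁻¹ * s * k) * l⁻¹ := by group
        _ = k * l⁻¹ * s := by rw [h]; group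
    · calc k * t * (k * l⁻¹) * (k * t)⁻¹ = k * (t * k * t⁻¹) * (t * l⁻¹ * t⁻¹) * k⁻¹ := by group
        _ = (k * l⁻¹)⁻¹ := by rw [hk.2, (inv_mem_invertedBy hl).2]; group
  exact mul_inv_eq_one.mp h1

theorem eq_one_of_K_comm [Finite G] (hS : IsRankOneSetup G Ω a t Q) {s k : G}
    (hs : s ∈ involutionsIn (stabilizer G a : Set G))
    (hk : k ∈ invertedBy (stabilizer G a ⊓ stabilizer G (t • a)) t)
    (h : Commute s k) : k = 1 :=
  K_conj_inj hS hs hk (one_mem_invertedBy _ _) (by rw [mul_assoc, h.eq]; group)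

theorem conj_mem_involutionsIn {s h : G} (hh : h • a = a)
    (hs : s ∈ involutionsIn (stabilizer G a : Set G)) :
    h * s * h⁻¹ ∈ involutionsIn (stabilizer G a : Set G) :=
  ⟨(stabilizer G a).mul_mem ((stabilizer G a).mul_mem hh hs.1) ((stabilizer G a).inv_mem hh),
    conj_invol hs.2.1 hs.2.2⟩

theorem conj_mem_involutionsIn' {s h : G} (hh : h • a = a)
    (hs : s ∈ involutionsIn (stabilizer G a : Set G)) :
    h⁻¹ * s * h ∈ involutionsIn (stabilizer G a : Set G) := by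
  have := conj_mem_involutionsIn (h := h⁻¹) ((stabilizer G a).inv_mem hh) hs
  rwa [inv_inv] at this

theorem card_K [Finite G] (hS : IsRankOneSetup G Ω a t Q) :
    Nat.card (invertedBy (stabilizer G a ⊓ stabilizer G (t • a)) t) =
      Nat.card (involutionsIn (stabilizer G a : Set G)) := by
  let T := {u : G // u * u = 1 ∧ u • a ≠ a}
  have h1 : Nat.card (Q × invertedBy (stabilizer G a ⊓ stabilizer G (t • a)) t) = Nat.card T := by
    refine Nat.card_congr (Equiv.ofBijective (fun p => (⟨p.1.1 * (p.2.1 * t) * p.1.1⁻¹, ?_, ?_⟩ : T))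
      ⟨?_, ?_⟩)
    · calc p.1.1 * (p.2.1 * t) * p.1.1⁻¹ * (p.1.1 * (p.2.1 * t) * p.1.1⁻¹)
          = p.1.1 * (p.2.1 * t * (p.2.1 * t)) * p.1.1⁻¹ := by group
        _ = 1 := by rw [(mul_t_invol hS p.2.2).1]; group
    · rw [mul_smul, mul_smul, Q_fix hS (Q.inv_mem p.1.2), (mul_t_invol hS p.2.2).2]
      exact smul_ne_of_fix (Q_fix hS p.1.2) (ta_ne hS)
    · rintro ⟨⟨q, hq⟩, ⟨k, hk⟩⟩ ⟨⟨q', hq'⟩, ⟨k', hk'⟩⟩ h
      have h' : q * (k * t) * q⁻¹ = q' * (k' * t) * q'⁻¹ := congrArg Subtype.val h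
      have e : q = q' := by
        apply eq_of_mem_Q_of_smul_eq hS hq hq' (ta_ne hS)
        have : (q * (k * t) * q⁻¹) • a = (q' * (k' * t) * q'⁻¹) • a := by rw [h']
        rwa [mul_smul, mul_smul, Q_fix hS (Q.inv_mem hq), (mul_t_invol hS hk).2, mul_smul,
          mul_smul, Q_fix hS (Q.inv_mem hq'), (mul_t_invol hS hk').2] at this
      subst e
      have : k = k' := mul_right_cancel (mul_left_cancel (mul_right_cancel h'))
      subst this
      rfl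
    · rintro ⟨u, hu2, hu⟩
      obtain ⟨q, hq, hq2⟩ := exists_Q_smul_b hS hu
      have h3 : q⁻¹ * u * q * (q⁻¹ * u * q) = 1 := by
        calc q⁻¹ * u * q * (q⁻¹ * u * q) = q⁻¹ * (u * u) * q := by group
          _ = 1 := by rw [hu2]; group
      have h4 : (q⁻¹ * u * q) • a = t • a := by
        rw [mul_smul, mul_smul, Q_fix hS hq, ← hq2, inv_smul_smul]
      refine ⟨⟨⟨q, hq⟩, ⟨_, mul_t_mem_K hS h3 h4⟩⟩, Subtype.ext ?_⟩
      show q * (q⁻¹ * u * q * t * t) * q⁻¹ = u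
      rw [mul_assoc _ t t, hS.mul_self]; group
  have h2 : Nat.card (Q × involutionsIn (stabilizer G a : Set G)) = Nat.card T := by
    have hfix : ∀ q s : G, s • a = a → (q * (t * s * t⁻¹) * q⁻¹) • q • t • a = q • t • a := by
      intro q s hs
      rw [mul_smul, mul_smul, inv_smul_smul, mul_smul, mul_smul, inv_smul_smul, hs]
    refine Nat.card_congr (Equiv.ofBijective
      (fun p => (⟨p.1.1 * (t * p.2.1 * t⁻¹) * p.1.1⁻¹, ?_, ?_⟩ : T)) ⟨?_, ?_⟩)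
    · obtain ⟨h3, h4⟩ := conj_invol (g := t) p.2.2.2.1 p.2.2.2.2
      exact (conj_invol h3 h4).2
    · obtain ⟨h3, h4⟩ := conj_invol (g := t) p.2.2.2.1 p.2.2.2.2
      obtain ⟨h5, h6⟩ := conj_invol (g := p.1.1) h3 h4
      intro h
      exact smul_ne_of_fix (Q_fix hS p.1.2) (ta_ne hS)
        (invol_fix_unique hS h5 h6 (hfix _ _ p.2.2.1) h)
    · rintro ⟨⟨q, hq⟩, ⟨s, hs⟩⟩ ⟨⟨q', hq'⟩, ⟨s', hs'⟩⟩ h
      have h' : q * (t * s * t⁻¹) * q⁻¹ = q' * (t * s' * t⁻¹) * q'⁻¹ := congrArg Subtype.val h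
      obtain ⟨h3, h4⟩ := conj_invol (g := t) hs.2.1 hs.2.2
      obtain ⟨h5, h6⟩ := conj_invol (g := q) h3 h4
      have e : q = q' := by
        apply eq_of_mem_Q_of_smul_eq hS hq hq' (ta_ne hS)
        apply invol_fix_unique hS h5 h6 (hfix _ _ hs.1)
        rw [h']
        exact hfix _ _ hs'.1
      subst e
      have : s = s' := mul_left_cancel (mul_right_cancel (mul_left_cancel (mul_right_cancel h')))
      subst this
      rfl
    · rintro ⟨u, hu2, hu⟩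
      obtain ⟨c, hc⟩ := invol_exists_fix hS hu2
      have hca : c ≠ a := by rintro rfl; exact hu hc
      obtain ⟨q, hq, rfl⟩ := exists_Q_smul_b hS hca
      have hu1 : u ≠ 1 := by rintro rfl; exact hu (one_smul _ _)
      refine ⟨⟨⟨q, hq⟩, ⟨(q * t)⁻¹ * u * (q * t)⁻¹⁻¹, ?_, conj_invol hu1 hu2⟩⟩, Subtype.ext ?_⟩
      · show ((q * t)⁻¹ * u * (q * t)⁻¹⁻¹) • a = a
        rw [inv_inv, mul_smul, mul_smul, mul_smul q, hc, ← mul_smul q, inv_smul_smul]
      · show q * (t * ((q * t)⁻¹ * u * (q * t)⁻¹⁻¹) * t⁻¹) * q⁻¹ = u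
        group
  rw [← h2, Nat.card_prod, Nat.card_prod] at h1
  exact Nat.eq_of_mul_eq_mul_left Nat.card_pos h1

theorem exists_K_conj [Finite G] (hS : IsRankOneSetup G Ω a t Q) {s s' : G}
    (hs : s ∈ involutionsIn (stabilizer G a : Set G))
    (hs' : s' ∈ involutionsIn (stabilizer G a : Set G)) :
    ∃ k ∈ invertedBy (stabilizer G a ⊓ stabilizer G (t • a)) t, k⁻¹ * s * k = s' := by
  let f : invertedBy (stabilizer G a ⊓ stabilizer G (t • a)) t →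
      involutionsIn (stabilizer G a : Set G) :=
    fun k => ⟨k.1⁻¹ * s * k.1, conj_mem_involutionsIn' k.2.1.1 hs⟩
  have hinj : Function.Injective f := by
    rintro ⟨k, hk⟩ ⟨l, hl⟩ h
    exact Subtype.ext (K_conj_inj hS hs hk hl (congrArg Subtype.val h))
  have hbij : Function.Bijective f := hinj.bijective_of_nat_card_le (card_K hS).ge
  obtain ⟨k, hk⟩ := hbij.2 ⟨s', hs'⟩
  exact ⟨k.1, k.2, congrArg Subtype.val hk⟩

theorem s1122 [Finite G] (hS : IsRankOneSetup G Ω a t Q) :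
    Nat.card (Cfsg.invertedBy (MulAction.stabilizer G a ⊓ MulAction.stabilizer G (t • a)) t) = Nat.card (Cfsg.involutionsIn (MulAction.stabilizer G a : Set G)) ∧
      ∀ s ∈ Cfsg.involutionsIn (MulAction.stabilizer G a : Set G), ∀ s' ∈ Cfsg.involutionsIn (MulAction.stabilizer G a : Set G),
        ∃ k ∈ Cfsg.invertedBy (MulAction.stabilizer G a ⊓ MulAction.stabilizer G (t • a)) t, k⁻¹ * s * k = s' :=
  ⟨card_K hS, fun _ hs _ hs' => exists_K_conj hS hs hs'⟩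

theorem exists_invol_H [Finite G] (hS : IsRankOneSetup G Ω a t Q) :
    ∃ s, s ∈ involutionsIn (stabilizer G a : Set G) := by
  obtain ⟨s, hs, h1, h2⟩ := exists_invol_Q hS
  exact ⟨s, hS.le hs, h1, h2⟩

theorem exists_struct [Finite G] (hS : IsRankOneSetup G Ω a t Q) :
    ∃ s r : G, s ∈ involutionsIn (stabilizer G a : Set G) ∧ r ∈ Q ∧ t * s * t = r⁻¹ * t * r := by
  obtain ⟨s, hs⟩ := exists_invol_H hS
  obtain ⟨h3, h4⟩ := conj_invol (g := t) hs.2.1 hs.2.2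
  have h5 : (t * s * t⁻¹) • a ≠ a := by
    intro h
    apply ta_ne hS
    apply invol_fix_unique hS h3 h4 _ h
    rw [mul_smul, mul_smul, inv_smul_smul, hs.1]
  obtain ⟨r, hr, hr2⟩ := exists_Q_smul hS h5 (ta_ne hS)
  have h6 : (r * (t * s * t⁻¹) * r⁻¹) • a = t • a := by
    rw [mul_smul, mul_smul, Q_fix hS (Q.inv_mem hr), hr2]
  have hk := mul_t_mem_K hS (conj_invol h3 h4).2 h6
  obtain ⟨l, hl, hl2⟩ := exists_sqrt_invertedBy hS.odd_card (inv_mem_invertedBy hk)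
  have e1 : t * s * t = r⁻¹ * (l * l)⁻¹ * t * r := by
    rw [hl2, inv_inv, mul_assoc r⁻¹, mul_assoc _ t t, hS.mul_self, t_inv hS]; group
  refine ⟨l⁻¹ * s * l, l * r * l⁻¹, conj_mem_involutionsIn' hl.1.1 hs, conj_mem_Q hS hl.1.1 hr, ?_⟩
  calc t * (l⁻¹ * s * l) * t = (t * l⁻¹) * s * (l⁻¹⁻¹ * t) := by group
    _ = l * (t * s * t) * l⁻¹ := by
      rw [t_mul_K_inv hS hl, ← t_mul_K hS (inv_mem_invertedBy hl)]; group
    _ = l * r⁻¹ * l⁻¹ * (l⁻¹ * t) * r * l⁻¹ := by rw [e1]; group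
    _ = _ := by rw [← t_mul_K hS hl]; group

theorem struct_unique [Finite G] (hS : IsRankOneSetup G Ω a t Q) {s r s' r' : G}
    (hs : s ∈ involutionsIn (stabilizer G a : Set G)) (hr : r ∈ Q) (e : t * s * t = r⁻¹ * t * r)
    (hs' : s' ∈ involutionsIn (stabilizer G a : Set G)) (hr' : r' ∈ Q)
    (e' : t * s' * t = r'⁻¹ * t * r') : s = s' ∧ r = r' := by
  obtain ⟨l, hl, rfl⟩ := exists_K_conj hS hs hs'
  have e2 : r'⁻¹ * t * r' = ((l * r * l⁻¹)⁻¹ * (l * l)) * t * (l * r * l⁻¹) := by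
    rw [← e']
    calc t * (l⁻¹ * s * l) * t = (t * l⁻¹) * s * (l⁻¹⁻¹ * t) := by group
      _ = l * (t * s * t) * l⁻¹ := by
        rw [t_mul_K_inv hS hl, ← t_mul_K hS (inv_mem_invertedBy hl)]; group
      _ = l * r⁻¹ * (t * l⁻¹) * (l * r * l⁻¹) := by rw [e]; group
      _ = _ := by rw [t_mul_K_inv hS hl]; group
  have hr'' := conj_mem_Q hS hl.1.1 hr
  obtain ⟨h1, h2⟩ := canonical_unique hS (Q_fix hS (Q.inv_mem hr')) hr'
    (x' := (l * r * l⁻¹)⁻¹ * (l * l))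
    ((stabilizer G a).mul_mem (hS.le (Q.inv_mem hr'')) ((stabilizer G a).mul_mem hl.1.1 hl.1.1))
    hr'' e2
  rw [← h2] at h1
  have h3 : l = 1 := eq_one_of_mem_D_sq hS hl.1 (left_eq_mul.mp h1)
  subst h3
  simp at h2
  exact ⟨by simp, h2.symm⟩

theorem s1123 [Finite G] (hS : IsRankOneSetup G Ω a t Q) :
    ∃! p : G × G, p.1 ∈ Cfsg.involutionsIn (MulAction.stabilizer G a : Set G) ∧ p.2 ∈ Q ∧
      t * p.1 * t = p.2⁻¹ * t * p.2 := by
  obtain ⟨s, r, hs, hr, e⟩ := exists_struct hS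
  refine ⟨(s, r), ⟨hs, hr, e⟩, ?_⟩
  rintro ⟨s', r'⟩ ⟨hs', hr', e'⟩
  obtain ⟨rfl, rfl⟩ := struct_unique hS hs hr e hs' hr' e'
  rfl

theorem comm_s_of_comm_t [Finite G] (hS : IsRankOneSetup G Ω a t Q) {s r d : G}
    (hs : s ∈ involutionsIn (stabilizer G a : Set G)) (hr : r ∈ Q) (e : t * s * t = r⁻¹ * t * r)
    (hd : d • a = a) (hdt : t * d = d * t) : s * d = d * s ∧ r * d = d * r := by
  have h1 : d * t * d⁻¹ = t := by rw [← hdt]; group
  have e' : t * (d * s * d⁻¹) * t = (d * r * d⁻¹)⁻¹ * t * (d * r * d⁻¹) := by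
    calc t * (d * s * d⁻¹) * t = (d * t * d⁻¹) * (d * s * d⁻¹) * (d * t * d⁻¹) := by rw [h1]
      _ = d * (t * s * t) * d⁻¹ := by group
      _ = (d * r * d⁻¹)⁻¹ * (d * t * d⁻¹) * (d * r * d⁻¹) := by rw [e]; group
      _ = _ := by rw [h1]
  obtain ⟨h2, h3⟩ := struct_unique hS hs hr e (conj_mem_involutionsIn hd hs) (conj_mem_Q hS hd hr) e'
  exact ⟨eq_mul_inv_iff_mul_eq.mp h2, eq_mul_inv_iff_mul_eq.mp h3⟩

theorem exists_VK (hS : IsRankOneSetup G Ω a t Q) {d : G}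
    (hd : d ∈ stabilizer G a ⊓ stabilizer G (t • a)) :
    ∃ v k : G, v ∈ stabilizer G a ⊓ stabilizer G (t • a) ∧ t * v = v * t ∧
      k ∈ invertedBy (stabilizer G a ⊓ stabilizer G (t • a)) t ∧ d = v * k :=
  exists_cent_mul_inverted hS.mul_self hS.odd_card (fun _ hx => t_conj_mem_D hS hx) hd

theorem comm_t_of_comm_s [Finite G] (hS : IsRankOneSetup G Ω a t Q) {s r d : G}
    (hs : s ∈ involutionsIn (stabilizer G a : Set G)) (hr : r ∈ Q) (e : t * s * t = r⁻¹ * t * r)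
    (hd : d ∈ stabilizer G a ⊓ stabilizer G (t • a)) (hds : s * d = d * s) : t * d = d * t := by
  obtain ⟨v, k, hv, hvt, hk, rfl⟩ := exists_VK hS hd
  have h1 := (comm_s_of_comm_t hS hs hr e hv.1 hvt).1
  have h2 : k = 1 := by
    apply eq_one_of_K_comm hS hs hk
    show s * k = k * s
    calc s * k = v⁻¹ * (v * s) * k := by group
      _ = v⁻¹ * (s * (v * k)) := by rw [← h1]; group
      _ = k * s := by rw [hds]; group
  rw [h2, mul_one, hvt]

theorem s1127 [Finite G] (hS : IsRankOneSetup G Ω a t Q) :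
    (∀ s r : G, s ∈ Cfsg.involutionsIn (MulAction.stabilizer G a : Set G) → r ∈ Q → t * s * t = r⁻¹ * t * r →
        (MulAction.stabilizer G a ⊓ MulAction.stabilizer G (t • a)) ⊓ Subgroup.centralizer {t} = (MulAction.stabilizer G a ⊓ MulAction.stabilizer G (t • a)) ⊓ Subgroup.centralizer {s}) ∧
      (MulAction.stabilizer G a ⊓ MulAction.stabilizer G (t • a)) ⊓ Subgroup.centralizer {t} ⊓ Subgroup.centralizer (Cfsg.invertedBy (MulAction.stabilizer G a ⊓ MulAction.stabilizer G (t • a)) t) =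
        (MulAction.stabilizer G a ⊓ MulAction.stabilizer G (t • a)) ⊓ Subgroup.centralizer (Cfsg.involutionsIn (MulAction.stabilizer G a : Set G)) := by
  constructor
  · intro s r hs hr e
    ext d
    rw [mem_inf_centralizer_singleton, mem_inf_centralizer_singleton]
    exact ⟨fun h => ⟨h.1, (comm_s_of_comm_t hS hs hr e h.1.1 h.2).1⟩,
      fun h => ⟨h.1, comm_t_of_comm_s hS hs hr e h.1 h.2⟩⟩
  · obtain ⟨s, r, hs, hr, e⟩ := exists_struct hS
    ext d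
    rw [Subgroup.mem_inf, mem_inf_centralizer_singleton, Subgroup.mem_centralizer_iff,
      Subgroup.mem_inf (p := stabilizer G a ⊓ stabilizer G (t • a)), Subgroup.mem_centralizer_iff]
    constructor
    · rintro ⟨⟨hd, hdt⟩, hK⟩
      refine ⟨hd, fun s' hs' => ?_⟩
      obtain ⟨k, hk, rfl⟩ := exists_K_conj hS hs hs'
      have h1 : Commute s d := (comm_s_of_comm_t hS hs hr e hd.1 hdt).1
      have h2 : Commute k d := hK k hk
      exact ((h2.inv_left.mul_left h1).mul_left h2).eq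
    · rintro ⟨hd, hI⟩
      have hdt := comm_t_of_comm_s hS hs hr e hd (hI s hs)
      refine ⟨⟨hd, hdt⟩, fun k hk => ?_⟩
      have h1 : d * k * d⁻¹ = k := by
        apply K_conj_inj hS hs (conj_mem_invertedBy_of_comm hd hdt hk) hk
        have h2 := hI s hs
        have h3 := hI _ (conj_mem_involutionsIn' hk.1.1 hs)
        calc (d * k * d⁻¹)⁻¹ * s * (d * k * d⁻¹) = d * k⁻¹ * d⁻¹ * (s * d) * k * d⁻¹ := by group
          _ = d * (k⁻¹ * s * k) * d⁻¹ := by rw [h2]; group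
          _ = k⁻¹ * s * k := by rw [← h3]; group
      exact (mul_inv_eq_iff_eq_mul.mp h1).symm

/-- `C_Q(Y)` is transitive on the fixed points of `Y` other than `a` -/
theorem exists_Q_cent_smul (hS : IsRankOneSetup G Ω a t Q) {Y : Set G} (hY : ∀ y ∈ Y, y • a = a)
    {c c' : Ω} (hc : c ≠ a) (hc' : c' ≠ a) (h1 : ∀ y ∈ Y, y • c = c) (h2 : ∀ y ∈ Y, y • c' = c') :
    ∃ q ∈ Q, q ∈ Subgroup.centralizer Y ∧ q • c = c' := by
  obtain ⟨q, hq, rfl⟩ := exists_Q_smul hS hc hc'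
  refine ⟨q, hq, fun y hy => ?_, rfl⟩
  have : y * q * y⁻¹ = q := by
    apply eq_of_mem_Q_of_smul_eq hS (conj_mem_Q hS (hY y hy) hq) hq hc
    have h3 : y⁻¹ • c = c := (stabilizer G c).inv_mem (h1 y hy)
    rw [mul_smul, mul_smul, h3, h2 y hy]
  exact mul_inv_eq_iff_eq_mul.mp this

theorem exists_cent_smul_fix (hS : IsRankOneSetup G Ω a t Q) {X : Set G} {e c c' : Ω}
    (he : ∀ x ∈ X, x • e = e) (hc : c ≠ e) (hc' : c' ≠ e) (h1 : ∀ x ∈ X, x • c = c)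
    (h2 : ∀ x ∈ X, x • c' = c') :
    ∃ g ∈ Subgroup.centralizer X, g • e = e ∧ g • c = c' := by
  obtain ⟨h, rfl⟩ := trans hS a e
  obtain ⟨q, hq, hqc, hq2⟩ := exists_Q_cent_smul hS (Y := (fun x => h⁻¹ * x * h) '' X)
    (c := h⁻¹ • c) (c' := h⁻¹ • c')
    (by rintro _ ⟨x, hx, rfl⟩; rw [mul_smul, mul_smul, he x hx, inv_smul_smul])
    (by intro h3; apply hc; rw [← h3, smul_inv_smul])
    (by intro h3; apply hc'; rw [← h3, smul_inv_smul])
    (by rintro _ ⟨x, hx, rfl⟩; rw [mul_smul, mul_smul, smul_inv_smul, h1 x hx])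
    (by rintro _ ⟨x, hx, rfl⟩; rw [mul_smul, mul_smul, smul_inv_smul, h2 x hx])
  refine ⟨h * q * h⁻¹, fun x hx => ?_, ?_, ?_⟩
  · have := hqc _ ⟨x, hx, rfl⟩
    calc x * (h * q * h⁻¹) = h * (h⁻¹ * x * h * q) * h⁻¹ := by group
      _ = h * q * h⁻¹ * x := by rw [this]; group
  · rw [mul_smul, mul_smul, inv_smul_smul, Q_fix hS hq]
  · rw [mul_smul, mul_smul, hq2, smul_inv_smul]

theorem fix_smul_of_cent {X : Set G} {g : G} (hg : g ∈ Subgroup.centralizer X) {c : Ω}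
    (hc : ∀ x ∈ X, x • c = c) : ∀ x ∈ X, x • g • c = g • c := by
  intro x hx
  rw [← mul_smul, hg x hx, mul_smul, hc x hx]

theorem exists_cent_smul (hS : IsRankOneSetup G Ω a t Q) {X : Set G}
    (h3 : ∃ b c d : Ω, b ≠ c ∧ b ≠ d ∧ c ≠ d ∧ ∀ x ∈ X, x • b = b ∧ x • c = c ∧ x • d = d)
    {p p' : Ω} (h1 : ∀ x ∈ X, x • p = p) (h2 : ∀ x ∈ X, x • p' = p') :
    ∃ g ∈ Subgroup.centralizer X, g • p = p' := by
  obtain ⟨b, c, d, hbc, hbd, hcd, h⟩ := h3
  obtain ⟨e, he, hp, hp'⟩ : ∃ e : Ω, (∀ x ∈ X, x • e = e) ∧ p ≠ e ∧ p' ≠ e := by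
    by_cases hb : p ≠ b ∧ p' ≠ b
    · exact ⟨b, fun x hx => (h x hx).1, hb⟩
    by_cases hc : p ≠ c ∧ p' ≠ c
    · exact ⟨c, fun x hx => (h x hx).2.1, hc⟩
    refine ⟨d, fun x hx => (h x hx).2.2, ?_⟩
    rw [not_and_or, not_not, not_not] at hb hc
    rcases hb with rfl | rfl <;> rcases hc with rfl | rfl
    · exact absurd rfl hbc
    · exact ⟨hbd, hcd⟩
    · exact ⟨hcd, hbd⟩
    · exact absurd rfl hbc
  obtain ⟨g, hg, -, hg2⟩ := exists_cent_smul_fix hS he hp hp' h1 h2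
  exact ⟨g, hg, hg2⟩

theorem cent_two_trans (hS : IsRankOneSetup G Ω a t Q) {X : Set G}
    (h3 : ∃ b c d : Ω, b ≠ c ∧ b ≠ d ∧ c ≠ d ∧ ∀ x ∈ X, x • b = b ∧ x • c = c ∧ x • d = d)
    {b₁ b₂ c₁ c₂ : Ω} (hb₁ : ∀ x ∈ X, x • b₁ = b₁) (hb₂ : ∀ x ∈ X, x • b₂ = b₂)
    (hc₁ : ∀ x ∈ X, x • c₁ = c₁) (hc₂ : ∀ x ∈ X, x • c₂ = c₂) (hb : b₁ ≠ b₂) (hc : c₁ ≠ c₂) :
    ∃ g ∈ Subgroup.centralizer X, g • b₁ = c₁ ∧ g • b₂ = c₂ := by
  obtain ⟨g, hg, rfl⟩ := exists_cent_smul hS h3 hb₁ hc₁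
  obtain ⟨g', hg', h1, h2⟩ := exists_cent_smul_fix hS (c := g • b₂) hc₁
    (fun h => hb (MulAction.injective g h).symm) hc.symm (fix_smul_of_cent hg hb₂) hc₂
  exact ⟨g' * g, Subgroup.mul_mem _ hg' hg, by rw [mul_smul, h1], by rw [mul_smul, h2]⟩

theorem exists_invol_cent [Finite G] (hS : IsRankOneSetup G Ω a t Q) {X : Set G}
    (hX : ∀ x ∈ X, x • a = a)
    (h3 : ∃ b c d : Ω, b ≠ c ∧ b ≠ d ∧ c ≠ d ∧ ∀ x ∈ X, x • b = b ∧ x • c = c ∧ x • d = d) :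
    ∃ z ∈ Q, z ∈ Subgroup.centralizer X ∧ z ≠ 1 ∧ z * z = 1 := by
  obtain ⟨b, c, d, hbc, -, -, h⟩ := id h3
  obtain ⟨g, hg, hg1, hg2⟩ := cent_two_trans hS h3 (fun x hx => (h x hx).1)
    (fun x hx => (h x hx).2.1) (fun x hx => (h x hx).2.1) (fun x hx => (h x hx).1) hbc hbc.symm
  have hno : ¬ Odd (orderOf g) := by
    rintro ⟨m, hm⟩
    have h1 := eq_pow_sq_of_odd (x := g) (m := m) (by rw [← hm, pow_orderOf_eq_one])
    have h2 : g * g ∈ stabilizer G b := by rw [mem_stabilizer_iff, mul_smul, hg1, hg2]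
    have h4 : g • b = b := by rw [← h1]; exact Subgroup.pow_mem _ h2 _
    exact hbc (h4.symm.trans hg1)
  obtain ⟨m, h1, h2⟩ := exists_invol_pow_of_not_odd (isOfFinOrder_of_finite g) hno
  have hz : g ^ m ∈ Subgroup.centralizer X := Subgroup.pow_mem _ hg m
  obtain ⟨e, he⟩ := invol_exists_fix hS h2
  have he' : ∀ x ∈ X, x • e = e := fun x hx => fix_of_commute hS h1 h2 he (hz x hx).symm
  obtain ⟨k, hk, hke⟩ := exists_cent_smul hS h3 he' hX
  obtain ⟨h4, h5⟩ := conj_invol (g := k) h1 h2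
  refine ⟨k * g ^ m * k⁻¹, invol_mem_Q hS ?_ h5,
    Subgroup.mul_mem _ (Subgroup.mul_mem _ hk hz) (Subgroup.inv_mem _ hk), h4, h5⟩
  rw [← hke, mul_smul, mul_smul, inv_smul_smul, he]

theorem s1125 [Finite G] (hS : IsRankOneSetup G Ω a t Q)
    (X : Set G) (hX : X ⊆ ((MulAction.stabilizer G a ⊓ MulAction.stabilizer G (t • a)) : Set G))
    (h3 : ∃ b c d : Ω, b ≠ c ∧ b ≠ d ∧ c ≠ d ∧ ∀ x ∈ X, x • b = b ∧ x • c = c ∧ x • d = d) :
    (∀ b₁ b₂ c₁ c₂ : Ω, (∀ x ∈ X, x • b₁ = b₁ ∧ x • b₂ = b₂ ∧ x • c₁ = c₁ ∧ x • c₂ = c₂) →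
        b₁ ≠ b₂ → c₁ ≠ c₂ → ∃ g ∈ Subgroup.centralizer X, g • b₁ = c₁ ∧ g • b₂ = c₂) ∧
      Even (Nat.card ↥(Subgroup.centralizer X ⊓ Q)) ∧
      (Subgroup.centralizer X ⊓ Q) ⊔ (Subgroup.centralizer X ⊓ (MulAction.stabilizer G a ⊓ MulAction.stabilizer G (t • a))) = Subgroup.centralizer X ⊓ MulAction.stabilizer G a := by
  have hXa : ∀ x ∈ X, x • a = a := fun x hx => (hX hx).1
  have hXb : ∀ x ∈ X, x • t • a = t • a := fun x hx => (hX hx).2
  refine ⟨fun b₁ b₂ c₁ c₂ h hb hc => cent_two_trans hS h3 (fun x hx => (h x hx).1)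
    (fun x hx => (h x hx).2.1) (fun x hx => (h x hx).2.2.1) (fun x hx => (h x hx).2.2.2) hb hc,
    ?_, le_antisymm (sup_le (inf_le_inf_left _ hS.le) (inf_le_inf_left _ inf_le_left)) ?_⟩
  · obtain ⟨z, hz, hzc, h1, h2⟩ := exists_invol_cent hS hXa h3
    exact even_card_of_invol (X := Subgroup.centralizer X ⊓ Q) ⟨hzc, hz⟩ h1 h2
  · rintro g ⟨hg, hga⟩
    obtain ⟨q, hq, hqc, hq2⟩ := exists_Q_cent_smul hS hXa (ta_ne hS)
      (smul_ne_of_fix hga (ta_ne hS)) hXb (fix_smul_of_cent hg hXb)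
    have e : g = q * (q⁻¹ * g) := by group
    rw [e]
    refine Subgroup.mul_mem _ (Subgroup.mem_sup_left ⟨hqc, hq⟩) (Subgroup.mem_sup_right
      ⟨Subgroup.mul_mem _ (Subgroup.inv_mem _ hqc) hg,
        (stabilizer G a).mul_mem (hS.le (Q.inv_mem hq)) hga, ?_⟩)
    show (q⁻¹ * g) • t • a = t • a
    rw [mul_smul, ← hq2, inv_smul_smul]

theorem s1126 [Finite G] (hS : IsRankOneSetup G Ω a t Q)
    (X : Set G) (hX : X ⊆ ((MulAction.stabilizer G a ⊓ MulAction.stabilizer G (t • a)) : Set G))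
    (h3 : ∃ b c d : Ω, b ≠ c ∧ b ≠ d ∧ c ≠ d ∧ ∀ x ∈ X, x • b = b ∧ x • c = c ∧ x • d = d) :
    ∃ k ∈ (MulAction.stabilizer G a ⊓ MulAction.stabilizer G (t • a)), ∀ x ∈ X, (k * x * k⁻¹) * t = t * (k * x * k⁻¹) := by
  have hXa : ∀ x ∈ X, x • a = a := fun x hx => (hX hx).1
  have hXb : ∀ x ∈ X, x • t • a = t • a := fun x hx => (hX hx).2
  obtain ⟨z, hz, hzc, h1, h2⟩ := exists_invol_cent hS hXa h3
  have hne : t • a ≠ z • t • a := fun h => h1 (eq_one_of_mem_Q_of_fix_b hS hz h.symm)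
  obtain ⟨g, hg, hg1, hg2⟩ := cent_two_trans hS h3 hXb (fix_smul_of_cent hzc hXb) hXa hXb hne
    (ta_ne hS).symm
  have hu : g * z * g⁻¹ ∈ Subgroup.centralizer X :=
    Subgroup.mul_mem _ (Subgroup.mul_mem _ hg hzc) (Subgroup.inv_mem _ hg)
  have hua : (g * z * g⁻¹) • a = t • a := by
    nth_rewrite 1 [← hg1]
    rw [mul_smul, mul_smul, inv_smul_smul, hg2]
  have hk := mul_t_mem_K hS (conj_invol h1 h2).2 hua
  generalize g * z * g⁻¹ = u at *
  obtain ⟨l, hl, hl2⟩ := exists_sqrt_invertedBy hS.odd_card (inv_mem_invertedBy hk)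
  have e : t = l * u * l⁻¹ := by
    have e1 : u = l⁻¹ * (l⁻¹ * t) := by
      rw [← mul_assoc, ← mul_inv_rev, hl2, inv_inv, mul_assoc, hS.mul_self, mul_one]
    rw [e1, ← t_mul_K hS hl]; group
  refine ⟨l, hl.1, fun x hx => ?_⟩
  rw [e]
  calc l * x * l⁻¹ * (l * u * l⁻¹) = l * (x * u) * l⁻¹ := by group
    _ = _ := by rw [hu x hx]; group

theorem eq_one_of_comm_K [Finite G] (hS : IsRankOneSetup G Ω a t Q) {x y : G}
    (hx : x ∈ invertedBy (stabilizer G a ⊓ stabilizer G (t • a)) t) (hx1 : x ≠ 1) (hy : y ∈ Q)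
    (hc : x * y = y * x) : y = 1 := by
  by_contra hy1
  have h3 : ∃ b c d : Ω, b ≠ c ∧ b ≠ d ∧ c ≠ d ∧
      ∀ x' ∈ ({x} : Set G), x' • b = b ∧ x' • c = c ∧ x' • d = d := by
    refine ⟨a, t • a, y • t • a, (ta_ne hS).symm, (smul_ne_of_fix (Q_fix hS hy) (ta_ne hS)).symm,
      fun h => hy1 (eq_one_of_mem_Q_of_fix_b hS hy h.symm), ?_⟩
    rintro _ rfl
    refine ⟨hx.1.1, hx.1.2, ?_⟩
    rw [← mul_smul, hc, mul_smul, (mem_D.mp hx.1).2]
  obtain ⟨z, hz, hzc, h1, h2⟩ := exists_invol_cent hS (X := {x}) (by rintro _ rfl; exact hx.1.1) h3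
  exact hx1 (eq_one_of_K_comm hS ⟨hS.le hz, h1, h2⟩ hx (hzc x rfl).symm)

theorem s1128 [Finite G] (hS : IsRankOneSetup G Ω a t Q)
    (x : G) (hx : x ∈ Cfsg.invertedBy (MulAction.stabilizer G a ⊓ MulAction.stabilizer G (t • a)) t) (hx1 : x ≠ 1) :
    Q ⊓ Subgroup.centralizer {x} = ⊥ := by
  rw [eq_bot_iff]
  intro y hy
  rw [mem_inf_centralizer_singleton] at hy
  exact eq_one_of_comm_K hS hx hx1 hy.1 hy.2

theorem s1134 [Finite G] (hS : IsRankOneSetup G Ω a t Q)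
    (X : Set G) (hX : X ⊆ (((MulAction.stabilizer G a ⊓ MulAction.stabilizer G (t • a)) ⊓ Subgroup.centralizer {t} : Subgroup G) : Set G)) (g : G)
    (hY : (fun x => g * x * g⁻¹) '' X ⊆ (((MulAction.stabilizer G a ⊓ MulAction.stabilizer G (t • a)) ⊓ Subgroup.centralizer {t} : Subgroup G) : Set G)) :
    ∃ v ∈ (MulAction.stabilizer G a ⊓ MulAction.stabilizer G (t • a)) ⊓ Subgroup.centralizer {t}, (fun x => v * x * v⁻¹) '' X = (fun x => g * x * g⁻¹) '' X := by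
  obtain ⟨s, r, hs, hr, e⟩ := exists_struct hS
  have hX' : ∀ x ∈ X, x ∈ stabilizer G a ⊓ stabilizer G (t • a) ∧ t * x = x * t :=
    fun x hx => mem_inf_centralizer_singleton.mp (hX hx)
  have hY' : ∀ x ∈ (fun x => g * x * g⁻¹) '' X,
      x ∈ stabilizer G a ⊓ stabilizer G (t • a) ∧ t * x = x * t :=
    fun x hx => mem_inf_centralizer_singleton.mp (hY hx)
  have hsQ := invol_mem_Q hS hs.1 hs.2.2
  have h3 : ∃ b c d : Ω, b ≠ c ∧ b ≠ d ∧ c ≠ d ∧
      ∀ x ∈ (fun x => g * x * g⁻¹) '' X, x • b = b ∧ x • c = c ∧ x • d = d := by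
    refine ⟨a, t • a, s • t • a, (ta_ne hS).symm, (smul_ne_of_fix hs.1 (ta_ne hS)).symm,
      fun h => hs.2.1 (eq_one_of_mem_Q_of_fix_b hS hsQ h.symm), fun y hy => ?_⟩
    obtain ⟨h1, h2⟩ := hY' y hy
    refine ⟨h1.1, h1.2, ?_⟩
    rw [← mul_smul, ← (comm_s_of_comm_t hS hs hr e h1.1 h2).1, mul_smul, (mem_D.mp h1).2]
  obtain ⟨c, hc, hc1, hc2⟩ := cent_two_trans hS h3 (b₁ := g • a) (b₂ := g • t • a)
    (by rintro _ ⟨x, hx, rfl⟩; rw [mul_smul, mul_smul, inv_smul_smul, (mem_D.mp (hX' x hx).1).1])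
    (by rintro _ ⟨x, hx, rfl⟩; rw [mul_smul, mul_smul, inv_smul_smul, (mem_D.mp (hX' x hx).1).2])
    (fun y hy => (hY' y hy).1.1) (fun y hy => (hY' y hy).1.2)
    (fun h => ta_ne hS (MulAction.injective g h).symm) (ta_ne hS).symm
  have hd : c * g ∈ stabilizer G a ⊓ stabilizer G (t • a) := by
    rw [mem_D, mul_smul, mul_smul]; exact ⟨hc1, hc2⟩
  obtain ⟨v, k, hv, hvt, hk, hvk⟩ := exists_VK hS hd
  refine ⟨v, mem_inf_centralizer_singleton.mpr ⟨hv, hvt⟩, Set.image_congr fun x hx => ?_⟩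
  have h1 : g * x * g⁻¹ = v * (k * x * k⁻¹) * v⁻¹ := by
    have := hc _ ⟨x, hx, rfl⟩
    calc g * x * g⁻¹ = (g * x * g⁻¹ * c) * c⁻¹ := by group
      _ = (c * g) * x * (c * g)⁻¹ := by rw [this]; group
      _ = _ := by rw [hvk]; group
  have h2 : Commute t (k * x * k⁻¹) := by
    have h4 : Commute t (g * x * g⁻¹) := (hY' _ ⟨x, hx, rfl⟩).2
    have h5 : Commute t v := hvt
    have : k * x * k⁻¹ = v⁻¹ * (g * x * g⁻¹) * v := by rw [h1]; group
    rw [this]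
    exact (h5.inv_right.mul_right h4).mul_right h5
  have h6 : Commute (k * k) x := by
    have h7 : t * x * t⁻¹ = x := by rw [(hX' x hx).2]; group
    have h8 : k⁻¹ * x * k = k * x * k⁻¹ := by
      calc k⁻¹ * x * k = (t * k * t⁻¹) * (t * x * t⁻¹) * (t * k * t⁻¹)⁻¹ := by
            rw [hk.2, h7, inv_inv]
        _ = t * (k * x * k⁻¹) * t⁻¹ := by group
        _ = _ := by rw [h2.eq]; group
    show k * k * x = x * (k * k)
    calc k * k * x = k * (k * x * k⁻¹) * k := by group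
      _ = _ := by rw [← h8]; group
  have h9 := commute_of_commute_sq_of_odd hS.odd_card (pow_card_D hk.1) h6
  rw [h1, h9.eq]; group

end RankOne
end H21
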