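import Mathlib
import Cfsg.Prelude.Def_LieRecognition
import Cfsg.Agent.H21.RankOne2
import Cfsg.Agent.H2.MinNormal
import Cfsg.Agent.S0033

/-! The rank-one set-up: `Q` is nilpotent, involutions of `G_a` are central in `Q`. -/

set_option autoImplicit false

namespace H21

open Cfsg MulAction

/-- conjugation by an element normalising a subgroup, as an automorphism of the subgroup -/
def conjAut {G : Type*} [Group G] (Q : Subgroup G) (h : G) (hh : ∀ q ∈ Q, h * q * h⁻¹ ∈ Q)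
    (hh' : ∀ q ∈ Q, h⁻¹ * q * h ∈ Q) : Q ≃* Q where
  toFun q := ⟨h * q * h⁻¹, hh q q.2⟩
  invFun q := ⟨h⁻¹ * q * h, hh' q q.2⟩
  left_inv q := Subtype.ext (by simp [mul_assoc])
  right_inv q := Subtype.ext (by simp [mul_assoc])
  map_mul' x y := Subtype.ext (by simp [mul_assoc])

theorem conjAut_apply {G : Type*} [Group G] (Q : Subgroup G) (h : G) (hh hh') (q : Q) :
    (conjAut Q h hh hh' q : G) = h * q * h⁻¹ := rfl

theorem conjAut_pow_apply {G : Type*} [Group G] (Q : Subgroup G) (h : G) (hh hh') (n : ℕ) (q : Q) :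
    (((conjAut Q h hh hh' : MulAut Q) ^ n) q : G) = h ^ n * q * (h ^ n)⁻¹ := by
  induction n with
  | zero => simp
  | succ n ih =>
    rw [pow_succ', MulAut.mul_apply, conjAut_apply, ih, pow_succ']; group

/-- a subgroup normalised by an element of prime order centralising none of its non-identity
elements is nilpotent (Thompson) -/
theorem isNilpotent_of_fpf {G : Type*} [Group G] [Finite G] (Q : Subgroup G) {h : G}
    (hp : (orderOf h).Prime) (hh : ∀ q ∈ Q, h * q * h⁻¹ ∈ Q)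
    (hfpf : ∀ q ∈ Q, h * q = q * h → q = 1) : Group.IsNilpotent Q := by
  have hh' : ∀ q ∈ Q, h⁻¹ * q * h ∈ Q := by
    intro q hq
    have key : ∀ n : ℕ, h ^ n * q * (h ^ n)⁻¹ ∈ Q := by
      intro n
      induction n with
      | zero => simpa using hq
      | succ n ih =>
        have := hh _ ih
        have e : h * (h ^ n * q * (h ^ n)⁻¹) * h⁻¹ = h ^ (n + 1) * q * (h ^ (n + 1))⁻¹ := by group
        rwa [e] at this
    have e : h ^ (orderOf h - 1) = h⁻¹ := by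
      apply eq_inv_of_mul_eq_one_left
      rw [← pow_succ, Nat.sub_add_cancel hp.pos, pow_orderOf_eq_one]
    have := key (orderOf h - 1)
    rwa [e, inv_inv] at this
  by_cases hQ : Q = ⊥
  · subst hQ; infer_instance
  have : Fact (orderOf h).Prime := ⟨hp⟩
  apply Cfsg.Agent.S0033.result (conjAut Q h hh hh') _ _ hp
  · apply orderOf_eq_prime
    · ext q
      rw [conjAut_pow_apply, pow_orderOf_eq_one]; simp
    · intro h1
      apply hQ
      rw [eq_bot_iff]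
      intro q hq
      have : (conjAut Q h hh hh' ⟨q, hq⟩ : G) = q := by rw [h1]; rfl
      exact hfpf q hq (mul_inv_eq_iff_eq_mul.mp this)
  · intro q hq
    have : h * q * h⁻¹ = q := congrArg Subtype.val hq
    exact Subtype.ext (hfpf q q.2 (mul_inv_eq_iff_eq_mul.mp this))

theorem exists_pow_prime_orderOf {G : Type*} [Group G] [Finite G] {k : G} (hk : k ≠ 1) :
    ∃ n : ℕ, (orderOf (k ^ n)).Prime := by
  have h1 : orderOf k ≠ 1 := by rwa [Ne, orderOf_eq_one_iff]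
  obtain ⟨p, hp, m, hm⟩ := Nat.exists_prime_and_dvd h1
  have h0 : orderOf k ≠ 0 := (orderOf_pos k).ne'
  have hm0 : m ≠ 0 := by rintro rfl; simp at hm; exact h0 (by simpa using hm)
  refine ⟨m, ?_⟩
  rw [orderOf_pow' k hm0, Nat.gcd_eq_right (by rw [hm]; exact Dvd.intro_left p rfl), hm,
    Nat.mul_div_cancel _ (Nat.pos_of_ne_zero hm0)]
  exact hp

namespace RankOne

variable {G Ω : Type*} [Group G] [MulAction G Ω] {a : Ω} {t : G} {Q : Subgroup G}

theorem exists_two_invol_H [Finite G] (hS : IsRankOneSetup G Ω a t Q)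
    (h2 : ∃ x y : G, x ≠ 1 ∧ y ≠ 1 ∧ x ≠ y ∧ x * x = 1 ∧ y * y = 1 ∧ x * y = y * x) :
    ∃ s ∈ involutionsIn (stabilizer G a : Set G), ∃ s' ∈ involutionsIn (stabilizer G a : Set G),
      s ≠ s' := by
  obtain ⟨x, y, hx1, hy1, hxy, hx2, hy2, hc⟩ := h2
  obtain ⟨c, hxc⟩ := invol_exists_fix hS hx2
  have hyc : y • c = c := fix_of_commute hS hx1 hx2 hxc hc
  obtain ⟨g, rfl⟩ := trans hS c a
  refine ⟨g * x * g⁻¹, ⟨?_, conj_invol hx1 hx2⟩, g * y * g⁻¹, ⟨?_, conj_invol hy1 hy2⟩, ?_⟩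
  · show (g * x * g⁻¹) • g • c = g • c
    rw [mul_smul, mul_smul, inv_smul_smul, hxc]
  · show (g * y * g⁻¹) • g • c = g • c
    rw [mul_smul, mul_smul, inv_smul_smul, hyc]
  · intro h
    exact hxy (mul_left_cancel (mul_right_cancel h))

theorem exists_K_ne_one [Finite G] (hS : IsRankOneSetup G Ω a t Q)
    (h2 : ∃ x y : G, x ≠ 1 ∧ y ≠ 1 ∧ x ≠ y ∧ x * x = 1 ∧ y * y = 1 ∧ x * y = y * x) :
    ∃ k ∈ invertedBy (stabilizer G a ⊓ stabilizer G (t • a)) t, k ≠ 1 := by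
  obtain ⟨s, hs, s', hs', hne⟩ := exists_two_invol_H hS h2
  obtain ⟨k, hk, e⟩ := exists_K_conj hS hs hs'
  refine ⟨k, hk, ?_⟩
  rintro rfl
  exact hne (by simpa using e)

theorem s1129 [Finite G] (hS : IsRankOneSetup G Ω a t Q)
    (h2 : ∃ x y : G, x ≠ 1 ∧ y ≠ 1 ∧ x ≠ y ∧ x * x = 1 ∧ y * y = 1 ∧ x * y = y * x) :
    Group.IsNilpotent Q := by
  obtain ⟨k, hk, hk1⟩ := exists_K_ne_one hS h2
  obtain ⟨n, hn⟩ := exists_pow_prime_orderOf hk1
  have hk' := pow_mem_invertedBy hk n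
  have hk1' : k ^ n ≠ 1 := by
    intro h; rw [h, orderOf_one] at hn; exact Nat.not_prime_one hn
  exact isNilpotent_of_fpf Q hn (fun q hq => conj_mem_Q hS hk'.1.1 hq)
    (fun q hq hc => eq_one_of_comm_K hS hk' hk1' hq hc)

theorem invol_central [Finite G] (hS : IsRankOneSetup G Ω a t Q)
    (h2 : ∃ x y : G, x ≠ 1 ∧ y ≠ 1 ∧ x ≠ y ∧ x * x = 1 ∧ y * y = 1 ∧ x * y = y * x)
    {s : G} (hs : s ∈ involutionsIn (stabilizer G a : Set G)) {x : G} (hx : x ∈ Q) :
    s * x = x * s := by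
  have hnil := s1129 hS h2
  have : Fact (Nat.Prime 2) := ⟨Nat.prime_two⟩
  obtain ⟨P⟩ : Nonempty (Sylow 2 Q) := inferInstance
  have hP : (P : Subgroup Q).Normal := H2.isNilpotent_iff_forall_sylow_normal.mp hnil 2 this P
  have hP1 : (P : Subgroup Q) ≠ ⊥ := P.ne_bot_of_dvd_card (even_iff_two_dvd.mp hS.even_card)
  have h3 := H2.inf_center_ne_bot hP1
  have h4 : IsPGroup 2 ↥((P : Subgroup Q) ⊓ Subgroup.center Q) := P.2.to_le inf_le_left
  have h5 : Even (Nat.card ↥((P : Subgroup Q) ⊓ Subgroup.center Q)) := by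
    obtain ⟨n, hn⟩ := h4.exists_card_eq
    rcases n with _ | n
    · exact absurd (Subgroup.card_eq_one.mp (by simpa using hn)) h3
    · rw [hn, pow_succ]; exact (even_two.mul_left _)
  obtain ⟨z, hz, hz1, hz2⟩ := exists_invol_of_even_card h5
  have hz' : (z : G) ∈ involutionsIn (stabilizer G a : Set G) :=
    ⟨hS.le z.2, fun h => hz1 (Subtype.ext h), congrArg Subtype.val hz2⟩
  obtain ⟨k, hk, rfl⟩ := exists_K_conj hS hz' hs
  have h6 := congrArg Subtype.val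
    (Subgroup.mem_center_iff.mp hz.2 ⟨k * x * k⁻¹, conj_mem_Q hS hk.1.1 hx⟩)
  simp only [Subgroup.coe_mul] at h6
  calc k⁻¹ * z * k * x = k⁻¹ * (z * (k * x * k⁻¹)) * k := by group
    _ = _ := by rw [← h6]; group

theorem invol_comm [Finite G] (hS : IsRankOneSetup G Ω a t Q)
    (h2 : ∃ x y : G, x ≠ 1 ∧ y ≠ 1 ∧ x ≠ y ∧ x * x = 1 ∧ y * y = 1 ∧ x * y = y * x)
    {s s' : G} (hs : s ∈ involutionsIn (stabilizer G a : Set G))
    (hs' : s' ∈ involutionsIn (stabilizer G a : Set G)) : s * s' * (s * s') = 1 := by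
  have := invol_central hS h2 hs (invol_mem_Q hS hs'.1 hs'.2.2)
  calc s * s' * (s * s') = s * (s' * s) * s' := by group
    _ = (s * s) * (s' * s') := by rw [← this]; group
    _ = 1 := by rw [hs.2.2, hs'.2.2, one_mul]

theorem s1130 [Finite G] (hS : IsRankOneSetup G Ω a t Q)
    (h2 : ∃ x y : G, x ≠ 1 ∧ y ≠ 1 ∧ x ≠ y ∧ x * x = 1 ∧ y * y = 1 ∧ x * y = y * x) :
    (∀ s ∈ Cfsg.involutionsIn (MulAction.stabilizer G a : Set G), s ∈ Q ∧ ∀ x ∈ Q, s * x = x * s) ∧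
      ∀ s ∈ Cfsg.involutionsIn (MulAction.stabilizer G a : Set G), ∀ s' ∈ Cfsg.involutionsIn (MulAction.stabilizer G a : Set G),
        s * s' = 1 ∨ s * s' ∈ Cfsg.involutionsIn (MulAction.stabilizer G a : Set G) := by
  refine ⟨fun s hs => ⟨invol_mem_Q hS hs.1 hs.2.2, fun x hx => invol_central hS h2 hs hx⟩,
    fun s hs s' hs' => ?_⟩
  by_cases h : s * s' = 1
  · exact Or.inl h
  · exact Or.inr ⟨(stabilizer G a).mul_mem hs.1 hs'.1, h, invol_comm hS h2 hs hs'⟩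

theorem invol_comm' [Finite G] (hS : IsRankOneSetup G Ω a t Q)
    (h2 : ∃ x y : G, x ≠ 1 ∧ y ≠ 1 ∧ x ≠ y ∧ x * x = 1 ∧ y * y = 1 ∧ x * y = y * x)
    {u v : G} {c : Ω} (hu1 : u ≠ 1) (hu2 : u * u = 1) (hv1 : v ≠ 1) (hv2 : v * v = 1)
    (hu : u • c = c) (hv : v • c = c) : u * v * (u * v) = 1 := by
  obtain ⟨g, rfl⟩ := trans hS c a
  have := invol_comm hS h2 (s := g * u * g⁻¹) (s' := g * v * g⁻¹)
    ⟨show (g * u * g⁻¹) • g • c = g • c by rw [mul_smul, mul_smul, inv_smul_smul, hu],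
      conj_invol hu1 hu2⟩
    ⟨show (g * v * g⁻¹) • g • c = g • c by rw [mul_smul, mul_smul, inv_smul_smul, hv],
      conj_invol hv1 hv2⟩
  calc u * v * (u * v) = g⁻¹ * (g * u * g⁻¹ * (g * v * g⁻¹) * (g * u * g⁻¹ * (g * v * g⁻¹))) * g := by
        group
    _ = 1 := by rw [this]; group

theorem s1135 [Finite G] (hS : IsRankOneSetup G Ω a t Q)
    (h2 : ∃ x y : G, x ≠ 1 ∧ y ≠ 1 ∧ x ≠ y ∧ x * x = 1 ∧ y * y = 1 ∧ x * y = y * x)
    (u v : G) (hu1 : u ≠ 1) (hu2 : u * u = 1) (hv1 : v ≠ 1) (hv2 : v * v = 1) (hx : (u * v) * (u * v) ≠ 1) :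
    (∃ g : G, ∃ u' ∈ Cfsg.involutionsIn (MulAction.stabilizer G a : Set G), g * (u * v) * g⁻¹ = u' * t) ∧
      Odd (Nat.card ↥(Subgroup.centralizer {u * v})) := by
  obtain ⟨c, hc⟩ := invol_exists_fix hS hu2
  obtain ⟨d, hd⟩ := invol_exists_fix hS hv2
  have hcd : c ≠ d := by
    rintro rfl
    exact hx (invol_comm' hS h2 hu1 hu2 hv1 hv2 hc hd)
  constructor
  · obtain ⟨e, he⟩ := invol_exists_fix hS hS.mul_self
    have hea : a ≠ e := by rintro rfl; exact ta_ne hS he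
    -- move `e` to `a` and `a` to `t • a`
    obtain ⟨m, hm1, hm2⟩ := two_trans hS hea.symm (ta_ne hS).symm
    obtain ⟨g, hg1, hg2⟩ := two_trans hS hcd.symm (ta_ne hS).symm
    have h3 : g * v * g⁻¹ ∈ involutionsIn (stabilizer G a : Set G) :=
      ⟨show (g * v * g⁻¹) • a = a by rw [← hg1, mul_smul, mul_smul, inv_smul_smul, hd],
        conj_invol hv1 hv2⟩
    have h4 : m * t * m⁻¹ ∈ involutionsIn (stabilizer G a : Set G) :=
      ⟨show (m * t * m⁻¹) • a = a by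
        nth_rewrite 1 [← hm1]; rw [mul_smul, mul_smul, inv_smul_smul, he, hm1],
        conj_invol hS.ne_one hS.mul_self⟩
    obtain ⟨k, hk, e1⟩ := exists_K_conj hS h3 h4
    refine ⟨m⁻¹ * k⁻¹ * g, (m⁻¹ * k⁻¹ * g) * u * (m⁻¹ * k⁻¹ * g)⁻¹, ⟨?_, conj_invol hu1 hu2⟩, ?_⟩
    · have h5 : (m⁻¹ * k⁻¹ * g) • c = a := by
        have : k⁻¹ • t • a = t • a := (stabilizer G (t • a)).inv_mem hk.1.2
        rw [mul_smul, mul_smul, hg2, this, ← hm2, inv_smul_smul]
      show ((m⁻¹ * k⁻¹ * g) * u * (m⁻¹ * k⁻¹ * g)⁻¹) • a = a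
      nth_rewrite 1 [← h5]
      rw [mul_smul, mul_smul, inv_smul_smul, hc, h5]
    · have : t = m⁻¹ * (k⁻¹ * (g * v * g⁻¹) * k) * m := by rw [e1]; group
      rw [this]; group
  · by_contra hev
    obtain ⟨y, hy, hy1, hy2⟩ := exists_invol_of_even_card (Nat.not_odd_iff_even.mp hev)
    have hcomm : Commute y (u * v) := Subgroup.mem_centralizer_singleton_iff.mp hy
    obtain ⟨e, he⟩ := invol_exists_fix hS hy2
    have hxe : (u * v) • e = e := fix_of_commute hS hy1 hy2 he hcomm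
    have hue : u • e ≠ e := by
      intro h
      have hve : v • e = e := by
        have : v = u * (u * v) := by rw [← mul_assoc, hu2, one_mul]
        rw [this, mul_smul, hxe, h]
      exact hx (invol_comm' hS h2 hu1 hu2 hv1 hv2 h hve)
    have hodd := odd_orderOf_mul hS he hy1 hy2 hue hu2
    have hinv : u * (u * v) * u⁻¹ = (u * v)⁻¹ := by
      rw [← mul_assoc, hu2, one_mul, mul_inv_rev, invol_inv hv2]
    have h1 : (y * u) * (u * v) * (y * u)⁻¹ = (u * v)⁻¹ := by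
      calc (y * u) * (u * v) * (y * u)⁻¹ = y * (u * (u * v) * u⁻¹) * y⁻¹ := by group
        _ = (u * v)⁻¹ := by rw [hinv, hcomm.inv_right.eq]; group
    have h3 := eq_inv_of_odd_inverts hodd (pow_orderOf_eq_one _) h1
    apply hx
    nth_rewrite 1 [h3]
    exact inv_mul_cancel _

end RankOne
end H21
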