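import Mathlib
import Cfsg.Agent.H21.OddInv
import Cfsg.Agent.H2.Quaternion
import Cfsg.Agent.H22.OddAut
import Cfsg.Agent.H22.FusionTools
import Cfsg.Agent.H3.Frobenius
import Cfsg.Agent.H1.CoprimeAbelian

/-! Odd automorphisms of `2`-groups with one involution; groups with one involution and a
central subgroup of order three. -/

set_option autoImplicit false

namespace H21

open Cfsg Subgroup

variable {G : Type*} [Group G]

theorem exists_cyclic_index_le_two [Finite G] {Q : Subgroup G} (hQ : IsPGroup 2 Q)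
    (hu : H2.UniqueOrderP 2 Q) : ∃ u ∈ Q,
      (∀ x ∈ Q, ∀ y ∈ Q, x ∉ zpowers u → y ∉ zpowers u → x⁻¹ * y ∈ zpowers u) ∧
      (∀ x ∈ Q, x ∉ zpowers u → x ^ 4 = 1) ∧
      ((∃ x ∈ Q, x ∉ zpowers u) → Nat.card Q = 2 * orderOf u) := by
  have : Fact (Nat.Prime 2) := ⟨Nat.prime_two⟩
  rcases hu.isCyclic_or_quaternion hQ with h | ⟨-, n, ⟨e⟩⟩
  · obtain ⟨u, hu⟩ := h.exists_generator
    have h1 : ∀ x ∈ Q, x ∈ zpowers (u : G) := fun x hx => by
      obtain ⟨k, hk⟩ := hu ⟨x, hx⟩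
      exact ⟨k, congrArg Subtype.val hk⟩
    exact ⟨u, u.2, fun x hx _ _ h _ => absurd (h1 x hx) h, fun x hx h => absurd (h1 x hx) h,
      fun ⟨x, hx, h⟩ => absurd (h1 x hx) h⟩
  · have : NeZero (2 ^ (n + 1)) := ⟨by positivity⟩
    have : NeZero (2 * 2 ^ (n + 1)) := ⟨by positivity⟩
    have h1 : ∀ (x : Q) (i : ZMod (2 * 2 ^ (n + 1))), e x = QuaternionGroup.a i →
        (x : G) ∈ zpowers (e.symm (QuaternionGroup.a 1) : G) := fun x i hx => by
      refine ⟨(i.val : ℕ), ?_⟩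
      show ((e.symm (QuaternionGroup.a 1) : Q) : G) ^ ((i.val : ℕ) : ℤ) = x
      rw [zpow_natCast, ← Subgroup.coe_pow, ← map_pow, QuaternionGroup.a_one_pow,
        ZMod.natCast_zmod_val, ← hx, MulEquiv.symm_apply_apply]
    have h2 : ∀ x : Q, (x : G) ∉ zpowers (e.symm (QuaternionGroup.a 1) : G) →
        ∃ i, e x = QuaternionGroup.xa i := fun x hx => by
      cases hx' : e x with
      | a i => exact absurd (h1 x i hx') hx
      | xa i => exact ⟨i, rfl⟩
    refine ⟨e.symm (QuaternionGroup.a 1), (e.symm _).2, fun x hx y hy h3 h4 => ?_,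
      fun x hx h3 => ?_, fun _ => ?_⟩
    · obtain ⟨i, hi⟩ := h2 ⟨x⁻¹, Q.inv_mem hx⟩ (fun h => h3 (inv_mem_iff.mp h))
      obtain ⟨j, hj⟩ := h2 ⟨y, hy⟩ h4
      exact h1 (⟨x⁻¹, Q.inv_mem hx⟩ * ⟨y, hy⟩) _ (by rw [map_mul, hi, hj, QuaternionGroup.xa_mul_xa])
    · obtain ⟨i, hi⟩ := h2 ⟨x, hx⟩ h3
      have : (⟨x, hx⟩ : Q) ^ 4 = 1 := e.injective (by
        rw [map_pow, hi, QuaternionGroup.xa_pow_four, map_one])
      exact congrArg Subtype.val this
    · rw [Subgroup.orderOf_coe, MulEquiv.orderOf_eq, QuaternionGroup.orderOf_a_one,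
        Nat.card_congr e.toEquiv, Nat.card_eq_fintype_card, QuaternionGroup.card]
      ring

theorem odd_aut_of_unique_invol [Finite G] {Q : Subgroup G} (hQ : IsPGroup 2 Q)
    (hu : H2.UniqueOrderP 2 Q) {g : G} (hg : g ∈ normalizer (Q : Set G)) (ho : Odd (orderOf g)) :
    g ∈ centralizer (Q : Set G) ∨ (Nat.card Q = 8 ∧ g ^ 3 ∈ centralizer (Q : Set G)) := by
  obtain ⟨u, huQ, h1, h2, h3⟩ := exists_cyclic_index_le_two hQ hu
  have fix : ∀ g ∈ normalizer (Q : Set G), Odd (orderOf g) → ∀ x ∈ Q, g * x * g⁻¹ ∈ zpowers x →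
      g * x * g⁻¹ = x := fun g hg ho x hx h => by
    obtain ⟨k, hk⟩ := H22.isPGroup_iff_forall_mem.mp hQ x hx
    exact (H22.oddAut_conj hg ho).fix_of_mem_zpowers hx hk h
  have key : ∀ g ∈ normalizer (Q : Set G), Odd (orderOf g) → g * u * g⁻¹ ∈ zpowers u →
      g ∈ centralizer (Q : Set G) := fun g hg ho h => by
    obtain ⟨k, hk⟩ := H22.isPGroup_iff_forall_mem.mp hQ u huQ
    have A := H22.oddAut_conj hg ho
    exact H22.mem_centralizer_of_forall_conj_eq (A.fix_of_index_two hQ (zpowers_le.mpr huQ) le_rfl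
      (A.fix_zpowers huQ hk h) A.mem h1)
  have sq : ∀ x ∈ Q, ∀ y ∈ Q, x ≠ 1 → x ^ 2 = 1 → y ^ 2 = 1 → y ∈ zpowers x := by
    intro x hx y hy hx1 hx2 hy2
    obtain ⟨k, hk⟩ := hu ⟨x, hx⟩ ⟨y, hy⟩ (fun e => hx1 (Subtype.mk.inj e)) (Subtype.ext hx2)
      (Subtype.ext hy2)
    exact ⟨k, congrArg Subtype.val hk⟩
  by_cases hv : g * u * g⁻¹ ∈ zpowers u
  · exact Or.inl (key g hg ho hv)
  right
  have hvQ := H22.conj_mem_of_mem_normalizer hg huQ
  set v := g * u * g⁻¹ with hvd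
  have hv4 := h2 v hvQ hv
  have hu4 : u ^ 4 = 1 := by
    rw [hvd, conj_pow] at hv4
    calc u ^ 4 = g⁻¹ * (g * u ^ 4 * g⁻¹) * g := by group
      _ = 1 := by rw [hv4]; group
  have hu1 : u ≠ 1 := by rintro rfl; exact hv (by simp [hvd])
  have hu2 : u ^ 2 ≠ 1 := fun e => hv (sq u huQ v hvQ hu1 e (by rw [hvd, conj_pow, e]; group))
  have hv2 : v ^ 2 ≠ 1 := fun e => hu2 (by
    rw [hvd, conj_pow] at e
    calc u ^ 2 = g⁻¹ * (g * u ^ 2 * g⁻¹) * g := by group
      _ = 1 := by rw [e]; group)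
  have : Fact (Nat.Prime 2) := ⟨Nat.prime_two⟩
  have hou : orderOf u = 4 := orderOf_eq_prime_pow (p := 2) (n := 1) hu2 hu4
  have opow : ∀ k : ℕ, Odd (orderOf (g ^ k)) := fun k => Odd.of_dvd_nat ho (orderOf_pow_dvd k)
  refine ⟨by rw [h3 ⟨v, hvQ, hv⟩, hou], key _ (pow_mem hg 3) (opow 3) ?_⟩
  have hwQ := H22.conj_mem_of_mem_normalizer hg hvQ
  have hw : g * v * g⁻¹ ∉ zpowers u := fun h => by
    have h4 := fix _ (pow_mem hg 2) (opow 2) u huQ (by
      rwa [show g ^ 2 * u * (g ^ 2)⁻¹ = g * v * g⁻¹ by rw [hvd, pow_two]; group])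
    have h5 : Commute g u := commute_of_commute_sq_of_odd ho (pow_orderOf_eq_one g) (by
      rw [← pow_two]; exact mul_inv_eq_iff_eq_mul.mp h4)
    exact hv (by rw [hvd, h5.eq, mul_inv_cancel_right]; exact mem_zpowers u)
  obtain ⟨k, hk⟩ := h1 v hvQ _ hwQ hv hw
  have hk' : g * v * g⁻¹ = v * u ^ k := by rw [show u ^ k = _ from hk]; group
  rcases Int.even_or_odd' k with ⟨j, rfl | rfl⟩
  · exfalso
    have h4 : u ^ (2 * j) ∈ zpowers (v ^ 2) := sq _ (pow_mem hvQ 2) _ (zpow_mem huQ _) hv2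
      (by rw [← pow_mul, hv4]) (by
        rw [← zpow_natCast, ← zpow_mul, show 2 * j * ((2 : ℕ) : ℤ) = ((4 : ℕ) : ℤ) * j by ring,
          zpow_mul, zpow_natCast, hu4, one_zpow])
    have h5 := fix g hg ho v hvQ (by
      rw [hk']
      exact mul_mem (mem_zpowers v) (zpowers_le.mpr (pow_mem (mem_zpowers v) 2) h4))
    apply hv
    have : v = u := by
      rw [hvd] at h5
      calc v = g⁻¹ * (g * (g * u * g⁻¹) * g⁻¹) * g := by rw [hvd]; group
        _ = u := by rw [h5]; group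
    rw [this]; exact mem_zpowers u
  · have h4 : v ^ 2 ∈ zpowers u := zpowers_le.mpr (pow_mem (mem_zpowers u) 2)
      (sq _ (pow_mem huQ 2) _ (pow_mem hvQ 2) hu2 (by rw [← pow_mul, hu4]) (by rw [← pow_mul, hv4]))
    have h5 : g ^ 3 * u * (g ^ 3)⁻¹ = v⁻¹⁻¹ * (u ^ (2 * j + 1) * v ^ (2 * j + 1)) := by
      calc g ^ 3 * u * (g ^ 3)⁻¹ = g * (g * v * g⁻¹) * g⁻¹ := by rw [hvd, pow_three']; group
        _ = (g * v * g⁻¹) * (g * u * g⁻¹) ^ (2 * j + 1) := by rw [conj_zpow]; nth_rewrite 1 [hk']; group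
        _ = _ := by rw [hk', ← hvd]; group
    rw [h5]
    refine h1 _ (Q.inv_mem hvQ) _ (mul_mem (zpow_mem huQ _) (zpow_mem hvQ _))
      (fun h => hv (inv_mem_iff.mp h)) (fun h => hv ?_)
    have h6 := mul_mem (inv_mem (zpow_mem h4 j))
      (mul_mem (inv_mem (zpow_mem (mem_zpowers u) (2 * j + 1))) h)
    rwa [inv_mul_cancel_left, zpow_add, zpow_one, zpow_mul, ← zpow_natCast, Nat.cast_ofNat,
      inv_mul_cancel_left] at h6

theorem exists_invariant_index_two (σ : G →* G) (hσ : ∀ x, σ (σ x) = x) {M : Subgroup G}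
    (hM : M.index = 2) : ∃ N : Subgroup G, N.index = 2 ∧ ∀ x ∈ N, σ x ∈ N := by
  by_cases h : ∀ x ∈ M, σ x ∈ M
  · exact ⟨M, hM, h⟩
  push Not at h
  obtain ⟨y, hy1, hy2⟩ := h
  let N : Subgroup G :=
    { carrier := {x | x ∈ M ↔ σ x ∈ M}
      one_mem' := by simp
      mul_mem' := fun {x y} hx hy => by
        simp only [Set.mem_ofPred_eq, map_mul, mul_mem_iff_of_index_two hM] at hx hy ⊢
        tauto
      inv_mem' := fun {x} hx => by simpa using hx }
  have hN : ∀ x, x ∈ N ↔ (x ∈ M ↔ σ x ∈ M) := fun _ => Iff.rfl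
  refine ⟨N, index_eq_two_iff.mpr ⟨y, fun b => ?_⟩, fun x hx => ?_⟩
  · simp only [hN, map_mul, mul_mem_iff_of_index_two hM, Xor]
    tauto
  · rw [hN, hσ]; exact ((hN x).mp hx).symm

/-- the group-theoretic core of the index-two theorem for sharply triply transitive groups -/
theorem center_large [Finite G] (h2 : H2.UniqueOrderP 2 G) (h3 : H2.UniqueOrderP 3 G)
    (heven : Even (Nat.card G)) (hi : ∀ M : Subgroup G, M.index ≠ 2)
    (hc3 : ∀ w : G, w ^ 3 = 1 → w ∈ center G)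
    (hodd : ∀ U : Subgroup G, U.Characteristic → Odd (Nat.card U) → U ≤ center G) :
    (∃ x y : G, x * y ≠ y * x) ∧ Nat.card G ≤ 12 * Nat.card (center G) ∧ 72 ∣ Nat.card G ∧
      6 ∣ Nat.card (center G) := by
  have : Fact (Nat.Prime 2) := ⟨Nat.prime_two⟩
  have : Fact (Nat.Prime 3) := ⟨Nat.prime_three⟩
  obtain ⟨P⟩ : Nonempty (Sylow 3 G) := inferInstance
  obtain ⟨S⟩ : Nonempty (Sylow 2 G) := inferInstance
  have hcyc : ∀ Q : Subgroup G, IsPGroup 3 Q → IsCyclic Q := fun Q hQ =>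
    (h3.subgroup Q).isCyclic_of_odd hQ (by norm_num)
  have n3 : HasNormalPComplement 3 G := H3.frobenius_hasNPC P (fun Q hQ g hg ho => by
    have hQ3 := P.isPGroup'.to_le hQ
    have := hcyc Q hQ3
    refine H1.le_centralizer_of_prime_order (zpowers g) Q (zpowers_le.mpr hg)
      (H1.card_coprime_of_isPGroup hQ3 (by rwa [Nat.card_zpowers])) (fun v hv hp a _ => ?_)
      (mem_zpowers g)
    obtain ⟨k, hk⟩ := H22.isPGroup_iff_forall_mem.mp hQ3 v hv
    have := (Nat.prime_dvd_prime_iff_eq hp Nat.prime_three).mp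
      (hp.dvd_of_dvd_pow (orderOf_dvd_of_pow_eq_one hk))
    exact mem_center_iff.mp (hc3 v (by rw [← this, pow_orderOf_eq_one])) a)
  set L := pResidual 3 G with hL
  have hL3 : (Nat.card L).Coprime 3 := H3.hasNPC_iff_coprime.mp n3
  have hSL : (S : Subgroup G) ≤ L := H3.le_pResidual_of_coprime
    (H2.IsPGroup.card_coprime_of_ne S.isPGroup' (by norm_num))
  have n2 : HasNormalPComplement 2 L := H3.frobenius_hasNPC (S.subtype hSL) (fun Q hQ g hg ho => by
    rcases odd_aut_of_unique_invol ((S.subtype hSL).isPGroup'.to_le hQ)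
      ((h2.subgroup L).subgroup Q) hg (Nat.coprime_two_right.mp ho) with h | ⟨-, h⟩
    · exact h
    · exact H3.mem_of_pow_mem_of_coprime h (Nat.Coprime.coprime_dvd_left (orderOf_dvd_natCard g) hL3))
  set O := (pResidual 2 L).map L.subtype with hO
  have hO2 : (Nat.card (pResidual 2 L)).Coprime 2 := H3.hasNPC_iff_coprime.mp n2
  have hOc : Nat.card O = Nat.card (pResidual 2 L) := card_subtype _ _
  have hOZ : O ≤ center G := hodd O inferInstance (by rw [hOc]; exact Nat.coprime_two_right.mp hO2)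
  have hOS : O ⊔ S = L := H3.map_pResidual_sup_of_relSylow hSL
    (H3.sylow_index_coprime (S.subtype hSL))
  have hZC : ∀ X : Set G, center G ≤ centralizer X := fun X => center_le_centralizer X
  have hSn : normalizer (S : Set G) = ⊤ := by
    rw [← S.normalizer_sup_eq_top' hSL, ← hOS, eq_comm, sup_eq_left, sup_le_iff]
    exact ⟨hOZ.trans (center_le_normalizer _), le_normalizer⟩
  obtain ⟨g, hg⟩ := (Subgroup.isCyclic_iff_exists_zpowers_eq_top _).mp (hcyc P P.isPGroup')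
  have hgP : g ∈ (P : Subgroup G) := hg ▸ mem_zpowers g
  obtain ⟨k, hk⟩ := (IsPGroup.iff_card.mp P.isPGroup')
  have hog : orderOf g = 3 ^ k := by rw [← Nat.card_zpowers, hg, hk]
  have htop : O ⊔ S ⊔ zpowers g = ⊤ := by rw [hOS, hg]; exact H3.pResidual_sup_sylow P
  have hgS : g ∉ centralizer (S : Set G) := fun h => by
    have h4 : (S : Subgroup G) ⊔ centralizer (S : Set G) = ⊤ := by
      rw [eq_top_iff, ← htop]
      exact sup_le (sup_le ((hOZ.trans (hZC _)).trans le_sup_right) le_sup_left)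
        ((zpowers_le.mpr h).trans le_sup_right)
    have h5 : pResidual 2 G ≤ centralizer (S : Set G) := H3.pResidual_le_iff.mpr fun x hx =>
      H22.mem_centralizer_of_odd_of_mem_sup S.isPGroup' (h4.ge trivial) hx
    rw [H22.pResidual_two_eq_top_iff.mpr hi] at h5
    have h6 := H3.hasNPC_iff_coprime.mp (H3.hasNPC_of_normalizer_le_centralizer S (le_top.trans h5))
    rw [H22.pResidual_two_eq_top_iff.mpr hi, card_top] at h6
    exact Nat.not_even_iff_odd.mpr (Nat.coprime_two_right.mp h6) heven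
  obtain ⟨hS8, hg3⟩ := (odd_aut_of_unique_invol S.isPGroup' (h2.subgroup S) (g := g)
    (by rw [show normalizer ((S : Subgroup G) : Set G) = ⊤ from hSn]; trivial)
    (by rw [hog]; exact Odd.pow (by decide))).resolve_left hgS
  have hk2 : ∃ j, k = j + 2 := by
    rcases k with _ | _ | j
    · exact absurd (by rw [orderOf_eq_one_iff.mp hog]; exact one_mem _) hgS
    · exact absurd (hZC _ (hc3 g (by rw [← pow_orderOf_eq_one g, hog]; rfl))) hgS
    · exact ⟨j, rfl⟩
  obtain ⟨j, rfl⟩ := hk2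
  have hg3Z : g ^ 3 ∈ center G := by
    have : (⊤ : Subgroup G) ≤ centralizer {g ^ 3} := by
      rw [← htop]
      refine sup_le (sup_le (hOZ.trans (hZC _)) fun x hx => ?_) (zpowers_le.mpr ?_)
      · exact mem_centralizer_singleton_iff.mpr (hg3 x hx)
      · exact mem_centralizer_singleton_iff.mpr (Commute.self_pow g 3)
    exact mem_center_iff.mpr fun x => mem_centralizer_singleton_iff.mp (this trivial)
  have hog3 : orderOf (g ^ 3) = 3 ^ (j + 1) := by
    rw [orderOf_pow' g (by norm_num), hog, pow_succ 3 (j + 1), Nat.gcd_mul_left_left,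
      Nat.mul_div_cancel _ (by norm_num)]
  obtain ⟨z, -, hz1, hz2⟩ := exists_invol_of_even_card (X := (⊤ : Subgroup G))
    (by rwa [card_top])
  have hzZ : z ∈ center G := mem_center_iff.mpr fun x => by
    have := h2.eq_of_sq (x := z) (y := x * z * x⁻¹) hz1 (fun e => hz1 (by
      calc z = x⁻¹ * (x * z * x⁻¹) * x := by group
        _ = 1 := by rw [e]; group)) (by rw [pow_two, hz2]) (by rw [conj_pow, pow_two, hz2]; group)
    exact mul_inv_eq_iff_eq_mul.mp this
  have d1 : 2 ∣ Nat.card (center G) := by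
    have := orderOf_dvd_natCard (⟨z, hzZ⟩ : center G)
    rwa [orderOf_mk, orderOf_eq_prime (by rw [pow_two, hz2]) hz1] at this
  have d2 : 3 ^ (j + 1) ∣ Nat.card (center G) := by
    have := orderOf_dvd_natCard (⟨_, hg3Z⟩ : center G)
    rwa [orderOf_mk, hog3] at this
  have d3 : Nat.card O ∣ Nat.card (center G) := card_dvd_of_le hOZ
  have hO3 : (Nat.card O).Coprime 3 :=
    Nat.Coprime.coprime_dvd_left (card_dvd_of_le (map_subtype_le _)) hL3
  have d4 : Nat.card O * (2 * 3 ^ (j + 1)) ∣ Nat.card (center G) :=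
    Nat.Coprime.mul_dvd_of_dvd_of_dvd (Nat.Coprime.mul_right (hOc ▸ hO2) (hO3.pow_right _)) d3
      (Nat.Coprime.mul_dvd_of_dvd_of_dvd (Nat.Coprime.pow_right _ (by norm_num)) d1 d2)
  have c1 := (H3.HasNPC.isComplement' n3 P).card_mul_card
  have c2 := (H3.HasNPC.isComplement' n2 (S.subtype hSL)).card_mul_card
  rw [Sylow.coe_subtype, Nat.card_congr (subgroupOfEquivOfLe hSL).toEquiv, hS8, ← hOc] at c2
  rw [← hL, ← c2, hk] at c1
  refine ⟨?_, ?_, ⟨Nat.card O * 3 ^ j, by rw [← c1]; ring⟩, ?_⟩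
  · by_contra h
    push Not at h
    exact hgS fun x _ => h x g
  · have := Nat.le_of_dvd Nat.card_pos d4
    calc Nat.card G = 12 * (Nat.card O * (2 * 3 ^ (j + 1))) := by rw [← c1]; ring
      _ ≤ _ := Nat.mul_le_mul_left _ this
  · exact Dvd.dvd.trans ⟨Nat.card O * 3 ^ j, by ring⟩ d4

end H21
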