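import Mathlib
import Cfsg.Agent.H16.PGL2Line
import Cfsg.Agent.H7.SL

/-! Recognising `PGL₂(K)` and `PSL₂(K)` from their action on the projective line. -/

set_option autoImplicit false

namespace H21

open MulAction Matrix OnePoint
open scoped MatrixGroups

section General

variable {G Ω X : Type*} [Group G] [MulAction G Ω]

/-- the elements of `G` acting, through `e`, like elements of `L` -/
def actSub (G : Type*) {Ω X : Type*} [Group G] [MulAction G Ω] (e : X ≃ Ω) (L : Type*) [Group L]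
    [MulAction L X] : Subgroup G where
  carrier := {g | ∃ l : L, ∀ x, g • e x = e (l • x)}
  one_mem' := ⟨1, fun x => by rw [one_smul, one_smul]⟩
  mul_mem' := by
    rintro g h ⟨l, hl⟩ ⟨m, hm⟩
    exact ⟨l * m, fun x => by rw [mul_smul, hm, hl, mul_smul]⟩
  inv_mem' := by
    rintro g ⟨l, hl⟩
    exact ⟨l⁻¹, fun x => by rw [inv_smul_eq_iff, hl, smul_inv_smul]⟩

theorem exists_hom_actSub [FaithfulSMul G Ω] (e : X ≃ Ω) (L : Type*) [Group L] [MulAction L X]
    [FaithfulSMul L X] : ∃ f : actSub G e L →* L, Function.Injective f := by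
  have h : ∀ g : actSub G e L, ∃ l : L, ∀ x, (g : G) • e x = e (l • x) := fun g => g.2
  choose f hf using h
  refine ⟨MonoidHom.mk' f (fun g k => FaithfulSMul.eq_of_smul_eq_smul (α := X) fun x =>
    e.injective ?_), fun g k hgk => Subtype.ext (FaithfulSMul.eq_of_smul_eq_smul (α := Ω) fun y => ?_)⟩
  · rw [← hf, mul_smul, ← hf, ← hf, Subgroup.coe_mul, mul_smul]
  · obtain ⟨x, rfl⟩ := e.surjective y
    rw [hf, hf, show f g = f k from hgk]

theorem card_actSub_le [FaithfulSMul G Ω] (e : X ≃ Ω) (L : Type*) [Group L] [MulAction L X]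
    [FaithfulSMul L X] [Finite L] : Nat.card (actSub G e L) ≤ Nat.card L := by
  obtain ⟨f, hf⟩ := exists_hom_actSub (G := G) e L
  exact Nat.card_le_card_of_injective f hf

theorem iso_of_actSub [FaithfulSMul G Ω] (e : X ≃ Ω) (L : Type*) [Group L] [MulAction L X]
    [FaithfulSMul L X] [Finite L] (h : actSub G e L = ⊤) (hc : Nat.card L ≤ Nat.card G) :
    Nonempty (G ≃* L) := by
  obtain ⟨f, hf⟩ := exists_hom_actSub (G := G) e L
  have e1 : actSub G e L ≃* G := (MulEquiv.subgroupCongr h).trans Subgroup.topEquiv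
  exact ⟨e1.symm.trans (MulEquiv.ofBijective f (hf.bijective_of_nat_card_le
    (by rw [Nat.card_congr e1.toEquiv]; exact hc)))⟩

end General

variable {K : Type*} [Field K] [DecidableEq K]

instance instFaithfulPGL : FaithfulSMul PGL(2, K) (OnePoint K) := ⟨fun {g h} e => by
  have := H16.pgl2_eq_one_of_three (h⁻¹ * g) (x := ∞) (y := ((0 : K) : OnePoint K))
    (z := ((1 : K) : OnePoint K)) (infty_ne_coe _) (infty_ne_coe _) (by simp)
    (by rw [mul_smul, e, inv_smul_smul]) (by rw [mul_smul, e, inv_smul_smul])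
    (by rw [mul_smul, e, inv_smul_smul])
  exact (inv_mul_eq_one.mp this).symm⟩

noncomputable instance instPSLOnePoint : MulAction PSL(2, K) (OnePoint K) :=
  MulAction.compHom _ (ProjectiveSpecialLinearGroup.toPGL : PSL(2, K) →* PGL(2, K))

instance instFaithfulPSL : FaithfulSMul PSL(2, K) (OnePoint K) := ⟨fun {g h} e =>
  ProjectiveSpecialLinearGroup.toPGL_injective (FaithfulSMul.eq_of_smul_eq_smul e)⟩

theorem psl_mk_smul (g : SL(2, K)) (x : OnePoint K) :
    (QuotientGroup.mk g : PSL(2, K)) • x = (SpecialLinearGroup.toGL g : GL (Fin 2) K) • x := rfl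

variable {G Ω : Type*} [Group G] [MulAction G Ω] {e : OnePoint K ≃ Ω} {g : G}

theorem mem_psl_of_gl (a b c d : K) (hd : a * d - b * c = 1)
    (h : ∀ x, g • e x = e (H16.gl2 a b c d (by rw [hd]; exact one_ne_zero) • x)) :
    g ∈ actSub G e PSL(2, K) := by
  let M : SL(2, K) := ⟨!![a, b; c, d], by rw [det_fin_two_of, hd]⟩
  refine ⟨QuotientGroup.mk M, fun x => ?_⟩
  rw [psl_mk_smul, h]
  congr 2

theorem mem_pgl_of_affine {α β : K} (hα : α ≠ 0) (h1 : g • e ∞ = e ∞)
    (h2 : ∀ x : K, g • e x = e (α * x + β : K)) : g ∈ actSub G e PGL(2, K) := by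
  refine ⟨ProjGenLinGroup.mk (H16.gl2 α β 0 1 (by simpa using hα)), fun x => ?_⟩
  rw [H16.pgl_mk_smul]
  cases x with
  | infty => rw [h1]; simp [smul_infty_eq_ite]
  | coe x => rw [h2]; simp [smul_some_eq_ite]

theorem mem_pgl_of_inv {c : K} (hc : c ≠ 0) (h1 : g • e ∞ = e (0 : K)) (h2 : g • e (0 : K) = e ∞)
    (h3 : ∀ x : K, x ≠ 0 → g • e x = e (c / x : K)) : g ∈ actSub G e PGL(2, K) := by
  refine ⟨ProjGenLinGroup.mk (H16.gl2 0 c 1 0 (by simpa using hc)), fun x => ?_⟩
  rw [H16.pgl_mk_smul]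
  cases x with
  | infty => rw [h1]; simp [smul_infty_eq_ite]
  | coe x =>
    by_cases hx : x = 0
    · rw [hx, h2]; simp [smul_some_eq_ite]
    · rw [h3 x hx]; simp [smul_some_eq_ite, hx]

theorem mem_psl_of_affine {α β : K} (hα : α ≠ 0) (hs : IsSquare α) (h1 : g • e ∞ = e ∞)
    (h2 : ∀ x : K, g • e x = e (α * x + β : K)) : g ∈ actSub G e PSL(2, K) := by
  obtain ⟨r, rfl⟩ := hs
  have hr : r ≠ 0 := left_ne_zero_of_mul hα
  refine mem_psl_of_gl r (β / r) 0 r⁻¹ (by simp [hr]) fun x => ?_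
  cases x with
  | infty => rw [h1]; simp [smul_infty_eq_ite]
  | coe x =>
    rw [h2]
    simp only [smul_some_eq_ite, H16.gl2_val, of_apply, cons_val',
      cons_val_zero, cons_val_one, cons_val_fin_one, zero_mul, zero_add, inv_eq_zero, hr, if_false]
    congr 2
    field_simp

theorem mem_psl_of_inv {c : K} (hc : c ≠ 0) (hs : IsSquare (-c)) (h1 : g • e ∞ = e (0 : K))
    (h2 : g • e (0 : K) = e ∞) (h3 : ∀ x : K, x ≠ 0 → g • e x = e (c / x : K)) :
    g ∈ actSub G e PSL(2, K) := by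
  obtain ⟨r, hr'⟩ := hs
  have hr : r ≠ 0 := left_ne_zero_of_mul (hr' ▸ neg_ne_zero.mpr hc)
  obtain rfl : c = -(r * r) := by rw [← hr', neg_neg]
  refine mem_psl_of_gl 0 (-r) r⁻¹ 0 (by simp [hr]) fun x => ?_
  cases x with
  | infty => rw [h1]; simp [smul_infty_eq_ite, hr]
  | coe x =>
    by_cases hx : x = 0
    · rw [hx, h2]; simp [smul_some_eq_ite]
    · rw [h3 x hx]
      simp only [smul_some_eq_ite, H16.gl2_val, of_apply, cons_val',
        cons_val_zero, cons_val_one, cons_val_fin_one, zero_mul, zero_add, add_zero, mul_eq_zero,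
        inv_eq_zero, hr, hx, or_self, if_false]
      congr 2
      field_simp

omit [DecidableEq K] in
theorem card_pgl_two [Finite K] :
    Nat.card PGL(2, K) = (Nat.card K + 1) * (Nat.card K * (Nat.card K - 1)) := by
  classical
  have := Fintype.ofFinite K
  rw [H7.card_pgl_eq_card_sl, H7.card_sl_two (Nat.card_eq_fintype_card (α := K)).symm,
    show Nat.card K ^ 2 - 1 = (Nat.card K + 1) * (Nat.card K - 1) by
      rw [← Nat.sq_sub_sq, one_pow]]
  ring

omit [DecidableEq K] in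
theorem card_psl_two_of_odd [Finite K] {d : ℕ} (hd : 2 * d = Nat.card K - 1) :
    Nat.card PSL(2, K) = (Nat.card K + 1) * (Nat.card K * d) := by
  classical
  have := Fintype.ofFinite K
  have h := H7.card_psl_two (Nat.card_eq_fintype_card (α := K)).symm
  rw [show Nat.card K ^ 2 - 1 = (Nat.card K + 1) * (Nat.card K - 1) by
      rw [← Nat.sq_sub_sq, one_pow], ← hd, Nat.gcd_mul_right_right] at h
  apply Nat.eq_of_mul_eq_mul_left two_pos
  rw [h]; ring

instance instFinitePSL [Finite K] : Finite PSL(2, K) :=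
  Finite.of_injective _ ProjectiveSpecialLinearGroup.toPGL_injective

/-! ### Functional equations -/

omit [DecidableEq K] in
theorem inv_of_braid (h2 : (2 : K) ≠ 0) (hm : IsSquare (-1 : K)) {σ : K → K} (h1 : σ 1 = 1)
    (hs : ∀ m x : K, m ≠ 0 → IsSquare m → x ≠ 0 → σ (m * x) = σ x / m)
    (hb : ∀ x : K, x ≠ 0 → x ≠ 1 → σ (1 - σ x) = 1 - σ (1 - x)) {y : K} (hy : y ≠ 0) :
    σ y = 1 / y := by
  have sq : ∀ x : K, x ≠ 0 → IsSquare x → σ x = 1 / x := fun x hx hx2 => by
    have := hs x 1 hx hx2 one_ne_zero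
    rwa [mul_one, h1] at this
  have key : ∀ x : K, x ≠ 0 → x ≠ 1 → IsSquare x → σ (1 - x) = 1 / (1 - x) := by
    intro x hx hx1 hx2
    have h3 := hb x hx hx1
    have h4 : (1 : K) - x ≠ 0 := sub_ne_zero.mpr hx1.symm
    rw [sq x hx hx2, show 1 - 1 / x = (-1 * x⁻¹) * (1 - x) by field_simp; ring,
      hs _ _ (by simpa using hx) (hm.mul hx2.inv) h4] at h3
    field_simp at h3 ⊢
    linear_combination h3
  by_cases hy1 : y = 1
  · rw [hy1, h1, div_one]
  by_cases hy2 : y = -1
  · rw [hy2]; exact sq _ (by simp) hm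
  have hA : y + 1 ≠ 0 := fun e => hy2 (eq_neg_of_add_eq_zero_left e)
  have hB : y - 1 ≠ 0 := sub_ne_zero.mpr hy1
  have h4 : (4 : K) ≠ 0 := by rw [show (4 : K) = 2 * 2 by norm_num]; exact mul_ne_zero h2 h2
  have e1 : 1 - (y - 1) / (y + 1) * ((y - 1) / (y + 1)) = 4 * y / ((y + 1) * (y + 1)) := by
    field_simp; ring
  have e2 := key ((y - 1) / (y + 1) * ((y - 1) / (y + 1)))
    (mul_ne_zero (div_ne_zero hB hA) (div_ne_zero hB hA)) (fun e => by
      rw [e, sub_self] at e1
      exact div_ne_zero (mul_ne_zero h4 hy) (mul_ne_zero hA hA) e1.symm) ⟨_, rfl⟩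
  rw [e1, show 4 * y / ((y + 1) * (y + 1)) = (2 / (y + 1) * (2 / (y + 1))) * y by field_simp; ring,
    hs _ _ (mul_ne_zero (div_ne_zero h2 hA) (div_ne_zero h2 hA)) ⟨_, rfl⟩ hy] at e2
  field_simp at e2 ⊢
  linear_combination e2

omit [DecidableEq K] in
theorem isSquare_mul_of_not [Finite K] {x y : K} (hx : ¬ IsSquare x) (hy : ¬ IsSquare y) :
    IsSquare (x * y) := by
  classical
  have := Fintype.ofFinite K
  have hx0 : x ≠ 0 := by rintro rfl; exact hx IsSquare.zero
  have hy0 : y ≠ 0 := by rintro rfl; exact hy IsSquare.zero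
  rw [← quadraticChar_one_iff_isSquare (mul_ne_zero hx0 hy0), map_mul,
    quadraticChar_neg_one_iff_not_isSquare.mpr hx, quadraticChar_neg_one_iff_not_isSquare.mpr hy]
  norm_num

end H21
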