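import Mathlib
import Cfsg.Prelude.Def_LieExceptional
import Cfsg.Agent.H21.OddInv

/-! Doubly transitive groups in which only the identity fixes three points: first facts. -/

set_option autoImplicit false

namespace H21

open Cfsg MulAction

/-- two-point stabiliser -/
abbrev St2 (G : Type*) {Ω : Type*} [Group G] [MulAction G Ω] (a b : Ω) : Subgroup G :=
  stabilizer G a ⊓ stabilizer G b

/-- doubly transitive, and only the identity fixes three points -/
structure Z3 (G Ω : Type*) [Group G] [MulAction G Ω] : Prop where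
  two : ∀ {x y z w : Ω}, x ≠ y → z ≠ w → ∃ g : G, g • x = z ∧ g • y = w
  three : ∀ {g : G} {a b c : Ω}, a ≠ b → b ≠ c → a ≠ c → g • a = a → g • b = b → g • c = c → g = 1

/-- `F` is a normal subgroup of the stabiliser of `a`, regular on the other points -/
structure Ker {G Ω : Type*} [Group G] [MulAction G Ω] (a : Ω) (F : Subgroup G) : Prop where
  fix : ∀ u ∈ F, u • a = a
  conj : ∀ h : G, h • a = a → ∀ u ∈ F, h * u * h⁻¹ ∈ F
  trans : ∀ {y z : Ω}, y ≠ a → z ≠ a → ∃ u ∈ F, u • y = z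
  semi : ∀ u ∈ F, ∀ {y : Ω}, y ≠ a → u • y = y → u = 1

variable {G Ω : Type*} [Group G] [MulAction G Ω]

theorem mem_St2 {a b : Ω} {g : G} : g ∈ St2 G a b ↔ g • a = a ∧ g • b = b := Iff.rfl

theorem inv_smul_eq_of_smul_eq {g : G} {a b : Ω} (h : g • a = b) : g⁻¹ • b = a := by
  rw [← h, inv_smul_smul]

theorem conj_smul_smul (g h : G) (a : Ω) : (g * h * g⁻¹) • g • a = g • h • a := by
  rw [mul_smul, mul_smul, inv_smul_smul]

theorem smul_ne_of_fix' {h : G} {a c : Ω} (hh : h • a = a) (hc : c ≠ a) : h • c ≠ a :=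
  fun h1 => hc ((MulAction.injective h) (h1.trans hh.symm))

theorem conj_eq_one_iff {g x : G} : g * x * g⁻¹ = 1 ↔ x = 1 := by
  constructor
  · intro h
    calc x = g⁻¹ * (g * x * g⁻¹) * g := by group
      _ = 1 := by rw [h]; group
  · rintro rfl; group

theorem conj_sq_eq_one {g x : G} (h : x * x = 1) : g * x * g⁻¹ * (g * x * g⁻¹) = 1 := by
  calc g * x * g⁻¹ * (g * x * g⁻¹) = g * (x * x) * g⁻¹ := by group
    _ = 1 := by rw [h]; group

theorem orderOf_eq_two_iff' {x : G} : orderOf x = 2 ↔ x ≠ 1 ∧ x * x = 1 := by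
  have : Fact (Nat.Prime 2) := ⟨Nat.prime_two⟩
  rw [orderOf_eq_prime_iff, pow_two, and_comm]

theorem z3_of_zass (hZ : IsZassenhausGroup G Ω) : Z3 G Ω :=
  ⟨fun h1 h2 => is_two_pretransitive_iff.mp hZ.2.1 h1 h2,
    fun h1 h2 h3 h4 h5 h6 => hZ.2.2.1 _ _ _ _ h1 h2 h3 h4 h5 h6⟩

/-- a subgroup acting freely on an invariant set has order dividing the size of the set -/
theorem card_dvd_of_free (A : Subgroup G) (S : Set Ω) (hS : ∀ g ∈ A, ∀ x ∈ S, g • x ∈ S)
    (hf : ∀ g ∈ A, ∀ x ∈ S, g • x = x → g = 1) : Nat.card A ∣ Nat.card S := by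
  let _ : MulAction A S :=
    { smul := fun g x => ⟨(g : G) • (x : Ω), hS g g.2 x x.2⟩
      one_smul := fun x => Subtype.ext (one_smul G (x : Ω))
      mul_smul := fun g h x => Subtype.ext (mul_smul (g : G) (h : G) (x : Ω)) }
  have e := MulAction.selfEquivOrbitsQuotientProd (G := A) (X := S) (fun x => by
    rw [eq_bot_iff]
    intro g hg
    exact Subtype.ext (hf g g.2 x x.2 (congrArg Subtype.val hg)))
  rw [Nat.card_congr e, Nat.card_prod]
  exact Dvd.intro_left _ rfl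

theorem card_ne_one [Finite Ω] (a : Ω) : Nat.card {c : Ω // c ≠ a} = Nat.card Ω - 1 := by
  classical
  rw [← Nat.card_congr (Equiv.optionSubtypeNe a), Finite.card_option]; rfl

theorem card_ne_two [Finite Ω] {a b : Ω} (hab : a ≠ b) :
    Nat.card {c : Ω // c ≠ a ∧ c ≠ b} = Nat.card Ω - 2 := by
  have e : {c : Ω // c ≠ a ∧ c ≠ b} ≃ {c : {c : Ω // c ≠ a} // c ≠ ⟨b, hab.symm⟩} :=
    { toFun := fun c => ⟨⟨c.1, c.2.1⟩, fun h => c.2.2 (congrArg Subtype.val h)⟩
      invFun := fun c => ⟨c.1.1, c.1.2, fun h => c.2 (Subtype.ext h)⟩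
      left_inv := fun _ => rfl
      right_inv := fun _ => rfl }
  rw [Nat.card_congr e, card_ne_one, card_ne_one]; omega

theorem two_le_card_of_ne [Finite Ω] {a b : Ω} (hab : a ≠ b) : 2 ≤ Nat.card Ω :=
  Finite.one_lt_card_iff_nontrivial.mpr ⟨a, b, hab⟩

theorem exists_third_of_card [Finite Ω] (h : 3 ≤ Nat.card Ω) (a b : Ω) :
    ∃ c : Ω, c ≠ a ∧ c ≠ b := by
  by_cases hab : a = b
  · subst hab
    have : 0 < Nat.card {c : Ω // c ≠ a} := by rw [card_ne_one]; omega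
    obtain ⟨c⟩ := (Nat.card_pos_iff.mp this).1
    exact ⟨c.1, c.2, c.2⟩
  · have : 0 < Nat.card {c : Ω // c ≠ a ∧ c ≠ b} := by rw [card_ne_two hab]; omega
    obtain ⟨c⟩ := (Nat.card_pos_iff.mp this).1
    exact ⟨c.1, c.2⟩

theorem three_le_card_of_ne [Finite Ω] {a b c : Ω} (hab : a ≠ b) (hca : c ≠ a) (hcb : c ≠ b) :
    3 ≤ Nat.card Ω := by
  have : 0 < Nat.card {c : Ω // c ≠ a ∧ c ≠ b} := Nat.card_pos_iff.mpr ⟨⟨⟨c, hca, hcb⟩⟩, inferInstance⟩
  rw [card_ne_two hab] at this; omega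

theorem card_fixedBy_modEq [Finite Ω] {s : G} (hs : s * s = 1) :
    Nat.card Ω ≡ Nat.card (fixedBy Ω s) [MOD 2] := by
  have : Fact (Nat.Prime 2) := ⟨Nat.prime_two⟩
  have hp : IsPGroup 2 (Subgroup.zpowers s) := by
    apply IsPGroup.of_card_dvd_pow (n := 1)
    rw [Nat.card_zpowers]
    exact orderOf_dvd_of_pow_eq_one (by rw [pow_one, pow_two, hs])
  have := hp.card_modEq_card_fixedPoints Ω
  have e : fixedPoints (Subgroup.zpowers s) Ω = fixedBy Ω s := by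
    ext c
    constructor
    · intro h; exact h ⟨s, Subgroup.mem_zpowers s⟩
    · rintro h ⟨_, n, rfl⟩
      exact (stabilizer G c).zpow_mem h n
  rwa [e] at this

namespace Z3

theorem trans (h : Z3 G Ω) {a b : Ω} (hab : a ≠ b) (x y : Ω) : ∃ g : G, g • x = y := by
  have key : ∀ x : Ω, ∃ x' : Ω, x ≠ x' := by
    intro x
    by_cases h : x = a
    · exact ⟨b, h ▸ hab⟩
    · exact ⟨a, h⟩
  obtain ⟨x', hx⟩ := key x
  obtain ⟨y', hy⟩ := key y
  obtain ⟨g, hg, -⟩ := h.two hx hy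
  exact ⟨g, hg⟩

theorem eq_one (h : Z3 G Ω) {a b c : Ω} (hab : a ≠ b) {g : G} (hg : g ∈ St2 G a b) (hca : c ≠ a)
    (hcb : c ≠ b) (hc : g • c = c) : g = 1 :=
  h.three hab hcb.symm hca.symm hg.1 hg.2 hc

theorem eq_or_eq (h : Z3 G Ω) {a b c : Ω} (hab : a ≠ b) {g : G} (hg : g ∈ St2 G a b) (hg1 : g ≠ 1)
    (hc : g • c = c) : c = a ∨ c = b := by
  by_contra hh
  rw [not_or] at hh
  exact hg1 (h.eq_one hab hg hh.1 hh.2 hc)

theorem ext3 (h : Z3 G Ω) {a b c : Ω} (hab : a ≠ b) (hbc : b ≠ c) (hac : a ≠ c) {g g' : G}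
    (h1 : g • a = g' • a) (h2 : g • b = g' • b) (h3 : g • c = g' • c) : g = g' := by
  have : g'⁻¹ * g = 1 := h.three hab hbc hac (by rw [mul_smul, h1, inv_smul_smul])
    (by rw [mul_smul, h2, inv_smul_smul]) (by rw [mul_smul, h3, inv_smul_smul])
  exact (inv_mul_eq_one.mp this).symm

theorem card_fiber (h : Z3 G Ω) {a b x y z w : Ω} (hab : a ≠ b) (hxy : x ≠ y) (hzw : z ≠ w) :
    Nat.card {g : G // g • x = z ∧ g • y = w} = Nat.card (St2 G a b) := by
  obtain ⟨p, hp1, hp2⟩ := h.two hxy hab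
  obtain ⟨r, hr1, hr2⟩ := h.two hab hzw
  refine Nat.card_congr
    { toFun := fun g => ⟨r⁻¹ * g.1 * p⁻¹, ?_, ?_⟩
      invFun := fun k => ⟨r * k.1 * p, ?_, ?_⟩
      left_inv := fun g => Subtype.ext (by simp [mul_assoc])
      right_inv := fun g => Subtype.ext (by simp [mul_assoc]) }
  · show (r⁻¹ * g.1 * p⁻¹) • a = a
    rw [mul_smul, mul_smul, inv_smul_eq_of_smul_eq hp1, g.2.1, inv_smul_eq_of_smul_eq hr1]
  · show (r⁻¹ * g.1 * p⁻¹) • b = b
    rw [mul_smul, mul_smul, inv_smul_eq_of_smul_eq hp2, g.2.2, inv_smul_eq_of_smul_eq hr2]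
  · rw [mul_smul, mul_smul, hp1, (mem_St2.mp k.2).1, hr1]
  · rw [mul_smul, mul_smul, hp2, (mem_St2.mp k.2).2, hr2]

theorem card_St2_eq (h : Z3 G Ω) {a b x y : Ω} (hab : a ≠ b) (hxy : x ≠ y) :
    Nat.card (St2 G x y) = Nat.card (St2 G a b) :=
  h.card_fiber hab hxy hxy

theorem card_stab [Finite Ω] (h : Z3 G Ω) {a b : Ω} (hab : a ≠ b) :
    Nat.card (stabilizer G a) = (Nat.card Ω - 1) * Nat.card (St2 G a b) := by
  have := Fintype.ofFinite {c : Ω // c ≠ a}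
  have e : stabilizer G a ≃ Σ c : {c : Ω // c ≠ a}, {g : G // g • a = a ∧ g • b = c} :=
    { toFun := fun g => ⟨⟨g.1 • b, smul_ne_of_fix' g.2 hab.symm⟩, g.1, g.2, rfl⟩
      invFun := fun p => ⟨p.2.1, p.2.2.1⟩
      left_inv := fun _ => rfl
      right_inv := by
        rintro ⟨⟨c, hc⟩, g, h1, h2⟩
        dsimp only at h2
        subst h2
        rfl }
  by_cases hf : Finite (St2 G a b)
  · have : ∀ c : {c : Ω // c ≠ a}, Finite {g : G // g • a = a ∧ g • b = c} := fun c =>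
      Nat.finite_of_card_ne_zero (by rw [h.card_fiber hab hab c.2.symm]; exact Nat.card_pos.ne')
    rw [Nat.card_congr e, Nat.card_sigma]
    simp only [fun c : {c : Ω // c ≠ a} => h.card_fiber hab hab c.2.symm]
    rw [Finset.sum_const, Finset.card_univ, ← Nat.card_eq_fintype_card, card_ne_one, smul_eq_mul]
  · have h1 : Infinite (St2 G a b) := not_finite_iff_infinite.mp hf
    have h2 : Infinite (stabilizer G a) :=
      Infinite.of_injective _ (Subgroup.inclusion_injective (inf_le_left : St2 G a b ≤ _))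
    rw [Nat.card_eq_zero_of_infinite, Nat.card_eq_zero_of_infinite (α := St2 G a b), mul_zero]

theorem card_G [Finite Ω] (h : Z3 G Ω) {a b : Ω} (hab : a ≠ b) :
    Nat.card G = Nat.card Ω * ((Nat.card Ω - 1) * Nat.card (St2 G a b)) := by
  have : IsPretransitive G Ω := ⟨h.trans hab⟩
  rw [← h.card_stab hab, ← index_stabilizer_of_transitive G a, Subgroup.index_mul_card]

theorem card_St2_dvd [Finite Ω] (h : Z3 G Ω) {a b : Ω} (hab : a ≠ b) :
    Nat.card (St2 G a b) ∣ Nat.card Ω - 2 := by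
  rw [← card_ne_two hab]
  exact card_dvd_of_free (St2 G a b) {c | c ≠ a ∧ c ≠ b}
    (fun g hg x hx => ⟨smul_ne_of_fix' hg.1 hx.1, smul_ne_of_fix' hg.2 hx.2⟩)
    (fun g hg x hx e => h.eq_one hab hg hx.1 hx.2 e)

theorem card_fixedBy_le [Finite Ω] (h : Z3 G Ω) {g : G} (hg : g ≠ 1) :
    Nat.card (fixedBy Ω g) ≤ 2 := by
  by_contra hc
  have h3 : 3 ≤ Nat.card (fixedBy Ω g) := by omega
  obtain ⟨a⟩ : Nonempty (fixedBy Ω g) := (Nat.card_pos_iff.mp (by omega)).1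
  obtain ⟨b, hb, -⟩ := exists_third_of_card h3 a a
  obtain ⟨c, hca, hcb⟩ := exists_third_of_card h3 a b
  exact hg (h.three (fun e => hb (Subtype.ext e).symm) (fun e => hcb (Subtype.ext e).symm)
    (fun e => hca (Subtype.ext e).symm) a.2 b.2 c.2)

theorem card_fixedBy_eq_two (h : Z3 G Ω) {g : G} (hg : g ≠ 1) {a b : Ω} (hab : a ≠ b)
    (hm : g ∈ St2 G a b) : Nat.card (fixedBy Ω g) = 2 := by
  have : fixedBy Ω g = {a, b} := by
    ext c
    constructor
    · intro hc; exact h.eq_or_eq hab hm hg hc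
    · rintro (rfl | rfl)
      · exact hm.1
      · exact hm.2
  rw [this, Nat.card_coe_set_eq, Set.ncard_pair hab]

theorem conj_mem_St2 {a b : Ω} {g x : G} (hg : (g • a = a ∧ g • b = b) ∨ (g • a = b ∧ g • b = a))
    (hx : x ∈ St2 G a b) : g * x * g⁻¹ ∈ St2 G a b := by
  rcases hg with ⟨h1, h2⟩ | ⟨h1, h2⟩
  · exact Subgroup.mul_mem _ (Subgroup.mul_mem _ ⟨h1, h2⟩ hx) (Subgroup.inv_mem _ ⟨h1, h2⟩)
  · constructor
    · show (g * x * g⁻¹) • a = a
      nth_rewrite 1 [← h2]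
      rw [conj_smul_smul, (mem_St2.mp hx).2, h2]
    · show (g * x * g⁻¹) • b = b
      nth_rewrite 1 [← h1]
      rw [conj_smul_smul, (mem_St2.mp hx).1, h1]

theorem swap_inv {a b : Ω} {g : G} (hg : (g • a = a ∧ g • b = b) ∨ (g • a = b ∧ g • b = a)) :
    (g⁻¹ • a = a ∧ g⁻¹ • b = b) ∨ (g⁻¹ • a = b ∧ g⁻¹ • b = a) := by
  rcases hg with ⟨h1, h2⟩ | ⟨h1, h2⟩
  · exact Or.inl ⟨inv_smul_eq_of_smul_eq h1, inv_smul_eq_of_smul_eq h2⟩
  · exact Or.inr ⟨inv_smul_eq_of_smul_eq h2, inv_smul_eq_of_smul_eq h1⟩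

/-- an element conjugating a non-identity element of `G_{ab}` into `G_{ab}` stabilises `{a, b}` -/
theorem swap_of_conj_mem (h : Z3 G Ω) {a b : Ω} (hab : a ≠ b) {g x : G} (hx : x ∈ St2 G a b)
    (hx1 : x ≠ 1) (hg : g * x * g⁻¹ ∈ St2 G a b) :
    (g • a = a ∧ g • b = b) ∨ (g • a = b ∧ g • b = a) := by
  have h1 : g * x * g⁻¹ ≠ 1 := fun e => hx1 (conj_eq_one_iff.mp e)
  have h2 := h.eq_or_eq hab hg h1 (c := g • a) (by rw [conj_smul_smul, (mem_St2.mp hx).1])
  have h3 := h.eq_or_eq hab hg h1 (c := g • b) (by rw [conj_smul_smul, (mem_St2.mp hx).2])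
  have h4 : g • a ≠ g • b := fun e => hab (MulAction.injective g e)
  rcases h2 with h2 | h2 <;> rcases h3 with h3 | h3
  · exact absurd (h2.trans h3.symm) h4
  · exact Or.inl ⟨h2, h3⟩
  · exact Or.inr ⟨h2, h3⟩
  · exact absurd (h2.trans h3.symm) h4

theorem swap_of_comm (h : Z3 G Ω) {a b : Ω} (hab : a ≠ b) {g x : G} (hx : x ∈ St2 G a b)
    (hx1 : x ≠ 1) (hg : g * x = x * g) :
    (g • a = a ∧ g • b = b) ∨ (g • a = b ∧ g • b = a) :=
  h.swap_of_conj_mem hab hx hx1 (by rw [hg, mul_inv_cancel_right]; exact hx)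

theorem mem_normalizer_St2_iff (h : Z3 G Ω) {a b : Ω} (hab : a ≠ b) (h1 : St2 G a b ≠ ⊥) {g : G} :
    g ∈ Subgroup.normalizer (St2 G a b : Set G) ↔
      (g • a = a ∧ g • b = b) ∨ (g • a = b ∧ g • b = a) := by
  constructor
  · intro hg
    obtain ⟨⟨x, hx⟩, hx1⟩ := (Subgroup.ne_bot_iff_exists_ne_one.mp h1)
    exact h.swap_of_conj_mem hab hx (fun e => hx1 (Subtype.ext e))
      ((Subgroup.mem_normalizer_iff.mp hg x).mp hx)
  · intro hg
    rw [Subgroup.mem_normalizer_iff]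
    intro x
    refine ⟨conj_mem_St2 hg, fun hx => ?_⟩
    have := conj_mem_St2 (swap_inv hg) hx
    have e : g⁻¹ * (g * x * g⁻¹) * g⁻¹⁻¹ = x := by group
    rwa [e] at this

/-- if `G_{ab}` has odd order there is an involution interchanging `a` and `b` -/
theorem exists_swap_invol_of_odd [Finite G] (h : Z3 G Ω) {a b : Ω} (hab : a ≠ b)
    (hodd : Odd (Nat.card (St2 G a b))) :
    ∃ s : G, s ≠ 1 ∧ s * s = 1 ∧ s • a = b ∧ s • b = a := by
  obtain ⟨g, hg1, hg2⟩ := h.two hab hab.symm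
  have hgg : g * g ∈ St2 G a b := ⟨by show (g * g) • a = a; rw [mul_smul, hg1, hg2],
    by show (g * g) • b = b; rw [mul_smul, hg2, hg1]⟩
  obtain ⟨m, hm⟩ := hodd
  have e : g ^ (2 * m + 1) = (g * g) ^ m * g := by rw [pow_succ, pow_mul, pow_two]
  have h1 : g ^ (2 * m + 1) • a = b := by
    rw [e, mul_smul, hg1, (mem_St2.mp (Subgroup.pow_mem _ hgg m)).2]
  have h2 : g ^ (2 * m + 1) • b = a := by
    rw [e, mul_smul, hg2, (mem_St2.mp (Subgroup.pow_mem _ hgg m)).1]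
  refine ⟨g ^ (2 * m + 1), ?_, ?_, h1, h2⟩
  · intro h3; rw [h3, one_smul] at h1; exact hab h1
  · rw [← (Commute.refl g).mul_pow, ← hm]; exact pow_card_eq_one_of_mem hgg

/-- a conjugate of an involution with two fixed points interchanges `a` and `b` -/
theorem exists_swap_invol_of_even [Finite G] [Finite Ω] (h : Z3 G Ω) (h3 : 3 ≤ Nat.card Ω)
    {a b : Ω} (hab : a ≠ b) (heven : Even (Nat.card (St2 G a b))) :
    ∃ s : G, s ≠ 1 ∧ s * s = 1 ∧ s • a = b ∧ s • b = a ∧ ∃ c d : Ω, c ≠ d ∧ s ∈ St2 G c d := by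
  obtain ⟨z, hz, hz1, hz2⟩ := exists_invol_of_even_card heven
  obtain ⟨c, hca, hcb⟩ := exists_third_of_card h3 a b
  have hc : c ≠ z • c := fun e => hz1 (h.eq_one hab hz hca hcb e.symm)
  obtain ⟨g, hg1, hg2⟩ := h.two hc hab
  refine ⟨g * z * g⁻¹, fun e => hz1 (conj_eq_one_iff.mp e), conj_sq_eq_one hz2, ?_, ?_,
    g • a, g • b, fun e => hab (MulAction.injective g e), ?_, ?_⟩
  · rw [← hg1, conj_smul_smul, hg2]
  · rw [← hg2, conj_smul_smul, ← mul_smul z, hz2, one_smul, hg1]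
  · show (g * z * g⁻¹) • g • a = g • a
    rw [conj_smul_smul, (mem_St2.mp hz).1]
  · show (g * z * g⁻¹) • g • b = g • b
    rw [conj_smul_smul, (mem_St2.mp hz).2]

theorem exists_swap_invol [Finite G] [Finite Ω] (h : Z3 G Ω) (h3 : 3 ≤ Nat.card Ω)
    {a b : Ω} (hab : a ≠ b) : ∃ s : G, s ≠ 1 ∧ s * s = 1 ∧ s • a = b ∧ s • b = a := by
  rcases Nat.even_or_odd (Nat.card (St2 G a b)) with he | ho
  · obtain ⟨s, h1, h2, h3, h4, -⟩ := h.exists_swap_invol_of_even h3 hab he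
    exact ⟨s, h1, h2, h3, h4⟩
  · exact h.exists_swap_invol_of_odd hab ho

end Z3

theorem St2_ne_bot (hZ : IsZassenhausGroup G Ω) {a b : Ω} (hab : a ≠ b) : St2 G a b ≠ ⊥ := by
  obtain ⟨g, hg1, x, y, hxy, hx, hy⟩ := hZ.2.2.2.1
  obtain ⟨k, rfl, rfl⟩ := (z3_of_zass hZ).two hxy hab
  intro h
  have : k * g * k⁻¹ ∈ St2 G (k • x) (k • y) :=
    ⟨by show (k * g * k⁻¹) • k • x = k • x; rw [conj_smul_smul, hx],
     by show (k * g * k⁻¹) • k • y = k • y; rw [conj_smul_smul, hy]⟩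
  rw [h, Subgroup.mem_bot] at this
  exact hg1 (conj_eq_one_iff.mp this)

theorem exists_pair (hZ : IsZassenhausGroup G Ω) (a : Ω) : ∃ b : Ω, a ≠ b := by
  obtain ⟨g, hg1, x, y, hxy, hx, hy⟩ := hZ.2.2.2.1
  by_cases h : a = x
  · exact ⟨y, h ▸ hxy⟩
  · exact ⟨x, h⟩

theorem three_le_card [Finite Ω] (hZ : IsZassenhausGroup G Ω) : 3 ≤ Nat.card Ω := by
  obtain ⟨g, hg1, x, y, hxy, hx, hy⟩ := hZ.2.2.2.1
  have := hZ.1
  by_contra hc
  apply hg1
  apply FaithfulSMul.eq_of_smul_eq_smul (α := Ω)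
  intro c
  rw [one_smul]
  by_cases h1 : c = x
  · rw [h1, hx]
  by_cases h2 : c = y
  · rw [h2, hy]
  exact absurd (three_le_card_of_ne hxy h1 h2) hc

theorem finite_of_faithful [Finite Ω] [FaithfulSMul G Ω] : Finite G :=
  Finite.of_injective (MulAction.toPermHom G Ω) MulAction.toPerm_injective

theorem two_le_card_St2 [Finite G] (hZ : IsZassenhausGroup G Ω) {a b : Ω} (hab : a ≠ b) :
    2 ≤ Nat.card (St2 G a b) := (Subgroup.one_lt_card_iff_ne_bot _).mpr (St2_ne_bot hZ hab)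

theorem four_le_card [Finite G] [Finite Ω] (hZ : IsZassenhausGroup G Ω) : 4 ≤ Nat.card Ω := by
  obtain ⟨g, hg1, a, b, hab, -, -⟩ := hZ.2.2.2.1
  have h1 := three_le_card hZ
  have h2 := two_le_card_St2 hZ hab
  have h3 := Nat.le_of_dvd (by omega) ((z3_of_zass hZ).card_St2_dvd hab)
  omega

theorem s0879 [Finite G] (hZ : Cfsg.IsZassenhausGroup G Ω) {a b : Ω} (hab : a ≠ b) : (∀ g : G, g ∉ Subgroup.normalizer ((MulAction.stabilizer G a ⊓ MulAction.stabilizer G b : Subgroup G) : Set G) → ∀ x ∈ (MulAction.stabilizer G a ⊓ MulAction.stabilizer G b : Subgroup G), g * x * g⁻¹ ∈ (MulAction.stabilizer G a ⊓ MulAction.stabilizer G b : Subgroup G) → x = 1) ∧ ((MulAction.stabilizer G a ⊓ MulAction.stabilizer G b : Subgroup G).subgroupOf (Subgroup.normalizer ((MulAction.stabilizer G a ⊓ MulAction.stabilizer G b : Subgroup G) : Set G))).index = 2 := by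
  have h := z3_of_zass hZ
  have h1 := St2_ne_bot hZ hab
  constructor
  · intro g hg x hx hgx
    by_contra hx1
    exact hg ((h.mem_normalizer_St2_iff hab h1).mpr (h.swap_of_conj_mem hab hx hx1 hgx))
  · obtain ⟨s, hs1, hs2⟩ := h.two hab hab.symm
    rw [Subgroup.index_eq_two_iff]
    refine ⟨⟨s, (h.mem_normalizer_St2_iff hab h1).mpr (Or.inr ⟨hs1, hs2⟩)⟩, ?_⟩
    rintro ⟨g, hg⟩
    simp only [Subgroup.mem_subgroupOf, Subgroup.coe_mul, mem_St2, mul_smul, hs1, hs2]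
    rcases (h.mem_normalizer_St2_iff hab h1).mp hg with ⟨h2, h3⟩ | ⟨h2, h3⟩
    · rw [h2, h3]
      exact Or.inr ⟨⟨rfl, rfl⟩, fun e => hab e.2⟩
    · rw [h2, h3]
      exact Or.inl ⟨⟨rfl, rfl⟩, fun e => hab e.2⟩

theorem s0740 [Finite G] [Fintype Ω] (hZ : Cfsg.IsZassenhausGroup G Ω) {a b : Ω} (hab : a ≠ b) : (∃ s : G, orderOf s = 2 ∧ s • a = b ∧ s • b = a) ∧ (∀ s : G, orderOf s = 2 → s • a = b → s • b = a → (Odd (Fintype.card Ω) → Nat.card (MulAction.fixedBy Ω s) = 1) ∧ (Even (Fintype.card Ω) → Nat.card (MulAction.fixedBy Ω s) = 0 ∨ Nat.card (MulAction.fixedBy Ω s) = 2)) ∧ (Even (Fintype.card Ω) → Even (Nat.card ↥(MulAction.stabilizer G a ⊓ MulAction.stabilizer G b)) → ∃ s : G, orderOf s = 2 ∧ s • a = b ∧ s • b = a ∧ Nat.card (MulAction.fixedBy Ω s) = 2) := by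
  have h := z3_of_zass hZ
  have h3 := three_le_card hZ
  refine ⟨?_, fun s hs _ _ => ?_, fun _ he => ?_⟩
  · obtain ⟨s, h1, h2, h3, h4⟩ := h.exists_swap_invol h3 hab
    exact ⟨s, orderOf_eq_two_iff'.mpr ⟨h1, h2⟩, h3, h4⟩
  · obtain ⟨h1, h2⟩ := orderOf_eq_two_iff'.mp hs
    have h4 := card_fixedBy_modEq (Ω := Ω) h2
    have h5 := h.card_fixedBy_le h1
    rw [Nat.card_eq_fintype_card, Nat.ModEq] at h4
    constructor
    · intro ho; rw [Nat.odd_iff] at ho; omega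
    · intro ho; rw [Nat.even_iff] at ho; omega
  · obtain ⟨s, h1, h2, h3, h4, c, d, hcd, hs⟩ := h.exists_swap_invol_of_even h3 hab he
    exact ⟨s, orderOf_eq_two_iff'.mpr ⟨h1, h2⟩, h3, h4, h.card_fixedBy_eq_two h1 hcd hs⟩

theorem Z3.card_swap [Finite G] [Finite Ω] (h : Z3 G Ω) {a b : Ω} (hab : a ≠ b) :
    Nat.card {g : G // g • a ≠ a ∧ g • g • a = a} = (Nat.card Ω - 1) * Nat.card (St2 G a b) := by
  have := Fintype.ofFinite {c : Ω // c ≠ a}
  have e : {g : G // g • a ≠ a ∧ g • g • a = a} ≃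
      Σ c : {c : Ω // c ≠ a}, {g : G // g • a = c ∧ g • (c : Ω) = a} :=
    { toFun := fun g => ⟨⟨g.1 • a, g.2.1⟩, g.1, rfl, g.2.2⟩
      invFun := fun p => ⟨p.2.1, by rw [p.2.2.1]; exact ⟨p.1.2, p.2.2.2⟩⟩
      left_inv := fun _ => rfl
      right_inv := by
        rintro ⟨⟨c, hc⟩, g, h1, h2⟩
        dsimp only at h1
        subst h1
        rfl }
  rw [Nat.card_congr e, Nat.card_sigma]
  simp only [fun c : {c : Ω // c ≠ a} => h.card_fiber hab c.2.symm c.2]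
  rw [Finset.sum_const, Finset.card_univ, ← Nat.card_eq_fintype_card, card_ne_one, smul_eq_mul]

/-- when `|G_{ab}|` is even, many involutions with two fixed points move `a` -/
theorem Z3.card_invol_ge [Finite G] [Finite Ω] (h : Z3 G Ω) {a b : Ω} (hab : a ≠ b)
    (heven : Even (Nat.card (St2 G a b))) :
    (Nat.card Ω - 1) * (Nat.card Ω - 2) ≤
      2 * Nat.card {u : G // u • a ≠ a ∧ u * u = 1 ∧ ∃ c d : Ω, c ≠ d ∧ u ∈ St2 G c d} := by
  classical
  have := Fintype.ofFinite Ω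
  have := Fintype.ofFinite G
  have hz : ∀ p : Ω × Ω, ∃ z : G, p.1 ≠ p.2 → z ∈ St2 G p.1 p.2 ∧ z ≠ 1 ∧ z * z = 1 := by
    intro p
    by_cases hp : p.1 = p.2
    · exact ⟨1, fun h => absurd hp h⟩
    · obtain ⟨z, hz⟩ := exists_invol_of_even_card (X := St2 G p.1 p.2)
        (by rw [h.card_St2_eq hab hp]; exact heven)
      exact ⟨z, fun _ => hz⟩
  choose z hz using hz
  have key := Finset.card_le_mul_card_image_of_maps_to (f := z)
    (s := (Finset.univ.erase a).offDiag)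
    (t := Finset.univ.filter fun u : G => u • a ≠ a ∧ u * u = 1 ∧ ∃ c d : Ω, c ≠ d ∧ u ∈ St2 G c d)
    (by
      intro p hp
      simp only [Finset.mem_offDiag, Finset.mem_erase, Finset.mem_univ, and_true] at hp
      obtain ⟨h1, h2, h3⟩ := hz p hp.2.2
      simp only [Finset.mem_filter, Finset.mem_univ, true_and]
      exact ⟨fun e => h2 (h.eq_one hp.2.2 h1 hp.1.symm hp.2.1.symm e), h3, _, _, hp.2.2, h1⟩) 2
    (by
      intro u hu
      simp only [Finset.mem_filter, Finset.mem_univ, true_and] at hu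
      obtain ⟨hu1, -, c, d, hcd, hu2⟩ := hu
      have hu3 : u ≠ 1 := by rintro rfl; exact hu1 (one_smul _ _)
      refine le_trans (Finset.card_le_card (t := {(c, d), (d, c)}) ?_) Finset.card_le_two
      rintro ⟨x, y⟩ hp
      simp only [Finset.mem_filter, Finset.mem_offDiag, Finset.mem_erase, Finset.mem_univ,
        and_true] at hp
      obtain ⟨⟨-, -, hxy⟩, e⟩ := hp
      obtain ⟨h1, -, -⟩ := hz (x, y) hxy
      rw [e] at h1
      simp only [Finset.mem_insert, Finset.mem_singleton, Prod.mk.injEq]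
      have h1x : u • x = x := h1.1
      have h1y : u • y = y := h1.2
      rcases h.eq_or_eq hcd hu2 hu3 h1x with e1 | e1 <;>
        rcases h.eq_or_eq hcd hu2 hu3 h1y with e2 | e2
      · exact absurd (e1.trans e2.symm) hxy
      · exact Or.inl ⟨e1, e2⟩
      · exact Or.inr ⟨e1, e2⟩
      · exact absurd (e1.trans e2.symm) hxy)
  rw [Finset.offDiag_card, Finset.card_erase_of_mem (Finset.mem_univ a), Finset.card_univ,
    ← Nat.card_eq_fintype_card, ← Fintype.card_subtype, ← Nat.card_eq_fintype_card] at key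
  refine le_trans (le_of_eq ?_) key
  rw [show Nat.card Ω - 2 = Nat.card Ω - 1 - 1 by omega, Nat.mul_sub_one]

theorem Z3.card_sub_two_le [Finite G] [Finite Ω] (h : Z3 G Ω) {a b : Ω} (hab : a ≠ b)
    (heven : Even (Nat.card (St2 G a b))) : Nat.card Ω - 2 ≤ 2 * Nat.card (St2 G a b) := by
  have h1 := h.card_invol_ge hab heven
  have h2 : Nat.card {u : G // u • a ≠ a ∧ u * u = 1 ∧ ∃ c d : Ω, c ≠ d ∧ u ∈ St2 G c d} ≤
      Nat.card {g : G // g • a ≠ a ∧ g • g • a = a} :=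
    Nat.card_le_card_of_injective
      (fun u => ⟨u.1, u.2.1, by rw [← mul_smul, u.2.2.1, one_smul]⟩)
      (fun u v e => Subtype.ext (Subtype.mk.inj e))
  rw [h.card_swap hab] at h2
  have h3 := two_le_card_of_ne hab
  have h4 : (Nat.card Ω - 1) * (Nat.card Ω - 2) ≤ (Nat.card Ω - 1) * (2 * Nat.card (St2 G a b)) := by
    calc _ ≤ 2 * ((Nat.card Ω - 1) * Nat.card (St2 G a b)) := le_trans h1 (by omega)
      _ = _ := by ring
  exact Nat.le_of_mul_le_mul_left h4 (by omega)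

/-- the extremal case: every element interchanging two points is an involution with two fixed
points -/
theorem Z3.swap_invol_of_le [Finite G] [Finite Ω] (h : Z3 G Ω) {a b : Ω} (hab : a ≠ b)
    (heven : Even (Nat.card (St2 G a b))) (hle : 2 * Nat.card (St2 G a b) ≤ Nat.card Ω - 2)
    {g : G} (h1 : g • a = b) (h2 : g • b = a) : g * g = 1 := by
  have h3 := h.card_invol_ge hab heven
  let f : {u : G // u • a ≠ a ∧ u * u = 1 ∧ ∃ c d : Ω, c ≠ d ∧ u ∈ St2 G c d} →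
      {g : G // g • a ≠ a ∧ g • g • a = a} :=
    fun u => ⟨u.1, u.2.1, by rw [← mul_smul, u.2.2.1, one_smul]⟩
  have hf : Function.Injective f := fun u v e => Subtype.ext (Subtype.mk.inj e)
  have hb := hf.bijective_of_nat_card_le (by
    rw [h.card_swap hab]
    have : (Nat.card Ω - 1) * (2 * Nat.card (St2 G a b)) ≤ (Nat.card Ω - 1) * (Nat.card Ω - 2) :=
      Nat.mul_le_mul_left _ hle
    have h4 : (Nat.card Ω - 1) * (2 * Nat.card (St2 G a b)) =
      2 * ((Nat.card Ω - 1) * Nat.card (St2 G a b)) := by ring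
    omega)
  obtain ⟨u, hu⟩ := hb.2 ⟨g, by rw [h1]; exact hab.symm, by rw [h1, h2]⟩
  have : u.1 = g := congrArg Subtype.val hu
  rw [← this]; exact u.2.2.1

theorem s0741 [Finite G] [Fintype Ω] (hZ : Cfsg.IsZassenhausGroup G Ω) {a b : Ω} (hab : a ≠ b) (heven : Even (Nat.card ↥(MulAction.stabilizer G a ⊓ MulAction.stabilizer G b))) : Fintype.card Ω - 2 ≤ 2 * Nat.card ↥(MulAction.stabilizer G a ⊓ MulAction.stabilizer G b) := by
  rw [← Nat.card_eq_fintype_card]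
  exact (z3_of_zass hZ).card_sub_two_le hab heven

end H21
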