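import Mathlib
import Cfsg.Prelude.Def_LieExceptional
import Cfsg.Agent.H21.Zass1
import Cfsg.Agent.H2.Frobenius
import Cfsg.Agent.H2.MinNormal
import Cfsg.Agent.H2.Quaternion
import Cfsg.Agent.H1.CoprimeAbelian

/-! The kernel of a point stabiliser in a Zassenhaus group. -/

set_option autoImplicit false

namespace H21

open Cfsg MulAction

variable {G Ω : Type*} [Group G] [MulAction G Ω]

theorem relIndex_centralizer_le (M : Subgroup G) (x : G) (S : Set G) [Finite S]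
    (hS : ∀ g ∈ M, g * x * g⁻¹ ∈ S) : (Subgroup.centralizer {x}).relIndex M ≤ Nat.card S := by
  let f : M ⧸ (Subgroup.centralizer {x}).subgroupOf M → S := fun q =>
    Quotient.liftOn' q (fun g : M => (⟨g * x * (g : G)⁻¹, hS g g.2⟩ : S)) (by
      intro g h hgh
      rw [QuotientGroup.leftRel_apply, Subgroup.mem_subgroupOf,
        Subgroup.mem_centralizer_singleton_iff] at hgh
      apply Subtype.ext
      simp only [Subgroup.coe_mul, Subgroup.coe_inv] at hgh ⊢
      calc (g : G) * x * (g : G)⁻¹ = g * (x * ((g : G)⁻¹ * h)) * (h : G)⁻¹ := by group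
        _ = _ := by rw [← hgh]; group)
  apply Nat.card_le_card_of_injective f
  intro q r
  induction q using Quotient.inductionOn' with | h g => ?_
  induction r using Quotient.inductionOn' with | h k => ?_
  intro e
  have e' : (g : G) * x * (g : G)⁻¹ = k * x * (k : G)⁻¹ := congrArg Subtype.val e
  apply Quotient.sound'
  rw [QuotientGroup.leftRel_apply, Subgroup.mem_subgroupOf, Subgroup.mem_centralizer_singleton_iff]
  simp only [Subgroup.coe_mul, Subgroup.coe_inv]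
  calc (g : G)⁻¹ * k * x = (g : G)⁻¹ * (k * x * (k : G)⁻¹) * k := by group
    _ = _ := by rw [← e']; group

theorem card_diff_one [Finite G] (H : Subgroup G) :
    Nat.card ↥((H : Set G) \ {1}) = Nat.card H - 1 := by
  rw [Nat.card_coe_set_eq, ← H2.ncard_coe_diff_one H]; rfl

theorem mem_normalizer_of_forall [Finite G] {U : Subgroup G} {g : G}
    (h : ∀ u ∈ U, g * u * g⁻¹ ∈ U) : g ∈ Subgroup.normalizer (U : Set G) :=
  Subgroup.mem_normalizer_fintype h

theorem conj_mem_of_mem_normalizer {U : Subgroup G} {g u : G}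
    (h : g ∈ Subgroup.normalizer (U : Set G)) (hu : u ∈ U) : g * u * g⁻¹ ∈ U :=
  (Subgroup.mem_normalizer_iff.mp h u).mp hu

namespace Ker

variable {a b : Ω} {F : Subgroup G}

theorem eq_of_smul (hK : Ker a F) {u v : G} (hu : u ∈ F) (hv : v ∈ F) {y : Ω} (hy : y ≠ a)
    (h : u • y = v • y) : u = v := by
  have := hK.semi (v⁻¹ * u) (F.mul_mem (F.inv_mem hv) hu) hy (by rw [mul_smul, h, inv_smul_smul])
  exact (inv_mul_eq_one.mp this).symm

theorem smul_ne (hK : Ker a F) {u : G} (hu : u ∈ F) {y : Ω} (hy : y ≠ a) : u • y ≠ a :=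
  smul_ne_of_fix' (hK.fix u hu) hy

theorem le_stab (hK : Ker a F) : F ≤ stabilizer G a := fun u hu => hK.fix u hu

theorem card [Finite Ω] (hK : Ker a F) (hab : a ≠ b) : Nat.card F = Nat.card Ω - 1 := by
  rw [← card_ne_one a]
  refine Nat.card_congr (Equiv.ofBijective
    (fun u : F => (⟨(u : G) • b, hK.smul_ne u.2 hab.symm⟩ : {c : Ω // c ≠ a})) ⟨?_, ?_⟩)
  · intro u v e
    exact Subtype.ext (hK.eq_of_smul u.2 v.2 hab.symm (Subtype.mk.inj e))
  · rintro ⟨c, hc⟩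
    obtain ⟨u, hu, e⟩ := hK.trans hab.symm hc
    exact ⟨⟨u, hu⟩, Subtype.ext e⟩

theorem stab_le_normalizer (hK : Ker a F) : stabilizer G a ≤ Subgroup.normalizer (F : Set G) := by
  intro g hg
  rw [Subgroup.mem_normalizer_iff]
  intro u
  refine ⟨hK.conj g hg u, fun h => ?_⟩
  have := hK.conj g⁻¹ (inv_smul_eq_of_smul_eq hg) _ h
  rwa [show g⁻¹ * (g * u * g⁻¹) * g⁻¹⁻¹ = u by group] at this

theorem St2_le_normalizer (hK : Ker a F) : St2 G a b ≤ Subgroup.normalizer (F : Set G) :=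
  le_trans inf_le_left hK.stab_le_normalizer

theorem eq_one_of_mem_St2 (hK : Ker a F) (hab : a ≠ b) {u : G} (hu : u ∈ F) (h : u ∈ St2 G a b) :
    u = 1 := hK.semi u hu hab.symm h.2

theorem decomp (hK : Ker a F) (hab : a ≠ b) {g : G} (hg : g • a = a) :
    ∃ u ∈ F, ∃ x ∈ St2 G a b, g = u * x := by
  obtain ⟨u, hu, e⟩ := hK.trans hab.symm (smul_ne_of_fix' hg hab.symm)
  refine ⟨u, hu, u⁻¹ * g, ⟨?_, ?_⟩, by group⟩
  · show (u⁻¹ * g) • a = a
    rw [mul_smul, hg, inv_smul_eq_of_smul_eq (hK.fix u hu)]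
  · show (u⁻¹ * g) • b = b
    rw [mul_smul, ← e, inv_smul_smul]

theorem fix_unique (hK : Ker a F) {u : G} (hu : u ∈ F) (hu1 : u ≠ 1) {c : Ω} (hc : u • c = c) :
    c = a := by
  by_contra h; exact hu1 (hK.semi u hu h hc)

theorem fpf (hK : Ker a F) (h : Z3 G Ω) (hab : a ≠ b) {x : G} (hx : x ∈ St2 G a b) (hx1 : x ≠ 1)
    {u : G} (hu : u ∈ F) (hc : x * u = u * x) : u = 1 := by
  have h1 : x • u • b = u • b := by rw [← mul_smul, hc, mul_smul, (mem_St2.mp hx).2]
  rcases h.eq_or_eq hab hx hx1 h1 with e | e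
  · exact absurd e (hK.smul_ne hu hab.symm)
  · exact hK.semi u hu hab.symm e

theorem fpf' (hK : Ker a F) (h : Z3 G Ω) (hab : a ≠ b) :
    ∀ x ∈ St2 G a b, x ≠ 1 → F ⊓ Subgroup.centralizer {x} = ⊥ := by
  intro x hx hx1
  rw [eq_bot_iff]
  intro u hu
  exact hK.fpf h hab hx hx1 hu.1 (Subgroup.mem_centralizer_singleton_iff.mp hu.2).symm

theorem exists_eq_comm [Finite G] (hK : Ker a F) (h : Z3 G Ω) (hab : a ≠ b) {x : G}
    (hx : x ∈ St2 G a b) (hx1 : x ≠ 1) {u : G} (hu : u ∈ F) :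
    ∃ v ∈ F, u = v * x * v⁻¹ * x⁻¹ := by
  let f : F → F := fun v => ⟨v * (x * (v : G)⁻¹ * x⁻¹), F.mul_mem v.2 (hK.conj x hx.1 _ (F.inv_mem v.2))⟩
  have hf : Function.Injective f := by
    intro v w e
    have e' : (v : G) * (x * (v : G)⁻¹ * x⁻¹) = w * (x * (w : G)⁻¹ * x⁻¹) := Subtype.mk.inj e
    have := hK.fpf h hab hx hx1 (F.mul_mem (F.inv_mem w.2) v.2) (by
      calc x * ((w : G)⁻¹ * v) = (w : G)⁻¹ * (w * (x * (w : G)⁻¹ * x⁻¹)) * x * v := by group
        _ = _ := by rw [← e']; group)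
    exact Subtype.ext (inv_mul_eq_one.mp this).symm
  obtain ⟨v, hv⟩ := (Finite.injective_iff_surjective.mp hf) ⟨u, hu⟩
  exact ⟨v, v.2, by rw [← Subtype.mk.inj hv]; group⟩

/-- an element fixing only `a` lies in the kernel -/
theorem mem_of_fix [Finite G] (hK : Ker a F) (h : Z3 G Ω) (hab : a ≠ b) {g : G} (hg : g • a = a)
    (hg' : ∀ c, g • c = c → c = a) : g ∈ F := by
  obtain ⟨u, hu, x, hx, rfl⟩ := hK.decomp hab hg
  by_cases hx1 : x = 1
  · rw [hx1, mul_one]; exact hu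
  · obtain ⟨v, hv, rfl⟩ := hK.exists_eq_comm h hab hx hx1 hu
    refine absurd (hg' (v • b) ?_) (hK.smul_ne hv hab.symm)
    rw [show v * x * v⁻¹ * x⁻¹ * x = v * x * v⁻¹ by group, conj_smul_smul, (mem_St2.mp hx).2]

theorem mem_or_fix [Finite G] (hK : Ker a F) (h : Z3 G Ω) (hab : a ≠ b) {g : G} (hg : g • a = a) :
    g ∈ F ∨ ∃ c, c ≠ a ∧ g • c = c := by
  by_cases h1 : ∀ c, g • c = c → c = a
  · exact Or.inl (hK.mem_of_fix h hab hg h1)
  · push Not at h1
    obtain ⟨c, h2, h3⟩ := h1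
    exact Or.inr ⟨c, h3, h2⟩

theorem unique [Finite G] (hK : Ker a F) {F' : Subgroup G} (hK' : Ker a F') (h : Z3 G Ω)
    (hab : a ≠ b) : F = F' := by
  have key : ∀ {F F' : Subgroup G}, Ker a F → Ker a F' → F ≤ F' := by
    intro F F' hK hK' u hu
    by_cases hu1 : u = 1
    · rw [hu1]; exact F'.one_mem
    · exact hK'.mem_of_fix h hab (hK.fix u hu) (fun c hc => hK.fix_unique hu hu1 hc)
  exact le_antisymm (key hK hK') (key hK' hK)

theorem smul_fix_of_comm (hK : Ker a F) {u g : G} (hu : u ∈ F) (hu1 : u ≠ 1)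
    (hc : g * u = u * g) : g • a = a :=
  hK.fix_unique hu hu1 (by rw [← mul_smul, ← hc, mul_smul, hK.fix u hu])

theorem centralizer_le [Finite G] (hK : Ker a F) (h : Z3 G Ω) (hab : a ≠ b) {u : G} (hu : u ∈ F)
    (hu1 : u ≠ 1) : Subgroup.centralizer {u} ≤ F := by
  intro g hg
  have hc := Subgroup.mem_centralizer_singleton_iff.mp hg
  have hga := hK.smul_fix_of_comm hu hu1 hc
  rcases hK.mem_or_fix h hab hga with h1 | ⟨c, hc1, hc2⟩
  · exact h1
  · by_cases hg1 : g = 1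
    · rw [hg1]; exact F.one_mem
    · exact absurd (hK.fpf h hc1.symm ⟨hga, hc2⟩ hg1 hu hc) hu1

theorem ti (hK : Ker a F) {g u : G} (hu : u ∈ F) (hu1 : u ≠ 1) (h : g * u * g⁻¹ ∈ F) :
    g • a = a :=
  hK.fix_unique h (fun e => hu1 (conj_eq_one_iff.mp e)) (by rw [conj_smul_smul, hK.fix u hu])

theorem ne_bot [Finite Ω] (hK : Ker a F) (h3 : 3 ≤ Nat.card Ω) : F ≠ ⊥ := by
  obtain ⟨b, hb, -⟩ := exists_third_of_card h3 a a
  intro e
  have := hK.card hb.symm
  rw [e, Subgroup.card_bot] at this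
  omega

theorem conj_ker (hK : Ker a F) (g : G) : Ker (g • a) (F.map (MulAut.conj g).toMonoidHom) where
  fix := by
    rintro _ ⟨u, hu, rfl⟩
    show (g * u * g⁻¹) • g • a = g • a
    rw [conj_smul_smul, hK.fix u hu]
  conj := by
    rintro h hh _ ⟨u, hu, rfl⟩
    refine ⟨g⁻¹ * h * g * u * (g⁻¹ * h * g)⁻¹, hK.conj _ ?_ u hu, ?_⟩
    · rw [mul_smul, mul_smul, hh, inv_smul_smul]
    · show g * _ * g⁻¹ = h * (g * u * g⁻¹) * h⁻¹
      group
  trans := by
    intro y z hy hz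
    obtain ⟨u, hu, e⟩ := hK.trans (y := g⁻¹ • y) (z := g⁻¹ • z)
      (fun e => hy (by rw [← e, smul_inv_smul])) (fun e => hz (by rw [← e, smul_inv_smul]))
    refine ⟨g * u * g⁻¹, ⟨u, hu, rfl⟩, ?_⟩
    rw [mul_smul, mul_smul, e, smul_inv_smul]
  semi := by
    rintro _ ⟨u, hu, rfl⟩ y hy e
    have e' : (g * u * g⁻¹) • y = y := e
    have : u = 1 := hK.semi u hu (y := g⁻¹ • y) (fun e => hy (by rw [← e, smul_inv_smul]))
      (by rw [mul_smul, mul_smul] at e'; rw [eq_inv_smul_iff, e'])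
    rw [this, map_one]

theorem coprime [Finite G] (hK : Ker a F) (h : Z3 G Ω) (hab : a ≠ b) :
    (Nat.card (St2 G a b)).Coprime (Nat.card F) :=
  H2.coprime_card_of_fpf hK.St2_le_normalizer (hK.fpf' h hab)

theorem card_dvd_of_invariant [Finite G] (hK : Ker a F) (h : Z3 G Ω) (hab : a ≠ b)
    {A U : Subgroup G} (hA : A ≤ St2 G a b) (hU : U ≤ F)
    (hAU : A ≤ Subgroup.normalizer (U : Set G)) : Nat.card A ∣ Nat.card U - 1 :=
  H2.card_dvd_sub_one_of_fpf hAU (fun x hx hx1 => by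
    rw [eq_bot_iff, ← hK.fpf' h hab x (hA hx) hx1]
    exact inf_le_inf_right _ hU)

/-- a large subgroup of the two-point stabiliser acts irreducibly on the kernel -/
theorem eq_of_invariant [Finite G] (hK : Ker a F) (h : Z3 G Ω) (hab : a ≠ b)
    {A U : Subgroup G} (hA : A ≤ St2 G a b) (hd : Nat.card F - 1 ≤ 2 * Nat.card A) (hU : U ≤ F)
    (hU1 : U ≠ ⊥) (hAU : A ≤ Subgroup.normalizer (U : Set G)) : U = F := by
  have h1 := hK.card_dvd_of_invariant h hab hA hU hAU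
  have h2 : 1 < Nat.card U := (Subgroup.one_lt_card_iff_ne_bot _).mpr hU1
  have h3 := Nat.le_of_dvd (by omega) h1
  obtain ⟨t, ht⟩ := Subgroup.card_dvd_of_le hU
  have h4 : 0 < Nat.card F := Nat.card_pos
  apply Subgroup.eq_of_le_of_card_ge hU
  rcases t with _ | _ | t
  · omega
  · omega
  · have : Nat.card U * (t + 1 + 1) = Nat.card U * t + 2 * Nat.card U := by ring
    omega

theorem comm_of_large [Finite G] [Finite Ω] (hK : Ker a F) (h : Z3 G Ω) (hab : a ≠ b)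
    (hd : Nat.card Ω - 2 ≤ 2 * Nat.card (St2 G a b)) {u v : G} (hu : u ∈ F) (hv : v ∈ F) :
    u * v = v * u := by
  by_cases hu1 : u = 1
  · rw [hu1, one_mul, mul_one]
  have hC := hK.centralizer_le h hab hu hu1
  have h1 := relIndex_centralizer_le (stabilizer G a) u ((F : Set G) \ {1})
    (fun g hg => ⟨hK.conj g hg u hu, fun e => hu1 (conj_eq_one_iff.mp e)⟩)
  rw [card_diff_one, ← Subgroup.relIndex_mul_relIndex _ _ _ hC hK.le_stab] at h1
  have h2 := H2.card_mul_relIndex hK.le_stab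
  rw [h.card_stab hab, hK.card hab] at h2
  have h3 := two_le_card_of_ne hab
  have h4 := Nat.eq_of_mul_eq_mul_left (by omega) h2
  have h5 := H2.card_mul_relIndex hC
  rw [h4, hK.card hab] at h1
  rw [hK.card hab] at h5
  have h6 : 0 < Nat.card (St2 G a b) := Nat.card_pos
  have h7 : (Subgroup.centralizer {u}).relIndex F = 1 := by
    generalize (Subgroup.centralizer {u}).relIndex F = m at h1 h5
    rcases m with _ | _ | _ | m
    · omega
    · rfl
    · omega
    · have : (m + 1 + 1 + 1) * Nat.card (St2 G a b) =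
        m * Nat.card (St2 G a b) + 3 * Nat.card (St2 G a b) := by ring
      omega
  exact (Subgroup.mem_centralizer_singleton_iff.mp (Subgroup.relIndex_eq_one.mp h7 hv)).symm

theorem isMulCommutative_of_large [Finite G] [Finite Ω] (hK : Ker a F) (h : Z3 G Ω) (hab : a ≠ b)
    (hd : Nat.card Ω - 2 ≤ 2 * Nat.card (St2 G a b)) : IsMulCommutative F :=
  ⟨⟨fun u v => Subtype.ext (hK.comm_of_large h hab hd u.2 v.2)⟩⟩

theorem elementary_of_large [Finite G] [Finite Ω] (hK : Ker a F) (h : Z3 G Ω) (hab : a ≠ b)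
    (h3 : 3 ≤ Nat.card Ω) (hd : Nat.card Ω - 2 ≤ 2 * Nat.card (St2 G a b)) :
    ∃ p f : ℕ, p.Prime ∧ (∀ u ∈ F, u ^ p = 1) ∧ Nat.card Ω = p ^ f + 1 := by
  have := hK.isMulCommutative_of_large h hab hd
  obtain ⟨x, hx, hp⟩ := H2.exists_mem_prime_orderOf (hK.ne_bot h3)
  have h1 : H2.powKer F (orderOf x) = F := by
    apply hK.eq_of_invariant h hab le_rfl (by rw [hK.card hab]; omega) (H2.powKer_le _ _)
    · intro e
      have : x ∈ H2.powKer F (orderOf x) := H2.mem_powKer.mpr ⟨hx, pow_orderOf_eq_one x⟩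
      rw [e, Subgroup.mem_bot] at this
      rw [this, orderOf_one] at hp
      exact Nat.not_prime_one hp
    · exact le_trans hK.St2_le_normalizer (H2.normalizer_le_normalizer_powKer _ _)
  have h2 : ∀ u ∈ F, u ^ orderOf x = 1 := fun u hu => by
    rw [← h1] at hu; exact (H2.mem_powKer.mp hu).2
  have := Fact.mk hp
  obtain ⟨f, hf⟩ := IsPGroup.iff_card.mp (H2.isPGroup_of_forall_pow_eq_one h2)
  refine ⟨orderOf x, f, hp, h2, ?_⟩
  rw [← hf, hK.card hab]; omega

/-- abelian subgroups of the two-point stabiliser are cyclic -/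
theorem isCyclic_of_comm [Finite G] (hK : Ker a F) (hF : F ≠ ⊥) (h : Z3 G Ω) (hab : a ≠ b)
    {A : Subgroup G} (hA : A ≤ St2 G a b) [IsMulCommutative A] : IsCyclic A := by
  by_contra hc
  apply hF
  rw [eq_bot_iff]
  exact H1.le_of_centralizer_le A F ⊥ hc (le_trans hA hK.St2_le_normalizer)
    (Nat.Coprime.coprime_dvd_left (Subgroup.card_dvd_of_le hA) (hK.coprime h hab))
    (fun x hx hx1 => (hK.fpf' h hab x (hA hx) hx1).le)

theorem uniqueOrderP [Finite G] (hK : Ker a F) (hF : F ≠ ⊥) (h : Z3 G Ω) (hab : a ≠ b)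
    {p : ℕ} [Fact p.Prime] {P : Subgroup G} (hP : P ≤ St2 G a b) (hp : IsPGroup p P) :
    H2.UniqueOrderP p P := by
  apply H2.uniqueOrderP_of_forall_isCyclic hp
  intro A hA _
  have : IsMulCommutative (A.map P.subtype) := Subgroup.map_isMulCommutative A P.subtype
  have := hK.isCyclic_of_comm hF h hab (A := A.map P.subtype)
    (le_trans (Subgroup.map_subtype_le A) hP)
  exact isCyclic_of_surjective _ (Subgroup.equivMapOfInjective A _ P.subtype_injective).symm.surjective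

theorem isCyclic_of_odd [Finite G] (hK : Ker a F) (hF : F ≠ ⊥) (h : Z3 G Ω) (hab : a ≠ b)
    {p : ℕ} [Fact p.Prime] (hp2 : p ≠ 2) {P : Subgroup G} (hP : P ≤ St2 G a b)
    (hp : IsPGroup p P) : IsCyclic P :=
  (hK.uniqueOrderP hF h hab hP hp).isCyclic_of_odd hp hp2

end Ker

theorem ker_of_reg {a : Ω} {F : Subgroup G} (hFle : F ≤ stabilizer G a)
    (hFn : (F.subgroupOf (stabilizer G a)).Normal)
    (hreg : ∀ y z : Ω, y ≠ a → z ≠ a → ∃! u : F, (u : G) • y = z) : Ker a F where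
  fix := fun u hu => hFle hu
  conj := fun h hh u hu => hFn.conj_mem ⟨u, hFle hu⟩ hu ⟨h, hh⟩
  trans := fun hy hz => by
    obtain ⟨u, hu, -⟩ := hreg _ _ hy hz
    exact ⟨u, u.2, hu⟩
  semi := fun u hu y hy e => by
    obtain ⟨v, -, hv⟩ := hreg y y hy hy
    exact Subtype.mk.inj ((hv ⟨u, hu⟩ e).trans (hv 1 (one_smul _ _)).symm)

theorem Z3.malnormal (h : Z3 G Ω) {a b : Ω} (hab : a ≠ b) :
    H2.Malnormal ((St2 G a b).subgroupOf (stabilizer G a)) := by
  intro g x hx hx1 hg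
  rcases h.swap_of_conj_mem hab (g := g) (x := x) hx (fun e => hx1 (Subtype.ext e)) hg with
    h1 | h1
  · exact h1
  · exact absurd (h1.1.symm.trans g.2).symm hab

theorem Z3.mem_frobeniusKernel (h : Z3 G Ω) {a b : Ω} (hab : a ≠ b) (x : stabilizer G a) :
    x ∈ frobeniusKernel ((St2 G a b).subgroupOf (stabilizer G a)) ↔
      (x : G) = 1 ∨ ∀ c, (x : G) • c = c → c = a := by
  rw [H2.mem_frobeniusKernel]
  refine or_congr ⟨fun e => by rw [e]; rfl, fun e => Subtype.ext e⟩ ⟨fun h1 c hc => ?_, fun h1 g hg => ?_⟩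
  · by_contra hca
    obtain ⟨g, hg1, hg2⟩ := h.two hab (Ne.symm hca)
    apply h1 ⟨g, hg1⟩
    constructor
    · show (g⁻¹ * x * g) • a = a
      rw [mul_smul, mul_smul, hg1, x.2, inv_smul_eq_of_smul_eq hg1]
    · show (g⁻¹ * x * g) • b = b
      rw [mul_smul, mul_smul, hg2, hc, inv_smul_eq_of_smul_eq hg2]
  · have h2 : ((g : G)⁻¹ * x * g) • b = b := hg.2
    rw [mul_smul, mul_smul, inv_smul_eq_iff] at h2
    exact smul_ne_of_fix' g.2 hab.symm (h1 _ h2)

theorem Z3.index_St2 [Finite G] [Finite Ω] (h : Z3 G Ω) {a b : Ω} (hab : a ≠ b) :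
    ((St2 G a b).subgroupOf (stabilizer G a)).index = Nat.card Ω - 1 := by
  have h2 := H2.card_mul_relIndex (inf_le_left : St2 G a b ≤ stabilizer G a)
  rw [h.card_stab hab, mul_comm] at h2
  exact Nat.eq_of_mul_eq_mul_right Nat.card_pos h2

theorem ker_of_card [Finite G] [Finite Ω] (h : Z3 G Ω) {a b : Ω} (hab : a ≠ b) {F : Subgroup G}
    (hFa : F ≤ stabilizer G a) (hcard : Nat.card F + 1 = Nat.card Ω)
    (hfix : ∀ u ∈ F, u ≠ 1 → ∀ c : Ω, u • c = c → c = a) : Ker a F := by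
  have h1 : ((F.subgroupOf (stabilizer G a) : Subgroup (stabilizer G a)) : Set (stabilizer G a)) =
      frobeniusKernel ((St2 G a b).subgroupOf (stabilizer G a)) := by
    apply Set.eq_of_subset_of_ncard_le
    · intro x hx
      rw [h.mem_frobeniusKernel hab]
      by_cases hx1 : (x : G) = 1
      · exact Or.inl hx1
      · exact Or.inr (hfix x hx hx1)
    · rw [(h.malnormal hab).ncard_kernel, h.index_St2 hab, ← Nat.card_coe_set_eq,
        SetLike.coe_sort_coe, Nat.card_congr (Subgroup.subgroupOfEquivOfLe hFa).toEquiv]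
      omega
    · exact Set.toFinite _
  have hsemi : ∀ u ∈ F, ∀ {y : Ω}, y ≠ a → u • y = y → u = 1 := fun u hu y hy e => by
    by_contra hu1; exact hy (hfix u hu hu1 y e)
  refine ⟨fun u hu => hFa hu, fun g hg u hu => ?_, fun {y z} hy hz => ?_, hsemi⟩
  · have h2 : (⟨u, hFa hu⟩ : stabilizer G a) ∈
        frobeniusKernel ((St2 G a b).subgroupOf (stabilizer G a)) := by rw [← h1]; exact hu
    have h3 := H2.conj_mem_frobeniusKernel h2 ⟨g, hg⟩
    rw [← h1] at h3
    exact h3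
  · let f : F → {c : Ω // c ≠ a} := fun u => ⟨(u : G) • y, smul_ne_of_fix' (hFa u.2) hy⟩
    have hf : Function.Injective f := by
      intro u v e
      have e' : (u : G) • y = (v : G) • y := Subtype.mk.inj e
      have := hsemi ((v : G)⁻¹ * u) (F.mul_mem (F.inv_mem v.2) u.2) hy
        (by rw [mul_smul, e', inv_smul_smul])
      exact Subtype.ext (inv_mul_eq_one.mp this).symm
    obtain ⟨u, hu⟩ := (hf.bijective_of_nat_card_le (by rw [card_ne_one]; omega)).2 ⟨z, hz⟩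
    exact ⟨u, u.2, Subtype.mk.inj hu⟩

theorem s0878 [Finite G] [Fintype Ω] (hZ : Cfsg.IsZassenhausGroup G Ω) (a : Ω) (H : Subgroup G) (hHa : H ≤ MulAction.stabilizer G a) (hHcard : Nat.card H + 1 = Fintype.card Ω) (hHfix : ∀ u ∈ H, u ≠ 1 → ∀ c : Ω, u • c = c → c = a) : (∀ g : G, g ∉ MulAction.stabilizer G a → ∀ u ∈ H, g * u * g⁻¹ ∈ H → u = 1) ∧ Subgroup.normalizer (H : Set G) = MulAction.stabilizer G a := by
  obtain ⟨b, hab⟩ := exists_pair hZ a
  have hK := ker_of_card (z3_of_zass hZ) hab hHa (by rw [hHcard, Nat.card_eq_fintype_card]) hHfix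
  refine ⟨fun g hg u hu h1 => ?_, le_antisymm (fun g hg => ?_) hK.stab_le_normalizer⟩
  · by_contra hu1; exact hg (hK.ti hu hu1 h1)
  · obtain ⟨⟨u, hu⟩, hu1⟩ := Subgroup.ne_bot_iff_exists_ne_one.mp (hK.ne_bot (three_le_card hZ))
    exact hK.ti hu (fun e => hu1 (Subtype.ext e)) (conj_mem_of_mem_normalizer hg hu)

theorem s0738 [Finite G] [Fintype Ω] (hZ : Cfsg.IsZassenhausGroup G Ω) {a b : Ω} (hab : a ≠ b) (hd : Fintype.card Ω - 2 ≤ 2 * Nat.card ↥(MulAction.stabilizer G a ⊓ MulAction.stabilizer G b)) (F : Subgroup G) (hFle : F ≤ MulAction.stabilizer G a) (hFn : (F.subgroupOf (MulAction.stabilizer G a)).Normal) (hreg : ∀ y z : Ω, y ≠ a → z ≠ a → ∃! u : F, (u : G) • y = z) : IsMulCommutative F ∧ ∃ p f : ℕ, p.Prime ∧ (∀ u ∈ F, u ^ p = 1) ∧ Fintype.card Ω = p ^ f + 1 := by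
  have hK := ker_of_reg hFle hFn hreg
  rw [← Nat.card_eq_fintype_card] at hd ⊢
  exact ⟨hK.isMulCommutative_of_large (z3_of_zass hZ) hab hd,
    hK.elementary_of_large (z3_of_zass hZ) hab (three_le_card hZ) hd⟩

end H21
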