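import Mathlib
import Cfsg.Prelude.Def_LieExceptional
import Cfsg.Agent.H21.Zass2
import Cfsg.Agent.H3.PNil
import Cfsg.Agent.S0035

/-! Normal subgroups of Zassenhaus groups, and two-point stabilisers of odd order. -/

set_option autoImplicit false

namespace H21

open Cfsg MulAction

variable {G Ω : Type*} [Group G] [MulAction G Ω]

theorem Z3.exists_ker [Finite G] [Finite Ω] (h : Z3 G Ω) {a b : Ω} (hab : a ≠ b) :
    ∃ F : Subgroup G, Ker a F := by
  by_cases h1 : St2 G a b = ⊥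
  · refine ⟨stabilizer G a, fun u hu => hu, fun g hg u hu => ?_, fun hy hz => ?_,
      fun u hu y hy e => ?_⟩
    · exact Subgroup.mul_mem _ (Subgroup.mul_mem _ hg hu) (Subgroup.inv_mem _ hg)
    · obtain ⟨g, hg1, hg2⟩ := h.two (Ne.symm hy) (Ne.symm hz)
      exact ⟨g, hg1, hg2⟩
    · have h2 := h.card_St2_eq hab (Ne.symm hy)
      rw [h1, Subgroup.card_bot, Subgroup.card_eq_one] at h2
      have : u ∈ St2 G a y := ⟨hu, e⟩
      rwa [h2, Subgroup.mem_bot] at this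
  · have h2 : 2 ≤ Nat.card (St2 G a b) := (Subgroup.one_lt_card_iff_ne_bot _).mpr h1
    have h3 := two_le_card_of_ne hab
    by_cases h4 : Nat.card Ω = 2
    · refine ⟨⊥, fun u hu => by rw [Subgroup.mem_bot.mp hu, one_smul], fun g _ u hu => ?_,
        fun {y z} hy hz => ⟨1, Subgroup.one_mem _, ?_⟩, fun u hu _ _ _ => Subgroup.mem_bot.mp hu⟩
      · rw [Subgroup.mem_bot.mp hu]; simp
      · rw [one_smul]
        by_contra hyz
        have := three_le_card_of_ne (Ne.symm hz) hy hyz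
        omega
    obtain ⟨N, hN1, hN2, hN3⟩ := Cfsg.Agent.S0035.result
      ((St2 G a b).subgroupOf (stabilizer G a)) (H2.isFrobeniusComplement_iff.mpr ⟨fun e => by
        rw [Subgroup.subgroupOf_eq_bot, disjoint_iff, inf_eq_left.mpr inf_le_left] at e
        exact h1 e, fun e => by
        have := h.index_St2 hab
        rw [e, Subgroup.index_top] at this
        omega, h.malnormal hab⟩)
    refine ⟨N.map (stabilizer G a).subtype, ker_of_card h hab (Subgroup.map_subtype_le N) ?_ ?_⟩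
    · rw [Subgroup.card_subtype, ← hN3.index_eq_card, h.index_St2 hab]; omega
    · rintro _ ⟨u, hu, rfl⟩ hu1
      have : u ∈ frobeniusKernel ((St2 G a b).subgroupOf (stabilizer G a)) := by
        rw [← hN1]; exact hu
      exact ((h.mem_frobeniusKernel hab u).mp this).resolve_left hu1

/-- a Zassenhaus group has no regular normal subgroup -/
theorem not_regular (hZ : IsZassenhausGroup G Ω) (K : Subgroup G) (hK : K.Normal)
    (h1 : ∀ x y : Ω, ∃ k ∈ K, k • x = y) (h2 : ∀ k ∈ K, ∀ x : Ω, k • x = x → k = 1) : False := by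
  obtain ⟨a, ha⟩ := hZ.2.2.2.2 K hK ⟨fun x y => by
    obtain ⟨k, hk, e⟩ := h1 x y
    exact ⟨⟨k, hk⟩, e⟩⟩
  apply ha
  rw [eq_bot_iff]
  intro k hk
  exact Subtype.ext (h2 k k.2 a hk)

/-- a non-trivial subgroup normalised by a doubly transitive group is transitive -/
theorem trans_of_normalized {M N : Subgroup G}
    (h2 : ∀ {x y z w : Ω}, x ≠ y → z ≠ w → ∃ g ∈ M, g • x = z ∧ g • y = w)
    (hn : ∀ g ∈ M, ∀ u ∈ N, g * u * g⁻¹ ∈ N) {u : G} (hu : u ∈ N) {c : Ω} (hc : u • c ≠ c)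
    (x y : Ω) : ∃ k ∈ N, k • x = y := by
  by_cases hxy : x = y
  · exact ⟨1, N.one_mem, by rw [one_smul, hxy]⟩
  obtain ⟨g, hg, h3, h4⟩ := h2 hc.symm hxy
  exact ⟨g * u * g⁻¹, hn g hg u hu, by rw [← h3, conj_smul_smul, h4]⟩

theorem exists_moved [FaithfulSMul G Ω] {u : G} (hu : u ≠ 1) : ∃ c : Ω, u • c ≠ c := by
  by_contra h
  push Not at h
  exact hu (FaithfulSMul.eq_of_smul_eq_smul (α := Ω) (fun c => by rw [h c, one_smul]))

theorem Z3.normal_trans [FaithfulSMul G Ω] (h : Z3 G Ω) {N : Subgroup G} [hN : N.Normal]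
    (hN1 : N ≠ ⊥) (x y : Ω) : ∃ k ∈ N, k • x = y := by
  obtain ⟨⟨u, hu⟩, hu1⟩ := Subgroup.ne_bot_iff_exists_ne_one.mp hN1
  obtain ⟨c, hc⟩ := exists_moved (Ω := Ω) (u := u) (fun e => hu1 (Subtype.ext e))
  exact trans_of_normalized (M := ⊤) (fun h1 h2 => by
    obtain ⟨g, hg⟩ := h.two h1 h2
    exact ⟨g, trivial, hg⟩) (fun g _ u hu => hN.conj_mem u hu g) hu hc x y

/-- a non-trivial normal subgroup meets the two-point stabilisers -/
theorem normal_inf_St2 [Finite G] [Finite Ω] (hZ : IsZassenhausGroup G Ω) {N : Subgroup G}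
    [hN : N.Normal] (hN1 : N ≠ ⊥) {a b : Ω} (hab : a ≠ b) :
    ∃ x ∈ N, x ∈ St2 G a b ∧ x ≠ 1 := by
  have h := z3_of_zass hZ
  have := hZ.1
  by_contra hc
  have h0 : ∀ x ∈ N, ∀ c d : Ω, c ≠ d → x • c = c → x • d = d → x = 1 := by
    intro x hx c d hcd h1 h2
    obtain ⟨g, rfl, rfl⟩ := h.two hcd hab
    by_contra hx1
    exact hc ⟨g * x * g⁻¹, hN.conj_mem x hx g, ⟨by
      show (g * x * g⁻¹) • g • c = g • c
      rw [conj_smul_smul, h1], by
      show (g * x * g⁻¹) • g • d = g • d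
      rw [conj_smul_smul, h2]⟩, fun e => hx1 (conj_eq_one_iff.mp e)⟩
  have ht := h.normal_trans hN1
  have h1 : stabilizer N a ≠ ⊥ := by
    intro e
    apply not_regular hZ N hN ht
    intro k hk x hx
    obtain ⟨g, hg, rfl⟩ := ht x a
    have : (⟨g * k * g⁻¹, hN.conj_mem k hk g⟩ : N) ∈ stabilizer N (g • x) := by
      show (g * k * g⁻¹) • g • x = g • x
      rw [conj_smul_smul, hx]
    rw [e, Subgroup.mem_bot] at this
    exact conj_eq_one_iff.mp (Subtype.mk.inj this)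
  obtain ⟨K, hK1, hK2, hK3⟩ := Cfsg.Agent.S0035.result (stabilizer N a)
    (H2.isFrobeniusComplement_iff.mpr ⟨h1, fun e => by
      obtain ⟨k, hk, e1⟩ := ht a b
      have : (⟨k, hk⟩ : N) ∈ stabilizer N a := by rw [e]; trivial
      exact hab ((show k • a = a from this).symm.trans e1), fun g x hx hx1 hg => by
      by_contra hga
      have h2 : ((g : G) * x * (g : G)⁻¹) • a = a := hg
      have h3 : ((g : G) * x * (g : G)⁻¹) • (g : G) • a = (g : G) • a := by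
        rw [conj_smul_smul, show (x : G) • a = a from hx]
      exact hx1 (Subtype.ext (conj_eq_one_iff.mp
        (h0 _ (hN.conj_mem _ x.2 _) _ _ (fun e => hga e.symm) h2 h3)))⟩)
  have hmem : ∀ x : N, x ∈ K ↔ x = 1 ∨ ∀ c : Ω, (x : G) • c ≠ c := by
    intro x
    rw [← SetLike.mem_coe, hK1, H2.mem_frobeniusKernel]
    refine or_congr Iff.rfl ⟨fun h2 c hc => ?_, fun h2 g hg => ?_⟩
    · obtain ⟨g, hg, rfl⟩ := ht a c
      apply h2 ⟨g, hg⟩
      show (g⁻¹ * x * g) • a = a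
      rw [mul_smul, mul_smul, hc, inv_smul_smul]
    · have h3 : ((g : G)⁻¹ * x * g) • a = a := hg
      rw [mul_smul, mul_smul, inv_smul_eq_iff] at h3
      exact h2 _ h3
  refine not_regular hZ (K.map N.subtype) ⟨?_⟩ (fun x y => ?_) ?_
  · rintro _ ⟨x, hx, rfl⟩ g
    refine ⟨⟨g * x * g⁻¹, hN.conj_mem _ x.2 g⟩, (hmem _).mpr ?_, rfl⟩
    rcases (hmem x).mp hx with rfl | h2
    · left; apply Subtype.ext; simp
    · right
      intro c hc
      apply h2 (g⁻¹ • c)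
      have hc' : (g * x * g⁻¹) • c = c := hc
      rw [mul_smul, mul_smul] at hc'
      rw [eq_inv_smul_iff, hc']
  · have key : ∀ y : Ω, ∃ k ∈ K.map N.subtype, k • a = y := by
      intro y
      obtain ⟨g, hg, rfl⟩ := ht a y
      obtain ⟨⟨k, s⟩, e⟩ := hK3.2 ⟨g, hg⟩
      refine ⟨k.1, ⟨k.1, k.2, rfl⟩, ?_⟩
      have e' : ((k.1 : N) : G) * ((s.1 : N) : G) = g := congrArg Subtype.val e
      rw [← e', mul_smul, show ((s.1 : N) : G) • a = a from s.2]
    obtain ⟨k, hk, rfl⟩ := key x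
    obtain ⟨l, hl, rfl⟩ := key y
    exact ⟨l * k⁻¹, Subgroup.mul_mem _ hl (Subgroup.inv_mem _ hk), by rw [mul_smul, inv_smul_smul]⟩
  · rintro _ ⟨x, hx, rfl⟩ c hc
    rcases (hmem x).mp hx with rfl | h2
    · rfl
    · exact absurd hc (h2 c)

theorem Ker.le_normal [Finite G] [Finite Ω] (hZ : IsZassenhausGroup G Ω) {N : Subgroup G}
    [hN : N.Normal] (hN1 : N ≠ ⊥) {a : Ω} {F : Subgroup G} (hK : Ker a F) : F ≤ N := by
  obtain ⟨b, hab⟩ := exists_pair hZ a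
  obtain ⟨x, hx, hx2, hx1⟩ := normal_inf_St2 hZ hN1 hab
  intro u hu
  obtain ⟨v, -, rfl⟩ := hK.exists_eq_comm (z3_of_zass hZ) hab hx2 hx1 hu
  exact N.mul_mem (hN.conj_mem x hx v) (N.inv_mem hx)

theorem normal_two_trans [Finite G] [Finite Ω] (hZ : IsZassenhausGroup G Ω) {N : Subgroup G}
    [hN : N.Normal] (hN1 : N ≠ ⊥) {x y z w : Ω} (hxy : x ≠ y) (hzw : z ≠ w) :
    ∃ g ∈ N, g • x = z ∧ g • y = w := by
  have h := z3_of_zass hZ
  have := hZ.1
  obtain ⟨k, hk, rfl⟩ := h.normal_trans hN1 x z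
  obtain ⟨F, hK⟩ := h.exists_ker hzw
  obtain ⟨u, hu, e⟩ := hK.trans (y := k • y) (fun e => hxy (MulAction.injective k e).symm) hzw.symm
  exact ⟨u * k, N.mul_mem (hK.le_normal hZ hN1 hu) hk, by rw [mul_smul, hK.fix u hu],
    by rw [mul_smul, e]⟩

theorem card_of_regular {K : Subgroup G} (a : Ω) (h1 : ∀ x y : Ω, ∃ k ∈ K, k • x = y)
    (h2 : ∀ k ∈ K, ∀ x : Ω, k • x = x → k = 1) : Nat.card K = Nat.card Ω := by
  refine Nat.card_congr (Equiv.ofBijective (fun k : K => (k : G) • a) ⟨fun k l e => ?_, fun y => ?_⟩)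
  · have := h2 ((l : G)⁻¹ * k) (K.mul_mem (K.inv_mem l.2) k.2) a
      (by rw [mul_smul, show (k : G) • a = (l : G) • a from e, inv_smul_smul])
    exact Subtype.ext (inv_mul_eq_one.mp this).symm
  · obtain ⟨k, hk, e⟩ := h1 a y
    exact ⟨⟨k, hk⟩, e⟩

theorem s0339 [Finite Ω] (hZ : Cfsg.IsZassenhausGroup G Ω) (N : Subgroup G) [hN : N.Normal]
    (hN1 : N ≠ ⊥) : Cfsg.IsZassenhausGroup N Ω := by
  have h := z3_of_zass hZ
  have := hZ.1
  have : Finite G := finite_of_faithful (Ω := Ω)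
  obtain ⟨-, -, a, b, hab, -, -⟩ := hZ.2.2.2.1
  refine ⟨inferInstance, is_two_pretransitive_iff.mpr fun {x y z w} h1 h2 => ?_,
    fun g x y z h1 h2 h3 h4 h5 h6 => Subtype.ext (h.three h1 h2 h3 h4 h5 h6), ?_,
    fun K hK hKt => ?_⟩
  · obtain ⟨g, hg, e⟩ := normal_two_trans hZ hN1 h1 h2
    exact ⟨⟨g, hg⟩, e⟩
  · obtain ⟨x, hx, hx2, hx1⟩ := normal_inf_St2 hZ hN1 hab
    exact ⟨⟨x, hx⟩, fun e => hx1 (Subtype.mk.inj e), a, b, hab, hx2.1, hx2.2⟩
  · by_contra hc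
    push Not at hc
    set K' := K.map N.subtype with hK'
    have t1 : ∀ x y : Ω, ∃ k ∈ K', k • x = y := fun x y => by
      obtain ⟨k, e⟩ := hKt.exists_smul_eq x y
      exact ⟨k.1, ⟨k.1, k.2, rfl⟩, e⟩
    have t2 : ∀ k ∈ K', ∀ x : Ω, k • x = x → k = 1 := by
      rintro _ ⟨k, hk, rfl⟩ x e
      have : (⟨k, hk⟩ : K) ∈ stabilizer K x := e
      rw [hc x, Subgroup.mem_bot] at this
      rw [Subtype.mk.inj this, map_one]
    have t3 : ∀ g ∈ N, ∀ u ∈ K', g * u * g⁻¹ ∈ K' := by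
      rintro g hg _ ⟨k, hk, rfl⟩
      exact ⟨_, hK.conj_mem k hk ⟨g, hg⟩, rfl⟩
    have t4 : K' ≤ N := Subgroup.map_subtype_le K
    have c1 := card_of_regular a t1 t2
    refine not_regular hZ K' ⟨fun k hk g => ?_⟩ t1 t2
    set L := K'.map (MulAut.conj g).toMonoidHom with hL
    have mL : ∀ x, x ∈ L ↔ g⁻¹ * x * g ∈ K' := fun x => by
      constructor
      · rintro ⟨y, hy, rfl⟩
        show g⁻¹ * (g * y * g⁻¹) * g ∈ K'
        rwa [show g⁻¹ * (g * y * g⁻¹) * g = y by group]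
      · intro hx
        exact ⟨_, hx, by show g * (g⁻¹ * x * g) * g⁻¹ = x; group⟩
    have l3 : ∀ m ∈ N, ∀ u ∈ L, m * u * m⁻¹ ∈ L := by
      intro m hm u hu
      rw [mL] at hu ⊢
      have := t3 _ (hN.conj_mem' m hm g) _ hu
      rwa [show g⁻¹ * m * g * (g⁻¹ * u * g) * (g⁻¹ * m * g)⁻¹ = g⁻¹ * (m * u * m⁻¹) * g by group]
        at this
    have c2 : Nat.card L = Nat.card Ω := by
      rw [← c1]; exact Subgroup.card_map_of_injective (MulAut.conj g).injective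
    by_cases hi : K' ⊓ L = ⊥
    · exfalso
      have c3 := H2.card_sup_of_disjoint (H := K') (K := L)
        (fun m hm => mem_normalizer_of_forall (l3 m (t4 hm))) hi
      have c4 := Subgroup.card_subgroup_dvd_card (K' ⊔ L)
      rw [c3, c1, c2, h.card_G hab] at c4
      have h3 := three_le_card hZ
      have c5 := Nat.dvd_of_mul_dvd_mul_left (by omega) c4
      have c6 : (Nat.card Ω).Coprime (Nat.card Ω - 1) := by
        rw [show Nat.card Ω = (Nat.card Ω - 1) + 1 by omega]; simp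
      have c7 := (c6.dvd_of_dvd_mul_left c5).trans (h.card_St2_dvd hab)
      have := Nat.le_of_dvd (by omega) c7
      omega
    · obtain ⟨⟨u, hu⟩, hu1⟩ := Subgroup.ne_bot_iff_exists_ne_one.mp hi
      obtain ⟨c, hc⟩ := exists_moved (Ω := Ω) (u := u) (fun e => hu1 (Subtype.ext e))
      have t5 := trans_of_normalized (M := N) (N := K' ⊓ L) (normal_two_trans hZ hN1)
        (fun m hm u hu => ⟨t3 m hm u hu.1, l3 m hm u hu.2⟩) hu hc
      have c5 := card_of_regular a t5 (fun k hk => t2 k hk.1)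
      have e := Subgroup.eq_of_le_of_card_ge (inf_le_right : K' ⊓ L ≤ L) (by rw [c5, c2])
      have : g * k * g⁻¹ ∈ K' ⊓ L := by rw [e]; exact ⟨k, hk, rfl⟩
      exact this.1

/-- in odd degree, an involution interchanging `a` and `b` inverts `G_{ab}` -/
theorem Z3.inverts_of_odd_degree [Finite G] [Finite Ω] (h : Z3 G Ω) (hodd : Odd (Nat.card Ω))
    {a b : Ω} (hab : a ≠ b) {s : G} (hs1 : s ≠ 1) (hs2 : s * s = 1) (hsa : s • a = b)
    (hsb : s • b = a) : Odd (Nat.card (St2 G a b)) ∧ (∃ c : Ω, s • c = c ∧ ∀ d : Ω, s • d = d → d = c) ∧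
      ∀ x ∈ St2 G a b, s * x * s⁻¹ = x⁻¹ := by
  have h1 : Odd (Nat.card (St2 G a b)) := by
    have h2 := two_le_card_of_ne hab
    refine Odd.of_dvd_nat ?_ (h.card_St2_dvd hab)
    rw [Nat.odd_iff] at hodd ⊢; omega
  have h4 := card_fixedBy_modEq (Ω := Ω) hs2
  have h5 := h.card_fixedBy_le hs1
  have h6 : Nat.card (fixedBy Ω s) = 1 := by
    rw [Nat.odd_iff] at hodd; rw [Nat.ModEq] at h4; omega
  obtain ⟨hsub, ⟨c, hc⟩⟩ := Nat.card_eq_one_iff_unique.mp h6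
  have h7 : ∀ d, s • d = d → d = c := fun d hd =>
    Subtype.mk.inj (hsub.elim (⟨d, hd⟩ : fixedBy Ω s) ⟨c, hc⟩)
  have hc' : s • c = c := hc
  refine ⟨h1, ⟨c, hc, h7⟩, fun x hx => ?_⟩
  obtain ⟨y, z, hy, hys, hz, rfl⟩ := exists_cent_mul_inverted hs2 h1
    (fun x hx => Z3.conj_mem_St2 (Or.inr ⟨hsa, hsb⟩) hx) hx
  have : y = 1 := h.eq_one hab hy (c := c) (fun e => hab (by rw [← hsa, ← e, hc']))
    (fun e => hab (by rw [← hsb, ← e, hc'])) (h7 _ (by rw [← mul_smul, hys, mul_smul, hc']))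
  rw [this, one_mul]; exact hz.2

theorem mem_of_inverted {N : Subgroup G} [hN : N.Normal] {s x : G} (hs : s ∈ N) {n : ℕ}
    (hn : Odd n) (hx : x ^ n = 1) (h : s * x * s⁻¹ = x⁻¹) : x ∈ N := by
  have h1 : x * x ∈ N := by
    have := N.mul_mem (hN.conj_mem s hs x) (N.inv_mem hs)
    rwa [show x * s * x⁻¹ * s⁻¹ = x * (s * x * s⁻¹)⁻¹ by group, h, inv_inv] at this
  obtain ⟨m, rfl⟩ := hn
  rw [← eq_pow_sq_of_odd hx]
  exact N.pow_mem h1 _

theorem eq_top_of_le {a b : Ω} (hab : a ≠ b) {F N : Subgroup G} (hK : Ker a F) (hF : F ≤ N)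
    (hH : St2 G a b ≤ N) {s : G} (hs : s ∈ N) (hsa : s • a = b) : N = ⊤ := by
  have h1 : ∀ g : G, g • a = a → g ∈ N := fun g hg => by
    obtain ⟨u, hu, x, hx, rfl⟩ := hK.decomp hab hg
    exact N.mul_mem (hF hu) (hH hx)
  rw [eq_top_iff]
  intro g _
  by_cases hg : g • a = a
  · exact h1 g hg
  · obtain ⟨u, hu, e⟩ := hK.trans hab.symm hg
    have := h1 ((u * s)⁻¹ * g) (by rw [mul_smul, ← e, ← hsa, ← mul_smul u, inv_smul_smul])
    have h2 := N.mul_mem (N.mul_mem (hF hu) hs) this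
    rwa [mul_inv_cancel_left] at h2

theorem s0338 [Fintype Ω] (hZ : Cfsg.IsZassenhausGroup G Ω) (hodd : Odd (Fintype.card Ω)) :
    IsSimpleGroup G := by
  have h := z3_of_zass hZ
  have := hZ.1
  have : Finite G := finite_of_faithful (Ω := Ω)
  obtain ⟨g, hg1, a, b, hab, -, -⟩ := hZ.2.2.2.1
  have : Nontrivial G := ⟨g, 1, hg1⟩
  rw [← Nat.card_eq_fintype_card] at hodd
  refine ⟨fun N hN => ?_⟩
  by_cases hN1 : N = ⊥
  · exact Or.inl hN1
  right
  obtain ⟨s, hs1, hs2, hsa, hsb⟩ := h.exists_swap_invol (three_le_card hZ) hab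
  obtain ⟨h1, ⟨c, hc1, hc2⟩, h2⟩ := h.inverts_of_odd_degree hodd hab hs1 hs2 hsa hsb
  obtain ⟨d, hcd⟩ := exists_pair hZ c
  obtain ⟨F, hK⟩ := h.exists_ker hab
  obtain ⟨F', hK'⟩ := h.exists_ker hcd
  have hs : s ∈ N := hK'.le_normal hZ hN1 (hK'.mem_of_fix h hcd hc1 hc2)
  exact eq_top_of_le hab hK (hK.le_normal hZ hN1)
    (fun x hx => mem_of_inverted hs h1 (pow_card_eq_one_of_mem hx) (h2 x hx)) hs hsa

end H21
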