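import Mathlib
import Cfsg.Prelude.Def_LieExceptional
import Cfsg.Agent.H21.Zass3
import Cfsg.Agent.H7.ProjLine

/-! Two-point stabilisers of odd order; sharply triply transitive groups: first facts. -/

set_option autoImplicit false

namespace H21

open Cfsg MulAction

variable {G Ω : Type*} [Group G] [MulAction G Ω]

theorem comm_of_inverted {H : Subgroup G} {s : G} (h : ∀ x ∈ H, s * x * s⁻¹ = x⁻¹) {x y : G}
    (hx : x ∈ H) (hy : y ∈ H) : x * y = y * x := by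
  have h1 := h _ (H.mul_mem hx hy)
  rw [show s * (x * y) * s⁻¹ = (s * x * s⁻¹) * (s * y * s⁻¹) by group, h x hx, h y hy,
    ← mul_inv_rev] at h1
  exact (inv_injective h1).symm

theorem isMulCommutative_of_inverted {H : Subgroup G} {s : G}
    (h : ∀ x ∈ H, s * x * s⁻¹ = x⁻¹) : IsMulCommutative H :=
  ⟨⟨fun x y => Subtype.ext (comm_of_inverted h x.2 y.2)⟩⟩

theorem swap_eq_mul {a b : Ω} {s g : G} (hsa : s • a = b) (hsb : s • b = a) (hga : g • a = b)
    (hgb : g • b = a) : s⁻¹ * g ∈ St2 G a b :=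
  ⟨by show (s⁻¹ * g) • a = a; rw [mul_smul, hga, inv_smul_eq_of_smul_eq hsa],
   by show (s⁻¹ * g) • b = b; rw [mul_smul, hgb, inv_smul_eq_of_smul_eq hsb]⟩

theorem inverts_of_swap {a b : Ω} {s g : G} (hsa : s • a = b) (hsb : s • b = a) (hga : g • a = b)
    (hgb : g • b = a) (h : ∀ x ∈ St2 G a b, s * x * s⁻¹ = x⁻¹) :
    ∀ x ∈ St2 G a b, g * x * g⁻¹ = x⁻¹ := by
  intro x hx
  have h1 := swap_eq_mul hsa hsb hga hgb
  calc g * x * g⁻¹ = s * (s⁻¹ * g * x) * g⁻¹ := by group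
    _ = s * x * s⁻¹ := by rw [comm_of_inverted h h1 hx]; group
    _ = x⁻¹ := h x hx

theorem Z3.not_dvd_index_St2 [Finite G] [Finite Ω] (h : Z3 G Ω) {a b : Ω} (hab : a ≠ b) {q : ℕ}
    (hq : q.Prime) (hq2 : q ≠ 2) (hd : q ∣ Nat.card (St2 G a b)) : ¬ q ∣ (St2 G a b).index := by
  have h1 := (St2 G a b).index_mul_card
  rw [h.card_G hab, ← mul_assoc] at h1
  rw [Nat.eq_of_mul_eq_mul_right Nat.card_pos h1]
  have h2 := hd.trans (h.card_St2_dvd hab)
  have h3 := two_le_card_of_ne hab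
  intro h4
  rcases (Nat.Prime.dvd_mul hq).mp h4 with h5 | h5
  · have := (Nat.dvd_sub h5 h2)
    rw [show Nat.card Ω - (Nat.card Ω - 2) = 2 by omega] at this
    exact hq2 ((Nat.prime_dvd_prime_iff_eq hq Nat.prime_two).mp this)
  · have := (Nat.dvd_sub h5 h2)
    rw [show Nat.card Ω - 1 - (Nat.card Ω - 2) = 1 by omega] at this
    exact hq.one_lt.ne' (Nat.dvd_one.mp this)

theorem Z3.inverts_of_odd [Finite G] [Finite Ω] (h : Z3 G Ω) (h3 : 3 ≤ Nat.card Ω) {a b : Ω}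
    (hab : a ≠ b) (hodd : Odd (Nat.card (St2 G a b)))
    (hnil : ∀ q : ℕ, q.Prime → q ∣ Nat.card (St2 G a b) → ¬ HasNormalPComplement q G)
    {s : G} (hs2 : s * s = 1) (hsa : s • a = b) (hsb : s • b = a) :
    ∀ x ∈ St2 G a b, s * x * s⁻¹ = x⁻¹ := by
  have hsn : ∀ x ∈ St2 G a b, s * x * s⁻¹ ∈ St2 G a b :=
    fun x hx => Z3.conj_mem_St2 (Or.inr ⟨hsa, hsb⟩) hx
  set V := St2 G a b ⊓ Subgroup.centralizer {s} with hV
  suffices hV1 : V = ⊥ by
    intro x hx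
    obtain ⟨y, z, hy, hys, hz, rfl⟩ := exists_cent_mul_inverted hs2 hodd hsn hx
    have : y ∈ V := mem_inf_centralizer_singleton.mpr ⟨hy, hys⟩
    rw [hV1, Subgroup.mem_bot] at this
    rw [this, one_mul]; exact hz.2
  by_contra hV1
  obtain ⟨F, hK⟩ := h.exists_ker hab
  have hF := hK.ne_bot h3
  set q := (Nat.card V).minFac with hq
  have hqp : q.Prime := Nat.minFac_prime (fun e => hV1 (Subgroup.card_eq_one.mp e))
  have := Fact.mk hqp
  have hqH : q ∣ Nat.card (St2 G a b) :=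
    (Nat.minFac_dvd _).trans (Subgroup.card_dvd_of_le inf_le_left)
  have hq2 : q ≠ 2 := fun e => by
    rw [e] at hqH; exact (Nat.not_even_iff_odd.mpr hodd) (even_iff_two_dvd.mpr hqH)
  obtain ⟨v, hv, hvq⟩ := H2.exists_mem_orderOf_eq_prime hqp (Nat.minFac_dvd (Nat.card V))
  obtain ⟨hvH, hvs⟩ := mem_inf_centralizer_singleton.mp hv
  have hv1 : v ≠ 1 := by rintro rfl; rw [orderOf_one] at hvq; exact hqp.one_lt.ne hvq
  have hsz : IsPGroup 2 (Subgroup.zpowers s) := by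
    apply IsPGroup.of_card_dvd_pow (n := 1)
    rw [Nat.card_zpowers]
    exact orderOf_dvd_of_pow_eq_one (by rw [pow_one, pow_two, hs2])
  have : Fact (Nat.Prime 2) := ⟨Nat.prime_two⟩
  obtain ⟨P, hP1, hP2⟩ := H1.exists_invariant_sylow_le (Subgroup.zpowers s) (St2 G a b)
    (Subgroup.zpowers_le.mpr (mem_normalizer_of_forall hsn))
    (H1.card_coprime_of_isPGroup hsz (Nat.coprime_two_right.mpr hodd)).symm
    (Or.inl (H1.solvable_of_isPGroup hsz)) q (Subgroup.zpowers v) (Subgroup.zpowers_le.mpr hvH)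
    (IsPGroup.of_card (n := 1) (by rw [Nat.card_zpowers, hvq, pow_one]))
    (Subgroup.zpowers_le.mpr (mem_normalizer_of_forall (fun u hu => by
      obtain ⟨k, rfl⟩ := hu
      have : Commute s (v ^ k) := Commute.zpow_right hvs k
      show s * v ^ k * s⁻¹ ∈ _
      rw [this.eq, mul_inv_cancel_right]; exact ⟨k, rfl⟩)))
  set Q := (P : Subgroup (St2 G a b)).map (St2 G a b).subtype with hQ
  have hQH : Q ≤ St2 G a b := Subgroup.map_subtype_le _
  have hQp : IsPGroup q Q := P.isPGroup'.map _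
  have hQo : Odd (Nat.card Q) := Odd.of_dvd_nat hodd (Subgroup.card_dvd_of_le hQH)
  have hvQ : v ∈ Q := hP1 (Subgroup.mem_zpowers v)
  have hQV : Q ≤ V := by
    intro x hx
    obtain ⟨y, z, hy, hys, hz, rfl⟩ := exists_cent_mul_inverted hs2 hQo
      (fun x hx => conj_mem_of_mem_normalizer (hP2 (Subgroup.mem_zpowers s)) hx) hx
    by_cases hz1 : z = 1
    · rw [hz1, mul_one]; exact mem_inf_centralizer_singleton.mpr ⟨hQH hy, hys⟩
    exfalso
    obtain ⟨k, hk⟩ := (hK.uniqueOrderP hF h hab hQH hQp).mem_zpowers hQp (a := ⟨z, hz.1⟩)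
      (fun e => hz1 (Subtype.mk.inj e)) (y := ⟨v, hvQ⟩)
      (Subtype.ext (by show v ^ q = 1; rw [← hvq, pow_orderOf_eq_one]))
    have hk' : z ^ k = v := congrArg Subtype.val hk
    have h1 : s * v * s⁻¹ = v⁻¹ := by rw [← hk', ← conj_zpow, hz.2, inv_zpow]
    rw [hvs, mul_inv_cancel_right] at h1
    exact hv1 (eq_one_of_sq_of_mem_odd hodd hvH (by nth_rewrite 1 [h1]; rw [inv_mul_cancel]))
  have hidx : ¬ q ∣ Q.index := by
    rw [hQ, Subgroup.index_map_subtype]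
    exact Nat.Prime.not_dvd_mul hqp P.not_dvd_index (h.not_dvd_index_St2 hab hqp hq2 hqH)
  have hcyc : IsCyclic Q := hK.isCyclic_of_odd hF h hab hq2 hQH hQp
  apply hnil q hqp hqH
  apply H3.hasNPC_of_normalizer_le_centralizer (hQp.toSylow hidx)
  show Subgroup.normalizer (Q : Set G) ≤ Subgroup.centralizer (Q : Set G)
  have hsQ : ∀ x ∈ Q, s * x = x * s := fun x hx => (mem_inf_centralizer_singleton.mp (hQV hx)).2
  have hsN : s ∈ Subgroup.normalizer (Q : Set G) := hP2 (Subgroup.mem_zpowers s)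
  have key : ∀ g ∈ St2 G a b, g ∈ Subgroup.normalizer (Q : Set G) →
      g ∈ Subgroup.centralizer (Q : Set G) := by
    intro g hgH hg
    obtain ⟨y, z, hy, hys, hz, rfl⟩ := exists_cent_mul_inverted hs2
      (X := St2 G a b ⊓ Subgroup.normalizer (Q : Set G))
      (Odd.of_dvd_nat hodd (Subgroup.card_dvd_of_le inf_le_left))
      (fun x hx => ⟨hsn x hx.1, Subgroup.mul_mem _ (Subgroup.mul_mem _ hsN hx.2)
        (Subgroup.inv_mem _ hsN)⟩) (x := g) ⟨hgH, hg⟩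
    apply Subgroup.mul_mem
    · have hyV : y ∈ V := mem_inf_centralizer_singleton.mpr ⟨hy.1, hys⟩
      let R : Sylow q V := (hQp.toSylow hidx).subtype hQV
      have hR : IsCyclic R := isCyclic_of_surjective _ (Subgroup.subgroupOfEquivOfLe hQV).symm.surjective
      have h1 := hR.normalizer_le_centralizer (p := q) rfl (x := ⟨y, hyV⟩) (by
        apply mem_normalizer_of_forall
        intro u hu
        exact conj_mem_of_mem_normalizer (U := Q) hy.2 hu)
      intro x hx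
      exact congrArg Subtype.val (h1 ⟨x, hQV hx⟩ hx)
    · intro x hx
      have h1 := hsQ _ (conj_mem_of_mem_normalizer hz.1.2 hx)
      have h2 : z * x * z⁻¹ = z⁻¹ * x * z := by
        calc z * x * z⁻¹ = s * (z * x * z⁻¹) * s⁻¹ := by rw [h1]; group
          _ = (s * z * s⁻¹) * (s * x * s⁻¹) * (s * z * s⁻¹)⁻¹ := by group
          _ = _ := by rw [hz.2, hsQ x hx]; group
      have h4 : Commute (z * z) x := by
        show z * z * x = x * (z * z)
        calc z * z * x = z * (z * x * z⁻¹) * z := by group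
          _ = _ := by rw [h2]; group
      exact (commute_of_commute_sq_of_odd hodd (pow_card_eq_one_of_mem hz.1.1) h4).symm
  intro g hg
  rcases h.swap_of_conj_mem hab hvH hv1 (hQH (conj_mem_of_mem_normalizer hg hvQ)) with h1 | h1
  · exact key g h1 hg
  · have h2 := key _ (swap_eq_mul hsa hsb h1.1 h1.2)
      (Subgroup.mul_mem _ (Subgroup.inv_mem _ hsN) hg)
    have h4 : s ∈ Subgroup.centralizer (Q : Set G) := fun x hx => (hsQ x hx).symm
    have := Subgroup.mul_mem _ h4 h2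
    rwa [mul_inv_cancel_left] at this

theorem s0739 [Finite G] [Fintype Ω] (hZ : Cfsg.IsZassenhausGroup G Ω) {a b : Ω} (hab : a ≠ b) (hodd : Odd (Nat.card ↥(MulAction.stabilizer G a ⊓ MulAction.stabilizer G b))) (hnil : ∀ q : ℕ, q.Prime → q ∣ Nat.card ↥(MulAction.stabilizer G a ⊓ MulAction.stabilizer G b) → ¬ ∃ N : Subgroup G, N.Normal ∧ N.index = q ^ (Nat.card G).factorization q) : IsCyclic ↥(MulAction.stabilizer G a ⊓ MulAction.stabilizer G b) ∧ Subgroup.centralizer ((MulAction.stabilizer G a ⊓ MulAction.stabilizer G b : Subgroup G) : Set G) = MulAction.stabilizer G a ⊓ MulAction.stabilizer G b ∧ ∀ s : G, s • a = b → s • b = a → ∀ h ∈ MulAction.stabilizer G a ⊓ MulAction.stabilizer G b, s * h * s⁻¹ = h⁻¹ := by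
  have h := z3_of_zass hZ
  have h3 := three_le_card hZ
  obtain ⟨s, -, hs2, hsa, hsb⟩ := h.exists_swap_invol h3 hab
  have h1 := h.inverts_of_odd h3 hab hodd (fun q hq hd ⟨P, N, hN1, hN2⟩ => by
    have := Fact.mk hq
    exact hnil q hq hd ⟨N, hN1, by rw [hN2.symm.index_eq_card, P.card_eq_multiplicity]⟩)
    hs2 hsa hsb
  have h2 : ∀ g : G, g • a = b → g • b = a → ∀ x ∈ St2 G a b, g * x * g⁻¹ = x⁻¹ :=
    fun g hga hgb => inverts_of_swap hsa hsb hga hgb h1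
  obtain ⟨F, hK⟩ := h.exists_ker hab
  have := isMulCommutative_of_inverted h1
  refine ⟨hK.isCyclic_of_comm (hK.ne_bot h3) h hab le_rfl, le_antisymm (fun g hg => ?_)
    (fun g hg x hx => comm_of_inverted h1 hx hg), h2⟩
  obtain ⟨⟨x, hx⟩, hx1⟩ := Subgroup.ne_bot_iff_exists_ne_one.mp (St2_ne_bot hZ hab)
  have hx1' : x ≠ 1 := fun e => hx1 (Subtype.ext e)
  rcases h.swap_of_comm hab hx hx1' (hg x hx).symm with h4 | h4
  · exact h4
  · have h5 := h2 g h4.1 h4.2 x hx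
    rw [← hg x hx, mul_inv_cancel_right] at h5
    exact absurd (eq_one_of_sq_of_mem_odd hodd hx (by nth_rewrite 1 [h5]; rw [inv_mul_cancel])) hx1'

/-- sharply triply transitive -/
structure Sh3 (G Ω : Type*) [Group G] [MulAction G Ω] : Prop extends Z3 G Ω where
  tri : ∀ {x y z x' y' z' : Ω}, x ≠ y → x ≠ z → y ≠ z → x' ≠ y' → x' ≠ z' → y' ≠ z' →
    ∃ g : G, g • x = x' ∧ g • y = y' ∧ g • z = z'

theorem sh3_of [Finite Ω] (hc : 3 ≤ Nat.card Ω) (h3 : IsMultiplyPretransitive G Ω 3)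
    (hsharp : ∀ x : Fin 3 ↪ Ω, stabilizer G x = ⊥) : Sh3 G Ω := by
  rw [H7.is_three_pretransitive_iff] at h3
  refine ⟨⟨fun {x y z w} h1 h2 => ?_, fun {g a b c} h1 h2 h4 h5 h6 h7 => ?_⟩,
    fun h1 h2 h4 h5 h6 h7 => h3 _ _ _ _ _ _ h1 h2 h4 h5 h6 h7⟩
  · obtain ⟨c, hc1, hc2⟩ := exists_third_of_card hc x y
    obtain ⟨d, hd1, hd2⟩ := exists_third_of_card hc z w
    obtain ⟨g, e1, e2, -⟩ := h3 _ _ _ _ _ _ h1 hc1.symm hc2.symm h2 hd1.symm hd2.symm
    exact ⟨g, e1, e2⟩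
  · have : g ∈ stabilizer G (⟨![a, b, c], by
        intro i j
        fin_cases i <;> fin_cases j <;> simp [h1, h2, h4, h1.symm, h2.symm, h4.symm]⟩ :
        Fin 3 ↪ Ω) := by
      rw [mem_stabilizer_iff]
      ext i
      fin_cases i
      · exact h5
      · exact h6
      · exact h7
    rwa [hsharp, Subgroup.mem_bot] at this

theorem Sh3.card_St2 [Finite Ω] (h : Sh3 G Ω) (h3 : 3 ≤ Nat.card Ω) {a b : Ω} (hab : a ≠ b) :
    Nat.card (St2 G a b) = Nat.card Ω - 2 := by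
  obtain ⟨c, hca, hcb⟩ := exists_third_of_card h3 a b
  rw [← card_ne_two hab]
  refine Nat.card_congr (Equiv.ofBijective (fun x : St2 G a b => (⟨(x : G) • c,
    smul_ne_of_fix' x.2.1 hca, smul_ne_of_fix' x.2.2 hcb⟩ : {c : Ω // c ≠ a ∧ c ≠ b})) ⟨?_, ?_⟩)
  · intro x y e
    exact Subtype.ext (h.toZ3.ext3 hab hcb.symm hca.symm (x.2.1.trans y.2.1.symm)
      (x.2.2.trans y.2.2.symm) (Subtype.mk.inj e))
  · rintro ⟨d, hd1, hd2⟩
    obtain ⟨g, e1, e2, e3⟩ := h.tri hab hca.symm hcb.symm hab hd1.symm hd2.symm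
    exact ⟨⟨g, e1, e2⟩, Subtype.ext e3⟩

theorem Z3.sh3_of_card [Finite G] [Finite Ω] (h : Z3 G Ω) {a b : Ω} (hab : a ≠ b)
    (hc : Nat.card Ω - 2 ≤ Nat.card (St2 G a b)) : Sh3 G Ω := by
  refine ⟨h, fun {x y z x' y' z'} h1 h2 h3 h4 h5 h6 => ?_⟩
  obtain ⟨g, rfl, rfl⟩ := h.two h1 h4
  let f : St2 G x y → {c : Ω // c ≠ x ∧ c ≠ y} := fun k => ⟨(k : G) • z,
    smul_ne_of_fix' k.2.1 h2.symm, smul_ne_of_fix' k.2.2 h3.symm⟩
  have hf : Function.Injective f := fun k l e =>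
    Subtype.ext (h.ext3 h1 h3 h2 (k.2.1.trans l.2.1.symm) (k.2.2.trans l.2.2.symm)
      (Subtype.mk.inj e))
  obtain ⟨k, hk⟩ := (hf.bijective_of_nat_card_le (by
    rw [card_ne_two h1, h.card_St2_eq hab h1]; exact hc)).2
    ⟨g⁻¹ • z', fun e => h5 (by rw [← e, smul_inv_smul]), fun e => h6 (by rw [← e, smul_inv_smul])⟩
  refine ⟨g * k, by rw [mul_smul, (mem_St2.mp k.2).1], by rw [mul_smul, (mem_St2.mp k.2).2], ?_⟩
  rw [mul_smul, show (k : G) • z = g⁻¹ • z' from Subtype.mk.inj hk, smul_inv_smul]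

theorem Ker.inverts_of_invol [Finite G] {a b : Ω} {F : Subgroup G} (hK : Ker a F) (h : Z3 G Ω)
    (hab : a ≠ b) {z : G} (hz : z ∈ St2 G a b) (hz1 : z ≠ 1) (hz2 : z * z = 1) :
    ∀ u ∈ F, z * u * z⁻¹ = u⁻¹ :=
  (H2.inverts_of_fpf_involution (hK.St2_le_normalizer hz) hz2 (hK.fpf' h hab z hz hz1)).1

theorem Ker.invol_unique [Finite G] {a b : Ω} {F : Subgroup G} (hK : Ker a F) (hF : F ≠ ⊥)
    (h : Z3 G Ω) (hab : a ≠ b) {z z' : G} (hz : z ∈ St2 G a b) (hz1 : z ≠ 1) (hz2 : z * z = 1)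
    (hz' : z' ∈ St2 G a b) (hz1' : z' ≠ 1) (hz2' : z' * z' = 1) : z' = z :=
  H2.unique_involution_of_fpf hK.St2_le_normalizer hF (hK.fpf' h hab) hz hz'
    (orderOf_eq_two_iff'.mpr ⟨hz1, hz2⟩) (orderOf_eq_two_iff'.mpr ⟨hz1', hz2'⟩)

theorem Sh3.swap_sq (h : Sh3 G Ω) {a b c : Ω} (hab : a ≠ b) (hca : c ≠ a) (hcb : c ≠ b) {s : G}
    (hsa : s • a = b) (hsb : s • b = a) (hsc : s • c = c) : s * s = 1 :=
  h.three hab hcb.symm hca.symm (by rw [mul_smul, hsa, hsb]) (by rw [mul_smul, hsb, hsa])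
    (by rw [mul_smul, hsc, hsc])

theorem Sh3.inverts_three (h : Sh3 G Ω) {a b c : Ω} (hab : a ≠ b) (hca : c ≠ a) (hcb : c ≠ b)
    {s : G} (hsa : s • a = b) (hsb : s • b = a) (hsc : s • c = c) {w : G} (hw : w ∈ St2 G a b)
    (hw3 : w * w * w = 1) : s * w * s⁻¹ = w⁻¹ := by
  by_cases hw1 : w = 1
  · simp [hw1]
  have e1 : c ≠ w • c := fun e => hw1 (h.toZ3.eq_one hab hw hca hcb e.symm)
  have e4 : w • w • w • c = c := by rw [← mul_smul, ← mul_smul, hw3, one_smul]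
  have e2 : w • c ≠ w • w • c := fun e => e1 (MulAction.injective w e)
  have e3 : c ≠ w • w • c := fun e => e1 (by rw [← e] at e4; exact e4.symm)
  obtain ⟨t, t1, t2, t3⟩ := h.tri e1 e3 e2 e3 e1 e2.symm
  have t4 : t * w = w⁻¹ * t := h.toZ3.ext3 e1 e2 e3
    (by rw [mul_smul, mul_smul, t1, t2, eq_inv_smul_iff, e4])
    (by rw [mul_smul, mul_smul, t2, t3, inv_smul_smul])
    (by rw [mul_smul, mul_smul, e4, t1, t3, inv_smul_smul])
  have t5 : t * w * t⁻¹ = w⁻¹ := by rw [t4, mul_inv_cancel_right]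
  rcases h.toZ3.swap_of_conj_mem hab hw hw1 (g := t) (by rw [t5]; exact Subgroup.inv_mem _ hw)
    with h1 | h1
  · rw [h.toZ3.eq_one hab (g := t) h1 hca hcb t1, one_smul] at t2
    exact absurd t2 e2
  · rw [h.toZ3.ext3 hab hcb.symm hca.symm (hsa.trans h1.1.symm) (hsb.trans h1.2.symm)
      (hsc.trans t1.symm)]
    exact t5

theorem Sh3.three_unique [Finite G] [Finite Ω] (h : Sh3 G Ω) (h3 : 3 ≤ Nat.card Ω)
    (heven : Even (Nat.card Ω)) {a b : Ω} (hab : a ≠ b) {v w : G} (hv : v ∈ St2 G a b)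
    (hw : w ∈ St2 G a b) (hv1 : v ≠ 1) (hw1 : w ≠ 1) (hv3 : v * v * v = 1) (hw3 : w * w * w = 1) :
    w = v ∨ w = v⁻¹ := by
  obtain ⟨c, hca, hcb⟩ := exists_third_of_card h3 a b
  obtain ⟨F, hK⟩ := h.toZ3.exists_ker hab
  obtain ⟨z, hz, hz1, hz2⟩ := exists_invol_of_even_card (X := St2 G a b) (by
    rw [h.card_St2 h3 hab, Nat.even_iff]; rw [Nat.even_iff] at heven; omega)
  obtain ⟨s, hsa, hsb, hsc⟩ := h.tri hab hca.symm hcb.symm hab.symm hcb.symm hca.symm
  obtain ⟨τ, hτ, hτb⟩ := hK.trans hab.symm hca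
  have hzs : s * z * s⁻¹ = z := hK.invol_unique (hK.ne_bot h3) h.toZ3 hab hz hz1 hz2
    (Z3.conj_mem_St2 (Or.inr ⟨hsa, hsb⟩) hz) (fun e => hz1 (conj_eq_one_iff.mp e))
    (conj_sq_eq_one hz2)
  have key : ∀ w ∈ St2 G a b, w ≠ 1 → w * w * w = 1 → (s * τ * z) • (z * w) • c = (z * w) • c := by
    intro w hw hw1 hw3
    obtain ⟨y, hy, e⟩ := hK.exists_eq_comm h.toZ3 hab hw hw1 hτ
    have e1 : τ * w * (τ * w) * (τ * w) = 1 := by
      rw [e]
      calc _ = y * (w * w * w) * y⁻¹ := by group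
        _ = 1 := by rw [hw3]; group
    have hww : w * w = w⁻¹ := eq_inv_of_mul_eq_one_left hw3
    have e2 : τ * w * τ = z * (w⁻¹ * τ * w⁻¹⁻¹) * z⁻¹ * w⁻¹ * w⁻¹ := by
      rw [hK.inverts_of_invol h.toZ3 hab hz hz1 hz2 _
        (hK.conj _ (inv_smul_eq_of_smul_eq hw.1) _ hτ)]
      calc τ * w * τ = (τ * w * (τ * w) * (τ * w)) * (w⁻¹ * τ⁻¹ * w⁻¹) := by group
        _ = _ := by rw [e1]; group
    have e3 := h.inverts_three hab hca hcb hsa hsb hsc hw hw3
    have hwb : w⁻¹ • b = b := inv_smul_eq_of_smul_eq hw.2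
    have hzb : z⁻¹ • b = b := inv_smul_eq_of_smul_eq hz.2
    calc (s * τ * z) • (z * w) • c = s • (τ * w * τ) • b := by
          rw [← hτb, ← mul_smul, ← mul_smul, ← mul_smul]
          congr 1
          calc s * τ * z * (z * w) * τ = s * τ * (z * z) * w * τ := by group
            _ = _ := by rw [hz2]; group
      _ = (s * z * w⁻¹) • c := by
          rw [e2]
          simp only [mul_smul, hwb, hzb, inv_inv, (mem_St2.mp hw).2, hτb]
      _ = (z * w) • c := by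
          rw [show s * z * w⁻¹ = (s * z * s⁻¹) * (s * w * s⁻¹)⁻¹ * s by group, hzs, e3, mul_smul,
            hsc, inv_inv]
  by_contra hc
  rw [not_or] at hc
  have inj : ∀ x ∈ St2 G a b, ∀ y ∈ St2 G a b, (z * x) • c = (z * y) • c → x = y := by
    intro x hx y hy e
    rw [mul_smul, mul_smul] at e
    exact h.toZ3.ext3 hab hcb.symm hca.symm (hx.1.trans hy.1.symm) (hx.2.trans hy.2.symm)
      (MulAction.injective z e)
  have hv' := Subgroup.inv_mem _ hv
  have := h.three (fun e => hc.1 (inj _ hw _ hv e))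
    (fun e => hv1 (by
      have e1 := inj _ hv _ hv' e
      have : v * v = 1 := by nth_rewrite 1 [e1]; rw [inv_mul_cancel]
      rwa [this, one_mul] at hv3))
    (fun e => hc.2 (inj _ hw _ hv' e)) (key w hw hw1 hw3) (key v hv hv1 hv3)
    (key v⁻¹ hv' (inv_ne_one.mpr hv1) (by
      rw [← mul_inv_rev, ← mul_inv_rev, ← mul_assoc, hv3, inv_one]))
  have h1 : (s * τ * z) • a = b := by
    rw [mul_smul, mul_smul, (mem_St2.mp hz).1, hK.fix τ hτ, hsa]
  rw [this, one_smul] at h1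
  exact hab h1

theorem s0728 {α : Type*} [Fintype α] [DecidableEq α] (heven : Even (Fintype.card α)) (h6 : 6 ≤ Fintype.card α) (G : Subgroup (Equiv.Perm α)) (h3 : MulAction.IsMultiplyPretransitive G α 3) (hsharp : ∀ x : Fin 3 ↪ α, MulAction.stabilizer G x = ⊥) {a b : α} (hab : a ≠ b) (A B : Subgroup G) (hA : A ≤ MulAction.stabilizer G a ⊓ MulAction.stabilizer G b) (hB : B ≤ MulAction.stabilizer G a ⊓ MulAction.stabilizer G b) (hA3 : Nat.card A = 3) (hB3 : Nat.card B = 3) : A = B := by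
  rw [← Nat.card_eq_fintype_card] at heven h6
  have h := sh3_of (by omega) h3 hsharp
  obtain ⟨⟨v, hv⟩, hv1⟩ := Subgroup.ne_bot_iff_exists_ne_one.mp
    ((Subgroup.one_lt_card_iff_ne_bot A).mp (by omega))
  have cube : ∀ {X : Subgroup G} {x : G}, Nat.card X = 3 → x ∈ X → x * x * x = 1 := by
    intro X x hX hx
    have := pow_card_eq_one_of_mem hx
    rwa [hX, pow_three'] at this
  symm
  apply Subgroup.eq_of_le_of_card_ge _ (by omega)
  intro w hw
  by_cases hw1 : w = 1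
  · rw [hw1]; exact A.one_mem
  rcases h.three_unique (by omega) heven hab (hA hv) (hB hw) (fun e => hv1 (Subtype.ext e)) hw1
    (cube hA3 hv) (cube hB3 hw) with e | e
  · rw [e]; exact hv
  · rw [e]; exact A.inv_mem hv

end H21
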