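import Mathlib
import Cfsg.Prelude.Def_LieExceptional
import Cfsg.Agent.H21.Zass4
import Cfsg.Agent.H21.FieldCoord
import Cfsg.Agent.H21.Recog

/-! Coordinates for Zassenhaus groups with abelian kernel; recognition of `PGL₂` and `PSL₂`. -/

set_option autoImplicit false

namespace H21

open Cfsg MulAction OnePoint
open scoped MatrixGroups

variable {G Ω : Type*} [Group G] [MulAction G Ω]

/-- projective line coordinates in which `F` acts by translations and `A` by scalars -/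
structure Coord (a b : Ω) (F A : Subgroup G) {K : Type*} [Field K] (τ : K → G) (μ : G → K)
    (e : OnePoint K ≃ Ω) : Prop where
  add : ∀ x y, τ (x + y) = τ x * τ y
  mem : ∀ k, τ k ∈ F
  surj : ∀ u ∈ F, ∃ k, τ k = u
  inf : e ∞ = a
  pt : ∀ k : K, e k = τ k • b
  lin : ∀ h ∈ A, ∀ k : K, h • e k = e (μ h * k : K)
  gen : Subring.closure (μ '' A) = ⊤
  semi : ∀ h ∈ St2 G a b, (∀ x ∈ A, h * x * h⁻¹ ∈ A) →
    ∃ (φ : K ≃+* K) (c : K), ∀ k : K, h • e k = e (c * φ k : K)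

theorem Ker.exists_coord [Finite G] {a b c : Ω} {F A : Subgroup G} (hK : Ker a F) (hab : a ≠ b)
    (hca : c ≠ a) (hcb : c ≠ b) (hF : IsMulCommutative F) (hA : A ≤ St2 G a b)
    (hAc : ∀ x ∈ A, ∀ y ∈ A, x * y = y * x)
    (hirr : ∀ U : Subgroup G, U ≤ F → U ≠ ⊥ → A ≤ Subgroup.normalizer (U : Set G) → U = F)
    (K : Type*) [Field K] [Finite K] (hc : Nat.card K = Nat.card F) :
    ∃ (τ : K → G) (μ : G → K) (e : OnePoint K ≃ Ω), Coord a b F A τ μ e ∧ e (1 : K) = c := by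
  obtain ⟨v, hv, hvb⟩ := hK.trans hab.symm hca
  obtain ⟨τ, μ, h1, h2, h3, h4, h5, h6, h7, h8⟩ := exists_field_coord F A hAc
    (le_trans hA hK.St2_le_normalizer) hirr hv
    (by rintro rfl; rw [one_smul] at hvb; exact hcb hvb.symm) K hc
  let f : OnePoint K → Ω := fun x => OnePoint.rec a (fun k => τ k • b) x
  have hf : Function.Bijective f := by
    constructor
    · intro x y e
      cases x with
      | infty =>
        cases y with
        | infty => rfl
        | coe y => exact absurd (show a = τ y • b from e).symm (hK.smul_ne (h3 y) hab.symm)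
      | coe x =>
        cases y with
        | infty => exact absurd (show τ x • b = a from e) (hK.smul_ne (h3 x) hab.symm)
        | coe y => rw [h2 (hK.eq_of_smul (h3 x) (h3 y) hab.symm e)]
    · intro y
      by_cases hy : y = a
      · exact ⟨∞, hy.symm⟩
      · obtain ⟨u, hu, e⟩ := hK.trans hab.symm hy
        obtain ⟨k, rfl⟩ := h4 u hu
        exact ⟨k, e⟩
  have key : ∀ h ∈ St2 G a b, ∀ k : K, h • τ k • b = (h * τ k * h⁻¹) • b := fun h hh k => by
    rw [mul_smul, mul_smul, inv_smul_eq_of_smul_eq (mem_St2.mp hh).2]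
  refine ⟨τ, μ, Equiv.ofBijective f hf, ⟨h1, h3, h4, rfl, fun _ => rfl, fun h hh k => ?_, h7,
    fun h hh hhA => ?_⟩, ?_⟩
  · show h • τ k • b = τ (μ h * k) • b
    rw [key h (hA hh), h6 h hh]
  · obtain ⟨φ, c, h9⟩ := h8 h (hK.St2_le_normalizer hh) hhA
    refine ⟨φ, c, fun k => ?_⟩
    show h • τ k • b = τ (c * φ k) • b
    rw [key h hh, h9]
  · show τ 1 • b = c
    rw [h5, hvb]

namespace Coord

variable {a b : Ω} {F A : Subgroup G} {K : Type*} [Field K] {τ : K → G} {μ : G → K}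
  {e : OnePoint K ≃ Ω}

theorem tau_zero (C : Coord a b F A τ μ e) : τ 0 = 1 := by
  have := C.add 0 0
  rw [add_zero] at this
  exact left_eq_mul.mp this

theorem tau_neg (C : Coord a b F A τ μ e) (k : K) : τ (-k) = (τ k)⁻¹ := by
  rw [eq_inv_iff_mul_eq_one, ← C.add, neg_add_cancel, C.tau_zero]

theorem zero (C : Coord a b F A τ μ e) : e (0 : K) = b := by rw [C.pt, C.tau_zero, one_smul]

theorem inj (_C : Coord a b F A τ μ e) {x y : K} (h : e x = e y) : x = y :=
  OnePoint.coe_injective (e.injective h)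

theorem ne_a (C : Coord a b F A τ μ e) (x : K) : e x ≠ a := fun h =>
  OnePoint.coe_ne_infty x (e.injective (h.trans C.inf.symm))

theorem ne_b (C : Coord a b F A τ μ e) {x : K} (hx : x ≠ 0) : e x ≠ b := fun h =>
  hx (C.inj (h.trans C.zero.symm))

theorem exists_pt (C : Coord a b F A τ μ e) {y : Ω} (hy : y ≠ a) : ∃ x : K, e x = y := by
  obtain ⟨x, rfl⟩ := e.surjective y
  cases x with
  | infty => exact absurd C.inf hy
  | coe x => exact ⟨x, rfl⟩

theorem transl (C : Coord a b F A τ μ e) (k x : K) : τ k • e x = e (k + x : K) := by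
  rw [C.pt, C.pt, C.add, mul_smul]

theorem neg (C : Coord a b F A τ μ e) {z : G} (hz : z • b = b)
    (hi : ∀ u ∈ F, z * u * z⁻¹ = u⁻¹) (x : K) : z • e x = e (-x : K) := by
  rw [C.pt, C.pt, C.tau_neg, ← hi _ (C.mem x), mul_smul, mul_smul, inv_smul_eq_of_smul_eq hz]

theorem mu_ne_zero (C : Coord a b F A τ μ e) (hA : A ≤ St2 G a b) {h : G} (hh : h ∈ A) :
    μ h ≠ 0 := by
  intro h0
  have := C.lin h hh 1
  rw [h0, zero_mul, C.zero] at this
  exact smul_ne_of_fix' (mem_St2.mp (hA hh)).2 (C.ne_b one_ne_zero) this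

theorem mu_one (C : Coord a b F A τ μ e) : μ 1 = 1 := by
  have := C.lin 1 A.one_mem 1
  rw [one_smul, mul_one] at this
  exact (C.inj this).symm

theorem mu_mul (C : Coord a b F A τ μ e) {g h : G} (hg : g ∈ A) (hh : h ∈ A) :
    μ (g * h) = μ g * μ h := by
  have := C.lin _ (A.mul_mem hg hh) 1
  rw [mul_smul, C.lin h hh, C.lin g hg, mul_one, mul_one] at this
  exact (C.inj this).symm

theorem mu_inv (C : Coord a b F A τ μ e) {g : G} (hg : g ∈ A) : μ g⁻¹ = (μ g)⁻¹ := by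
  apply eq_inv_of_mul_eq_one_left
  rw [← C.mu_mul (A.inv_mem hg) hg, inv_mul_cancel, C.mu_one]

/-- `μ` as a homomorphism to the units -/
noncomputable def muHom (C : Coord a b F A τ μ e) : A →* Kˣ :=
  MonoidHom.toHomUnits
    { toFun := fun h => μ h
      map_one' := C.mu_one
      map_mul' := fun g h => C.mu_mul g.2 h.2 }

theorem coe_muHom (C : Coord a b F A τ μ e) (h : A) : (C.muHom h : K) = μ h := rfl

theorem muHom_injective (C : Coord a b F A τ μ e) (h : Z3 G Ω) (hab : a ≠ b)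
    (hA : A ≤ St2 G a b) : Function.Injective C.muHom := by
  rw [injective_iff_map_eq_one]
  intro g hg
  have h1 : μ g = 1 := congrArg Units.val hg
  have := C.lin g g.2 1
  rw [h1, one_mul] at this
  exact Subtype.ext (h.eq_one hab (hA g.2) (C.ne_a 1) (C.ne_b one_ne_zero) this)

theorem exists_mu_of_isSquare [Finite K] (C : Coord a b F A τ μ e) (h : Z3 G Ω) (hab : a ≠ b)
    (hA : A ≤ St2 G a b) (hd : 2 * Nat.card A = Nat.card K - 1) {m : K} (hm : m ≠ 0)
    (hs : IsSquare m) : ∃ g ∈ A, μ g = m := by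
  obtain ⟨r, rfl⟩ := hs
  have h1 : C.muHom.range.index = 2 := by
    have h2 := C.muHom.range.index_mul_card
    rw [← Nat.card_congr (MonoidHom.ofInjective (C.muHom_injective h hab hA)).toEquiv,
      Nat.card_units, ← hd] at h2
    have : Finite A := Finite.of_injective _ (C.muHom_injective h hab hA)
    exact Nat.eq_of_mul_eq_mul_right Nat.card_pos h2
  obtain ⟨g, hg⟩ := Subgroup.mul_self_mem_of_index_two h1 (Units.mk0 r (left_ne_zero_of_mul hm))
  exact ⟨g, g.2, congrArg Units.val hg⟩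

theorem two_ne_zero [Finite K] {d : ℕ} (hd : 2 * d = Nat.card K - 1) : ringChar K ≠ 2 := by
  have := Fintype.ofFinite K
  intro h
  have h1 := FiniteField.even_card_of_char_two h
  have h2 : 1 < Nat.card K := Finite.one_lt_card
  rw [← Nat.card_eq_fintype_card] at h1
  omega

theorem isSquare_mu [Finite K] (C : Coord a b F A τ μ e) (hA : A ≤ St2 G a b)
    (hd : 2 * Nat.card A = Nat.card K - 1) {g : G} (hg : g ∈ A) : IsSquare (μ g) := by
  have := Fintype.ofFinite K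
  have h2 : 1 < Nat.card K := Finite.one_lt_card
  rw [FiniteField.isSquare_iff (two_ne_zero hd) (C.mu_ne_zero hA hg), ← Nat.card_eq_fintype_card,
    show Nat.card K / 2 = Nat.card A by omega]
  have := congrArg (fun x => (C.muHom x : K)) (pow_card_eq_one' (x := (⟨g, hg⟩ : A)))
  simp only [map_pow, map_one, Units.val_pow_eq_pow_val, Units.val_one] at this
  exact this

theorem exists_sigma (C : Coord a b F A τ μ e) {s : G} (hsa : s • a = b) (hsb : s • b = a) :
    ∃ σ : K → K, ∀ x : K, x ≠ 0 → σ x ≠ 0 ∧ s • e x = e (σ x) := by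
  have : ∀ x : K, ∃ y : K, x ≠ 0 → y ≠ 0 ∧ s • e x = e y := by
    intro x
    by_cases hx : x = 0
    · exact ⟨0, fun h => absurd hx h⟩
    obtain ⟨y, hy⟩ := C.exists_pt (y := s • e x)
      (fun h => C.ne_b hx (MulAction.injective s (h.trans hsb.symm)))
    refine ⟨y, fun _ => ⟨?_, hy.symm⟩⟩
    rintro rfl
    rw [C.zero] at hy
    exact C.ne_a x (MulAction.injective s (hy.symm.trans hsa.symm))
  choose σ hσ using this
  exact ⟨σ, hσ⟩

theorem sigma_mul (C : Coord a b F A τ μ e) (hA : A ≤ St2 G a b) {s : G} {σ : K → K}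
    (hσ : ∀ x : K, x ≠ 0 → σ x ≠ 0 ∧ s • e x = e (σ x)) {g : G} (hg : g ∈ A)
    (hi : s * g * s⁻¹ = g⁻¹) {x : K} (hx : x ≠ 0) : σ (μ g * x) = σ x / μ g := by
  apply C.inj
  rw [← (hσ _ (mul_ne_zero (C.mu_ne_zero hA hg) hx)).2, ← C.lin g hg, ← mul_smul,
    show s * g = s * g * s⁻¹ * s by group, hi, mul_smul, (hσ x hx).2, C.lin _ (A.inv_mem hg),
    C.mu_inv hg, div_eq_inv_mul]

theorem sigma_sq [Finite K] (C : Coord a b F A τ μ e) (h : Z3 G Ω) (hab : a ≠ b)
    (hA : A ≤ St2 G a b) (hd : 2 * Nat.card A = Nat.card K - 1) {s : G} {σ : K → K}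
    (hσ : ∀ x : K, x ≠ 0 → σ x ≠ 0 ∧ s • e x = e (σ x)) (hi : ∀ g ∈ A, s * g * s⁻¹ = g⁻¹)
    (m x : K) (hm : m ≠ 0) (hs : IsSquare m) (hx : x ≠ 0) : σ (m * x) = σ x / m := by
  obtain ⟨g, hg, rfl⟩ := C.exists_mu_of_isSquare h hab hA hd hm hs
  exact C.sigma_mul hA hσ hg (hi g hg) hx

theorem braid (C : Coord a b F A τ μ e) (h : Z3 G Ω) (hab : a ≠ b) (hK : Ker a F) {s : G}
    (hsa : s • a = b) (hsb : s • b = a) (hs1 : s • e (1 : K) = e (1 : K)) {σ : K → K}
    (hσ : ∀ x : K, x ≠ 0 → σ x ≠ 0 ∧ s • e x = e (σ x)) {z : G} (hz : z • a = a)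
    (hzx : ∀ x : K, z • e x = e (-x : K)) (x : K) (hx : x ≠ 0) (hx1 : x ≠ 1) :
    σ (1 - σ x) = 1 - σ (1 - x) := by
  have ta : (τ 1 * z) • a = a := by rw [mul_smul, hz, hK.fix _ (C.mem 1)]
  have tx : ∀ x : K, (τ 1 * z) • e x = e (1 - x : K) := fun x => by
    rw [mul_smul, hzx, C.transl, sub_eq_add_neg]
  set t := τ 1 * z
  have tb : t • b = e (1 : K) := by rw [← C.zero, tx, sub_zero]
  have t1 : t • e (1 : K) = b := by rw [tx, sub_self, C.zero]
  have h1 : s * t * s = t * s * t := h.ext3 hab (C.ne_b one_ne_zero).symm (C.ne_a 1).symm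
    (by simp only [mul_smul, hsa, tb, hs1, ta]) (by simp only [mul_smul, hsb, hsa, tb, hs1, ta, t1])
    (by simp only [mul_smul, hsb, hs1, ta, t1])
  have h2 : σ x ≠ 1 := fun e1 => hx1 (C.inj (MulAction.injective s
    (show s • e x = s • e (1 : K) by rw [(hσ x hx).2, e1, hs1])))
  apply C.inj
  rw [← (hσ _ (sub_ne_zero.mpr h2.symm)).2, ← tx, ← (hσ x hx).2, ← mul_smul, ← mul_smul, h1,
    mul_smul, mul_smul, tx, (hσ _ (sub_ne_zero.mpr hx1.symm)).2, tx]

variable [DecidableEq K]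

theorem ker_le_psl (C : Coord a b F A τ μ e) (hK : Ker a F) : F ≤ actSub G e PSL(2, K) := by
  intro u hu
  obtain ⟨k, rfl⟩ := C.surj u hu
  exact mem_psl_of_affine (α := 1) (β := k) one_ne_zero IsSquare.one
    (by rw [C.inf, hK.fix _ hu]) (fun x => by rw [C.transl, one_mul, add_comm])

theorem ker_le_pgl (C : Coord a b F A τ μ e) (hK : Ker a F) : F ≤ actSub G e PGL(2, K) := by
  intro u hu
  obtain ⟨k, rfl⟩ := C.surj u hu
  exact mem_pgl_of_affine (α := 1) (β := k) one_ne_zero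
    (by rw [C.inf, hK.fix _ hu]) (fun x => by rw [C.transl, one_mul, add_comm])

theorem le_psl [Finite K] (C : Coord a b F A τ μ e) (hA : A ≤ St2 G a b)
    (hd : 2 * Nat.card A = Nat.card K - 1) : A ≤ actSub G e PSL(2, K) := fun g hg =>
  mem_psl_of_affine (β := 0) (C.mu_ne_zero hA hg) (C.isSquare_mu hA hd hg)
    (by rw [C.inf, (mem_St2.mp (hA hg)).1]) (fun x => by rw [C.lin g hg, add_zero])

end Coord

theorem card_G_eq [Finite Ω] (h : Z3 G Ω) {a b : Ω} (hab : a ≠ b) {n : ℕ}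
    (hn : n = Nat.card Ω - 1) : Nat.card G = (n + 1) * (n * Nat.card (St2 G a b)) := by
  have := two_le_card_of_ne hab
  rw [h.card_G hab, hn, Nat.sub_add_cancel (by omega)]

/-- a sharply triply transitive group whose two-point stabiliser is inverted by a swap -/
theorem Sh3.iso_pgl [Finite G] [Finite Ω] [FaithfulSMul G Ω] (h : Sh3 G Ω) (h3 : 3 ≤ Nat.card Ω)
    {a b : Ω} (hab : a ≠ b) {s : G} (hsa : s • a = b) (hsb : s • b = a)
    (hi : ∀ g ∈ St2 G a b, s * g * s⁻¹ = g⁻¹) (K : Type*) [Field K] [Finite K]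
    (hc : Nat.card K = Nat.card Ω - 1) : Nonempty (G ≃* PGL(2, K)) := by
  classical
  obtain ⟨F, hK⟩ := h.toZ3.exists_ker hab
  obtain ⟨c, hca, hcb⟩ := exists_third_of_card h3 a b
  have hd := h.card_St2 h3 hab
  obtain ⟨τ, μ, e, C, -⟩ := hK.exists_coord hab hca hcb
    (hK.isMulCommutative_of_large h.toZ3 hab (by omega)) le_rfl
    (fun x hx y hy => comm_of_inverted hi hx hy)
    (fun U h1 h2 h3 => hK.eq_of_invariant h.toZ3 hab le_rfl (by rw [hK.card hab]; omega) h1 h2 h3)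
    K (by rw [hc, hK.card hab])
  obtain ⟨σ, hσ⟩ := C.exists_sigma hsa hsb
  refine iso_of_actSub e _ (eq_top_of_le hab hK (C.ker_le_pgl hK) (fun g hg => ?_)
    (mem_pgl_of_inv (hσ 1 one_ne_zero).1 (by rw [C.inf, C.zero, hsa]) (by rw [C.inf, C.zero, hsb])
      (fun x hx => ?_)) hsa) ?_
  · exact mem_pgl_of_affine (β := 0) (C.mu_ne_zero le_rfl hg)
      (by rw [C.inf, (mem_St2.mp hg).1]) (fun x => by rw [C.lin g hg, add_zero])
  · obtain ⟨g, g1, g2, g3⟩ := h.tri hab (C.ne_a 1).symm (C.ne_b one_ne_zero).symm hab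
      (C.ne_a x).symm (C.ne_b hx).symm
    rw [C.lin g ⟨g1, g2⟩] at g3
    have h1 := C.sigma_mul le_rfl hσ ⟨g1, g2⟩ (hi g ⟨g1, g2⟩) one_ne_zero
    rw [C.inj g3] at h1
    rw [(hσ x hx).2, h1, ← C.inj g3, mul_one]
  · rw [card_pgl_two, card_G_eq h.toZ3 hab hc, hd, hc]
    exact le_of_eq rfl

theorem isSquare_neg_one_iff {K : Type*} [Field K] [Finite K] {d : ℕ}
    (hd : 2 * d = Nat.card K - 1) : IsSquare (-1 : K) ↔ Even d := by
  have := Fintype.ofFinite K
  have h2 : 1 < Nat.card K := Finite.one_lt_card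
  rw [FiniteField.isSquare_neg_one_iff, ← Nat.card_eq_fintype_card, Nat.even_iff]
  omega

theorem Z3.iso_psl_even [Finite G] [Finite Ω] [FaithfulSMul G Ω] (h : Z3 G Ω)
    (h3 : 3 ≤ Nat.card Ω) {a b : Ω} (hab : a ≠ b) (heven : Even (Nat.card (St2 G a b)))
    (hd : 2 * Nat.card (St2 G a b) = Nat.card Ω - 2) (K : Type*) [Field K] [Finite K]
    (hc : Nat.card K = Nat.card Ω - 1) : Nonempty (G ≃* PSL(2, K)) := by
  classical
  obtain ⟨F, hK⟩ := h.exists_ker hab
  obtain ⟨s, -, hs2, hsa, hsb, c, -, -, hsc, -⟩ := h.exists_swap_invol_of_even h3 hab heven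
  have hsc' : s • c = c := hsc
  have hi : ∀ g ∈ St2 G a b, s * g * s⁻¹ = g⁻¹ := fun g hg => by
    have := h.swap_invol_of_le hab heven hd.le (g := s * g)
      (by rw [mul_smul, (mem_St2.mp hg).1, hsa]) (by rw [mul_smul, (mem_St2.mp hg).2, hsb])
    rw [invol_inv hs2, eq_inv_iff_mul_eq_one, ← this, mul_assoc]
  obtain ⟨τ, μ, e, C, he1⟩ := hK.exists_coord hab (c := c)
    (fun e => hab (by rw [← hsa, ← e, hsc'])) (fun e => hab (by rw [← hsb, ← e, hsc']))
    (hK.isMulCommutative_of_large h hab (by omega)) le_rfl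
    (fun x hx y hy => comm_of_inverted hi hx hy)
    (fun U h1 h2 h3 => hK.eq_of_invariant h hab le_rfl (by rw [hK.card hab]; omega) h1 h2 h3)
    K (by rw [hc, hK.card hab])
  obtain ⟨σ, hσ⟩ := C.exists_sigma hsa hsb
  have hd' : 2 * Nat.card (St2 G a b) = Nat.card K - 1 := by omega
  have hm := (isSquare_neg_one_iff hd').mpr heven
  obtain ⟨z, hz, hz1, hz2⟩ := exists_invol_of_even_card heven
  have hs1 : s • e (1 : K) = e (1 : K) := by rw [he1, hsc']
  have key : ∀ x : K, x ≠ 0 → σ x = 1 / x := fun x hx =>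
    inv_of_braid (Ring.two_ne_zero (Coord.two_ne_zero hd')) hm
      (C.inj ((hσ 1 one_ne_zero).2.symm.trans hs1)) (C.sigma_sq h hab le_rfl hd' hσ hi)
      (C.braid h hab hK hsa hsb hs1 hσ hz.1 (C.neg hz.2 (hK.inverts_of_invol h hab hz hz1 hz2))) hx
  refine iso_of_actSub e _ (eq_top_of_le hab hK (C.ker_le_psl hK) (C.le_psl le_rfl hd')
    (mem_psl_of_inv one_ne_zero hm (by rw [C.inf, C.zero, hsa]) (by rw [C.inf, C.zero, hsb])
      (fun x hx => by rw [(hσ x hx).2, key x hx])) hsa) ?_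
  rw [card_psl_two_of_odd hd', card_G_eq h hab hc]

theorem Z3.iso_psl_odd [Finite G] [Finite Ω] [FaithfulSMul G Ω] (h : Z3 G Ω)
    {a b : Ω} (hab : a ≠ b) (hodd : Odd (Nat.card (St2 G a b)))
    (hd : 2 * Nat.card (St2 G a b) = Nat.card Ω - 2) {s : G} (hs2 : s * s = 1) (hsa : s • a = b)
    (hsb : s • b = a) (hi : ∀ g ∈ St2 G a b, s * g * s⁻¹ = g⁻¹) (K : Type*) [Field K] [Finite K]
    (hc : Nat.card K = Nat.card Ω - 1) : Nonempty (G ≃* PSL(2, K)) := by
  classical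
  obtain ⟨F, hK⟩ := h.exists_ker hab
  have h0 : 0 < Nat.card (St2 G a b) := Nat.card_pos
  obtain ⟨c, hca, hcb⟩ := exists_third_of_card (Ω := Ω) (by omega) a b
  obtain ⟨τ, μ, e, C, -⟩ := hK.exists_coord hab hca hcb
    (hK.isMulCommutative_of_large h hab (by omega)) le_rfl
    (fun x hx y hy => comm_of_inverted hi hx hy)
    (fun U h1 h2 h3 => hK.eq_of_invariant h hab le_rfl (by rw [hK.card hab]; omega) h1 h2 h3)
    K (by rw [hc, hK.card hab])
  obtain ⟨σ, hσ⟩ := C.exists_sigma hsa hsb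
  have hd' : 2 * Nat.card (St2 G a b) = Nat.card K - 1 := by omega
  have hm : ¬ IsSquare (-1 : K) := fun hm =>
    Nat.not_even_iff_odd.mpr hodd ((isSquare_neg_one_iff hd').mp hm)
  have hsq := C.sigma_sq h hab le_rfl hd' hσ hi
  have h1 : ∀ x : K, x ≠ 0 → IsSquare x → σ x = σ 1 / x := fun x hx hx2 => by
    have := hsq x 1 hx hx2 one_ne_zero
    rwa [mul_one] at this
  have h2 : ¬ IsSquare (σ 1) := by
    rintro ⟨r, hr⟩
    have hr0 : r ≠ 0 := left_ne_zero_of_mul (hr ▸ (hσ 1 one_ne_zero).1)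
    have key : ∀ m : K, m ≠ 0 → IsSquare m → σ 1 = m * m → False := by
      intro m hm0 hm2 hm1
      have h4 : s • e m = e m := by
        rw [(hσ m hm0).2, h1 m hm0 hm2, hm1, mul_div_assoc, div_self hm0, mul_one]
      have h5 : Odd (Nat.card (stabilizer G (e m))) := by
        rw [h.card_stab (C.ne_a m), h.card_St2_eq hab (C.ne_a m)]
        exact Odd.mul (by rw [Nat.odd_iff]; omega) hodd
      rw [eq_one_of_sq_of_mem_odd h5 h4 hs2, one_smul] at hsa
      exact hab hsa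
    by_cases hr2 : IsSquare r
    · exact key r hr0 hr2 hr
    · exact key (-1 * r) (by simpa using hr0) (isSquare_mul_of_not hm hr2) (by rw [hr]; ring)
  have key : ∀ x : K, x ≠ 0 → σ x = σ 1 / x := fun x hx => by
    by_cases hx2 : IsSquare x
    · exact h1 x hx hx2
    have h4 : σ 1 / x ≠ 0 := div_ne_zero (hσ 1 one_ne_zero).1 hx
    have h5 := h1 _ h4 (by
      rw [div_eq_mul_inv]
      exact isSquare_mul_of_not h2 (fun h => hx2 (by simpa using h.inv)))
    rw [div_div_cancel₀ (hσ 1 one_ne_zero).1] at h5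
    apply C.inj
    rw [← (hσ x hx).2]
    nth_rewrite 1 [← h5]
    rw [← (hσ _ h4).2, ← mul_smul, hs2, one_smul]
  refine iso_of_actSub e _ (eq_top_of_le hab hK (C.ker_le_psl hK) (C.le_psl le_rfl hd')
    (mem_psl_of_inv (hσ 1 one_ne_zero).1 (by
      have := isSquare_mul_of_not hm h2
      rwa [neg_one_mul] at this) (by rw [C.inf, C.zero, hsa]) (by rw [C.inf, C.zero, hsb])
      (fun x hx => by rw [(hσ x hx).2, key x hx])) hsa) ?_
  rw [card_psl_two_of_odd hd', card_G_eq h hab hc]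

theorem Z3.exists_field [Finite G] [Finite Ω] (h : Z3 G Ω) (h3 : 3 ≤ Nat.card Ω) {a b : Ω}
    (hab : a ≠ b) (hd : Nat.card Ω - 2 ≤ 2 * Nat.card (St2 G a b)) :
    ∃ (p f : ℕ) (K : Type) (_ : Field K) (_ : Fintype K), p.Prime ∧ Nat.card Ω = p ^ f + 1 ∧
      Nat.card K = Nat.card Ω - 1 := by
  obtain ⟨F, hK⟩ := h.exists_ker hab
  obtain ⟨p, f, hp, -, h1⟩ := hK.elementary_of_large h hab h3 hd
  obtain ⟨K, i1, i2, h2⟩ := exists_field_of_card (n := Nat.card Ω - 1) (f := f) hp (by omega)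
    (by omega)
  exact ⟨p, f, K, i1, i2, hp, h1, h2⟩

theorem s0742 [Finite G] [Fintype Ω] (hZ : Cfsg.IsZassenhausGroup G Ω) {a b : Ω} (hab : a ≠ b) (heven : Even (Nat.card ↥(MulAction.stabilizer G a ⊓ MulAction.stabilizer G b))) (hd : 2 * Nat.card ↥(MulAction.stabilizer G a ⊓ MulAction.stabilizer G b) ≤ Fintype.card Ω - 2) : ∃ (p f : ℕ) (K : Type) (_ : Field K) (_ : Fintype K), p.Prime ∧ p ≠ 2 ∧ Fintype.card K = p ^ f ∧ Fintype.card Ω = p ^ f + 1 ∧ Nonempty (G ≃* Matrix.ProjectiveSpecialLinearGroup (Fin 2) K) := by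
  have h := z3_of_zass hZ
  have := hZ.1
  have h4 := four_le_card hZ
  have h1 := h.card_sub_two_le hab heven
  rw [← Nat.card_eq_fintype_card] at hd ⊢
  obtain ⟨p, f, K, i1, i2, hp, h2, h5⟩ := h.exists_field (by omega) hab h1
  refine ⟨p, f, K, i1, i2, hp, ?_, by rw [← Nat.card_eq_fintype_card]; omega, h2,
    h.iso_psl_even (by omega) hab heven (le_antisymm hd h1) K h5⟩
  rintro rfl
  rcases f with _ | f
  · omega
  · have := le_antisymm hd h1
    rw [pow_succ] at h2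
    omega

theorem s0727 {α : Type*} [Fintype α] [DecidableEq α] {f : ℕ} (hf : 1 ≤ f) (hα : Fintype.card α = 2 ^ f + 1) (G : Subgroup (Equiv.Perm α)) (h3 : MulAction.IsMultiplyPretransitive G α 3) (hsharp : ∀ x : Fin 3 ↪ α, MulAction.stabilizer G x = ⊥) : ∃ (F : Type) (_ : Field F) (_ : Fintype F), Fintype.card F = 2 ^ f ∧ Nonempty (G ≃* Matrix.ProjGenLinGroup (Fin 2) F) := by
  rw [← Nat.card_eq_fintype_card] at hα
  obtain ⟨f, rfl⟩ : ∃ k, f = k + 1 := ⟨f - 1, by omega⟩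
  have h0 : 0 < 2 ^ f := by positivity
  have hα' := hα
  rw [pow_succ] at hα'
  have h := sh3_of (by omega) h3 hsharp
  obtain ⟨a⟩ : Nonempty α := (Nat.card_pos_iff.mp (by omega)).1
  obtain ⟨b, hb, -⟩ := exists_third_of_card (Ω := α) (by omega) a a
  obtain ⟨s, hs1, hs2, hsa, hsb⟩ := h.toZ3.exists_swap_invol (by omega) hb.symm
  obtain ⟨-, -, hi⟩ := h.toZ3.inverts_of_odd_degree (by rw [Nat.odd_iff]; omega) hb.symm hs1 hs2
    hsa hsb
  obtain ⟨K, i1, i2, h2⟩ := exists_field_of_card (n := 2 ^ (f + 1)) Nat.prime_two rfl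
    (by rw [pow_succ]; omega)
  exact ⟨K, i1, i2, by rw [← Nat.card_eq_fintype_card, h2],
    h.iso_pgl (by omega) hb.symm hsa hsb hi K (by omega)⟩

end H21
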