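import Mathlib
import Cfsg.Prelude.Def_LieExceptional
import Cfsg.Agent.H21.Zass5
import Cfsg.Agent.H21.QuatAut
import Cfsg.Agent.H21.FieldAut

/-! Sharply triply transitive groups of even degree; simple Zassenhaus groups. -/

set_option autoImplicit false

namespace H21

open Cfsg MulAction OnePoint
open scoped MatrixGroups

variable {G Ω : Type*} [Group G] [MulAction G Ω]

theorem card_le_two_mul [Finite G] {H : Subgroup G} {s z : G}
    (hC : ∀ x ∈ H, s * x = x * s → x = 1 ∨ x = z) (T : Subgroup G) (p : G → Prop)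
    (hT : ∀ x ∈ H, x⁻¹ * (s * x * s⁻¹) ∈ T ∧ p (x⁻¹ * (s * x * s⁻¹))) :
    Nat.card H ≤ 2 * Nat.card {t : T // p t} := by
  classical
  have := Fintype.ofFinite G
  have key := Finset.card_le_mul_card_image_of_maps_to (f := fun x : G => x⁻¹ * (s * x * s⁻¹))
    (s := Finset.univ.filter (· ∈ H)) (t := Finset.univ.filter fun t => t ∈ T ∧ p t)
    (by simpa using hT) 2 (by
      intro t _
      by_cases h0 : ∃ y ∈ H, y⁻¹ * (s * y * s⁻¹) = t
      · obtain ⟨y, hy, rfl⟩ := h0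
        refine le_trans (Finset.card_le_card (t := {y, z * y}) ?_) Finset.card_le_two
        intro x hx
        simp only [Finset.mem_filter, Finset.mem_univ, true_and] at hx
        rcases hC (x * y⁻¹) (H.mul_mem hx.1 (H.inv_mem hy)) (by
          calc s * (x * y⁻¹) = x * (x⁻¹ * (s * x * s⁻¹)) * s * y⁻¹ := by group
            _ = _ := by rw [hx.2]; group) with e | e
        · simp [mul_inv_eq_one.mp e]
        · simp [← e]
      · rw [Finset.card_eq_zero.mpr]
        · omega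
        · rw [Finset.filter_eq_empty_iff]
          intro x hx e
          exact h0 ⟨x, by simpa using hx, e⟩)
  rw [← Fintype.card_subtype, ← Fintype.card_subtype, ← Nat.card_eq_fintype_card,
    ← Nat.card_eq_fintype_card] at key
  rw [Nat.card_congr (Equiv.subtypeSubtypeEquivSubtypeInter (· ∈ T) p)]
  exact key

theorem Coord.comm_of_centralizes {a b : Ω} {F A : Subgroup G} {K : Type*} [Field K] {τ : K → G}
    {μ : G → K} {e : OnePoint K ≃ Ω} (C : Coord a b F A τ μ e) {x : G} (hx : x ∈ St2 G a b)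
    (hc : ∀ y ∈ A, x * y = y * x) : ∃ c : K, ∀ k : K, x • e k = e (c * k : K) := by
  obtain ⟨φ, c, h⟩ := C.semi x hx (fun y hy => by rwa [hc y hy, mul_inv_cancel_right])
  have hc0 : c ≠ 0 := by
    rintro rfl
    have := h 1
    rw [zero_mul, C.zero] at this
    exact smul_ne_of_fix' (mem_St2.mp hx).2 (C.ne_b one_ne_zero) this
  have : (φ : K →+* K) = RingHom.id K := RingHom.eq_of_eqOn_set_dense C.gen (by
    rintro _ ⟨y, hy, rfl⟩
    have h1 : (x * y) • e (1 : K) = (y * x) • e (1 : K) := by rw [hc y hy]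
    rw [mul_smul, mul_smul, C.lin y hy, h, h, C.lin y hy, mul_one, map_one, mul_one,
      mul_comm (μ y)] at h1
    exact mul_left_cancel₀ hc0 (C.inj h1))
  exact ⟨c, fun k => by rw [h, show φ k = k from congrArg (fun f : K →+* K => f k) this]⟩

theorem Sh3.exists_invol [Finite G] [Finite Ω] (h : Sh3 G Ω) (h3 : 3 ≤ Nat.card Ω)
    (heven : Even (Nat.card Ω)) {a b : Ω} (hab : a ≠ b) : Even (Nat.card (St2 G a b)) := by
  rw [h.card_St2 h3 hab, Nat.even_iff]; rw [Nat.even_iff] at heven; omega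

theorem Sh3.cent_swap [Finite G] [Finite Ω] (h : Sh3 G Ω) (h3 : 3 ≤ Nat.card Ω) {a b c : Ω}
    (hab : a ≠ b) (hca : c ≠ a) (hcb : c ≠ b) {s : G} (hsa : s • a = b) (hsb : s • b = a)
    (hsc : s • c = c) {z : G} (hz : z ∈ St2 G a b) (hz1 : z ≠ 1) (hz2 : z * z = 1) :
    s * z = z * s ∧ ∀ x ∈ St2 G a b, s * x = x * s → x = 1 ∨ x = z := by
  obtain ⟨F, hK⟩ := h.toZ3.exists_ker hab
  have hzs : s * z = z * s := mul_inv_eq_iff_eq_mul.mp (hK.invol_unique (hK.ne_bot h3) h.toZ3 hab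
    hz hz1 hz2 (Z3.conj_mem_St2 (Or.inr ⟨hsa, hsb⟩) hz) (fun e => hz1 (conj_eq_one_iff.mp e))
    (conj_sq_eq_one hz2))
  refine ⟨hzs, fun x hx hxs => ?_⟩
  by_contra hc
  rw [not_or] at hc
  have := h.three (g := s) (a := c) (b := z • c) (c := x • c)
    (fun e => hz1 (h.toZ3.eq_one hab hz hca hcb e.symm))
    (fun e => hc.2 (h.toZ3.ext3 hab hcb.symm hca.symm (hx.1.trans hz.1.symm) (hx.2.trans hz.2.symm)
      e.symm))
    (fun e => hc.1 (h.toZ3.eq_one hab hx hca hcb e.symm)) hsc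
    (by rw [← mul_smul, hzs, mul_smul, hsc]) (by rw [← mul_smul, hxs, mul_smul, hsc])
  rw [this, one_smul] at hsa
  exact hab hsa

theorem Sh3.exists_index_two' [Finite G] [Finite Ω] (h : Sh3 G Ω) (h3 : 3 ≤ Nat.card Ω)
    (heven : Even (Nat.card Ω)) {a b c : Ω} (hab : a ≠ b) (hca : c ≠ a) (hcb : c ≠ b) {s : G}
    (hsa : s • a = b) (hsb : s • b = a) (hsc : s • c = c) :
    ∃ M : Subgroup (St2 G a b), M.index = 2 := by
  by_contra hi
  push Not at hi
  have he := h.exists_invol h3 heven hab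
  obtain ⟨z, hz, hz1, hz2⟩ := exists_invol_of_even_card he
  obtain ⟨F, hK⟩ := h.toZ3.exists_ker hab
  have hF := hK.ne_bot h3
  obtain ⟨-, hC⟩ := h.cent_swap h3 hab hca hcb hsa hsb hsc hz hz1 hz2
  have hs2 := h.swap_sq hab hca hcb hsa hsb hsc
  have hsn : ∀ x ∈ St2 G a b, s * x * s⁻¹ ∈ St2 G a b :=
    fun x hx => Z3.conj_mem_St2 (Or.inr ⟨hsa, hsb⟩) hx
  have cent : ∀ u : St2 G a b, (∀ x ∈ St2 G a b, s * (x * u * x⁻¹) * s⁻¹ = (x * u * x⁻¹)⁻¹) →
      u ∈ Subgroup.center (St2 G a b) := by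
    intro u hu
    have h1 := card_le_two_mul hC (St2 G a b ⊓ Subgroup.centralizer {(u : G)}) (fun _ => True)
      (fun x hx => ⟨⟨Subgroup.mul_mem _ (Subgroup.inv_mem _ hx) (hsn x hx), ?_⟩, trivial⟩)
    · rw [Nat.card_congr (Equiv.subtypeUnivEquiv (fun _ => trivial))] at h1
      have h2 := H2.card_mul_relIndex (inf_le_left : St2 G a b ⊓ Subgroup.centralizer {(u : G)} ≤ _)
      have h4 := hi ((St2 G a b ⊓ Subgroup.centralizer {(u : G)}).subgroupOf _)
      have h5 : 0 < Nat.card (St2 G a b) := Nat.card_pos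
      have h6 : (St2 G a b ⊓ Subgroup.centralizer {(u : G)}).relIndex (St2 G a b) = 1 := by
        rw [← Subgroup.relIndex] at h4
        generalize (St2 G a b ⊓ Subgroup.centralizer {(u : G)}).relIndex (St2 G a b) = m at h2 h4
        generalize Nat.card ↥(St2 G a b ⊓ Subgroup.centralizer {(u : G)}) = r at h1 h2
        rcases m with _ | _ | _ | m
        · omega
        · rfl
        · omega
        · have : r * (m + 1 + 1 + 1) = r * m + 3 * r := by ring
          omega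
      rw [Subgroup.relIndex_eq_one] at h6
      exact Subgroup.mem_center_iff.mpr fun x =>
        Subtype.ext (Subgroup.mem_centralizer_singleton_iff.mp (h6 x.2).2)
    · have h1 := hu 1 (Subgroup.one_mem _)
      have h2 := hu x hx
      rw [one_mul, inv_one, mul_one] at h1
      apply Subgroup.mem_centralizer_singleton_iff.mpr
      apply (Commute.inv_right_iff (a := x⁻¹ * (s * x * s⁻¹)) (b := u)).mp
      show _ = _
      calc x⁻¹ * (s * x * s⁻¹) * (u : G)⁻¹ = x⁻¹ * (s * (x * u * x⁻¹) * s⁻¹) * (s * x * s⁻¹) := by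
            rw [← h1]; group
        _ = _ := by rw [h2]; group
  obtain ⟨⟨x, y, hxy⟩, c1, c2, c3⟩ := center_large (G := St2 G a b)
    (fun x y hx1 hx2 hy2 => by
      by_cases hy1 : y = 1
      · rw [hy1]; exact Subgroup.one_mem _
      · have := hK.invol_unique hF h.toZ3 hab x.2 (fun e => hx1 (Subtype.ext e))
          (by rw [← pow_two]; exact congrArg Subtype.val hx2) y.2 (fun e => hy1 (Subtype.ext e))
          (by rw [← pow_two]; exact congrArg Subtype.val hy2)
        rw [Subtype.ext this]; exact Subgroup.mem_zpowers x)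
    (fun x y hx1 hx2 hy2 => by
      by_cases hy1 : y = 1
      · rw [hy1]; exact Subgroup.one_mem _
      · rcases h.three_unique h3 heven hab x.2 y.2 (fun e => hx1 (Subtype.ext e))
          (fun e => hy1 (Subtype.ext e)) (by rw [← pow_three']; exact congrArg Subtype.val hx2)
          (by rw [← pow_three']; exact congrArg Subtype.val hy2) with e | e
        · rw [Subtype.ext e]; exact Subgroup.mem_zpowers x
        · rw [show y = x⁻¹ from Subtype.ext e]; exact Subgroup.inv_mem _ (Subgroup.mem_zpowers x))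
    he hi
    (fun w hw => cent w fun x hx => h.inverts_three hab hca hcb hsa hsb hsc
      (Subgroup.mul_mem _ (Subgroup.mul_mem _ hx w.2) (Subgroup.inv_mem _ hx)) (by
        rw [← pow_three', conj_pow, show (w : G) ^ 3 = 1 from congrArg Subtype.val hw]; group))
    (fun U hU hUo u hu => cent u fun x hx => by
      have h1 := H3.normalizer_le_normalizer_map_of_characteristic U
      have h2 : Odd (Nat.card (U.map (St2 G a b).subtype)) := by rwa [Subgroup.card_subtype]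
      obtain ⟨y, w, hy, hys, hw, e⟩ := exists_cent_mul_inverted hs2 h2
        (fun x hx => conj_mem_of_mem_normalizer (h1 (mem_normalizer_of_forall hsn)) hx)
        (conj_mem_of_mem_normalizer (h1 (Subgroup.le_normalizer hx)) ⟨u, hu, rfl⟩)
      have h4 : y = 1 := by
        rcases hC y (Subgroup.map_subtype_le _ hy) hys with e | e
        · exact e
        · exact eq_one_of_sq_of_mem_odd h2 hy (by rw [e, hz2])
      rw [h4, one_mul] at e
      rw [show x * u * x⁻¹ = w from e]; exact hw.2)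
  set Z := (Subgroup.center (St2 G a b)).map (St2 G a b).subtype with hZ
  have hZH : Z ≤ St2 G a b := Subgroup.map_subtype_le _
  have hZc : ∀ x ∈ St2 G a b, ∀ y ∈ Z, x * y = y * x := by
    rintro x hx _ ⟨y, hy, rfl⟩
    exact congrArg Subtype.val (Subgroup.mem_center_iff.mp hy ⟨x, hx⟩)
  rw [← Subgroup.card_subtype, ← hZ] at c1 c3
  have hd := h.card_St2 h3 hab
  by_cases hirr : ∀ U : Subgroup G, U ≤ F → U ≠ ⊥ → Z ≤ Subgroup.normalizer (U : Set G) → U = F
  · obtain ⟨p, f, K, i1, i2, -, -, h5⟩ := h.toZ3.exists_field h3 hab (by omega)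
    obtain ⟨τ, μ, e, C, -⟩ := hK.exists_coord hab hca hcb
      (hK.isMulCommutative_of_large h.toZ3 hab (by omega)) hZH
      (fun x hx y hy => hZc x (hZH hx) y hy) hirr K (by rw [h5, hK.card hab])
    obtain ⟨c₁, h1⟩ := C.comm_of_centralizes x.2 (hZc x x.2)
    obtain ⟨c₂, h2⟩ := C.comm_of_centralizes y.2 (hZc y y.2)
    apply hxy
    apply Subtype.ext
    exact h.toZ3.ext3 hab (C.ne_b one_ne_zero).symm (C.ne_a 1).symm
      ((x * y).2.1.trans (y * x).2.1.symm) ((x * y).2.2.trans (y * x).2.2.symm)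
      (by rw [Subgroup.coe_mul, Subgroup.coe_mul, mul_smul, mul_smul, h1, h2, h1, h2, mul_left_comm])
  · push Not at hirr
    obtain ⟨U, hU1, hU2, hU3, hU4⟩ := hirr
    obtain ⟨r, hr⟩ := hK.card_dvd_of_invariant h.toZ3 hab hZH hU1 hU3
    obtain ⟨r', hr'⟩ := hK.card_dvd_of_invariant h.toZ3 hab hZH le_rfl
      (hZH.trans hK.St2_le_normalizer)
    obtain ⟨t, ht⟩ := Subgroup.card_dvd_of_le hU1
    have h1 : 1 < Nat.card U := (Subgroup.one_lt_card_iff_ne_bot _).mpr hU2
    have h2 : t ≠ 1 := fun e => hU4 (Subgroup.eq_of_le_of_card_ge hU1 (by rw [ht, e, mul_one]))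
    have h4 := hK.card hab
    have h5 : 0 < Nat.card Z := Nat.card_pos
    rw [hd] at c1 c2
    generalize Nat.card Z = m at *
    generalize Nat.card U = u at *
    generalize Nat.card F = n at *
    obtain ⟨u, rfl⟩ : ∃ k, u = k + 1 := ⟨u - 1, by omega⟩
    obtain ⟨t, rfl⟩ : ∃ k, t = k + 1 := ⟨t - 1, by rcases t with _ | t <;> omega⟩
    have h6 : n - 1 = u * (t + 1) + t := by rw [ht]; simp [add_mul]
    have h7 : m ∣ t := (Nat.dvd_add_right (Dvd.dvd.mul_right ⟨r, by omega⟩ (t + 1))).mp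
      ⟨r', h6.symm.trans hr'⟩
    have h8 : m ≤ t := Nat.le_of_dvd (by omega) h7
    have h9 : m ≤ u := Nat.le_of_dvd (by omega) ⟨r, by omega⟩
    have h10 : (m + 1) * (m + 1) ≤ n := ht ▸ Nat.mul_le_mul (by omega) (by omega)
    have h11 : m ≤ 10 := by nlinarith [show n ≤ 12 * m + 1 by omega]
    obtain rfl : m = 6 := by omega
    have h12 : n = 73 := by omega
    have h13 : Nat.Prime 73 := by norm_num
    rw [h12] at ht
    rcases (Nat.dvd_prime h13).mp ⟨t + 1, ht⟩ with e | e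
    · omega
    · rw [e] at ht; omega

theorem Sh3.exists_index_two [Finite G] [Finite Ω] (h : Sh3 G Ω) (h3 : 3 ≤ Nat.card Ω)
    (heven : Even (Nat.card Ω)) {a b c : Ω} (hab : a ≠ b) (hca : c ≠ a) (hcb : c ≠ b) {s : G}
    (hsa : s • a = b) (hsb : s • b = a) (hsc : s • c = c) :
    ∃ N : Subgroup G, N ≤ St2 G a b ∧ N.relIndex (St2 G a b) = 2 ∧
      ∀ x ∈ N, s * x * s⁻¹ = x⁻¹ := by
  obtain ⟨M, hM⟩ := h.exists_index_two' h3 heven hab hca hcb hsa hsb hsc
  have hs2 := h.swap_sq hab hca hcb hsa hsb hsc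
  have hsn : ∀ x ∈ St2 G a b, s * x * s⁻¹ ∈ St2 G a b :=
    fun x hx => Z3.conj_mem_St2 (Or.inr ⟨hsa, hsb⟩) hx
  have hss : ∀ x : G, s * (s * x * s⁻¹) * s⁻¹ = x := fun x => by
    calc s * (s * x * s⁻¹) * s⁻¹ = (s * s) * x * (s * s)⁻¹ := by group
      _ = x := by rw [hs2]; group
  obtain ⟨N, hN1, hN2⟩ := exists_invariant_index_two
    (H1.conjHom (St2 G a b) s (mem_normalizer_of_forall hsn)) (fun x => Subtype.ext (hss x)) hM
  obtain ⟨z, hz, hz1, hz2⟩ := exists_invol_of_even_card (h.exists_invol h3 heven hab)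
  obtain ⟨-, hC⟩ := h.cent_swap h3 hab hca hcb hsa hsb hsc hz hz1 hz2
  have h1 := card_le_two_mul hC (N.map (St2 G a b).subtype) (fun x => s * x * s⁻¹ = x⁻¹)
    (fun x hx => ⟨⟨(⟨x, hx⟩ : St2 G a b)⁻¹ * H1.conjHom (St2 G a b) s
      (mem_normalizer_of_forall hsn) ⟨x, hx⟩, by
      rw [SetLike.mem_coe, Subgroup.mul_mem_iff_of_index_two hN1, Subgroup.inv_mem_iff]
      exact ⟨hN2 _, fun h => by
        have := hN2 _ h
        rwa [show H1.conjHom (St2 G a b) s (mem_normalizer_of_forall hsn) (H1.conjHom (St2 G a b) s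
          (mem_normalizer_of_forall hsn) ⟨x, hx⟩) = ⟨x, hx⟩ from Subtype.ext (hss x)] at this⟩,
      rfl⟩, by
      calc s * (x⁻¹ * (s * x * s⁻¹)) * s⁻¹ = s * x⁻¹ * s⁻¹ * (s * (s * x * s⁻¹) * s⁻¹) := by group
        _ = _ := by rw [hss]; group⟩)
  have h2 := N.index_mul_card
  rw [hN1, ← Subgroup.card_subtype] at h2
  refine ⟨N.map (St2 G a b).subtype, Subgroup.map_subtype_le _, ?_, fun x hx => ?_⟩
  · rw [Subgroup.relIndex, Subgroup.subgroupOf, Subgroup.comap_map_eq_self_of_injective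
      (Subgroup.subtype_injective _), hN1]
  · obtain ⟨y, hy⟩ := (Subtype.val_injective.bijective_of_nat_card_le
      (α := {t : N.map (St2 G a b).subtype // s * t * s⁻¹ = (t : G)⁻¹}) (by omega)).2 ⟨x, hx⟩
    have := y.2
    rwa [hy] at this

theorem s0729 {α : Type*} [Fintype α] [DecidableEq α] (heven : Even (Fintype.card α)) (h6 : 6 ≤ Fintype.card α) (G : Subgroup (Equiv.Perm α)) (h3 : MulAction.IsMultiplyPretransitive G α 3) (hsharp : ∀ x : Fin 3 ↪ α, MulAction.stabilizer G x = ⊥) {a b c : α} (hab : a ≠ b) (hac : a ≠ c) (hbc : b ≠ c) (s : G) (hsa : s • a = b) (hsb : s • b = a) (hsc : s • c = c) : ∃ N : Subgroup G, N ≤ MulAction.stabilizer G a ⊓ MulAction.stabilizer G b ∧ (N.subgroupOf (MulAction.stabilizer G a ⊓ MulAction.stabilizer G b)).Normal ∧ N.relIndex (MulAction.stabilizer G a ⊓ MulAction.stabilizer G b) = 2 ∧ ∀ n ∈ N, s * n * s⁻¹ ∈ N := by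
  rw [← Nat.card_eq_fintype_card] at heven h6
  obtain ⟨N, h1, h2, h4⟩ := (sh3_of (by omega) h3 hsharp).exists_index_two (by omega) heven hab
    hac.symm hbc.symm hsa hsb hsc
  exact ⟨N, h1, Subgroup.normal_of_index_eq_two h2, h2, fun n hn => by
    rw [h4 n hn]; exact N.inv_mem hn⟩

/-- coordinates for a sharply triply transitive group of even degree -/
theorem Sh3.exists_coord [Finite G] [Finite Ω] (h : Sh3 G Ω) (h3 : 3 ≤ Nat.card Ω)
    (heven : Even (Nat.card Ω)) {a b : Ω} (hab : a ≠ b) (K : Type*) [Field K] [Finite K]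
    (hc : Nat.card K = Nat.card Ω - 1) :
    ∃ (F N : Subgroup G) (τ : K → G) (μ : G → K) (e : OnePoint K ≃ Ω) (s z : G), Ker a F ∧
      N ≤ St2 G a b ∧ N.relIndex (St2 G a b) = 2 ∧ 2 * Nat.card N = Nat.card K - 1 ∧
      Coord a b F N τ μ e ∧ s • a = b ∧ s • b = a ∧
      (∀ x : K, x ≠ 0 → s • e x = e (1 / x : K)) ∧ z ∈ St2 G a b ∧
      ∀ x : K, z • e x = e (-x : K) := by
  obtain ⟨c, hca, hcb⟩ := exists_third_of_card h3 a b
  obtain ⟨s, hsa, hsb, hsc⟩ := h.tri hab hca.symm hcb.symm hab.symm hcb.symm hca.symm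
  obtain ⟨N, hN1, hN2, hi⟩ := h.exists_index_two h3 heven hab hca hcb hsa hsb hsc
  obtain ⟨F, hK⟩ := h.toZ3.exists_ker hab
  have hd := h.card_St2 h3 hab
  have hd' : 2 * Nat.card N = Nat.card K - 1 := by
    have := H2.card_mul_relIndex hN1
    rw [hN2] at this; omega
  obtain ⟨τ, μ, e, C, he1⟩ := hK.exists_coord hab hca hcb
    (hK.isMulCommutative_of_large h.toZ3 hab (by omega)) hN1
    (fun x hx y hy => comm_of_inverted hi hx hy)
    (fun U h1 h2 h3 => hK.eq_of_invariant h.toZ3 hab hN1 (by rw [hK.card hab]; omega) h1 h2 h3)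
    K (by rw [hc, hK.card hab])
  obtain ⟨σ, hσ⟩ := C.exists_sigma hsa hsb
  obtain ⟨z, hz, hz1, hz2⟩ := exists_invol_of_even_card (h.exists_invol h3 heven hab)
  have hzx := C.neg hz.2 (hK.inverts_of_invol h.toZ3 hab hz hz1 hz2)
  have hs1 : s • e (1 : K) = e (1 : K) := by rw [he1, hsc]
  have h1 : σ 1 = 1 := C.inj ((hσ 1 one_ne_zero).2.symm.trans hs1)
  have hsq := C.sigma_sq h.toZ3 hab hN1 hd' hσ hi
  refine ⟨F, N, τ, μ, e, s, z, hK, hN1, hN2, hd', C, hsa, hsb, fun x hx => ?_, hz, hzx⟩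
  rw [(hσ x hx).2]
  congr 2
  by_cases hm : IsSquare (-1 : K)
  · exact inv_of_braid (Ring.two_ne_zero (Coord.two_ne_zero hd')) hm h1 hsq
      (C.braid h.toZ3 hab hK hsa hsb hs1 hσ hz.1 hzx) hx
  by_cases hx2 : IsSquare x
  · have := hsq x 1 hx hx2 one_ne_zero
    rwa [mul_one, h1] at this
  have h2 : σ (-1) = -1 := C.inj (by
    rw [← (hσ _ (by simp)).2, ← hzx, ← mul_smul,
      (h.cent_swap h3 hab hca hcb hsa hsb hsc hz hz1 hz2).1, mul_smul, hs1])
  have := hsq (-1 * x) (-1) (by simpa using hx) (isSquare_mul_of_not hm hx2) (by simp)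
  rw [h2, show -1 * x * -1 = x by ring] at this
  rw [this]; field_simp

theorem Sh3.exists_index_two_top [Finite G] [Finite Ω] [FaithfulSMul G Ω] (h : Sh3 G Ω)
    (h3 : 3 ≤ Nat.card Ω) (heven : Even (Nat.card Ω)) : ∃ M : Subgroup G, M.index = 2 := by
  classical
  obtain ⟨a⟩ : Nonempty Ω := (Nat.card_pos_iff.mp (by omega)).1
  obtain ⟨b, hb, -⟩ := exists_third_of_card h3 a a
  have hab := hb.symm
  have hd := h.card_St2 h3 hab
  obtain ⟨p, f, K, i1, i2, -, -, hc⟩ := h.toZ3.exists_field h3 hab (by omega)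
  obtain ⟨F, N, τ, μ, e, s, z, hK, hN1, hN2, hd', C, hsa, hsb, hs, hz, hzx⟩ :=
    h.exists_coord h3 heven hab K hc
  set M := actSub G e PSL(2, K)
  have h1 : ∃ t ∈ M, t • a = b := by
    by_cases hm : IsSquare (-1 : K)
    · exact ⟨s, mem_psl_of_inv one_ne_zero hm (by rw [C.inf, C.zero, hsa])
        (by rw [C.inf, C.zero, hsb]) hs, hsa⟩
    · refine ⟨z * s, mem_psl_of_inv (c := -1) (by simp) (by simp) ?_ ?_ (fun x hx => ?_), ?_⟩
      · rw [C.inf, C.zero, mul_smul, hsa, (mem_St2.mp hz).2]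
      · rw [C.inf, C.zero, mul_smul, hsb, (mem_St2.mp hz).1]
      · rw [mul_smul, hs x hx, hzx, neg_div]
      · rw [mul_smul, hsa, (mem_St2.mp hz).2]
  obtain ⟨t, ht, hta⟩ := h1
  have hF : F ≤ M := C.ker_le_psl hK
  have h2 : ∀ y, y ≠ a → ∃ g ∈ M, g • a = y := fun y hy => by
    obtain ⟨u, hu, e⟩ := hK.trans hab.symm hy
    exact ⟨u * t, M.mul_mem (hF hu) ht, by rw [mul_smul, hta, e]⟩
  have h4 : ∀ y, ∃ g ∈ M, g • a = y := fun y => by
    by_cases hy : y = a
    · exact ⟨1, M.one_mem, by rw [one_smul, hy]⟩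
    · exact h2 y hy
  have hM : Z3 M Ω := ⟨fun {x y z w} hxy hzw => by
    obtain ⟨g, hg, rfl⟩ := h4 x
    obtain ⟨k, hk, rfl⟩ := h4 z
    obtain ⟨u, hu, e⟩ := hK.trans (y := g⁻¹ • y) (z := k⁻¹ • w)
      (fun e => hxy (by rw [← e, smul_inv_smul])) (fun e => hzw (by rw [← e, smul_inv_smul]))
    refine ⟨⟨k * u * g⁻¹, M.mul_mem (M.mul_mem hk (hF hu)) (M.inv_mem hg)⟩, ?_, ?_⟩
    · show (k * u * g⁻¹) • g • a = k • a
      rw [mul_smul, mul_smul, inv_smul_smul, hK.fix u hu]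
    · show (k * u * g⁻¹) • y = w
      rw [mul_smul, mul_smul, e, smul_inv_smul],
    fun h1 h2 h3 h4 h5 h6 => Subtype.ext (h.three h1 h2 h3 h4 h5 h6)⟩
  have c1 := card_G_eq hM hab hc
  have c2 := card_G_eq h.toZ3 hab hc
  have c3 : Nat.card M ≤ _ := card_actSub_le e PSL(2, K)
  rw [card_psl_two_of_odd hd', c1] at c3
  have c4 : Nat.card N ≤ Nat.card (St2 M a b) := Nat.card_le_card_of_injective
    (fun x => ⟨⟨x, C.le_psl hN1 hd' x.2⟩, hN1 x.2⟩)
    (fun x y e => Subtype.ext (Subtype.mk.inj (Subtype.mk.inj e)))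
  have c5 : 1 < Nat.card K := Finite.one_lt_card
  have c6 := Nat.le_of_mul_le_mul_left (Nat.le_of_mul_le_mul_left c3 (by omega)) (by omega)
  refine ⟨M, Nat.eq_of_mul_eq_mul_right (Nat.card_pos (α := M)) ?_⟩
  rw [M.index_mul_card, c1, c2, show Nat.card (St2 G a b) = 2 * Nat.card (St2 M a b) by omega]
  ring

theorem Sh3.not_simple [Finite G] [Finite Ω] [FaithfulSMul G Ω] (h : Sh3 G Ω)
    (h3 : 3 ≤ Nat.card Ω) (heven : Even (Nat.card Ω)) : ¬ IsSimpleGroup G := by
  intro hs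
  obtain ⟨M, hM⟩ := h.exists_index_two_top h3 heven
  rcases (Subgroup.normal_of_index_eq_two hM).eq_bot_or_eq_top with e | e
  · obtain ⟨a⟩ : Nonempty Ω := (Nat.card_pos_iff.mp (by omega)).1
    obtain ⟨b, hb, -⟩ := exists_third_of_card h3 a a
    rw [e, Subgroup.index_bot, h.toZ3.card_G hb.symm] at hM
    have := Nat.le_of_dvd two_pos ⟨_, hM.symm⟩
    omega
  · rw [e, Subgroup.index_top] at hM; omega

theorem Sh3.iso_pgl_of_odd [Finite G] [Finite Ω] [FaithfulSMul G Ω] (h : Sh3 G Ω)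
    (h3 : 3 ≤ Nat.card Ω) (heven : Even (Nat.card Ω)) (K : Type*) [Field K] [Finite K]
    (hc : Nat.card K = Nat.card Ω - 1) (hφ : ∀ φ : K ≃+* K, φ * φ = 1 → φ = 1) :
    Nonempty (G ≃* PGL(2, K)) := by
  classical
  obtain ⟨a⟩ : Nonempty Ω := (Nat.card_pos_iff.mp (by omega)).1
  obtain ⟨b, hb, -⟩ := exists_third_of_card h3 a a
  have hab := hb.symm
  have hd := h.card_St2 h3 hab
  obtain ⟨F, N, τ, μ, e, s, z, hK, hN1, hN2, hd', C, hsa, hsb, hs, hz, hzx⟩ :=
    h.exists_coord h3 heven hab K hc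
  refine iso_of_actSub e _ (eq_top_of_le hab hK (C.ker_le_pgl hK) (fun g hg => ?_)
    (mem_pgl_of_inv one_ne_zero (by rw [C.inf, C.zero, hsa]) (by rw [C.inf, C.zero, hsb]) hs)
    hsa) ?_
  · obtain ⟨φ, c, h1⟩ := C.semi g hg (fun x hx =>
      (Subgroup.normal_of_index_eq_two hN2).conj_mem ⟨x, hN1 hx⟩ hx ⟨g, hg⟩)
    have hc0 : c ≠ 0 := by
      rintro rfl
      have := h1 1
      rw [zero_mul, C.zero] at this
      exact smul_ne_of_fix' (mem_St2.mp hg).2 (C.ne_b one_ne_zero) this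
    have h2 : g * g ∈ N := Subgroup.mul_self_mem_of_index_two hN2 ⟨g, hg⟩
    have h4 : ∀ k, μ (g * g) * k = c * φ (c * φ k) := fun k =>
      C.inj (by rw [← C.lin _ h2, mul_smul, h1, h1])
    have h5 : φ = 1 := hφ φ (RingEquiv.ext fun k => by
      have h6 := h4 k
      have h7 := h4 1
      rw [mul_one, map_one, mul_one] at h7
      rw [h7, map_mul, mul_assoc] at h6
      exact (mul_left_cancel₀ (by simpa using hc0) (mul_left_cancel₀ hc0 h6)).symm)
    exact mem_pgl_of_affine (β := 0) hc0 (by rw [C.inf, (mem_St2.mp hg).1])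
      (fun x => by rw [h1, h5, add_zero]; rfl)
  · rw [card_pgl_two, card_G_eq h.toZ3 hab hc, hd, hc]
    exact le_of_eq rfl

theorem s0730 {α : Type*} [Fintype α] [DecidableEq α] {p f : ℕ} (hp : p.Prime) (hp2 : p ≠ 2) (hfo : Odd f) (hα : Fintype.card α = p ^ f + 1) (G : Subgroup (Equiv.Perm α)) (h3 : MulAction.IsMultiplyPretransitive G α 3) (hsharp : ∀ x : Fin 3 ↪ α, MulAction.stabilizer G x = ⊥) : ∃ (F : Type) (_ : Field F) (_ : Fintype F), Fintype.card F = p ^ f ∧ Nonempty (G ≃* Matrix.ProjGenLinGroup (Fin 2) F) := by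
  rw [← Nat.card_eq_fintype_card] at hα
  have := Fact.mk hp
  have hf : f ≠ 0 := by rintro rfl; simp at hfo
  have h1 : 1 < p ^ f := Nat.one_lt_pow hf hp.one_lt
  have h2 : Nat.card (GaloisField p f) = p ^ f := GaloisField.card p f hf
  have i := Fintype.ofFinite (GaloisField p f)
  refine ⟨GaloisField p f, inferInstance, i, by rw [← Nat.card_eq_fintype_card, h2],
    (sh3_of (by omega) h3 hsharp).iso_pgl_of_odd (by omega)
      (by rw [hα]; exact (hp.odd_of_ne_two hp2).pow.add_one) _ (by omega) fun φ hφ => ?_⟩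
  refine eq_one_of_sq_of_odd hfo ?_ hφ
  have := pow_card_eq_one' (x := φ)
  rwa [card_ringEquiv p, GaloisField.finrank p hf] at this

theorem even_cases [Finite G] [Finite Ω] (hZ : IsZassenhausGroup G Ω) [hs : IsSimpleGroup G]
    {a b : Ω} (hab : a ≠ b) (heven : Even (Nat.card (St2 G a b))) :
    2 * Nat.card (St2 G a b) = Nat.card Ω - 2 := by
  have h := z3_of_zass hZ
  have := hZ.1
  have h4 := four_le_card hZ
  have h1 := h.card_sub_two_le hab heven
  obtain ⟨t, ht⟩ := h.card_St2_dvd hab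
  rcases t with _ | _ | _ | t
  · omega
  · exact absurd hs ((h.sh3_of_card hab (by omega)).not_simple (by omega) (by
      rw [Nat.even_iff] at heven ⊢; omega))
  · omega
  · have : Nat.card (St2 G a b) * (t + 1 + 1 + 1) =
      Nat.card (St2 G a b) * t + 3 * Nat.card (St2 G a b) := by ring
    omega

theorem s0344 [Finite G] [Finite Ω] (hZ : Cfsg.IsZassenhausGroup G Ω) [IsSimpleGroup G]
    {a b : Ω} (hab : a ≠ b) (heven : Even (Nat.card ↥(MulAction.stabilizer G a ⊓ MulAction.stabilizer G b))) :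
    ∃ (F : Type) (_ : Field F) (_ : Fintype F), 3 < Fintype.card F ∧ Nonempty (G ≃* Matrix.ProjectiveSpecialLinearGroup (Fin 2) F) := by
  have h := z3_of_zass hZ
  have := hZ.1
  have h1 := even_cases hZ hab heven
  have h2 := two_le_card_St2 hZ hab
  obtain ⟨p, f, K, i1, i2, -, -, h5⟩ := h.exists_field (three_le_card hZ) hab h1.ge
  exact ⟨K, i1, i2, by rw [← Nat.card_eq_fintype_card]; omega,
    h.iso_psl_even (three_le_card hZ) hab heven h1 K h5⟩

theorem simple_inverts [Finite G] [Finite Ω] (hZ : IsZassenhausGroup G Ω) [IsSimpleGroup G]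
    {a b : Ω} (hab : a ≠ b) {s : G} (hsa : s • a = b) (hsb : s • b = a) :
    ∀ x ∈ St2 G a b, s * x * s⁻¹ = x⁻¹ := by
  have h := z3_of_zass hZ
  have h3 := three_le_card hZ
  obtain ⟨t, -, ht2, hta, htb⟩ := h.exists_swap_invol h3 hab
  refine inverts_of_swap hta htb hsa hsb ?_
  rcases Nat.even_or_odd (Nat.card (St2 G a b)) with he | ho
  · intro g hg
    have := h.swap_invol_of_le hab he (even_cases hZ hab he).le (g := t * g)
      (by rw [mul_smul, (mem_St2.mp hg).1, hta]) (by rw [mul_smul, (mem_St2.mp hg).2, htb])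
    rw [invol_inv ht2, eq_inv_iff_mul_eq_one, ← this, mul_assoc]
  · refine h.inverts_of_odd h3 hab ho (fun q hq hd => ?_) ht2 hta htb
    have := Fact.mk hq
    obtain ⟨⟨x, hx⟩, hx1⟩ := Subgroup.ne_bot_iff_exists_ne_one.mp (St2_ne_bot hZ hab)
    obtain ⟨F, hK⟩ := h.exists_ker hab
    obtain ⟨⟨u, hu⟩, hu1⟩ := Subgroup.ne_bot_iff_exists_ne_one.mp (hK.ne_bot h3)
    exact H3.not_hasNPC_of_isSimpleGroup (hd.trans (Subgroup.card_subgroup_dvd_card _))
      ⟨x, u, fun e => hu1 (Subtype.ext (hK.fpf h hab hx (fun e => hx1 (Subtype.ext e)) hu e))⟩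

theorem s0345 [Finite G] [Finite Ω] (hZ : Cfsg.IsZassenhausGroup G Ω) [IsSimpleGroup G]
    {a b : Ω} (hab : a ≠ b) :
    IsCyclic ↥(MulAction.stabilizer G a ⊓ MulAction.stabilizer G b) ∧
      ∃ v : G, orderOf v = 2 ∧ v • a = b ∧ v • b = a ∧ ∀ h ∈ MulAction.stabilizer G a ⊓ MulAction.stabilizer G b, v * h * v⁻¹ = h⁻¹ := by
  have h := z3_of_zass hZ
  have h3 := three_le_card hZ
  obtain ⟨t, ht1, ht2, hta, htb⟩ := h.exists_swap_invol h3 hab
  have h1 := simple_inverts hZ hab hta htb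
  obtain ⟨F, hK⟩ := h.exists_ker hab
  have := isMulCommutative_of_inverted h1
  exact ⟨hK.isCyclic_of_comm (hK.ne_bot h3) h hab le_rfl, t, orderOf_eq_two_iff'.mpr ⟨ht1, ht2⟩,
    hta, htb, h1⟩

end H21
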