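import Mathlib
import Cfsg.Agent.H21.Zass6
import Cfsg.Agent.H6.BrauerFowler
import Cfsg.Agent.H4.Real

/-! Zassenhaus groups with two-point stabiliser of odd order: involutions and classes. -/

set_option autoImplicit false

namespace H21

open Cfsg MulAction

/-- every element interchanging two points is an involution, and two-point stabilisers are odd -/
structure FS (G Ω : Type*) [Group G] [MulAction G Ω] : Prop extends Z3 G Ω where
  swap : ∀ {c d : Ω} {s : G}, c ≠ d → s • c = d → s • d = c → s * s = 1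
  odd : ∀ {c d : Ω}, c ≠ d → Odd (Nat.card (St2 G c d))
  faith : ∀ {g : G}, g ≠ 1 → ∃ c : Ω, g • c ≠ c

variable {G Ω : Type*} [Group G] [MulAction G Ω]

theorem fs_of_simple [Finite G] [Finite Ω] (hZ : IsZassenhausGroup G Ω) [IsSimpleGroup G]
    {a b : Ω} (hab : a ≠ b) (hodd : Odd (Nat.card (St2 G a b))) : FS G Ω := by
  have h := z3_of_zass hZ
  have := hZ.1
  have ho : ∀ {c d : Ω}, c ≠ d → Odd (Nat.card (St2 G c d)) := fun hcd => by
    rw [h.card_St2_eq hab hcd]; exact hodd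
  refine ⟨h, fun {c d s} hcd h1 h2 => ?_, ho, fun hg => exists_moved hg⟩
  have hm : s * s ∈ St2 G c d := mem_St2.mpr ⟨by rw [mul_smul, h1, h2], by rw [mul_smul, h2, h1]⟩
  have h3 := simple_inverts hZ hcd h1 h2 _ hm
  refine eq_one_of_sq_of_mem_odd (ho hcd) hm ?_
  rw [← eq_inv_iff_mul_eq_one, ← h3]; group

namespace FS

theorem inverts (h : FS G Ω) {a b : Ω} (hab : a ≠ b) {s : G} (hsa : s • a = b) (hsb : s • b = a)
    {x : G} (hx : x ∈ St2 G a b) : s * x * s⁻¹ = x⁻¹ := by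
  have h1 := h.swap hab hsa hsb
  have h2 := h.swap (s := s * x) hab (by rw [mul_smul, (mem_St2.mp hx).1, hsa])
    (by rw [mul_smul, (mem_St2.mp hx).2, hsb])
  rw [invol_inv h1, eq_inv_iff_mul_eq_one, ← h2, mul_assoc]

theorem isConj_inv (h : FS G Ω) {a b : Ω} (hab : a ≠ b) {x : G} (hx : x ∈ St2 G a b) :
    IsConj x x⁻¹ := by
  obtain ⟨s, h1, h2⟩ := h.two hab hab.symm
  exact isConj_iff.mpr ⟨s, h.inverts hab h1 h2 hx⟩

theorem comm (h : FS G Ω) {a b : Ω} (hab : a ≠ b) {x y : G} (hx : x ∈ St2 G a b)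
    (hy : y ∈ St2 G a b) : x * y = y * x := by
  obtain ⟨s, h1, h2⟩ := h.two hab hab.symm
  exact comm_of_inverted (fun _ hz => h.inverts hab h1 h2 hz) hx hy

theorem invol_fix (h : FS G Ω) {x : G} (hx : orderOf x = 2) {c d : Ω} (hc : x • c = c)
    (hd : x • d = d) : c = d := by
  by_contra hcd
  obtain ⟨h1, h2⟩ := orderOf_eq_two_iff'.mp hx
  exact h1 (eq_one_of_sq_of_mem_odd (h.odd hcd) (mem_St2.mpr ⟨hc, hd⟩) h2)

theorem invol_mem [Finite G] (h : FS G Ω) {a b : Ω} (hab : a ≠ b) {F : Subgroup G} (hK : Ker a F)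
    {x : G} (hx : orderOf x = 2) (ha : x • a = a) : x ∈ F :=
  hK.mem_of_fix h.toZ3 hab ha (fun _ hc => h.invol_fix hx hc ha)

theorem isConj_invol [Finite G] (h : FS G Ω) {x y : G} (hx : orderOf x = 2) (hy : orderOf y = 2) :
    IsConj x y := by
  obtain ⟨hx1, hx2⟩ := orderOf_eq_two_iff'.mp hx
  obtain ⟨hy1, hy2⟩ := orderOf_eq_two_iff'.mp hy
  obtain ⟨c, hc⟩ := h.faith hx1
  obtain ⟨d, hd⟩ := h.faith hy1
  obtain ⟨g, hg1, hg2⟩ := h.two hd.symm hc.symm
  have h1 : (g * y * g⁻¹) • c = x • c := by rw [← hg1, conj_smul_smul, hg2, hg1]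
  have h2 : (g * y * g⁻¹) • x • c = c := by
    rw [← hg2, conj_smul_smul, ← mul_smul y, hy2, one_smul, hg1]
  have h3 : x • x • c = c := by rw [← mul_smul, hx2, one_smul]
  have hm : x * (g * y * g⁻¹) ∈ St2 G c (x • c) :=
    mem_St2.mpr ⟨by rw [mul_smul, h1, h3], by rw [mul_smul, h2]⟩
  obtain ⟨k, hk⟩ := conj_of_odd_mul hx2 (conj_sq_eq_one (g := g) hy2) (h.odd hc.symm)
    (pow_card_eq_one_of_mem hm)
  have h4 : IsConj y (g * y * g⁻¹) := isConj_iff.mpr ⟨g, rfl⟩
  exact (h4.trans (isConj_iff.mpr ⟨_, hk⟩)).symm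

theorem card_invol_move [Finite G] [Finite Ω] (h : FS G Ω) {a b : Ω} (hab : a ≠ b) :
    Nat.card {x : G // orderOf x = 2 ∧ x • a ≠ a} =
      (Nat.card Ω - 1) * Nat.card (St2 G a b) := by
  rw [← h.toZ3.card_swap hab]
  refine Nat.card_congr (Equiv.subtypeEquivRight fun x => ⟨fun hx => ⟨hx.2, ?_⟩, fun hx => ⟨?_, hx.1⟩⟩)
  · rw [← mul_smul, (orderOf_eq_two_iff'.mp hx.1).2, one_smul]
  · refine orderOf_eq_two_iff'.mpr ⟨fun e => hx.1 (by rw [e, one_smul]), h.swap hx.1.symm rfl hx.2⟩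

theorem card_invol_eq [Finite G] [Finite Ω] (h : FS G Ω) {a b : Ω} (hab : a ≠ b) {F : Subgroup G}
    (hK : Ker a F) : Nat.card {x : G // orderOf x = 2} =
      (Nat.card Ω - 1) * Nat.card (St2 G a b) + Nat.card {x : G // orderOf x = 2 ∧ x ∈ F} := by
  classical
  rw [← h.card_invol_move hab, ← Nat.card_sum]
  refine Nat.card_congr ((Equiv.sumCompl (fun x : {x : G // orderOf x = 2} => (x : G) • a ≠ a)).symm.trans
    (Equiv.sumCongr (Equiv.subtypeSubtypeEquivSubtypeInter _ (fun x : G => x • a ≠ a))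
      ((Equiv.subtypeSubtypeEquivSubtypeInter _ (fun x : G => ¬ x • a ≠ a)).trans
        (Equiv.subtypeEquivRight fun x => and_congr_right fun hx => ?_))))
  rw [not_not]
  exact ⟨h.invol_mem hab hK hx, hK.fix x⟩

theorem card_invol_of_even [Finite G] [Finite Ω] (h : FS G Ω) {a b : Ω} (hab : a ≠ b)
    (he : Even (Nat.card Ω - 1)) :
    Nat.card {x : G // orderOf x = 2} = Nat.card (St2 G a b) * Nat.card Ω := by
  classical
  have := Fintype.ofFinite G
  have := Fintype.ofFinite Ω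
  have h2 := two_le_card_of_ne hab
  have key := Finset.card_mul_eq_card_mul (s := Finset.univ.filter fun x : G => orderOf x = 2)
    (t := (Finset.univ : Finset Ω)) (fun x c => x • c ≠ c) (m := Nat.card Ω - 1)
    (n := (Nat.card Ω - 1) * Nat.card (St2 G a b)) (fun x hx => by
      have hx2 : orderOf x = 2 := (Finset.mem_filter.mp hx).2
      have h3 := card_fixedBy_modEq (Ω := Ω) (orderOf_eq_two_iff'.mp hx2).2
      obtain ⟨c, hc⟩ : ∃ c : Ω, x • c = c := by
        by_contra hn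
        have : IsEmpty (fixedBy Ω x) := ⟨fun c => hn ⟨c, c.2⟩⟩
        rw [Nat.card_of_isEmpty (α := fixedBy Ω x)] at h3
        obtain ⟨k, hk⟩ := he
        unfold Nat.ModEq at h3
        omega
      rw [← card_ne_one c, Nat.card_eq_fintype_card, Fintype.card_subtype]
      congr 1
      ext d
      simp only [Finset.mem_bipartiteAbove, Finset.mem_univ, true_and, Finset.mem_filter]
      exact ⟨fun h1 e => h1 (by rw [e, hc]), fun h1 e => h1 (h.invol_fix hx2 e hc)⟩)
    (fun c _ => by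
      obtain ⟨d, hd⟩ : ∃ d, c ≠ d := by
        by_cases e : c = a
        · exact ⟨b, e ▸ hab⟩
        · exact ⟨a, e⟩
      rw [← h.toZ3.card_St2_eq hab hd, ← h.card_invol_move hd, Nat.card_eq_fintype_card,
        Fintype.card_subtype]
      congr 1
      ext x
      simp only [Finset.mem_bipartiteBelow, Finset.mem_univ, true_and, Finset.mem_filter])
  rw [Finset.card_univ, ← Nat.card_eq_fintype_card, ← Fintype.card_subtype,
    ← Nat.card_eq_fintype_card] at key
  refine Nat.eq_of_mul_eq_mul_right (show 0 < Nat.card Ω - 1 by omega) ?_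
  rw [key]; ring

theorem card_invol_ker_of_even [Finite G] [Finite Ω] (h : FS G Ω) {a b : Ω} (hab : a ≠ b)
    {F : Subgroup G} (hK : Ker a F) (he : Even (Nat.card Ω - 1)) :
    Nat.card {x : G // orderOf x = 2 ∧ x ∈ F} = Nat.card (St2 G a b) := by
  have h1 := h.card_invol_of_even hab he
  rw [h.card_invol_eq hab hK] at h1
  obtain ⟨n, hn⟩ : ∃ n, Nat.card Ω = n + 1 := ⟨Nat.card Ω - 1, by have := two_le_card_of_ne hab; omega⟩
  rw [hn, Nat.add_sub_cancel] at h1
  linarith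

theorem card_invol_ker_of_odd [Finite G] [Finite Ω] {a b : Ω} (hab : a ≠ b)
    {F : Subgroup G} (hK : Ker a F) (ho : Odd (Nat.card Ω - 1)) :
    Nat.card {x : G // orderOf x = 2 ∧ x ∈ F} = 0 := by
  rw [← hK.card hab] at ho
  have : IsEmpty {x : G // orderOf x = 2 ∧ x ∈ F} := ⟨fun x => by
    obtain ⟨h1, h2⟩ := orderOf_eq_two_iff'.mp x.2.1
    exact h1 (eq_one_of_sq_of_mem_odd ho x.2.2 h2)⟩
  exact Nat.card_of_isEmpty

theorem card_invol_of_odd [Finite G] [Finite Ω] (h : FS G Ω) {a b : Ω} (hab : a ≠ b)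
    (ho : Odd (Nat.card Ω - 1)) :
    Nat.card {x : G // orderOf x = 2} = Nat.card (St2 G a b) * (Nat.card Ω - 1) := by
  obtain ⟨F, hK⟩ := h.toZ3.exists_ker hab
  rw [h.card_invol_eq hab hK, card_invol_ker_of_odd hab hK ho, add_zero, mul_comm]

theorem even_of_invol_mem [Finite G] [Finite Ω] {a b : Ω} (hab : a ≠ b) {F : Subgroup G}
    (hK : Ker a F) {x : G} (hx : orderOf x = 2) (hxF : x ∈ F) : Even (Nat.card Ω - 1) := by
  rw [← hK.card hab]
  exact even_card_of_invol hxF (orderOf_eq_two_iff'.mp hx).1 (orderOf_eq_two_iff'.mp hx).2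

theorem orderOf_conj' (g x : G) : orderOf (g * x * g⁻¹) = orderOf x :=
  (MulAut.conj g).orderOf_eq x

/-- the involutions of the kernel are conjugate under the two-point stabiliser -/
theorem exists_conj_invol_ker [Finite G] [Finite Ω] (h : FS G Ω) {a b : Ω} (hab : a ≠ b)
    {F : Subgroup G} (hK : Ker a F) {x y : G} (hx : orderOf x = 2) (hxF : x ∈ F)
    (hy : orderOf y = 2) (hyF : y ∈ F) : ∃ k ∈ St2 G a b, k * x * k⁻¹ = y := by
  let f : St2 G a b → {x : G // orderOf x = 2 ∧ x ∈ F} := fun k =>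
    ⟨k * x * (k : G)⁻¹, by rw [orderOf_conj', hx], hK.conj _ (mem_St2.mp k.2).1 x hxF⟩
  have hf : Function.Injective f := by
    intro k l hkl
    have h1 : (k : G) * x * (k : G)⁻¹ = l * x * (l : G)⁻¹ := congrArg Subtype.val hkl
    by_contra hne
    refine (orderOf_eq_two_iff'.mp hx).1 (hK.fpf h.toZ3 hab (x := (l : G)⁻¹ * k)
      (mul_mem (inv_mem l.2) k.2) (fun e => hne (Subtype.ext (inv_mul_eq_one.mp e).symm)) hxF ?_)
    calc (l : G)⁻¹ * k * x = (l : G)⁻¹ * (k * x * (k : G)⁻¹) * k := by group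
      _ = x * ((l : G)⁻¹ * k) := by rw [h1]; group
  have hb := (Nat.bijective_iff_injective_and_card f).mpr
    ⟨hf, (h.card_invol_ker_of_even hab hK (even_of_invol_mem hab hK hx hxF)).symm⟩
  obtain ⟨k, hk⟩ := hb.2 ⟨y, hy, hyF⟩
  exact ⟨k, k.2, congrArg Subtype.val hk⟩

theorem invol_central [Finite G] [Finite Ω] (h : FS G Ω) {a b : Ω} (hab : a ≠ b)
    {F : Subgroup G} (hK : Ker a F) {x w : G} (hx : orderOf x = 2) (hxF : x ∈ F) (hw : w ∈ F) :
    w * x = x * w := by
  obtain ⟨k, hk, e⟩ := h.exists_conj_invol_ker hab hK hx hxF (y := w * x * w⁻¹)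
    (by rw [orderOf_conj', hx]) (mul_mem (mul_mem hw hxF) (inv_mem hw))
  have h1 : w⁻¹ * k ∈ F := hK.centralizer_le h.toZ3 hab hxF (orderOf_eq_two_iff'.mp hx).1 (by
    rw [H6.mem_centralizer_singleton]
    calc w⁻¹ * k * x = w⁻¹ * (k * x * k⁻¹) * k := by group
      _ = x * (w⁻¹ * k) := by rw [e]; group)
  have h2 : k = 1 := hK.eq_one_of_mem_St2 hab (by simpa using mul_mem hw h1) hk
  rw [h2, one_mul, inv_one, mul_one] at e
  rw [← mul_inv_eq_iff_eq_mul, ← e]

theorem invol_of_inverted [Finite G] [Finite Ω] (h : FS G Ω) {a b : Ω} (hab : a ≠ b)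
    {F : Subgroup G} (hK : Ker a F) {u x : G} (hu : u ∈ F) (hu1 : u ≠ 1) (hx : orderOf x = 2)
    (hi : x * u * x⁻¹ = u⁻¹) : orderOf u = 2 := by
  have h1 := h.invol_mem hab hK hx (hK.ti hu hu1 (by rw [hi]; exact inv_mem hu))
  have h2 := h.invol_central hab hK hx h1 hu
  refine orderOf_eq_two_iff'.mpr ⟨hu1, ?_⟩
  rw [← h2, mul_inv_cancel_right] at hi
  rw [← eq_inv_iff_mul_eq_one]; exact hi

theorem inverts_mul {x y : G} (hx : orderOf x = 2) (hy : orderOf y = 2) :
    x * (x * y) * x⁻¹ = (x * y)⁻¹ := by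
  have h1 := (orderOf_eq_two_iff'.mp hx).2
  rw [mul_inv_rev, invol_inv (orderOf_eq_two_iff'.mp hy).2, ← mul_assoc, h1, one_mul]

/-- number of factorisations into two involutions -/
noncomputable def npairs (g : G) : ℕ :=
  Nat.card {p : G × G // orderOf p.1 = 2 ∧ orderOf p.2 = 2 ∧ p.1 * p.2 = g}

theorem sum_npairs [Fintype G] : ∑ g : G, npairs g = Nat.card {x : G // orderOf x = 2} ^ 2 := by
  have := Fintype.ofFinite ({x : G // orderOf x = 2} × {x : G // orderOf x = 2})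
  have h1 := H4.sum_comp_eq_sum_card_fiber
    (fun p : {x : G // orderOf x = 2} × {x : G // orderOf x = 2} => (p.1 : G) * p.2) (fun _ => 1)
  rw [Finset.sum_const, Finset.card_univ, ← Nat.card_eq_fintype_card, Nat.card_prod] at h1
  simp only [smul_eq_mul, mul_one] at h1
  rw [pow_two, h1]
  refine Finset.sum_congr rfl fun g _ => Nat.card_congr
    { toFun := fun p => ⟨(⟨p.1.1, p.2.1⟩, ⟨p.1.2, p.2.2.1⟩), p.2.2.2⟩
      invFun := fun p => ⟨(p.1.1, p.1.2), p.1.1.2, p.1.2.2, p.2⟩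
      left_inv := fun _ => rfl
      right_inv := fun _ => rfl }

theorem npairs_one : npairs (1 : G) = Nat.card {x : G // orderOf x = 2} :=
  Nat.card_congr
    { toFun := fun p => ⟨p.1.1, p.2.1⟩
      invFun := fun x => ⟨(x, x), x.2, x.2, (orderOf_eq_two_iff'.mp x.2).2⟩
      left_inv := by
        rintro ⟨⟨x, y⟩, h1, h2, h3⟩
        dsimp only at h1 h2 h3
        have : x = y := by
          rw [← invol_inv (orderOf_eq_two_iff'.mp h2).2]; exact eq_inv_of_mul_eq_one_left h3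
        subst this; rfl
      right_inv := fun _ => rfl }

theorem npairs_le_of_conj [Finite G] [Finite Ω] (h : FS G Ω) {a b : Ω} (hab : a ≠ b)
    {F : Subgroup G} (hK : Ker a F) {g k : G} (hg1 : g ≠ 1) (hk : k * g * k⁻¹ ∈ F) :
    npairs g ≤ if orderOf g = 2 then Nat.card {x : G // orderOf x = 2 ∧ x ∈ F} - 1 else 0 := by
  have hu1 : k * g * k⁻¹ ≠ 1 := fun e => hg1 (conj_eq_one_iff.mp e)
  split_ifs with hg
  · have h1 := H6.card_pairs_involution g hg
    have h2 : Nat.card {t : G // orderOf t = 2 ∧ Commute t g} ≤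
        Nat.card {x : G // orderOf x = 2 ∧ x ∈ F} := by
      refine Nat.card_le_card_of_injective (fun t => ⟨k * t * k⁻¹, by rw [orderOf_conj', t.2.1],
        hK.centralizer_le h.toZ3 hab hk hu1 ?_⟩) ?_
      · rw [H6.mem_centralizer_singleton]
        calc k * t * k⁻¹ * (k * g * k⁻¹) = k * (t * g) * k⁻¹ := by group
          _ = _ := by rw [t.2.2.eq]; group
      · intro s t hst
        have : k * s * k⁻¹ = k * t * k⁻¹ := congrArg Subtype.val hst
        exact Subtype.ext (by simpa using this)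
    unfold npairs
    omega
  · rw [Nat.le_zero]
    have : IsEmpty {p : G × G // orderOf p.1 = 2 ∧ orderOf p.2 = 2 ∧ p.1 * p.2 = g} := ⟨fun p => by
      obtain ⟨⟨x, y⟩, hx, hy, hxy⟩ := p
      apply hg
      rw [← orderOf_conj' k]
      refine h.invol_of_inverted hab hK hk hu1 (x := k * x * k⁻¹) (by rw [orderOf_conj']; exact hx) ?_
      have := inverts_mul hx hy
      dsimp only at hxy this
      rw [hxy] at this
      calc k * x * k⁻¹ * (k * g * k⁻¹) * (k * x * k⁻¹)⁻¹ = k * (x * g * x⁻¹) * k⁻¹ := by group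
        _ = _ := by rw [this]; group⟩
    exact Nat.card_of_isEmpty

end FS

theorem sum_card_centralizer [Fintype G] (P : ConjClasses G → Prop) [DecidablePred P] :
    ∑ g : G, (if P (ConjClasses.mk g) then Nat.card (Subgroup.centralizer ({g} : Set G)) else 0) =
      Nat.card {C : ConjClasses G // P C} * Nat.card G := by
  classical
  have := Fintype.ofFinite (ConjClasses G)
  rw [← Finset.sum_fiberwise (s := Finset.univ) (g := ConjClasses.mk), Nat.card_eq_fintype_card,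
    Fintype.card_subtype, Finset.card_eq_sum_ones, Finset.sum_mul, Finset.sum_filter]
  refine Finset.sum_congr rfl fun C _ => ?_
  obtain ⟨x, rfl⟩ := ConjClasses.exists_rep C
  rw [Finset.sum_congr rfl (g := fun _ => if P (ConjClasses.mk x) then
      Nat.card (Subgroup.centralizer ({x} : Set G)) else 0) (fun y hy => by
    have h1 := (Finset.mem_filter.mp hy).2
    rw [h1, H6.card_centralizer_of_isConj (ConjClasses.mk_eq_mk_iff_isConj.mp h1)]),
    Finset.sum_const, smul_eq_mul]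
  split_ifs
  · rw [one_mul, ← H6.card_centralizer_mul_card_isConj x, mul_comm,
      Nat.card_eq_fintype_card (α := {y // IsConj x y}), Fintype.card_subtype]
    congr 2
    ext y
    simp only [Finset.mem_filter, Finset.mem_univ, true_and, ConjClasses.mk_eq_mk_iff_isConj]
    exact ⟨IsConj.symm, IsConj.symm⟩
  · rfl

theorem FS.le_card_classes [Finite G] [Finite Ω] (h : FS G Ω) (h3 : 3 ≤ Nat.card Ω) {a b : Ω}
    (hab : a ≠ b) {F : Subgroup G} (hK : Ker a F) :
    Nat.card (St2 G a b) ≤ Nat.card {C : ConjClasses G // ∀ g : G, ConjClasses.mk g = C → g ∉ F} := by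
  classical
  have := Fintype.ofFinite G
  set t := Nat.card {x : G // orderOf x = 2} with ht
  set m := Nat.card {x : G // orderOf x = 2 ∧ x ∈ F} with hm
  have h1 : t ^ 2 ≤ t + t * (m - 1) +
      Nat.card {C : ConjClasses G // ∀ g : G, ConjClasses.mk g = C → g ∉ F} * Nat.card G := by
    rw [ht, ← FS.sum_npairs, ← sum_card_centralizer]
    have e1 : Nat.card {x : G // orderOf x = 2} = ∑ g : G, if g = 1 then t else 0 := by simp [ht]
    have e2 : Nat.card {x : G // orderOf x = 2} * (m - 1) =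
        ∑ g : G, if orderOf g = 2 then m - 1 else 0 := by
      rw [← Finset.sum_filter, Finset.sum_const, Nat.card_eq_fintype_card, Fintype.card_subtype,
        smul_eq_mul]
    rw [e2]
    conv_rhs => rw [e1]
    rw [← Finset.sum_add_distrib, ← Finset.sum_add_distrib]
    refine Finset.sum_le_sum fun g _ => ?_
    by_cases hg1 : g = 1
    · rw [if_pos hg1, hg1, FS.npairs_one]; omega
    by_cases hP : ∀ x : G, ConjClasses.mk x = ConjClasses.mk g → x ∉ F
    · rw [if_pos hP]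
      have := H6.card_pairs_le_centralizer g
      unfold FS.npairs
      omega
    · push Not at hP
      obtain ⟨x, hx, hxF⟩ := hP
      obtain ⟨k, rfl⟩ := isConj_iff.mp (ConjClasses.mk_eq_mk_iff_isConj.mp hx).symm
      have := h.npairs_le_of_conj hab hK hg1 hxF
      rw [← hm] at this
      omega
  have h2 := h.card_invol_eq hab hK
  have h4 := h.toZ3.card_G hab
  have h5 := Nat.le_of_dvd (by omega) (h.toZ3.card_St2_dvd hab)
  have h6 : 0 < Nat.card (St2 G a b) := Nat.card_pos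
  rw [← ht, ← hm] at h2
  obtain ⟨n, hn⟩ : ∃ n, Nat.card Ω = n + 2 := ⟨Nat.card Ω - 2, by omega⟩
  rw [hn] at h2 h4 h5
  simp only [show n + 2 - 1 = n + 1 from rfl, Nat.add_sub_cancel] at h2 h4 h5
  rw [h4] at h1
  set e := Nat.card (St2 G a b)
  set c := Nat.card {C : ConjClasses G // ∀ g : G, ConjClasses.mk g = C → g ∉ F}
  by_contra hlt
  have hc : c + 1 ≤ e := by omega
  obtain ⟨k, hk⟩ := Nat.exists_eq_add_of_le hc
  rcases Nat.even_or_odd (Nat.card Ω - 1) with he | ho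
  · have h7 : m = e := h.card_invol_ker_of_even hab hK he
    rw [h7] at h1 h2
    rw [h2, show e - 1 = c + k by omega] at h1
    have h8 : 0 < e * ((n + 2) * (n + 1)) := by positivity
    have h9 : ((n + 1) * e + e) ^ 2 = (n + 1) * e + e + ((n + 1) * e + e) * (c + k) +
        c * ((n + 2) * ((n + 1) * e)) + (k + 1) * (e * ((n + 2) * (n + 1))) := by
      rw [hk]; ring
    nlinarith
  · have h7 : m = 0 := FS.card_invol_ker_of_odd hab hK ho
    rw [h7] at h1 h2
    rw [h2] at h1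
    simp only [add_zero, zero_tsub, mul_zero] at h1
    have h8 : 0 < (n + 1) * e := by positivity
    have h9 : (n + 1) * e ≤ 1 + c * (n + 2) := by
      refine Nat.le_of_mul_le_mul_left ?_ h8
      nlinarith
    rw [hk] at h9 h5
    nlinarith

theorem FS.exists_fpf [Finite G] [Finite Ω] (h : FS G Ω) (h3 : 3 ≤ Nat.card Ω) {a b : Ω}
    (hab : a ≠ b) (h1 : St2 G a b ≠ ⊥) :
    ∃ x y : G, (∀ c : Ω, x • c ≠ c) ∧ (∀ c : Ω, y • c ≠ c) ∧ ¬ IsConj x y := by
  classical
  by_contra hn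
  push Not at hn
  obtain ⟨F, hK⟩ := h.toZ3.exists_ker hab
  have h2 := h.le_card_classes h3 hab hK
  obtain ⟨⟨x, hx⟩, hx1⟩ := Subgroup.ne_bot_iff_exists_ne_one.mp h1
  have hx1' : x ≠ 1 := fun e => hx1 (Subtype.ext e)
  have hxx : x⁻¹ ≠ x := fun e => hx1' (eq_one_of_sq_of_mem_odd (h.odd hab) hx
    (by nth_rewrite 1 [← e]; exact inv_mul_cancel x))
  -- the classes missing `F` are represented in `E \ {x⁻¹}`, with `1` standing for the fixed-point-free class
  obtain ⟨z, hz⟩ : ∃ z : G, ∀ y : G, (∀ c : Ω, y • c ≠ c) → IsConj z y := by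
    by_cases h4 : ∃ z : G, ∀ c : Ω, z • c ≠ c
    · obtain ⟨z, hz⟩ := h4
      exact ⟨z, fun y hy => hn z y hz hy⟩
    · exact ⟨1, fun y hy => absurd ⟨y, hy⟩ h4⟩
  let f : {y : St2 G a b // y ≠ ⟨x⁻¹, inv_mem hx⟩} → ConjClasses G := fun y =>
    if ((y : St2 G a b) : G) = 1 then ConjClasses.mk z else ConjClasses.mk ((y : St2 G a b) : G)
  have h4 : Nat.card {C : ConjClasses G // ∀ g : G, ConjClasses.mk g = C → g ∉ F} ≤
      Nat.card (Set.range f) := by
    refine Nat.card_le_card_of_injective (fun C => ⟨C.1, ?_⟩) (fun C D e => Subtype.ext (Subtype.mk.inj e))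
    obtain ⟨C, hC⟩ := C
    obtain ⟨g, rfl⟩ := ConjClasses.exists_rep C
    by_cases h5 : ∀ c : Ω, g • c ≠ c
    · refine ⟨⟨1, fun e => hx1' (inv_eq_one.mp (congrArg Subtype.val e).symm)⟩, ?_⟩
      simp only [f, OneMemClass.coe_one, if_true]
      exact ConjClasses.mk_eq_mk_iff_isConj.mpr (hz g h5)
    push Not at h5
    obtain ⟨c, hc⟩ := h5
    obtain ⟨k, hk⟩ := h.toZ3.trans hab c a
    have h6 : (k * g * k⁻¹) • a = a := by rw [← hk, conj_smul_smul, hc]
    have h7 : ConjClasses.mk (k * g * k⁻¹) = ConjClasses.mk g :=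
      ConjClasses.mk_eq_mk_iff_isConj.mpr (isConj_iff.mpr ⟨k, rfl⟩).symm
    rcases hK.mem_or_fix h.toZ3 hab h6 with h8 | ⟨d, hd, h8⟩
    · exact absurd h8 (hC _ h7)
    obtain ⟨l, hl1, hl2⟩ := h.two hd.symm hab
    have h9 : l * (k * g * k⁻¹) * l⁻¹ ∈ St2 G a b := mem_St2.mpr
      ⟨by conv_lhs => rw [← hl1, conj_smul_smul, h6, hl1], by rw [← hl2, conj_smul_smul, h8]⟩
    have h10 : ConjClasses.mk (l * (k * g * k⁻¹) * l⁻¹) = ConjClasses.mk g :=
      (ConjClasses.mk_eq_mk_iff_isConj.mpr (isConj_iff.mpr ⟨l, rfl⟩).symm).trans h7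
    have h11 : l * (k * g * k⁻¹) * l⁻¹ ≠ 1 := fun e => hC _ h10 (e ▸ one_mem F)
    by_cases h12 : l * (k * g * k⁻¹) * l⁻¹ = x⁻¹
    · refine ⟨⟨⟨x, hx⟩, fun e => hxx (congrArg Subtype.val e).symm⟩, ?_⟩
      simp only [f, if_neg hx1']
      rw [← h10, h12]
      exact ConjClasses.mk_eq_mk_iff_isConj.mpr (h.isConj_inv hab hx)
    · refine ⟨⟨⟨_, h9⟩, fun e => h12 (congrArg Subtype.val e)⟩, ?_⟩
      simp only [f, if_neg h11]
      exact h10
  have h5 : Nat.card (Set.range f) ≤ _ := Nat.card_le_card_of_surjective _ Set.rangeFactorization_surjective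
  rw [card_ne_one] at h5
  have h6 : 0 < Nat.card (St2 G a b) := Nat.card_pos
  omega

theorem s0880 [Finite G] [Fintype Ω] (hZ : Cfsg.IsZassenhausGroup G Ω) {a b : Ω} (hab : a ≠ b)
    [IsSimpleGroup G]
    (hodd : Odd (Nat.card ↥(MulAction.stabilizer G a ⊓ MulAction.stabilizer G b : Subgroup G))) :
    ∃ x y : G, (∀ c : Ω, x • c ≠ c) ∧ (∀ c : Ω, y • c ≠ c) ∧ ¬ IsConj x y :=
  (fs_of_simple hZ hab hodd).exists_fpf (three_le_card hZ) hab (St2_ne_bot hZ hab)

theorem s0882 [Finite G] [Fintype Ω] (hZ : Cfsg.IsZassenhausGroup G Ω) {a b : Ω} (hab : a ≠ b)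
    [IsSimpleGroup G] (h e : ℕ) (hh : Fintype.card Ω = h + 1)
    (he : Nat.card ↥(MulAction.stabilizer G a ⊓ MulAction.stabilizer G b : Subgroup G) = e)
    (hodd : Odd e) :
    (∀ x y : G, orderOf x = 2 → orderOf y = 2 → IsConj x y) ∧
      Nat.card {x : G // orderOf x = 2} = (if Even h then e * (h + 1) else e * h) := by
  subst he
  have hF := fs_of_simple hZ hab hodd
  rw [← Nat.card_eq_fintype_card] at hh
  refine ⟨fun x y hx hy => hF.isConj_invol hx hy, ?_⟩
  split_ifs with h1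
  · rw [hF.card_invol_of_even hab (by rw [hh]; exact h1), hh]
  · rw [hF.card_invol_of_odd hab (by rw [hh]; exact Nat.not_even_iff_odd.mp h1), hh]; rfl

theorem s0883 [Finite G] [Fintype Ω] (hZ : Cfsg.IsZassenhausGroup G Ω) {a b : Ω} (hab : a ≠ b)
    [IsSimpleGroup G]
    (hodd : Odd (Nat.card ↥(MulAction.stabilizer G a ⊓ MulAction.stabilizer G b : Subgroup G)))
    (H : Subgroup G) (hHa : H ≤ MulAction.stabilizer G a) (hHcard : Nat.card H + 1 = Fintype.card Ω)
    (hHfix : ∀ u ∈ H, u ≠ 1 → ∀ c : Ω, u • c = c → c = a) (u : G) (hu : u ∈ H) (hu1 : u ≠ 1)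
    (x y : G) (hx : orderOf x = 2) (hy : orderOf y = 2) (hxy : x * y = u) : orderOf u = 2 := by
  have hF := fs_of_simple hZ hab hodd
  rw [← Nat.card_eq_fintype_card] at hHcard
  exact hF.invol_of_inverted hab (ker_of_card hF.toZ3 hab hHa hHcard hHfix) hu hu1 hx
    (hxy ▸ FS.inverts_mul hx hy)

theorem s0884 [Finite G] [Fintype Ω] (hZ : Cfsg.IsZassenhausGroup G Ω) {a b : Ω} (hab : a ≠ b)
    [IsSimpleGroup G]
    (hodd : Odd (Nat.card ↥(MulAction.stabilizer G a ⊓ MulAction.stabilizer G b : Subgroup G)))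
    (H : Subgroup G) (hHa : H ≤ MulAction.stabilizer G a) (hHcard : Nat.card H + 1 = Fintype.card Ω)
    (hHfix : ∀ u ∈ H, u ≠ 1 → ∀ c : Ω, u • c = c → c = a) :
    Nat.card ↥(MulAction.stabilizer G a ⊓ MulAction.stabilizer G b : Subgroup G) ≤
      Nat.card {C : ConjClasses G // ∀ g : G, ConjClasses.mk g = C → g ∉ H} := by
  have hF := fs_of_simple hZ hab hodd
  rw [← Nat.card_eq_fintype_card] at hHcard
  exact hF.le_card_classes (three_le_card hZ) hab (ker_of_card hF.toZ3 hab hHa hHcard hHfix)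

end H21
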