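import Mathlib
import Cfsg.Agent.H21.Feit1
import Cfsg.Agent.H4.Misc
import Cfsg.Agent.H4.Exceptional
import Cfsg.Agent.H5.Kernel
import Cfsg.Agent.H5.CharBasic

/-! Characters of Zassenhaus groups induced from a point stabiliser. -/

set_option autoImplicit false

namespace H21

open Cfsg MulAction H4
open scoped ComplexConjugate

section general

variable {N : Type*} [Group N] [Fintype N]

theorem apply_one_eq_re {χ : N → ℂ} (hχ : IsCharacter N χ) : χ 1 = ((χ 1).re : ℂ) := by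
  obtain ⟨n, hn⟩ := hχ.exists_nat_apply_one
  rw [hn]; simp

theorem indFun_one_of_mem (H : Subgroup N) [hH : H.Normal] {u : N} (hu : u ∈ H) :
    indFun H (fun _ => 1) u = H.index := by
  have := H4.indFun_apply_of_normal H (fun _ => 1) ⟨u, hu⟩
  rw [this, Finset.sum_const, Finset.card_univ, ← Nat.card_eq_fintype_card, nsmul_eq_mul,
    H4.card_eq_card_mul_index H, mul_one, ← mul_assoc, inv_mul_cancel₀ (H4.card_ne_zero H), one_mul]

theorem inner_res_one_eq_zero (H : Subgroup N) [hH : H.Normal] [Fintype H] {χ : N → ℂ}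
    (hχ : IsIrrCharacter N χ) (h : ∃ u ∈ H, χ u ≠ χ 1) :
    classInner (fun _ : H => (1 : ℂ)) (fun u : H => χ u) = 0 := by
  rw [← H4.classInner_indFun_left H _ hχ.classFun]
  by_contra hne
  have h1 : IsCharacter N (indFun H (fun _ => 1)) := H4.isCharacter_one.indFun
  have h2 := H5.charKer_le_of_inner_ne_zero h1 hχ hne
  obtain ⟨u, hu, hu2⟩ := h
  refine hu2 (H5.apply_of_mem_charKer (h2 ((H5.mem_charKer_iff h1).mpr ?_)))
  rw [indFun_one_of_mem H hu, indFun_one_of_mem H (one_mem H)]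

open Classical in
theorem sum_sq_of_le_ker (H : Subgroup N) [hH : H.Normal] :
    ∑ χ ∈ Finset.univ.filter (fun χ : IrrCharacter N => ¬ ∃ u ∈ H, (χ : N → ℂ) u ≠ (χ : N → ℂ) 1),
      (χ : N → ℂ) 1 ^ 2 = H.index := by
  have h1 := (H4.indFun_classFun H (fun _ => 1)).apply_eq_sum 1
  rw [indFun_one_of_mem H (one_mem H)] at h1
  rw [h1, Finset.sum_filter]
  refine Finset.sum_congr rfl fun χ _ => ?_
  rw [H4.classInner_indFun_left H _ χ.2.classFun]
  split_ifs with h
  · rw [inner_res_one_eq_zero H χ.2 h, zero_mul]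
  · push Not at h
    have : (fun u : H => (χ : N → ℂ) u) = (χ : N → ℂ) 1 • fun _ => (1 : ℂ) := by
      ext u; simp [h u u.2]
    rw [this, H4.classInner_smul_right, H4.classInner_one_one, H4.conj_apply_one χ.2.isCharacter]
    ring

theorem sum_inner_mul_degree_le {Φ : N → ℂ} (hΦ : IsCharacter N Φ) (T : Finset (IrrCharacter N)) :
    ∑ φ ∈ T, (classInner Φ φ).re * ((φ : N → ℂ) 1).re ≤ (Φ 1).re := by
  rw [hΦ.classFun.apply_eq_sum 1, Complex.re_sum]
  have key : ∀ φ : IrrCharacter N, (classInner Φ φ * (φ : N → ℂ) 1).re =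
      (classInner Φ φ).re * ((φ : N → ℂ) 1).re := fun φ => by
    rw [apply_one_eq_re φ.2.isCharacter]; simp
  simp only [key]
  exact Finset.sum_le_sum_of_subset_of_nonneg (Finset.subset_univ T) fun φ _ _ =>
    mul_nonneg (H5.inner_re_nonneg hΦ φ.2.isCharacter) φ.2.isCharacter.apply_one_re_nonneg

theorem one_le_inner_re {Φ φ : N → ℂ} (hΦ : IsCharacter N Φ) (hφ : IsCharacter N φ)
    (h : classInner Φ φ ≠ 0) : 1 ≤ (classInner Φ φ).re := by
  obtain ⟨n, hn⟩ := hΦ.inner_nat hφ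
  rw [hn] at h ⊢
  have : n ≠ 0 := by exact_mod_cast h
  simp only [Complex.natCast_re]
  exact_mod_cast Nat.one_le_iff_ne_zero.mpr this

theorem sum_degree_le {Φ : N → ℂ} (hΦ : IsCharacter N Φ) (T : Finset (IrrCharacter N))
    (h : ∀ φ ∈ T, classInner Φ φ ≠ 0) : ∑ φ ∈ T, ((φ : N → ℂ) 1).re ≤ (Φ 1).re := by
  refine le_trans (Finset.sum_le_sum fun φ hφ => ?_) (sum_inner_mul_degree_le hΦ T)
  exact le_mul_of_one_le_left φ.2.isCharacter.apply_one_re_nonneg
    (one_le_inner_re hΦ φ.2.isCharacter (h φ hφ))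

theorem sum_degree_sq_re : ∑ χ : IrrCharacter N, ((χ : N → ℂ) 1).re ^ 2 = (Nat.card N : ℝ) := by
  have h1 := congrArg Complex.re (H4.sum_degree_sq (G := N))
  rw [Complex.re_sum, Complex.natCast_re] at h1
  rw [← h1]
  refine Finset.sum_congr rfl fun χ _ => ?_
  conv_rhs => rw [apply_one_eq_re χ.2.isCharacter, ← Complex.ofReal_pow, Complex.ofReal_re]

end general

variable {G Ω : Type*} [Group G] [MulAction G Ω]

theorem indFun_stab [Fintype G] [Fintype Ω] (a : Ω) (t : Ω → G) (ht : ∀ c, t c • c = a)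
    {θ : stabilizer G a → ℂ} (hθ : IsClassFunction _ θ) (g : G) :
    indFun (stabilizer G a) θ g =
      ∑ c : Ω, extendByZero (stabilizer G a) θ (t c * g * (t c)⁻¹) := by
  have := Fintype.ofFinite (stabilizer G a)
  let e : Ω × stabilizer G a ≃ G :=
    { toFun := fun p => p.2 * t p.1
      invFun := fun x => (x⁻¹ • a, ⟨x * (t (x⁻¹ • a))⁻¹, by
        rw [mem_stabilizer_iff, mul_smul, inv_smul_eq_of_smul_eq (ht _), smul_inv_smul]⟩)
      left_inv := by
        rintro ⟨c, n, hn⟩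
        have : (n * t c)⁻¹ • a = c := by
          rw [mul_inv_rev, mul_smul, inv_smul_eq_of_smul_eq (mem_stabilizer_iff.mp hn),
            inv_smul_eq_of_smul_eq (ht c)]
        simp only [this, Prod.mk.injEq, true_and]
        exact Subtype.ext (by simp [this])
      right_inv := fun x => by simp }
  rw [H4.indFun_apply', ← e.sum_comp, Fintype.sum_prod_type, Finset.mul_sum]
  refine Finset.sum_congr rfl fun c _ => ?_
  have : ∀ n : stabilizer G a, extendByZero (stabilizer G a) θ (e (c, n) * g * (e (c, n))⁻¹) =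
      extendByZero (stabilizer G a) θ (t c * g * (t c)⁻¹) := fun n => by
    rw [← H4.extendByZero_conj_mem _ hθ (t c * g * (t c)⁻¹) n.2]
    congr 1
    change (n : G) * t c * g * ((n : G) * t c)⁻¹ = _
    group
  simp only [this]
  rw [Finset.sum_const, Finset.card_univ, ← Nat.card_eq_fintype_card, nsmul_eq_mul, ← mul_assoc,
    inv_mul_cancel₀ (H4.card_ne_zero _), one_mul]

theorem conj_mem_stab_iff {a c : Ω} {t g : G} (ht : t • c = a) :
    t * g * t⁻¹ ∈ stabilizer G a ↔ g • c = c := by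
  rw [mem_stabilizer_iff, ← ht, conj_smul_smul, smul_left_cancel_iff]

theorem FS.exists_transversal (h : FS G Ω) (a : Ω) :
    ∃ t : Ω → G, t a = 1 ∧ ∀ c, t c • c = a ∧ t c • a = c := by
  classical
  have : ∀ c : Ω, ∃ s : G, (c = a → s = 1) ∧ s • c = a ∧ s • a = c := fun c => by
    by_cases e : c = a
    · exact ⟨1, fun _ => rfl, by rw [one_smul, e], by rw [one_smul, e]⟩
    · obtain ⟨s, h1, h2⟩ := h.two e (Ne.symm e)
      exact ⟨s, fun e' => absurd e' e, h1, h2⟩
  choose t ht using this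
  exact ⟨t, (ht a).1 rfl, fun c => (ht c).2⟩

theorem FS.indFun_of_mem_ker [Fintype G] [Finite Ω] (h : FS G Ω) {a : Ω} {F : Subgroup G}
    (hK : Ker a F) {θ : stabilizer G a → ℂ} (hθ : IsClassFunction _ θ) {u : G} (hu : u ∈ F)
    (hu1 : u ≠ 1) : indFun (stabilizer G a) θ u = θ ⟨u, hK.fix u hu⟩ := by
  have := Fintype.ofFinite Ω
  obtain ⟨t, h1, h2⟩ := h.exists_transversal a
  rw [indFun_stab a t (fun c => (h2 c).1) hθ, Finset.sum_eq_single a]
  · rw [h1, one_mul, inv_one, mul_one, H4.extendByZero_of_mem _ _ (hK.fix u hu)]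
  · intro c _ hc
    exact H4.extendByZero_of_not_mem _ _ (fun hm => hc (hK.fix_unique hu hu1
      ((conj_mem_stab_iff (h2 c).1).mp hm)))
  · intro hc; exact absurd (Finset.mem_univ a) hc

theorem FS.indFun_of_fix [Fintype G] [Finite Ω] (h : FS G Ω) {a c : Ω} (hc : c ≠ a)
    {θ : stabilizer G a → ℂ} (hθ : IsClassFunction _ θ) {g : stabilizer G a} (hg1 : g ≠ 1)
    (hg : (g : G) • c = c) : indFun (stabilizer G a) θ g = θ g + θ g⁻¹ := by
  classical
  have := Fintype.ofFinite Ω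
  obtain ⟨t, h1, h2⟩ := h.exists_transversal a
  have hm : (g : G) ∈ St2 G a c := mem_St2.mpr ⟨g.2, hg⟩
  rw [indFun_stab a t (fun c => (h2 c).1) hθ, Finset.sum_eq_add_of_mem a c (Finset.mem_univ _)
    (Finset.mem_univ _) hc.symm]
  · rw [h1, one_mul, inv_one, mul_one, H4.extendByZero_coe,
      h.inverts hc.symm (h2 c).2 (h2 c).1 hm, ← Subgroup.coe_inv, H4.extendByZero_coe]
  · intro d _ hd
    refine H4.extendByZero_of_not_mem _ _ (fun hm' => ?_)
    rcases h.toZ3.eq_or_eq hc.symm hm (fun e => hg1 (Subtype.ext e))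
      ((conj_mem_stab_iff (h2 d).1).mp hm') with e | e
    · exact hd.1 e
    · exact hd.2 e

theorem Z3.index_stab [Finite Ω] (h : Z3 G Ω) {a b : Ω} (hab : a ≠ b) :
    (stabilizer G a).index = Nat.card Ω := by
  have : IsPretransitive G Ω := ⟨fun x y => h.trans hab x y⟩
  exact index_stabilizer_of_transitive G a

theorem Ker.normal_subgroupOf {a : Ω} {F : Subgroup G} (hK : Ker a F) :
    (F.subgroupOf (stabilizer G a)).Normal :=
  ⟨fun u hu g => hK.conj g g.2 u hu⟩

theorem Ker.card_subgroupOf [Finite Ω] {a b : Ω} (hab : a ≠ b) {F : Subgroup G} (hK : Ker a F) :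
    Nat.card (F.subgroupOf (stabilizer G a)) = Nat.card Ω - 1 := by
  rw [Nat.card_congr (Subgroup.subgroupOfEquivOfLe hK.le_stab).toEquiv, hK.card hab]

theorem Ker.index_subgroupOf [Finite G] [Finite Ω] (h : Z3 G Ω) {a b : Ω} (hab : a ≠ b)
    {F : Subgroup G} (hK : Ker a F) :
    (F.subgroupOf (stabilizer G a)).index = Nat.card (St2 G a b) := by
  have h1 := (F.subgroupOf (stabilizer G a)).card_mul_index
  rw [hK.card_subgroupOf hab, h.card_stab hab] at h1
  exact Nat.eq_of_mul_eq_mul_left (by have := two_le_card_of_ne hab; omega) h1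

open Classical in
/-- restriction to the stabiliser of a character induced from a linear character trivial on the kernel -/
theorem FS.res_indFun [Fintype G] [Finite Ω] (h : FS G Ω) {a b : Ω} (hab : a ≠ b) {F : Subgroup G}
    (hK : Ker a F) {μ : stabilizer G a → ℂ} (hμ : IsCharacter _ μ)
    (hμF : ∀ u : stabilizer G a, (u : G) ∈ F → μ u = 1) :
    (fun g : stabilizer G a => indFun (stabilizer G a) μ g) = μ + (fun g => conj (μ g)) +
      fun g : stabilizer G a =>
        (if g = 1 then ((Nat.card Ω - 1 : ℕ) : ℂ) else 0) - if (g : G) ∈ F then 1 else 0 := by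
  ext g
  simp only [Pi.add_apply]
  have h1 : μ 1 = 1 := hμF 1 (one_mem F)
  by_cases hg1 : g = 1
  · subst hg1
    rw [OneMemClass.coe_one, H4.indFun_apply_one, h.toZ3.index_stab hab, h1, if_pos rfl,
      if_pos (one_mem F), Nat.cast_sub (by have := two_le_card_of_ne hab; omega)]
    simp
  rw [if_neg hg1]
  rcases hK.mem_or_fix h.toZ3 hab g.2 with hg | ⟨c, hc, hg⟩
  · rw [h.indFun_of_mem_ker hK hμ.classFun hg (fun e => hg1 (Subtype.ext e)), if_pos hg, hμF g hg]
    simp
  · rw [h.indFun_of_fix hc hμ.classFun hg1 hg, hμ.apply_inv, if_neg (fun hm => hc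
      (hK.fix_unique hm (fun e => hg1 (Subtype.ext e)) hg))]
    simp

theorem FS.inner_indFun [Fintype G] [Finite Ω] (h : FS G Ω) {a b : Ω} (hab : a ≠ b) {F : Subgroup G}
    (hK : Ker a F) [Fintype (stabilizer G a)] {μ ν : stabilizer G a → ℂ} (hμ : IsCharacter _ μ)
    (hμF : ∀ u : stabilizer G a, (u : G) ∈ F → μ u = 1)
    (hνF : ∀ u : stabilizer G a, (u : G) ∈ F → ν u = 1) :
    classInner (indFun (stabilizer G a) μ) (indFun (stabilizer G a) ν) =
      classInner μ ν + classInner (fun g => conj (μ g)) ν := by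
  classical
  rw [H4.classInner_indFun_right _ _ (H4.indFun_classFun _ _), h.res_indFun hab hK hμ hμF,
    H4.classInner_add_left, H4.classInner_add_left, add_eq_left, H4.classInner_def]
  refine mul_eq_zero_of_right _ ?_
  simp only [sub_mul, ite_mul, zero_mul, Finset.sum_sub_distrib, Finset.sum_ite_eq', Finset.mem_univ,
    if_true, hνF 1 (one_mem F), map_one, mul_one, one_mul]
  rw [Finset.sum_congr rfl (g := fun g : stabilizer G a => if (g : G) ∈ F then (1 : ℂ) else 0)
    (fun g _ => by split_ifs with hg <;> simp [hνF g, *]), Finset.sum_boole, ← hK.card_subgroupOf hab,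
    Nat.card_eq_fintype_card, Fintype.card_subtype, sub_eq_zero]
  rfl

theorem FS.conj_ne [Finite G] (h : FS G Ω) {a b : Ω} (hab : a ≠ b) {F : Subgroup G}
    (hK : Ker a F) {μ : stabilizer G a → ℂ} (hμ : IsCharacter _ μ)
    (hμF : ∀ u : stabilizer G a, (u : G) ∈ F → μ u = 1) (hne : μ ≠ fun _ => 1) :
    (fun g => conj (μ g)) ≠ μ := by
  intro e
  apply hne
  ext g
  have h1 : μ 1 = 1 := hμF 1 (one_mem F)
  obtain ⟨u, hu, x, hx, hg⟩ := hK.decomp hab g.2
  obtain ⟨k, hk⟩ := exists_pow_sq_eq_of_odd (h.odd hab) (pow_card_eq_one_of_mem hx)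
  let y : stabilizer G a := ⟨x ^ k, pow_mem (mem_St2.mp hx).1 k⟩
  have h2 : g = ⟨u, hK.fix u hu⟩ * (y * y) := Subtype.ext (by simp [y, hk, hg])
  have h3 := H5.norm_eq_one_of_linear hμ h1 y
  rw [congrFun e y] at h3
  rw [h2, hμ.map_mul_of_apply_one h1, hμ.map_mul_of_apply_one h1, hμF _ hu, h3, one_mul]

theorem FS.isIrr_indFun [Fintype G] [Finite Ω] (h : FS G Ω) {a b : Ω} (hab : a ≠ b) {F : Subgroup G}
    (hK : Ker a F) {μ : stabilizer G a → ℂ} (hμ : IsCharacter _ μ)
    (hμF : ∀ u : stabilizer G a, (u : G) ∈ F → μ u = 1) (hne : μ ≠ fun _ => 1) :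
    IsIrrCharacter G (indFun (stabilizer G a) μ) := by
  have := Fintype.ofFinite (stabilizer G a)
  have h1 := hμ.isIrr_of_apply_one (hμF 1 (one_mem F))
  refine hμ.indFun.isIrr_of_inner_self ?_
  rw [h.inner_indFun hab hK hμ hμF hμF, h1.inner_self,
    h1.conj.inner_of_ne h1 (h.conj_ne hab hK hμ hμF hne), add_zero]

theorem s0881 [Fintype G] [Fintype Ω] (hZ : Cfsg.IsZassenhausGroup G Ω) {a b : Ω} (hab : a ≠ b)
    [IsSimpleGroup G]
    (hodd : Odd (Nat.card ↥(MulAction.stabilizer G a ⊓ MulAction.stabilizer G b : Subgroup G)))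
    (H : Subgroup G) (hHa : H ≤ MulAction.stabilizer G a) (hHcard : Nat.card H + 1 = Fintype.card Ω)
    (hHfix : ∀ u ∈ H, u ≠ 1 → ∀ c : Ω, u • c = c → c = a) (μ : MulAction.stabilizer G a → ℂ)
    (hμ : Cfsg.IsCharacter (MulAction.stabilizer G a) μ ∧ μ 1 = 1)
    (hμH : ∀ u : MulAction.stabilizer G a, (u : G) ∈ H → μ u = 1) (hμne : μ ≠ fun _ => 1) :
    Cfsg.IsIrrCharacter G (Cfsg.indFun (MulAction.stabilizer G a) μ) ∧
      ∀ u ∈ H, u ≠ 1 → Cfsg.indFun (MulAction.stabilizer G a) μ u = 1 := by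
  have hF := fs_of_simple hZ hab hodd
  rw [← Nat.card_eq_fintype_card] at hHcard
  have hK := ker_of_card hF.toZ3 hab hHa hHcard hHfix
  exact ⟨hF.isIrr_indFun hab hK hμ.1 hμH hμne, fun u hu hu1 => by
    rw [hF.indFun_of_mem_ker hK hμ.1.classFun hu hu1, hμH _ hu]⟩

end H21
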