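import Mathlib
import Cfsg.Agent.H21.Feit2

/-! Feit's theorem: if the characters of the point stabiliser are coherent, the two-point stabiliser is large. -/

set_option autoImplicit false

namespace H21

open Cfsg MulAction H4
open scoped ComplexConjugate

variable {G Ω : Type*} [Group G] [MulAction G Ω]

/-- irreducible characters of the stabiliser of `a` that are not constant on `F` -/
def InS (a : Ω) (F : Subgroup G) (χ : stabilizer G a → ℂ) : Prop :=
  IsIrrCharacter _ χ ∧ ∃ u ∈ F.subgroupOf (stabilizer G a), χ u ≠ χ 1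

/-- coherence of induction from the stabiliser -/
def Coh [Fintype G] (a : Ω) (F : Subgroup G) [Fintype (stabilizer G a)] : Prop :=
  ∃ ν : (stabilizer G a → ℂ) → (G → ℂ), (∀ χ, InS a F χ → IsGeneralizedCharacter G (ν χ)) ∧
    (∀ χ χ', InS a F χ → InS a F χ' → classInner (ν χ) (ν χ') = classInner χ χ') ∧
    ∀ χ χ', InS a F χ → InS a F χ' →
      χ' 1 • ν χ - χ 1 • ν χ' = indFun (stabilizer G a) (χ' 1 • χ - χ 1 • χ')

variable {a b : Ω} {F : Subgroup G}

theorem InS.vanish [Finite G] {χ : stabilizer G a → ℂ} (hχ : InS a F χ) (h : Z3 G Ω) (hab : a ≠ b)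
    (hK : Ker a F) {g : stabilizer G a} (hg : (g : G) ∉ F) : χ g = 0 := by
  have := hK.normal_subgroupOf
  refine hχ.1.eq_zero_of_fpf (F.subgroupOf (stabilizer G a)) hχ.2 fun u hu e => ?_
  by_contra hu1
  refine hg (hK.centralizer_le h hab hu (fun e => hu1 (Subtype.ext e)) ?_)
  rw [H6.mem_centralizer_singleton]
  exact (congrArg Subtype.val e).symm

theorem InS.inner_one [Fintype (stabilizer G a)] {χ : stabilizer G a → ℂ} (hχ : InS a F χ) :
    classInner χ (fun _ => 1) = 0 := by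
  refine hχ.1.inner_of_ne isIrrCharacter_one fun e => ?_
  obtain ⟨u, -, hu⟩ := hχ.2
  exact hu (by rw [e])

theorem FS.linear_of_not_InS [Finite G] (h : FS G Ω) (hab : a ≠ b) (hK : Ker a F)
    {χ : stabilizer G a → ℂ} (hχ : IsIrrCharacter _ χ) (hn : ¬ InS a F χ) :
    ∀ u : stabilizer G a, (u : G) ∈ F → χ u = 1 := by
  have := hK.normal_subgroupOf
  have h1 : ∀ u ∈ F.subgroupOf (stabilizer G a), χ u = χ 1 := by
    by_contra hc
    push Not at hc
    exact hn ⟨hχ, hc⟩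
  obtain ⟨χ', hχ', e⟩ := H5.exists_irr_deflation (QuotientGroup.mk' (F.subgroupOf (stabilizer G a)))
    (QuotientGroup.mk'_surjective _) hχ (by
      rw [QuotientGroup.ker_mk']; exact (H5.le_charKer_iff hχ.isCharacter).mpr h1)
  have h2 : ∀ g : stabilizer G a, ∃ x : stabilizer G a, (x : G) ∈ St2 G a b ∧
      (g : stabilizer G a ⧸ F.subgroupOf (stabilizer G a)) = x := fun g => by
    obtain ⟨u, hu, x, hx, hg⟩ := hK.decomp hab g.2
    refine ⟨⟨x, (mem_St2.mp hx).1⟩, hx, ?_⟩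
    refine (QuotientGroup.eq.mpr ?_).symm
    rw [Subgroup.mem_subgroupOf]
    have := hK.conj x⁻¹ (inv_smul_eq_of_smul_eq (mem_St2.mp hx).1) u hu
    simpa [hg, mul_assoc] using this
  have h3 : χ' 1 = 1 := hχ'.apply_one_of_comm fun p q => by
    obtain ⟨g, rfl⟩ := QuotientGroup.mk_surjective p
    obtain ⟨g', rfl⟩ := QuotientGroup.mk_surjective q
    obtain ⟨x, hx, e1⟩ := h2 g
    obtain ⟨y, hy, e2⟩ := h2 g'
    rw [e1, e2, ← QuotientGroup.mk_mul, ← QuotientGroup.mk_mul]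
    congr 1
    exact Subtype.ext (h.comm hab hx hy)
  intro u hu
  rw [h1 u hu, e]
  simpa using h3

open Classical in
theorem FS.card_not_InS [Finite G] [Finite Ω] (h : FS G Ω) (hab : a ≠ b) (hK : Ker a F) :
    (Finset.univ.filter fun χ : IrrCharacter (stabilizer G a) => ¬ InS a F χ).card =
      Nat.card (St2 G a b) := by
  have := hK.normal_subgroupOf
  have := Fintype.ofFinite (stabilizer G a)
  have h1 := sum_sq_of_le_ker (F.subgroupOf (stabilizer G a))
  rw [hK.index_subgroupOf h.toZ3 hab] at h1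
  have h2 : (Finset.univ.filter fun χ : IrrCharacter (stabilizer G a) => ¬ InS a F χ) =
      Finset.univ.filter (fun χ : IrrCharacter (stabilizer G a) =>
        ¬ ∃ u ∈ F.subgroupOf (stabilizer G a), (χ : stabilizer G a → ℂ) u ≠ (χ : stabilizer G a → ℂ) 1) :=
    Finset.filter_congr fun χ _ => not_congr ⟨fun h => h.2, fun h => ⟨χ.2, h⟩⟩
  rw [← h2, Finset.sum_congr rfl (g := fun _ => (1 : ℂ)) (fun χ hχ => by
    rw [h.linear_of_not_InS hab hK χ.2 (Finset.mem_filter.mp hχ).2 1 (one_mem F), one_pow])] at h1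
  simpa using h1

open Classical in
theorem FS.sum_InS [Finite G] [Finite Ω] (h : FS G Ω) (hab : a ≠ b) (hK : Ker a F) {k : ℕ}
    (hk : Nat.card Ω = k + 2) :
    ∑ χ ∈ Finset.univ.filter (fun χ : IrrCharacter (stabilizer G a) => InS a F χ),
      ((χ : stabilizer G a → ℂ) 1).re ^ 2 = Nat.card (St2 G a b) * k := by
  have := Fintype.ofFinite (stabilizer G a)
  have h1 := sum_degree_sq_re (N := stabilizer G a)
  rw [← Finset.sum_filter_add_sum_filter_not Finset.univ (fun χ : IrrCharacter (stabilizer G a) => InS a F χ),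
    Finset.sum_congr (s₁ := Finset.univ.filter fun χ : IrrCharacter (stabilizer G a) => ¬ InS a F χ)
      rfl (g := fun _ => (1 : ℝ)) (fun χ hχ => by
      rw [h.linear_of_not_InS hab hK χ.2 (Finset.mem_filter.mp hχ).2 1 (one_mem F)]; simp),
    Finset.sum_const, h.card_not_InS hab hK, h.toZ3.card_stab hab, hk] at h1
  simp only [show k + 2 - 1 = k + 1 from rfl, nsmul_eq_mul, mul_one] at h1
  push_cast at h1
  linarith

theorem Z3.card_classes_stab [Finite G] [Finite Ω] (h : Z3 G Ω) (hab : a ≠ b) (hK : Ker a F) :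
    Nat.card (ConjClasses (stabilizer G a)) + 1 ≤
      Nat.card {C : ConjClasses G // ¬ ∀ g : G, ConjClasses.mk g = C → g ∉ F} +
        Nat.card (St2 G a b) := by
  have hex : ∀ C : {C : ConjClasses G // ¬ ∀ g : G, ConjClasses.mk g = C → g ∉ F},
      ∃ g : stabilizer G a, ConjClasses.mk (g : G) = C ∧ (g : G) ∈ F := fun C => by
    have := C.2
    push Not at this
    obtain ⟨g, h1, h2⟩ := this
    exact ⟨⟨g, hK.fix g h2⟩, h1, h2⟩
  choose r hr using hex
  let f : {C : ConjClasses G // ¬ ∀ g : G, ConjClasses.mk g = C → g ∉ F} ⊕ {x : St2 G a b // x ≠ 1} →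
      ConjClasses (stabilizer G a) :=
    Sum.elim (fun C => ConjClasses.mk (r C)) (fun x => ConjClasses.mk ⟨x.1, (mem_St2.mp x.1.2).1⟩)
  have hf : Function.Surjective f := by
    intro C
    obtain ⟨g, rfl⟩ := ConjClasses.exists_rep C
    rcases hK.mem_or_fix h hab g.2 with hg | ⟨c, hc, hg⟩
    · let D : {C : ConjClasses G // ¬ ∀ g : G, ConjClasses.mk g = C → g ∉ F} :=
        ⟨ConjClasses.mk (g : G), fun h' => h' g rfl hg⟩
      refine ⟨Sum.inl D, ConjClasses.mk_eq_mk_iff_isConj.mpr ?_⟩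
      obtain ⟨x, hx⟩ := isConj_iff.mp (ConjClasses.mk_eq_mk_iff_isConj.mp (hr D).1)
      by_cases h1 : ((r D : stabilizer G a) : G) = 1
      · rw [h1, mul_one, mul_inv_cancel] at hx
        rw [show r D = g from Subtype.ext (h1.trans hx)]
      · exact isConj_iff.mpr ⟨⟨x, hK.ti (hr D).2 h1 (by rw [hx]; exact hg)⟩, Subtype.ext hx⟩
    · by_cases hg1 : g = 1
      · let D : {C : ConjClasses G // ¬ ∀ g : G, ConjClasses.mk g = C → g ∉ F} :=
          ⟨ConjClasses.mk 1, fun h' => h' 1 rfl (one_mem F)⟩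
        refine ⟨Sum.inl D, ?_⟩
        have := isConj_one_right.mp (ConjClasses.mk_eq_mk_iff_isConj.mp (hr D).1.symm)
        rw [hg1]
        exact congrArg ConjClasses.mk (Subtype.ext this)
      obtain ⟨u, hu, hub⟩ := hK.trans hc hab.symm
      have hm : u * g * u⁻¹ ∈ St2 G a b := mem_St2.mpr ⟨(conj_mem_stab_iff (hK.fix u hu)).mpr g.2, by
        rw [← hub, conj_smul_smul, hg]⟩
      refine ⟨Sum.inr ⟨⟨_, hm⟩, fun e => hg1 (Subtype.ext (conj_eq_one_iff.mp
        (congrArg Subtype.val e)))⟩, ConjClasses.mk_eq_mk_iff_isConj.mpr ?_⟩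
      exact IsConj.symm (isConj_iff.mpr ⟨⟨u, hK.fix u hu⟩, rfl⟩)
  have h1 := Nat.card_le_card_of_surjective f hf
  rw [Nat.card_sum, card_ne_one] at h1
  have h2 : 0 < Nat.card (St2 G a b) := Nat.card_pos
  omega

open Classical in
theorem FS.card_irr_ge [Finite G] [Finite Ω] (h : FS G Ω) (h3 : 3 ≤ Nat.card Ω) (hab : a ≠ b)
    (hK : Ker a F) :
    (Finset.univ.filter fun χ : IrrCharacter (stabilizer G a) => InS a F χ).card +
      Nat.card (St2 G a b) + 1 ≤ Fintype.card (IrrCharacter G) := by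
  have h1 := h.toZ3.card_classes_stab hab hK
  have h2 := h.le_card_classes h3 hab hK
  have h4 := Finset.card_filter_add_card_filter_not (s := Finset.univ)
    (fun χ : IrrCharacter (stabilizer G a) => InS a F χ)
  rw [h.card_not_InS hab hK, Finset.card_univ, ← Nat.card_eq_fintype_card,
    card_irr_eq_card_conjClasses] at h4
  rw [← Nat.card_eq_fintype_card, card_irr_eq_card_conjClasses,
    ← Nat.card_congr (Equiv.sumCompl fun C : ConjClasses G => ∀ g : G, ConjClasses.mk g = C → g ∉ F),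
    Nat.card_sum]
  omega

theorem FS.exists_InS_below [Fintype G] [IsSimpleGroup G] [Fintype (stabilizer G a)] (h : FS G Ω)
    (hab : a ≠ b) (hK : Ker a F) (hF : F ≠ ⊥) {ψ : G → ℂ} (hψ : IsIrrCharacter G ψ)
    (h1 : ψ ≠ fun _ => 1) :
    ∃ χ, InS a F χ ∧ classInner (fun g : stabilizer G a => ψ g) χ ≠ 0 := by
  by_contra hn
  push Not at hn
  obtain ⟨⟨u, hu⟩, hu1⟩ := Subgroup.ne_bot_iff_exists_ne_one.mp hF
  refine hu1 (Subtype.ext (hψ.eq_one_of_apply_eq_of_simple h1 (g := u) ?_))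
  have h2 := (hψ.classFun.restrict (stabilizer G a)).apply_eq_sum ⟨u, hK.fix u hu⟩
  have h3 := (hψ.classFun.restrict (stabilizer G a)).apply_eq_sum 1
  refine h2.trans (Eq.trans ?_ h3.symm)
  refine Finset.sum_congr rfl fun χ _ => ?_
  by_cases hχ : InS a F χ
  · rw [hn χ hχ, zero_mul, zero_mul]
  · rw [h.linear_of_not_InS hab hK χ.2 hχ _ hu, h.linear_of_not_InS hab hK χ.2 hχ _ (one_mem F)]

theorem FS.inner_sq_ne_zero [Fintype G] [IsSimpleGroup G] (h : FS G Ω)
    (hab : a ≠ b) (hK : Ker a F) (hF : F ≠ ⊥) {ψ : G → ℂ} (hψ : IsIrrCharacter G ψ)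
    (h1 : ψ ≠ fun _ => 1) {μ : stabilizer G a → ℂ} (hμ : IsCharacter _ μ)
    (hμF : ∀ u : stabilizer G a, (u : G) ∈ F → μ u = 1) :
    classInner (ψ * fun g => conj (ψ g)) (indFun (stabilizer G a) μ) ≠ 0 := by
  have := Fintype.ofFinite (stabilizer G a)
  obtain ⟨χ, hχ, h2⟩ := h.exists_InS_below hab hK hF hψ h1
  have hθ := hψ.isCharacter.restrict (stabilizer G a)
  have h3 := hθ.sub_irr hχ.1 h2
  rw [classInner_indFun_right _ _ (hψ.isCharacter.mul hψ.isCharacter.conj).classFun]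
  have h4 : (fun g : stabilizer G a => (ψ * fun g => conj (ψ g)) g) =
      (fun g : stabilizer G a => ψ g) * fun g : stabilizer G a => conj (ψ g) := rfl
  rw [h4, classInner_mul_left]
  simp only [RCLike.conj_conj]
  set θ : stabilizer G a → ℂ := fun g => ψ g
  have h5 : μ * χ = χ := by
    ext g
    by_cases hg : (g : G) ∈ F
    · rw [Pi.mul_apply, hμF g hg, one_mul]
    · rw [Pi.mul_apply, hχ.vanish h.toZ3 hab hK hg, mul_zero]
  have h6 : μ * θ = χ + μ * (θ - χ) := by rw [mul_sub, h5]; abel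
  rw [h6, classInner_add_right]
  intro e
  have h7 := congrArg Complex.re e
  have h8 := one_le_inner_re hθ hχ.1.isCharacter h2
  have h9 := H5.inner_re_nonneg hθ (hμ.mul h3)
  rw [Complex.add_re, Complex.zero_re] at h7
  linarith

theorem exists_small_InS [Fintype G] [Finite Ω] (h : Z3 G Ω) (hab : a ≠ b) (hK : Ker a F)
    (hc : commutator F ≠ ⊤) : ∃ χ, InS a F χ ∧ (χ 1).re ≤ Nat.card (St2 G a b) := by
  classical
  have := Fintype.ofFinite (stabilizer G a)
  have h1 : 1 < Nat.card (F →* ℂˣ) := by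
    rw [card_monoidHom_units_eq_index]
    exact Subgroup.one_lt_index_of_ne_top hc
  have : Finite (F →* ℂˣ) := Nat.finite_of_card_ne_zero (by omega)
  have := Finite.one_lt_card_iff_nontrivial.mp h1
  obtain ⟨lam, hlam⟩ := exists_ne (1 : F →* ℂˣ)
  let e := Subgroup.subgroupOfEquivOfLe hK.le_stab
  let l : F.subgroupOf (stabilizer G a) → ℂ := fun x => (lam (e x) : ℂ)
  have hl : IsIrrCharacter _ l := (isIrrCharacter_linear lam).comp_mulEquiv e
  have hl1 : l ≠ fun _ => 1 := fun h' => hlam (MonoidHom.ext fun x => by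
    have := congrFun h' (e.symm x)
    simp only [l, MulEquiv.apply_symm_apply] at this
    exact Units.ext this)
  obtain ⟨χ, hχ, h2⟩ := hl.exists_irr_above
  refine ⟨χ, ⟨hχ, ?_⟩, ?_⟩
  · by_contra hn
    push Not at hn
    apply h2
    have : (fun u : F.subgroupOf (stabilizer G a) => χ u) = χ 1 • fun _ => (1 : ℂ) := by
      ext u; simp [hn u u.2]
    rw [this, classInner_smul_left, isIrrCharacter_one.inner_of_ne hl hl1.symm, mul_zero]
  · rw [← classInner_indFun_right _ _ hχ.classFun] at h2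
    have h3 := hl.isCharacter.indFun.degree_le_of_inner_ne_zero hχ
      (fun e => h2 (classInner_comm_of_eq_zero e))
    rw [indFun_apply_one, hK.index_subgroupOf h hab] at h3
    simpa [l] using h3

/-- a class function constant on the non-identity elements of `F` is orthogonal to the induced differences -/
theorem inner_diff_eq_zero [Fintype G] [Fintype (stabilizer G a)] (h : Z3 G Ω) (hab : a ≠ b)
    (hK : Ker a F) {χ χ' : stabilizer G a → ℂ} (hχ : InS a F χ) (hχ' : InS a F χ') {ψ : G → ℂ}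
    (hψ : IsClassFunction G ψ) (hc : ∀ u ∈ F, u ≠ 1 → ψ u = 1) :
    classInner (indFun (stabilizer G a) (χ' 1 • χ - χ 1 • χ')) ψ = 0 := by
  rw [classInner_indFun_left _ _ hψ]
  have h1 : classInner (χ' 1 • χ - χ 1 • χ') (fun _ => 1) = 0 := by
    rw [classInner_sub_left, classInner_smul_left, classInner_smul_left, hχ.inner_one,
      hχ'.inner_one]; simp
  rw [← h1, classInner_def, classInner_def]
  congr 1
  refine Finset.sum_congr rfl fun g _ => ?_
  by_cases hg1 : g = 1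
  · simp [hg1, mul_comm]
  by_cases hg : (g : G) ∈ F
  · rw [hc g hg (fun e => hg1 (Subtype.ext e))]
  · simp [hχ.vanish h hab hK hg, hχ'.vanish h hab hK hg]

theorem feit_arith {e k d τ : ℕ} (he : 2 ≤ e) (hk : 3 * e ≤ k) (hτ : e ≤ 2 * τ + 1)
    (h1 : 1 + τ * (k + 2) ≤ d ^ 2) (h2 : d ^ 2 * k ≤ e * (e * k + 2 * k + 1)) : False := by
  have h3 : d ≤ e := by
    by_contra hc
    have h4 : (e + 1) ^ 2 ≤ d ^ 2 := Nat.pow_le_pow_left (by omega) 2
    nlinarith
  have h4 : d ^ 2 ≤ e ^ 2 := Nat.pow_le_pow_left h3 2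
  obtain ⟨f, rfl⟩ := Nat.exists_eq_add_of_le he
  nlinarith

theorem FS.le_of_coh [Fintype G] [Finite Ω] [IsSimpleGroup G] [Fintype (stabilizer G a)]
    (h : FS G Ω) (h3 : 3 ≤ Nat.card Ω) (hab : a ≠ b) (hK : Ker a F)
    (he2 : 2 ≤ Nat.card (St2 G a b)) (hc : commutator F ≠ ⊤) (hcoh : Coh a F) :
    Nat.card Ω - 2 ≤ 2 * Nat.card (St2 G a b) := by
  classical
  by_contra hlt
  obtain ⟨k, hk⟩ : ∃ k, Nat.card Ω = k + 2 := ⟨Nat.card Ω - 2, by omega⟩
  have hdvd := h.toZ3.card_St2_dvd hab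
  rw [hk, Nat.add_sub_cancel] at hlt hdvd
  set e := Nat.card (St2 G a b) with he
  have hke : 3 * e ≤ k := by
    obtain ⟨m, rfl⟩ := hdvd
    have : 3 ≤ m := by
      by_contra hm
      exact hlt (by nlinarith)
    nlinarith
  have hF := hK.ne_bot h3
  obtain ⟨ν, hν1, hν2, hν3⟩ := hcoh
  set S := Finset.univ.filter (fun χ : IrrCharacter (stabilizer G a) => InS a F χ) with hS
  have hSm : ∀ χ : IrrCharacter (stabilizer G a), χ ∈ S ↔ InS a F χ := fun χ => by simp [hS]
  have hsum : ∑ χ ∈ S, ((χ : stabilizer G a → ℂ) 1).re ^ 2 = e * k := h.sum_InS hab hK hk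
  obtain ⟨χ₀, hχ₀, hd₀⟩ := exists_small_InS h.toZ3 hab hK hc
  rw [← he] at hd₀
  have hd₀' := hχ₀.1.one_le_apply_one_re
  have hkR : (3 * e : ℝ) ≤ k := by exact_mod_cast hke
  have heR : (2 : ℝ) ≤ e := by exact_mod_cast he2
  -- `S` has at least two members
  have htwo : ∀ χ, InS a F χ → ∃ χ', InS a F χ' ∧ χ' ≠ χ := by
    by_contra hn
    push Not at hn
    obtain ⟨χ, hχ, hn⟩ := hn
    have h1 : S = {⟨χ₀, hχ₀.1⟩} := by
      ext φ
      rw [hSm, Finset.mem_singleton]
      exact ⟨fun hφ => Subtype.ext ((hn _ hφ).trans (hn _ hχ₀).symm), fun e => by rw [e]; exact hχ₀⟩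
    rw [h1, Finset.sum_singleton] at hsum
    dsimp only at hsum
    nlinarith
  -- the exceptional characters
  have hex : ∀ χ : IrrCharacter (stabilizer G a), ∃ (ψ : IrrCharacter G) (ε : ℂ),
      InS a F χ → ε * ε = 1 ∧ ν χ = ε • (ψ : G → ℂ) := fun χ => by
    by_cases hχ : InS a F χ
    · rcases (hν1 χ hχ).irr_or_neg_of_inner_self (by rw [hν2 _ _ hχ hχ, hχ.1.inner_self]) with h1 | h1
      · exact ⟨⟨_, h1⟩, 1, fun _ => ⟨by simp, by simp⟩⟩
      · exact ⟨⟨_, h1⟩, -1, fun _ => ⟨by simp, by simp⟩⟩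
    · exact ⟨irrOne G, 1, fun h' => absurd h' hχ⟩
  choose f ε hf using hex
  have hε : ∀ χ : IrrCharacter (stabilizer G a), InS a F χ → ε χ ≠ 0 := fun χ hχ e => by
    have := (hf χ hχ).1
    rw [e, mul_zero] at this
    exact zero_ne_one this
  have hνf : ∀ χ : IrrCharacter (stabilizer G a), InS a F χ → classInner (ν χ) (f χ) ≠ 0 :=
    fun χ hχ => by
      rw [(hf χ hχ).2, classInner_smul_left, (f χ).2.inner_self, mul_one]; exact hε χ hχ
  have hfinj : ∀ χ χ' : IrrCharacter (stabilizer G a), InS a F χ → InS a F χ' → f χ = f χ' →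
      χ = χ' := fun χ χ' hχ hχ' e => by
    refine Subtype.ext (χ.2.eq_of_inner_ne_zero χ'.2 ?_)
    rw [← hν2 _ _ hχ hχ', (hf χ' hχ').2, classInner_smul_right, ← e]
    exact mul_ne_zero (by simpa using hε χ' hχ') (hνf χ hχ)
  have hν0 : ∀ χ : IrrCharacter (stabilizer G a), InS a F χ → ∀ ψ : IrrCharacter G, ψ ≠ f χ →
      classInner (ν χ) ψ = 0 := fun χ hχ ψ hψ => by
    rw [(hf χ hχ).2, classInner_smul_left,
      (f χ).2.inner_of_ne ψ.2 (fun e => hψ (Subtype.ext e.symm)), mul_zero]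
  set X := S.image f with hX
  have hXc : X.card = S.card :=
    Finset.card_image_of_injOn fun χ hχ χ' hχ' e => hfinj χ χ' ((hSm χ).mp hχ) ((hSm χ').mp hχ') e
  have hnotX : ∀ ψ : IrrCharacter G, (∀ u ∈ F, u ≠ 1 → (ψ : G → ℂ) u = 1) → ψ ∉ X := by
    intro ψ hψ hm
    obtain ⟨χ, hχ, rfl⟩ := Finset.mem_image.mp hm
    rw [hSm] at hχ
    obtain ⟨χ', hχ', hne⟩ := htwo χ hχ
    have h1 := inner_diff_eq_zero h.toZ3 hab hK hχ hχ' (f χ).2.classFun hψ
    rw [← hν3 _ _ hχ hχ', classInner_sub_left, classInner_smul_left, classInner_smul_left,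
      hν0 ⟨χ', hχ'.1⟩ hχ' (f χ) (fun e => hne (congrArg Subtype.val (hfinj _ _ hχ hχ' e)).symm),
      mul_zero, sub_zero] at h1
    exact mul_ne_zero hχ'.1.apply_one_ne_zero (hνf χ hχ) h1
  -- the principal series
  let g : IrrCharacter (stabilizer G a) → IrrCharacter G := fun μ =>
    if hμ : IsIrrCharacter G (indFun (stabilizer G a) μ) then ⟨_, hμ⟩ else irrOne G
  set L := (Finset.univ.filter fun χ : IrrCharacter (stabilizer G a) => ¬ InS a F χ).erase
    (irrOne _) with hL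
  have hLm : ∀ μ ∈ L, (∀ u : stabilizer G a, (u : G) ∈ F → (μ : stabilizer G a → ℂ) u = 1) ∧
      (g μ : G → ℂ) = indFun (stabilizer G a) μ := fun μ hμ => by
    obtain ⟨h1, h2⟩ := Finset.mem_erase.mp hμ
    have h4 := h.linear_of_not_InS hab hK μ.2 (Finset.mem_filter.mp h2).2
    exact ⟨h4, by
      simp only [g, dif_pos (h.isIrr_indFun hab hK μ.2.isCharacter h4
        (fun e => h1 (Subtype.ext e)))]⟩
  set T := L.image g with hT
  have hTc : e ≤ 2 * T.card + 1 := by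
    have h1 : L.card + 1 = e := by
      rw [hL, Finset.card_erase_add_one, h.card_not_InS hab hK]
      refine Finset.mem_filter.mpr ⟨Finset.mem_univ _, fun h' => ?_⟩
      obtain ⟨u, -, hu⟩ := h'.2
      exact hu rfl
    have h2 := Finset.card_le_mul_card_image L 2 (f := g) fun ψ hψ => by
      obtain ⟨μ, hμ, rfl⟩ := Finset.mem_image.mp hψ
      refine le_trans (Finset.card_le_card (t := {μ, ⟨_, μ.2.conj⟩}) fun μ' hμ' => ?_)
        (Finset.card_le_two)
      obtain ⟨h4, h5⟩ := Finset.mem_filter.mp hμ'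
      have h6 := (g μ).2.inner_self
      nth_rewrite 2 [← h5] at h6
      rw [(hLm μ hμ).2, (hLm μ' h4).2, h.inner_indFun hab hK μ.2.isCharacter (hLm μ hμ).1
        (hLm μ' h4).1] at h6
      rw [Finset.mem_insert, Finset.mem_singleton]
      by_contra hn
      push Not at hn
      rw [μ.2.inner_of_ne μ'.2 (fun e => hn.1 (Subtype.ext e.symm)),
        μ.2.conj.inner_of_ne μ'.2 (fun e => hn.2 (Subtype.ext e.symm)), add_zero] at h6
      exact zero_ne_one h6
    rw [← hT] at h2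
    omega
  have hTm : ∀ ψ ∈ T, ((ψ : G → ℂ) 1).re = k + 2 ∧ (∀ u ∈ F, u ≠ 1 → (ψ : G → ℂ) u = 1) ∧
      ∃ μ : stabilizer G a → ℂ, IsCharacter _ μ ∧ (∀ u : stabilizer G a, (u : G) ∈ F → μ u = 1) ∧
        (ψ : G → ℂ) = indFun (stabilizer G a) μ := fun ψ hψ => by
    obtain ⟨μ, hμ, rfl⟩ := Finset.mem_image.mp hψ
    obtain ⟨h1, h2⟩ := hLm μ hμ
    refine ⟨?_, fun u hu hu1 => ?_, μ, μ.2.isCharacter, h1, h2⟩
    · rw [h2, indFun_apply_one, h.toZ3.index_stab hab, hk, h1 1 (one_mem F)]; simp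
    · rw [h2, h.indFun_of_mem_ker hK μ.2.classFun hu hu1, h1 _ hu]
  have h1T : irrOne G ∉ T := fun hm => by
    have := (hTm _ hm).1
    rw [irrOne_coe] at this
    simp only [Complex.one_re] at this
    linarith
  -- lower bound for all degrees
  have hB : ∀ ψ : IrrCharacter G, ψ ≠ irrOne G →
      1 + T.card * (k + 2 : ℝ) ≤ ((ψ : G → ℂ) 1).re ^ 2 := fun ψ hψ => by
    have h1 := sum_degree_le (ψ.2.isCharacter.mul ψ.2.isCharacter.conj) (insert (irrOne G) T)
      fun φ hφ => by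
        rcases Finset.mem_insert.mp hφ with rfl | hφ
        · rw [classInner_mul_left, irrOne_coe]
          have : ((fun _ : G => (1 : ℂ)) * fun g => conj (conj ((ψ : G → ℂ) g))) = ψ := by
            ext x; simp
          rw [this, ψ.2.inner_self]; exact one_ne_zero
        · obtain ⟨-, -, μ, h1, h2, h4⟩ := hTm φ hφ
          rw [h4]
          exact h.inner_sq_ne_zero hab hK hF ψ.2 (fun e => hψ (Subtype.ext e)) h1 h2
    rw [Finset.sum_insert h1T, Finset.sum_congr rfl (fun φ hφ => (hTm φ hφ).1), Finset.sum_const,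
      irrOne_coe, Pi.mul_apply, conj_apply_one ψ.2.isCharacter, apply_one_eq_re ψ.2.isCharacter] at h1
    simp only [Complex.one_re, nsmul_eq_mul, ← Complex.ofReal_mul, Complex.ofReal_re] at h1
    rw [pow_two]; exact h1
  -- lower bound for the non-exceptional degrees
  have hC : ∀ ψ : IrrCharacter G, ψ ≠ irrOne G → ψ ∉ X → (k : ℝ) ≤ ((ψ : G → ℂ) 1).re := by
    intro ψ hψ hm
    have hθ := ψ.2.isCharacter.restrict (stabilizer G a)
    have h0 : ∀ χ, InS a F χ → classInner (ν χ) ψ = 0 := fun χ hχ =>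
      hν0 ⟨χ, hχ.1⟩ hχ ψ fun e => hm (Finset.mem_image.mpr ⟨⟨χ, hχ.1⟩, (hSm _).mpr hχ, e.symm⟩)
    have h1 : ∀ χ χ', InS a F χ → InS a F χ' →
        (χ' 1).re * (classInner (fun g : stabilizer G a => (ψ : G → ℂ) g) χ).re =
          (χ 1).re * (classInner (fun g : stabilizer G a => (ψ : G → ℂ) g) χ').re := by
      intro χ χ' hχ hχ'
      have h2 := congrArg (fun φ => classInner φ (ψ : G → ℂ)) (hν3 χ χ' hχ hχ')
      simp only [classInner_sub_left, classInner_smul_left, h0 χ hχ, h0 χ' hχ', mul_zero, sub_zero,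
        classInner_indFun_left _ _ ψ.2.classFun] at h2
      rw [eq_comm, sub_eq_zero, hχ.1.isCharacter.inner_comm hθ, hχ'.1.isCharacter.inner_comm hθ,
        apply_one_eq_re hχ.1.isCharacter, apply_one_eq_re hχ'.1.isCharacter] at h2
      simpa using congrArg Complex.re h2
    obtain ⟨χ₁, hχ₁, h2⟩ := h.exists_InS_below hab hK hF ψ.2 (fun e => hψ (Subtype.ext e))
    have h4 : classInner (fun g : stabilizer G a => (ψ : G → ℂ) g) χ₀ ≠ 0 := fun e => by
      have h5 := h1 χ₁ χ₀ hχ₁ hχ₀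
      rw [e, Complex.zero_re, mul_zero] at h5
      have := one_le_inner_re hθ hχ₁.1.isCharacter h2
      nlinarith
    have h5 := one_le_inner_re hθ hχ₀.1.isCharacter h4
    have h6 := sum_inner_mul_degree_le hθ S
    have h7 : ∑ χ ∈ S, ((χ : stabilizer G a → ℂ) 1).re ^ 2 ≤ e * ∑ χ ∈ S,
        (classInner (fun g : stabilizer G a => (ψ : G → ℂ) g) χ).re * ((χ : stabilizer G a → ℂ) 1).re := by
      rw [Finset.mul_sum]
      refine Finset.sum_le_sum fun χ hχ => ?_
      have h8 := h1 χ χ₀ ((hSm χ).mp hχ) hχ₀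
      have h9 := χ.2.isCharacter.apply_one_re_nonneg
      have h10 := H5.inner_re_nonneg hθ χ.2.isCharacter
      set x := ((χ : stabilizer G a → ℂ) 1).re
      set y := (classInner (fun g : stabilizer G a => (ψ : G → ℂ) g) χ).re
      have h11 : x ≤ e * y := by nlinarith
      nlinarith
    rw [hsum] at h7
    simp only [OneMemClass.coe_one] at h6
    nlinarith
  -- the sum of the squares of the degrees
  have hG := sum_degree_sq_re (N := G)
  have h1X : irrOne G ∉ X := hnotX _ fun _ _ _ => rfl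
  set R := Finset.univ \ insert (irrOne G) X with hR
  have hRc : e ≤ R.card := by
    have h1 := h.card_irr_ge h3 hab hK
    rw [hR, Finset.card_univ_sdiff, Finset.card_insert_of_notMem h1X, hXc]
    rw [← hS, ← he] at h1
    omega
  have hTR : T ⊆ R := fun ψ hψ => by
    rw [hR, Finset.mem_sdiff, Finset.mem_insert]
    refine ⟨Finset.mem_univ _, ?_⟩
    rintro (rfl | hm)
    · exact h1T hψ
    · exact hnotX ψ (hTm ψ hψ).2.1 hm
  have hRs : R.card * (k : ℝ) ^ 2 + T.card * (4 * k + 4) ≤ ∑ ψ ∈ R, ((ψ : G → ℂ) 1).re ^ 2 := by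
    have h1 : R.card * (k : ℝ) ^ 2 + T.card * (4 * k + 4) =
        ∑ ψ ∈ R, ((k : ℝ) ^ 2 + if ψ ∈ T then 4 * (k : ℝ) + 4 else 0) := by
      rw [Finset.sum_add_distrib, Finset.sum_ite_mem, Finset.inter_eq_right.mpr hTR]
      simp only [Finset.sum_const, nsmul_eq_mul]
    rw [h1]
    refine Finset.sum_le_sum fun ψ hψ => ?_
    split_ifs with hm
    · rw [(hTm ψ hm).1]; exact le_of_eq (by ring)
    · rw [hR, Finset.mem_sdiff, Finset.mem_insert, not_or] at hψ
      rw [add_zero]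
      exact pow_le_pow_left₀ (by positivity) (hC ψ hψ.2.1 hψ.2.2) 2
  rw [← Finset.sum_sdiff (Finset.subset_univ (insert (irrOne G) X)), ← hR, Finset.sum_insert h1X,
    hX, Finset.sum_image (fun χ hχ χ' hχ' e => hfinj χ χ' ((hSm χ).mp hχ) ((hSm χ').mp hχ') e),
    h.toZ3.card_G hab, hk, ← he, irrOne_coe] at hG
  simp only [show k + 2 - 1 = k + 1 from rfl, Complex.one_re] at hG
  push_cast at hG
  let χ₀' : IrrCharacter (stabilizer G a) := ⟨χ₀, hχ₀.1⟩
  obtain ⟨d, -, hd⟩ := (f χ₀').2.exists_nat_apply_one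
  have hXs : (χ₀ 1).re ^ 2 * ∑ χ ∈ S, ((f χ : G → ℂ) 1).re ^ 2 = d ^ 2 * (e * k) := by
    rw [← hsum, Finset.mul_sum, Finset.mul_sum]
    refine Finset.sum_congr rfl fun χ hχ => ?_
    rw [hSm] at hχ
    have h1 := congrFun (hν3 χ χ₀ hχ hχ₀) 1
    rw [indFun_apply_one, (hf χ hχ).2, (hf χ₀' hχ₀).2] at h1
    simp only [Pi.sub_apply, Pi.smul_apply, smul_eq_mul, hd] at h1
    rw [mul_comm (χ₀ 1) ((χ : stabilizer G a → ℂ) 1), sub_self, mul_zero, sub_eq_zero] at h1
    have h2 : χ₀ 1 ^ 2 * (f χ : G → ℂ) 1 ^ 2 = d ^ 2 * (χ : stabilizer G a → ℂ) 1 ^ 2 := by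
      have h4 := (hf χ hχ).1
      have h5 := (hf χ₀' hχ₀).1
      linear_combination (χ₀ 1 * (ε χ * (f χ : G → ℂ) 1) + (χ : stabilizer G a → ℂ) 1 * (ε χ₀' * d)) * h1 -
        (χ₀ 1 ^ 2 * (f χ : G → ℂ) 1 ^ 2) * h4 + (d ^ 2 * (χ : stabilizer G a → ℂ) 1 ^ 2) * h5
    rw [apply_one_eq_re hχ₀.1.isCharacter, apply_one_eq_re (f χ).2.isCharacter,
      apply_one_eq_re χ.2.isCharacter] at h2
    exact_mod_cast h2
  have hd1 := hB (f χ₀') fun e => h1X (e ▸ Finset.mem_image_of_mem f ((hSm χ₀').mpr hχ₀))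
  rw [hd, Complex.natCast_re] at hd1
  refine feit_arith (d := d) he2 hke hTc (by exact_mod_cast hd1) ?_
  have hRR : (e : ℝ) ≤ R.card := by exact_mod_cast hRc
  have hTT : (e : ℝ) ≤ 2 * T.card + 1 := by exact_mod_cast hTc
  set Y := ∑ χ ∈ S, ((f χ : G → ℂ) 1).re ^ 2
  have hY0 : 0 ≤ Y := Finset.sum_nonneg fun _ _ => by positivity
  have hY : Y ≤ e * k + 2 * k + 1 := by nlinarith
  have h1 : (χ₀ 1).re ^ 2 ≤ (e : ℝ) ^ 2 := pow_le_pow_left₀ (by linarith) hd₀ 2
  have h2 : (d : ℝ) ^ 2 * (e * k) ≤ e ^ 2 * (e * k + 2 * k + 1) := by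
    rw [← hXs]
    exact mul_le_mul h1 hY hY0 (by positivity)
  have h4 : (d : ℝ) ^ 2 * k ≤ e * (e * k + 2 * k + 1) := by
    refine le_of_mul_le_mul_left ?_ (show (0 : ℝ) < e by linarith)
    nlinarith
  exact_mod_cast h4

end H21
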