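import Mathlib
import Cfsg.Prelude.Def_OddOrderChar
import Cfsg.Agent.H21.Feit3
import Cfsg.Agent.H21.RankOne3

/-! Zassenhaus groups: reduction to simple groups, and the case of an abelian kernel. -/

set_option autoImplicit false

namespace H21

open Cfsg MulAction H4
open scoped ComplexConjugate MatrixGroups

universe u

variable {G Ω : Type*} [Group G] [MulAction G Ω] {a b : Ω} {F : Subgroup G}

theorem InS.degree_of_comm [Finite G] [Finite Ω] {χ : stabilizer G a → ℂ} (hχ : InS a F χ)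
    (h : Z3 G Ω) (hab : a ≠ b) (hK : Ker a F) (hF : IsMulCommutative F) :
    χ 1 = Nat.card (St2 G a b) := by
  have h1 := hχ.1.degree_le_index_of_comm (F.subgroupOf (stabilizer G a)) fun x hx y hy =>
    Subtype.ext (Subtype.mk.inj (hF.is_comm.comm (⟨x, hx⟩ : F) ⟨y, hy⟩))
  rw [hK.index_subgroupOf h hab] at h1
  obtain ⟨k, hk⟩ := hχ.1.isCharacter.exists_degree_eq_card_mul
    ((St2 G a b).subgroupOf (stabilizer G a)) fun g hg hg1 => hχ.vanish h hab hK fun hm =>
      hg1 (Subtype.ext (hK.eq_one_of_mem_St2 hab hm hg))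
  rw [Nat.card_congr (Subgroup.subgroupOfEquivOfLe inf_le_left).toEquiv] at hk
  have h2 := hχ.1.apply_one_ne_zero
  rw [hk] at h1 h2 ⊢
  have h3 : k ≠ 0 := fun e => h2 (by simp [e])
  have h4 : (0 : ℝ) < Nat.card (St2 G a b) := by exact_mod_cast Nat.card_pos
  rw [← Nat.cast_mul, Complex.natCast_re, Nat.cast_mul] at h1
  have h5 : (k : ℝ) ≤ 1 := by nlinarith
  have h6 : k = 1 := by
    have : k ≤ 1 := by exact_mod_cast h5
    omega
  rw [h6, Nat.cast_one, mul_one]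

theorem coh_of_comm [Fintype G] [Finite Ω] [Fintype (stabilizer G a)] (h : Z3 G Ω) (hab : a ≠ b)
    (hK : Ker a F) (hF : IsMulCommutative F) : Coh a F := by
  classical
  by_cases hne : ∃ χ, InS a F χ
  swap
  · exact ⟨fun _ => 0, fun χ hχ => absurd ⟨χ, hχ⟩ hne, fun χ _ hχ => absurd ⟨χ, hχ⟩ hne,
      fun χ _ hχ => absurd ⟨χ, hχ⟩ hne⟩
  obtain ⟨χ₀, hχ₀⟩ := hne
  obtain ⟨ε, hε, θ, h1, h2, h3⟩ := exceptional_characters_of_TI (ι := {χ // InS a F χ}) ⟨χ₀, hχ₀⟩
    (stabilizer G a) F (fun g hg t ht ht' => by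
      by_contra h1; exact hg (hK.ti ht h1 ht')) (fun χ => χ.1) (fun χ => χ.2.1) Subtype.val_injective
    (fun i j x hx => by rw [i.2.vanish h hab hK hx, j.2.vanish h hab hK hx])
    (fun i j => by rw [i.2.degree_of_comm h hab hK hF, j.2.degree_of_comm h hab hK hF])
  refine ⟨fun χ => if hχ : InS a F χ then ε • θ ⟨χ, hχ⟩ else 0, fun χ hχ => ?_,
    fun χ χ' hχ hχ' => ?_, fun χ χ' hχ hχ' => ?_⟩
  · simp only [dif_pos hχ]
    rcases hε with rfl | rfl
    · rw [one_smul]; exact (h1 _).isGen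
    · rw [neg_one_smul]; exact (h1 _).isGen.neg
  · simp only [dif_pos hχ, dif_pos hχ']
    rw [classInner_smul_left, classInner_smul_right, ← mul_assoc,
      show ε * conj ε = 1 by rcases hε with rfl | rfl <;> simp, one_mul]
    by_cases e : χ = χ'
    · subst e
      rw [(h1 _).inner_self, hχ.1.inner_self]
    · rw [(h1 _).inner_of_ne (h1 _) (fun e' => e (congrArg Subtype.val (h2 e'))),
        hχ.1.inner_of_ne hχ'.1 e]
  · simp only [dif_pos hχ, dif_pos hχ']
    rw [hχ.degree_of_comm h hab hK hF, hχ'.degree_of_comm h hab hK hF, ← smul_sub, ← smul_sub,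
      ← smul_sub, indFun_smul, indFun_sub, h3 ⟨χ, hχ⟩ ⟨χ', hχ'⟩]

theorem coh_of_isCoherent [Fintype G] [Fintype (stabilizer G a)]
    (hc : IsCoherent {χ | InS a F χ} {1}ᶜ (fun α => indFun (stabilizer G a) α)) : Coh a F := by
  obtain ⟨-, ν, ⟨h1, h2, h3, h4⟩, h5⟩ := hc
  have hm : ∀ χ, InS a F χ → χ ∈ zspan {χ | InS a F χ} := fun χ hχ => Submodule.subset_span hχ
  refine ⟨ν, fun χ hχ => h4 χ (hm χ hχ), fun χ χ' hχ hχ' => h3 _ (hm χ hχ) _ (hm χ' hχ'),
    fun χ χ' hχ hχ' => ?_⟩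
  obtain ⟨m, hm1⟩ := hχ.1.isCharacter.exists_nat_apply_one
  obtain ⟨n, hn1⟩ := hχ'.1.isCharacter.exists_nat_apply_one
  have m1 : (n : ℤ) • χ ∈ zspan {χ | InS a F χ} := Submodule.smul_mem _ _ (hm χ hχ)
  have m2 : (-m : ℤ) • χ' ∈ zspan {χ | InS a F χ} := Submodule.smul_mem _ _ (hm χ' hχ')
  have := h5 ((n : ℤ) • χ + (-m : ℤ) • χ') ⟨Submodule.add_mem _ m1 m2, fun x hx => by
    rw [Set.notMem_compl_iff, Set.mem_singleton_iff] at hx
    simp [hx, hm1, hn1, mul_comm]⟩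
  rw [h1 _ m1 _ m2, h2 _ (hm χ hχ), h2 _ (hm χ' hχ')] at this
  rw [hm1, hn1]
  have e2 : (n : ℂ) • χ - (m : ℂ) • χ' = (n : ℤ) • χ + (-m : ℤ) • χ' := by ext x; simp; ring
  rw [e2]
  refine Eq.trans ?_ this
  ext x; simp; ring

theorem isLinearIsometryOn_indFun [Fintype G] [Fintype (stabilizer G a)] (h : Z3 G Ω) (hab : a ≠ b)
    (hK : Ker a F) :
    IsLinearIsometryOn (zspanOn {χ | InS a F χ} {1}ᶜ) (fun α => indFun (stabilizer G a) α) := by
  have hg : ∀ α ∈ zspanOn {χ | InS a F χ} {1}ᶜ, IsGeneralizedCharacter _ α := fun α hα =>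
    isGen_iff_mem_span.mpr (Submodule.span_mono (fun χ hχ => hχ.1) hα.1)
  have hv : ∀ α ∈ zspanOn {χ | InS a F χ} {1}ᶜ, ∀ x : stabilizer G a, (x : G) ∉ F → α x = 0 := by
    intro α hα x hx
    refine Submodule.span_induction (p := fun α _ => α x = 0) (fun χ hχ => hχ.vanish h hab hK hx) rfl
      (fun α β _ _ h1 h2 => by simp [h1, h2]) (fun n α _ h1 => by simp [h1]) hα.1
  refine ⟨fun α _ β _ => indFun_add _ _ _, fun α _ n => indFun_zsmul _ _ _, fun α hα β hβ => ?_,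
    fun α hα => (hg α hα).indFun⟩
  exact classInner_indFun_of_TI (stabilizer G a) F (fun g hg t ht ht' => by
    by_contra h1; exact hg (hK.ti ht h1 ht')) (hg β hβ).classFun (hv α hα) (hv β hβ)
    (hα.2 1 (by simp))

theorem Ker.isNilpotent [Finite G] (hK : Ker a F) (h : Z3 G Ω) (hab : a ≠ b)
    (h1 : St2 G a b ≠ ⊥) : Group.IsNilpotent F := by
  obtain ⟨p, hp, hd⟩ := Nat.exists_prime_and_dvd (n := Nat.card (St2 G a b))
    (fun e => h1 (Subgroup.card_eq_one.mp e))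
  have := Fact.mk hp
  obtain ⟨x, hx⟩ := exists_prime_orderOf_dvd_card' p hd
  rw [← Subgroup.orderOf_coe] at hx
  refine isNilpotent_of_fpf F (h := x) (hx ▸ hp) (fun q hq => hK.conj _ (mem_St2.mp x.2).1 q hq)
    fun q hq e => hK.fpf h hab x.2 (fun e => ?_) hq e
  rw [e, orderOf_one] at hx
  exact hp.one_lt.ne hx

theorem Ker.commutator_ne_top [Finite G] [Finite Ω] (hK : Ker a F) (h : Z3 G Ω)
    (h3 : 3 ≤ Nat.card Ω) (hab : a ≠ b) (h1 : St2 G a b ≠ ⊥) : commutator F ≠ ⊤ := by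
  have := hK.isNilpotent h hab h1
  have := (Subgroup.nontrivial_iff_ne_bot F).mpr (hK.ne_bot h3)
  exact (Group.IsSolvable.commutator_lt_top_of_nontrivial F).ne

theorem isZass_of_equiv {G' : Type*} [Group G'] [MulAction G' Ω] (e : G ≃* G')
    (he : ∀ (g : G) (x : Ω), e g • x = g • x) (hZ : IsZassenhausGroup G Ω) :
    IsZassenhausGroup G' Ω := by
  have h := z3_of_zass hZ
  have := hZ.1
  have he' : ∀ (g : G') (x : Ω), e.symm g • x = g • x := fun g x => by
    rw [← he, MulEquiv.apply_symm_apply]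
  refine ⟨⟨fun {g g'} hg => e.symm.injective (eq_of_smul_eq_smul fun x : Ω => by
      rw [he', he', hg])⟩, is_two_pretransitive_iff.mpr fun {x y z w} h1 h2 => ?_,
    fun g x y z h1 h2 h3 h4 h5 h6 => ?_, ?_, fun K hK hKt => ?_⟩
  · obtain ⟨g, e1, e2⟩ := h.two h1 h2
    exact ⟨e g, by rw [he, e1], by rw [he, e2]⟩
  · exact (map_eq_one_iff _ e.symm.injective).mp
      (h.three h1 h2 h3 (by rw [he', h4]) (by rw [he', h5]) (by rw [he', h6]))
  · obtain ⟨g, hg, x, y, hxy, h1, h2⟩ := hZ.2.2.2.1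
    exact ⟨e g, fun e' => hg ((map_eq_one_iff _ e.injective).mp e'), x, y, hxy, by rw [he, h1],
      by rw [he, h2]⟩
  · by_contra hc
    push Not at hc
    refine not_regular hZ (K.comap e.toMonoidHom) (hK.comap _) (fun x y => ?_) fun k hk x hx => ?_
    · obtain ⟨k, hk⟩ := hKt.exists_smul_eq x y
      exact ⟨e.symm k, by simp, by rw [he']; exact hk⟩
    · have : (⟨e k, hk⟩ : K) ∈ stabilizer K x := by
        rw [mem_stabilizer_iff]
        exact (he k x).trans hx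
      rw [hc x, Subgroup.mem_bot] at this
      exact (map_eq_one_iff _ e.injective).mp (Subtype.mk.inj this)

theorem Ker.subgroupOf (hK : Ker a F) {M : Subgroup G} (hM : F ≤ M) : Ker a (F.subgroupOf M) :=
  ⟨fun u hu => hK.fix u hu, fun g hg u hu => hK.conj g hg u hu, fun hy hz => by
    obtain ⟨u, hu, e⟩ := hK.trans hy hz
    exact ⟨⟨u, hM hu⟩, hu, e⟩, fun u hu _ hy e => Subtype.ext (hK.semi u hu hy e)⟩

theorem exists_simple_sub_aux {Ω : Type*} [Finite Ω] (n : ℕ) : ∀ {G : Type u} [Group G] [Finite G]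
    [MulAction G Ω], Nat.card G = n → IsZassenhausGroup G Ω → ∃ M : Subgroup G,
      IsZassenhausGroup M Ω ∧ IsSimpleGroup M ∧ ∀ (a : Ω) (F : Subgroup G), Ker a F → F ≤ M := by
  induction n using Nat.strong_induction_on with
  | _ n ih =>
    intro G _ _ _ hn hZ
    by_cases hs : IsSimpleGroup G
    · exact ⟨⊤, isZass_of_equiv Subgroup.topEquiv.symm (fun _ _ => rfl) hZ,
        Subgroup.topEquiv.isSimpleGroup, fun _ _ _ => le_top⟩
    obtain ⟨g, hg, -⟩ := hZ.2.2.2.1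
    have : Nontrivial G := ⟨⟨g, 1, hg⟩⟩
    obtain ⟨N, hN, h1, h2⟩ : ∃ N : Subgroup G, N.Normal ∧ N ≠ ⊥ ∧ N ≠ ⊤ := by
      by_contra hc
      push Not at hc
      exact hs ⟨fun N hN => by by_cases e : N = ⊥; exacts [Or.inl e, Or.inr (hc N hN e)]⟩
    obtain ⟨M, h3, h4, h5⟩ := ih (Nat.card N) (by
      rw [← hn]
      exact lt_of_le_of_ne N.card_le_card_group fun e => h2 (Subgroup.eq_top_of_card_eq N e)) rfl (s0339 hZ N h1)
    let e := M.equivMapOfInjective N.subtype N.subtype_injective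
    refine ⟨M.map N.subtype, isZass_of_equiv e (fun _ _ => rfl) h3, e.symm.isSimpleGroup,
      fun a F hK u hu => ?_⟩
    have h6 := Ker.le_normal hZ h1 hK
    exact ⟨⟨u, h6 hu⟩, h5 a _ (hK.subgroupOf h6) hu, rfl⟩

theorem exists_simple_sub [Finite G] [Finite Ω] (hZ : IsZassenhausGroup G Ω) : ∃ M : Subgroup G,
    IsZassenhausGroup M Ω ∧ IsSimpleGroup M ∧ ∀ (a : Ω) (F : Subgroup G), Ker a F → F ≤ M :=
  exists_simple_sub_aux _ rfl hZ

theorem card_St2_subgroup_dvd (M : Subgroup G) (a b : Ω) :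
    Nat.card (St2 M a b) ∣ Nat.card (St2 G a b) :=
  Subgroup.card_dvd_of_injective ((M.subtype.comp (St2 M a b).subtype).codRestrict (St2 G a b)
    fun x => x.2) fun _ _ e => Subtype.ext (Subtype.ext (Subtype.mk.inj e))

/-- Feit's bound for a simple Zassenhaus group with abelian kernel -/
theorem le_of_comm_of_simple [Finite G] [Finite Ω] (hZ : IsZassenhausGroup G Ω) [IsSimpleGroup G]
    (hab : a ≠ b) (hK : Ker a F) (hF : IsMulCommutative F) :
    Nat.card Ω - 2 ≤ 2 * Nat.card (St2 G a b) := by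
  have h := z3_of_zass hZ
  rcases Nat.even_or_odd (Nat.card (St2 G a b)) with he | ho
  · exact h.card_sub_two_le hab he
  have := Fintype.ofFinite G
  have := Fintype.ofFinite (stabilizer G a)
  exact (fs_of_simple hZ hab ho).le_of_coh (three_le_card hZ) hab hK (two_le_card_St2 hZ hab)
    (hK.commutator_ne_top h (three_le_card hZ) hab (St2_ne_bot hZ hab)) (coh_of_comm h hab hK hF)

theorem isMulCommutative_subgroupOf (hF : IsMulCommutative F) (M : Subgroup G) :
    IsMulCommutative (F.subgroupOf M) :=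
  ⟨⟨fun x y => Subtype.ext (Subtype.ext (Subtype.mk.inj
    (hF.is_comm.comm (⟨x, x.2⟩ : F) ⟨y, y.2⟩)))⟩⟩

/-- a Zassenhaus group with abelian kernel is sharply triply transitive, or simple of half that size -/
theorem cases_of_comm [Finite G] [Finite Ω] (hZ : IsZassenhausGroup G Ω)
    (hab : a ≠ b) (hK : Ker a F) (hF : IsMulCommutative F) :
    Nat.card (St2 G a b) = Nat.card Ω - 2 ∨
      (2 * Nat.card (St2 G a b) = Nat.card Ω - 2 ∧ IsSimpleGroup G) := by
  have h := z3_of_zass hZ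
  obtain ⟨M, h1, h2, h3⟩ := exists_simple_sub hZ
  have h4 := le_of_comm_of_simple h1 hab (hK.subgroupOf (h3 a F hK))
    (isMulCommutative_subgroupOf hF M)
  obtain ⟨k, hk⟩ := card_St2_subgroup_dvd M a b
  obtain ⟨l, hl⟩ := h.card_St2_dvd hab
  have h5 := four_le_card hZ
  have h6 : 0 < Nat.card (St2 M a b) := Nat.card_pos
  have h7 : k * l ≤ 2 := by
    refine Nat.le_of_mul_le_mul_left ?_ h6
    rw [← mul_assoc, ← hk, ← hl, mul_comm]; exact h4
  have h8 : l ≠ 0 := by rintro rfl; omega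
  have h9 : k ≠ 0 := by
    rintro rfl
    have : 0 < Nat.card (St2 G a b) := Nat.card_pos
    omega
  by_cases h10 : l = 1
  · left; rw [hl, h10, mul_one]
  have h11 : l = 2 ∧ k = 1 := by
    have : 2 ≤ l := by omega
    have : 1 ≤ k := by omega
    constructor <;> nlinarith
  right
  refine ⟨by rw [hl, h11.1, mul_comm], ?_⟩
  have : M = ⊤ := Subgroup.eq_top_of_card_eq _ (by
    rw [h.card_G hab, (z3_of_zass h1).card_G hab, hk, h11.2, mul_one])
  subst this
  exact Subgroup.topEquiv.symm.isSimpleGroup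

theorem Sh3.sharp (h : Sh3 G Ω) :
    IsMultiplyPretransitive G Ω 3 ∧ ∀ t : Fin 3 ↪ Ω, stabilizer G t = ⊥ := by
  refine ⟨H7.is_three_pretransitive_iff.mpr fun _ _ _ _ _ _ h1 h2 h3 h4 h5 h6 =>
    h.tri h1 h2 h3 h4 h5 h6, fun t => ?_⟩
  rw [eq_bot_iff]
  intro g hg
  have h1 : ∀ i, g • t i = t i := fun i => DFunLike.congr_fun (mem_stabilizer_iff.mp hg) i
  exact h.three (a := t 0) (b := t 1) (c := t 2) (t.injective.ne (by decide))
    (t.injective.ne (by decide)) (t.injective.ne (by decide)) (h1 0) (h1 1) (h1 2)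

theorem iso_psl_of_simple [Finite G] [Finite Ω] (hZ : IsZassenhausGroup G Ω) [IsSimpleGroup G]
    (hab : a ≠ b) (hd : 2 * Nat.card (St2 G a b) = Nat.card Ω - 2) (K : Type*) [Field K] [Finite K]
    (hc : Nat.card K = Nat.card Ω - 1) : Nonempty (G ≃* PSL(2, K)) := by
  have h := z3_of_zass hZ
  have := hZ.1
  rcases Nat.even_or_odd (Nat.card (St2 G a b)) with he | ho
  · exact h.iso_psl_even (three_le_card hZ) hab he hd K hc
  · obtain ⟨s, -, hs2, hsa, hsb⟩ := h.exists_swap_invol (three_le_card hZ) hab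
    exact h.iso_psl_odd hab ho hd hs2 hsa hsb (simple_inverts hZ hab hsa hsb) K hc

theorem s0731 [Finite G] [Finite Ω] (hZ : Cfsg.IsZassenhausGroup G Ω) (x : Ω) (F : Subgroup G)
    (hFle : F ≤ MulAction.stabilizer G x) (hFn : (F.subgroupOf (MulAction.stabilizer G x)).Normal)
    (hFab : IsMulCommutative F) (hreg : ∀ y z : Ω, y ≠ x → z ≠ x → ∃! u : F, (u : G) • y = z) :
    (MulAction.IsMultiplyPretransitive G Ω 3 ∧ ∀ t : Fin 3 ↪ Ω, MulAction.stabilizer G t = ⊥) ∨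
      ∃ (K : Type) (_ : Field K) (_ : Fintype K), ringChar K ≠ 2 ∧
        Nonempty (G ≃* Matrix.ProjectiveSpecialLinearGroup (Fin 2) K) := by
  have h := z3_of_zass hZ
  obtain ⟨y, hxy⟩ := exists_pair hZ x
  rcases cases_of_comm hZ hxy (ker_of_reg hFle hFn hreg) hFab with h1 | ⟨h1, h2⟩
  · exact Or.inl (h.sh3_of_card hxy h1.ge).sharp
  · obtain ⟨p, f, K, i1, i2, -, -, h5⟩ := h.exists_field (three_le_card hZ) hxy h1.ge
    exact Or.inr ⟨K, i1, i2, Coord.two_ne_zero (d := Nat.card (St2 G x y)) (by rw [h5, h1]; rfl),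
      iso_psl_of_simple hZ hxy h1 K h5⟩

end H21
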