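import Mathlib
import Cfsg.Agent.H21.Feit3
import Cfsg.Agent.H5.Misc

/-! Zassenhaus groups whose kernel is a non-abelian 2-group: character sums. -/

set_option autoImplicit false

namespace H21

open Cfsg MulAction H4 Classical
open scoped ComplexConjugate

section general

variable {G : Type*} [Group G] [Fintype G]

theorem sum_subgroup_diff {A B : Subgroup G} [Fintype A] [Fintype B] (hAB : A ≤ B) (f : G → ℂ)
    (c : ℂ) (h : ∀ x ∈ B, x ∉ A → f x = c) :
    ∑ x : B, f x = ∑ x : A, f x + ((Nat.card B : ℂ) - Nat.card A) * c := by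
  have h1 : ∀ (C : Subgroup G) [Fintype C] (g : G → ℂ),
      ∑ x : C, g x = ∑ x : G, if x ∈ C then g x else 0 := fun C _ g => by
      rw [← Finset.sum_filter]
      exact (Finset.sum_subtype _ (by simp) g).symm
  have h2 : ∀ C : Subgroup G, (Nat.card C : ℂ) * c = ∑ x : G, if x ∈ C then c else 0 := fun C => by
    rw [← h1 C fun _ => c, Finset.sum_const, Finset.card_univ, ← Nat.card_eq_fintype_card,
      nsmul_eq_mul]
  rw [sub_mul, h1, h1, h2, h2, ← Finset.sum_sub_distrib, ← Finset.sum_add_distrib]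
  refine Finset.sum_congr rfl fun x _ => ?_
  by_cases hA : x ∈ A
  · simp [hA, hAB hA]
  · by_cases hB : x ∈ B
    · simp [hA, hB, h x hB hA]
    · simp [hA, hB]

theorem sum_subgroup_one (B : Subgroup G) [Fintype B] (f : G → ℂ) (c : ℂ) (h : ∀ x ∈ B, x ≠ 1 → f x = c) :
    ∑ x : B, f x = f 1 + ((Nat.card B : ℂ) - 1) * c := by
  rw [sum_subgroup_diff bot_le f c fun x hx hx1 => h x hx fun e => hx1 (e ▸ one_mem _),
    Subgroup.card_bot, Nat.cast_one, Fintype.sum_unique]
  rfl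

/-- the permutation character on the cosets of `A` -/
noncomputable def P1 (A : Subgroup G) : G → ℂ := indFun A fun _ => 1

theorem P1_char (A : Subgroup G) : IsCharacter G (P1 A) := isCharacter_one.indFun

theorem card_mul_inner_P1 (A : Subgroup G) [Fintype A] {χ : G → ℂ} (hχ : IsClassFunction G χ) :
    (Nat.card A : ℂ) * classInner χ (P1 A) = ∑ x : A, χ x := by
  rw [P1, classInner_indFun_right _ _ hχ, card_mul_classInner]
  simp

theorem card_mul_P1 (A : Subgroup G) (x : G) :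
    (Nat.card A : ℂ) * P1 A x = ∑ g : G, if g * x * g⁻¹ ∈ A then 1 else 0 := by
  rw [P1, indFun_apply', ← mul_assoc, mul_inv_cancel₀ (card_ne_zero A), one_mul]
  refine Finset.sum_congr rfl fun g _ => ?_
  rw [extendByZero_eq_dite]
  split_ifs <;> rfl

theorem card_mul_P1_one (A : Subgroup G) : (Nat.card A : ℂ) * P1 A 1 = Nat.card G := by
  rw [card_mul_P1]; simp [one_mem A]

theorem sum_sq_odd (χ : G → ℂ) : ∑ g ∈ Finset.univ.filter (fun g : G => Odd (orderOf g)), χ (g * g) =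
    ∑ g ∈ Finset.univ.filter (fun g : G => Odd (orderOf g)), χ g := by
  refine Finset.sum_nbij (fun g => g * g) (fun g hg => ?_) (fun g hg g' hg' e => ?_) (fun g hg => ?_)
    fun _ _ => rfl
  · simp only [Finset.mem_filter, Finset.mem_univ, true_and] at hg ⊢
    rw [← pow_two]
    exact hg.of_dvd_nat (orderOf_pow_dvd 2)
  · simp only [Finset.coe_filter, Finset.mem_univ, true_and, Set.mem_ofPred_eq] at hg hg'
    exact eq_of_sq_eq_of_odd (hg.mul hg') (by rw [pow_mul, pow_orderOf_eq_one, one_pow])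
      (by rw [mul_comm, pow_mul, pow_orderOf_eq_one, one_pow]) e
  · simp only [Finset.coe_filter, Finset.mem_univ, true_and, Set.mem_ofPred_eq] at hg
    obtain ⟨k, hk⟩ := exists_pow_sq_eq_of_odd hg (pow_orderOf_eq_one g)
    exact ⟨g ^ k, by simpa using hg.of_dvd_nat (orderOf_pow_dvd k), hk⟩

/-- in a 2-group, degree and dimension of the fixed space of a subgroup of `G'` have the same parity -/
theorem even_degree_sub (hG : IsPGroup 2 G) (Z : Subgroup G) [Z.Normal] (hZ : Z ≤ commutator G)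
    {χ : G → ℂ} (hχ : IsCharacter G χ) : ∃ k : ℕ, χ 1 = classInner χ (P1 Z) + 2 * k := by
  have : Fact (Nat.Prime 2) := ⟨Nat.prime_two⟩
  refine hχ.induction (P := fun χ => ∃ k : ℕ, χ 1 = classInner χ (P1 Z) + 2 * k)
    ⟨0, by simp [classInner_zero_left]⟩ (fun ψ hψ => ?_) ?_
  · by_cases h1 : ∃ u ∈ Z, ψ u ≠ ψ 1
    · obtain ⟨d, -, hd⟩ := hψ.exists_nat_apply_one
      obtain ⟨n, hn⟩ := IsPGroup.iff_card.mp hG
      obtain ⟨i, -, rfl⟩ := (Nat.dvd_prime_pow Nat.prime_two).mp (hn ▸ hψ.degree_dvd_card hd)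
      obtain ⟨j, rfl⟩ := Nat.exists_eq_succ_of_ne_zero (n := i) (by
        rintro rfl
        obtain ⟨u, hu, h2⟩ := h1
        exact h2 (H5.apply_of_mem_charKer (H5.commutator_le_charKer_of_linear hψ.isCharacter
          (by simpa using hd) (hZ hu))))
      refine ⟨2 ^ j, ?_⟩
      rw [hψ.isCharacter.inner_comm (P1_char Z), P1, classInner_indFun_left _ _ hψ.classFun,
        inner_res_one_eq_zero Z hψ h1, hd, pow_succ]
      push_cast; ring
    · push Not at h1
      refine ⟨0, mul_left_cancel₀ (card_ne_zero Z) ?_⟩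
      rw [Nat.cast_zero, mul_zero, add_zero, card_mul_inner_P1 Z hψ.classFun,
        sum_subgroup_one Z ψ (ψ 1) fun x hx _ => h1 x hx]
      ring
  · rintro φ ψ - - ⟨k, hk⟩ ⟨l, hl⟩
    exact ⟨k + l, by rw [Pi.add_apply, classInner_add_left, hk, hl]; push_cast; ring⟩

theorem inner_P1_irr (A : Subgroup G) [A.Normal] {χ : G → ℂ} (hχ : IsIrrCharacter G χ) :
    classInner (P1 A) χ = if ∃ u ∈ A, χ u ≠ χ 1 then 0 else χ 1 := by
  split_ifs with h
  · rw [P1, classInner_indFun_left _ _ hχ.classFun, inner_res_one_eq_zero A hχ h]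
  · push Not at h
    refine mul_left_cancel₀ (card_ne_zero A) ?_
    rw [(P1_char A).inner_comm hχ.isCharacter, card_mul_inner_P1 A hχ.classFun,
      sum_subgroup_one A χ (χ 1) fun x hx _ => h x hx]
    ring

theorem sum_int_coef {f f' : G → ℂ} (hf : IsClassFunction G f) {m m' : IrrCharacter G → ℤ}
    (h : ∀ χ : IrrCharacter G, classInner (χ : G → ℂ) f = m χ)
    (h' : ∀ χ : IrrCharacter G, classInner (χ : G → ℂ) f' = m' χ) {c : ℤ}
    (hc : classInner f f' = c) : ∑ χ, m χ * m' χ = c := by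
  rw [hf.inner_eq_sum] at hc
  have : ∀ χ : IrrCharacter G, classInner f χ * conj (classInner f' χ) = ((m χ * m' χ : ℤ) : ℂ) :=
    fun χ => by rw [conj_classInner, h', ← conj_classInner, h]; simp
  simp only [this] at hc
  exact_mod_cast hc

end general

variable {G Ω : Type*} [Group G] [MulAction G Ω]

/-- the kernel `F` is a non-abelian 2-group, `Z` its subgroup of elements of order at most two -/
structure SzC (a b : Ω) (F Z : Subgroup G) : Prop where
  fs : FS G Ω
  ne : a ≠ b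
  ker : Ker a F
  two : IsPGroup 2 F
  memZ : ∀ x, x ∈ Z ↔ x ∈ F ∧ x * x = 1
  sq : ∀ x ∈ F, x * x ∈ Z
  comm : Z.subgroupOf F ≤ commutator F
  card : Nat.card Z = Nat.card (St2 G a b) + 1
  large : 2 ≤ Nat.card (St2 G a b)

namespace SzC

variable [Fintype G] [Finite Ω] {a b : Ω} {F Z : Subgroup G}

omit [Fintype G] [Finite Ω] in
theorem le (h : SzC a b F Z) : Z ≤ F := fun x hx => ((h.memZ x).mp hx).1

omit [Fintype G] [Finite Ω] in
theorem conj_mem (h : SzC a b F Z) {g : G} (hg : g • a = a) {x : G} (hx : x ∈ Z) :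
    g * x * g⁻¹ ∈ Z :=
  (h.memZ _).mpr ⟨h.ker.conj g hg x (h.le hx), conj_sq_eq_one ((h.memZ x).mp hx).2⟩

omit [Finite Ω] in
theorem exists_invol (h : SzC a b F Z) : ∃ u ∈ Z, u ≠ 1 := by
  obtain ⟨u, hu⟩ := Subgroup.ne_bot_iff_exists_ne_one.mp
    ((Subgroup.one_lt_card_iff_ne_bot Z).mp (by rw [h.card]; have := h.large; omega))
  exact ⟨u, u.2, fun e => hu (Subtype.ext e)⟩

omit [Finite Ω] in
theorem apply_invol (h : SzC a b F Z) {χ : G → ℂ} (hχ : IsClassFunction G χ) {u : G} (hu : u ∈ Z)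
    (hu1 : u ≠ 1) {x : G} (hx1 : x ≠ 1) (hx : x * x = 1) : χ x = χ u :=
  hχ.apply_of_isConj (h.fs.isConj_invol (orderOf_eq_two_iff'.mpr ⟨hx1, hx⟩)
    (orderOf_eq_two_iff'.mpr ⟨hu1, ((h.memZ u).mp hu).2⟩))

omit [Fintype G] in
theorem card_Ω (h : SzC a b F Z) : Nat.card Ω = Nat.card F + 1 := by
  rw [h.ker.card h.ne]; have := two_le_card_of_ne h.ne; omega

omit [Fintype G] in
theorem card_H (h : SzC a b F Z) :
    Nat.card (stabilizer G a) = Nat.card F * Nat.card (St2 G a b) := by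
  rw [h.fs.toZ3.card_stab h.ne, h.ker.card h.ne]

omit [Fintype G] in
theorem card_G (h : SzC a b F Z) :
    Nat.card G = (Nat.card F + 1) * (Nat.card F * Nat.card (St2 G a b)) := by
  rw [h.fs.toZ3.card_G h.ne, h.card_Ω, Nat.add_sub_cancel]

theorem card_mul_P1_ker (h : SzC a b F Z) {A : Subgroup G} (hA : A ≤ F)
    (hn : ∀ g : G, g • a = a → ∀ x ∈ A, g * x * g⁻¹ ∈ A) {x : G} (hx : x ∈ F) (hx1 : x ≠ 1) :
    (Nat.card A : ℂ) * P1 A x =
      if x ∈ A then (Nat.card F * Nat.card (St2 G a b) : ℂ) else 0 := by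
  rw [card_mul_P1, ← Nat.cast_mul, ← h.card_H]
  split_ifs with hxA
  · rw [Finset.sum_congr rfl (g := fun g => if g ∈ stabilizer G a then 1 else 0) fun g _ =>
      if_congr ⟨fun e => h.ker.ti hx hx1 (hA e), fun e => hn g e x hxA⟩ rfl rfl, Finset.sum_boole,
      Nat.card_eq_fintype_card, Fintype.card_subtype]
  · refine Finset.sum_eq_zero fun g _ => if_neg fun e => hxA ?_
    simpa [mul_assoc] using hn g⁻¹ (inv_smul_eq_of_smul_eq (h.ker.ti hx hx1 (hA e))) _ e

theorem P1_F (h : SzC a b F Z) {x : G} (hx : x ∈ F) (hx1 : x ≠ 1) :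
    P1 F x = Nat.card (St2 G a b) :=
  mul_left_cancel₀ (card_ne_zero F) (by rw [h.card_mul_P1_ker le_rfl h.ker.conj hx hx1, if_pos hx])

theorem P1_F_one (h : SzC a b F Z) : P1 F 1 = (Nat.card F + 1) * Nat.card (St2 G a b) :=
  mul_left_cancel₀ (card_ne_zero F) (by rw [card_mul_P1_one, h.card_G]; push_cast; ring)

theorem inner_F_F (h : SzC a b F Z) : classInner (P1 F) (P1 F) = 2 * Nat.card (St2 G a b) :=
  mul_left_cancel₀ (card_ne_zero F) (by
    rw [card_mul_inner_P1 F (P1_char F).classFun, sum_subgroup_one F _ _ fun x => h.P1_F, h.P1_F_one]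
    ring)

theorem sum_Z (h : SzC a b F Z) {χ : G → ℂ} (hχ : IsClassFunction G χ) {u : G} (hu : u ∈ Z)
    (hu1 : u ≠ 1) : (Nat.card (St2 G a b) + 1 : ℂ) * classInner χ (P1 Z) =
      χ 1 + Nat.card (St2 G a b) * χ u := by
  rw [← Nat.cast_add_one, ← h.card, card_mul_inner_P1 Z hχ, sum_subgroup_one Z χ (χ u)
    fun x hx hx1 => h.apply_invol hχ hu hu1 hx1 ((h.memZ x).mp hx).2, h.card]
  push_cast; ring

theorem sum_even (h : SzC a b F Z) {φ : G → ℂ} (hφ : IsClassFunction G φ) (h1 : φ 1 = 0) :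
    ∑ g ∈ Finset.univ.filter (fun g : G => ¬ Odd (orderOf g)), φ g =
      (Nat.card F + 1) * ∑ x : F, φ x := by
  have : Fact (Nat.Prime 2) := ⟨Nat.prime_two⟩
  obtain ⟨u, hu, hu1⟩ := h.exists_invol
  have key : ∀ g : G, P1 F g * φ g =
      if ¬ Odd (orderOf g) then Nat.card (St2 G a b) * φ g else 0 := fun g => by
    by_cases hg1 : g = 1
    · rw [hg1, h1, mul_zero, mul_zero, ite_self]
    split_ifs with hg
    · refine mul_eq_zero_of_left (indFun_eq_zero _ _ fun x hx => ?_) _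
      obtain ⟨c, hc⟩ := isConj_iff.mp hx
      obtain ⟨n, hn⟩ := IsPGroup.iff_orderOf.mp h.two x
      rw [← Subgroup.orderOf_coe, ← hc, FS.orderOf_conj'] at hn
      obtain ⟨m, rfl⟩ := Nat.exists_eq_succ_of_ne_zero (n := n) (by
        rintro rfl; exact hg1 (orderOf_eq_one_iff.mp hn))
      rw [hn, pow_succ] at hg
      exact absurd hg (by simp)
    · obtain ⟨m, h2, h3⟩ := exists_invol_pow_of_not_odd (isOfFinOrder_of_finite g) hg
      obtain ⟨c, hc⟩ := isConj_iff.mp (h.fs.isConj_invol (orderOf_eq_two_iff'.mpr ⟨h2, h3⟩)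
        (orderOf_eq_two_iff'.mpr ⟨hu1, ((h.memZ u).mp hu).2⟩))
      have h4 : c * g * c⁻¹ ∈ F := h.ker.centralizer_le h.fs.toZ3 h.ne (h.le hu) hu1 (by
        rw [H6.mem_centralizer_singleton, ← hc]; group)
      rw [← (P1_char F).classFun g c, h.P1_F h4 fun e => hg1 (conj_eq_one_iff.mp e)]
  have h2 := sum_indFun_mul F (fun _ => 1) hφ
  rw [← P1] at h2
  simp only [key, one_mul] at h2
  rw [← Finset.sum_filter, ← Finset.mul_sum] at h2
  refine mul_left_cancel₀ (card_ne_zero (St2 G a b)) ?_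
  rw [h2, ← mul_one (F.index : ℂ), ← indFun_apply_one F fun _ => 1, ← P1, h.P1_F_one]
  ring

/-- the Frobenius-Schur indicator is read off from `F` -/
theorem fs_formula (h : SzC a b F Z) {χ : G → ℂ} (hχ : IsIrrCharacter G χ) (h1 : χ ≠ fun _ => 1)
    {u : G} (hu : u ∈ Z) (hu1 : u ≠ 1) :
    Nat.card F * (Nat.card (St2 G a b) * fsInd χ + classInner χ (P1 F)) =
      (Nat.card (St2 G a b) + 1) * χ 1 + (Nat.card F - (Nat.card (St2 G a b) + 1)) * χ u := by
  have h2 := h.sum_even ((hχ.classFun.pow_arg 2).sub hχ.classFun) (by simp)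
  simp only [Pi.sub_apply, Finset.sum_sub_distrib, pow_two] at h2
  have h3 : ∑ g, χ g = 0 := by
    have := card_mul_classInner χ (fun _ => 1)
    rw [hχ.inner_of_ne isIrrCharacter_one h1] at this
    simpa using this.symm
  have h4 : (Nat.card G : ℂ) * fsInd χ = ∑ g, χ (g * g) := by
    rw [fsInd, ← mul_assoc, mul_inv_cancel₀ (card_ne_zero G), one_mul]
  rw [← Finset.sum_filter_add_sum_filter_not _ (fun g : G => Odd (orderOf g))] at h3 h4
  rw [sum_sq_odd, h.card_G] at h4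
  rw [sum_subgroup_diff h.le (fun x => χ (x * x)) (χ u) (fun x hx hxZ => h.apply_invol hχ.classFun
      hu hu1 (fun e => hxZ ((h.memZ x).mpr ⟨hx, e⟩)) ((h.memZ _).mp (h.sq x hx)).2),
    sum_subgroup_one Z (fun x => χ (x * x)) (χ 1) (fun x hx _ => by rw [((h.memZ x).mp hx).2]),
    ← card_mul_inner_P1 F hχ.classFun, h.card, one_mul] at h2
  refine mul_left_cancel₀ (Nat.cast_add_one_ne_zero (Nat.card F)) ?_
  push_cast at h2 h4
  linear_combination h4 + h2 + h3

theorem sum_H (h : SzC a b F Z) {χ : G → ℂ} (hχ : IsClassFunction G χ) :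
    Nat.card (St2 G a b) * classInner χ (P1 (stabilizer G a)) =
      classInner χ (P1 F) + (∑ k : St2 G a b, χ k - χ 1) := by
  let f : St2 G a b × F → stabilizer G a := fun p =>
    ⟨p.2 * p.1, mul_mem (h.ker.fix _ p.2.2) (mem_St2.mp p.1.2).1⟩
  have hf : Function.Bijective f := (Nat.bijective_iff_surjective_and_card f).mpr ⟨fun g => by
    obtain ⟨u, hu, x, hx, e⟩ := h.ker.decomp h.ne g.2
    exact ⟨(⟨x, hx⟩, ⟨u, hu⟩), Subtype.ext e.symm⟩, by rw [Nat.card_prod, h.card_H, mul_comm]⟩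
  refine mul_left_cancel₀ (card_ne_zero F) ?_
  rw [← mul_assoc, ← Nat.cast_mul, ← h.card_H, card_mul_inner_P1 _ hχ, ← hf.sum_comp fun x => χ x,
    Fintype.sum_prod_type, mul_add, card_mul_inner_P1 _ hχ, ← Finset.add_sum_erase _ _
    (Finset.mem_univ (1 : St2 G a b)), ← Finset.add_sum_erase _ (fun k : St2 G a b => χ k)
    (Finset.mem_univ (1 : St2 G a b)), OneMemClass.coe_one, add_sub_cancel_left, Finset.mul_sum]
  congr 1
  · simp [f]
  refine Finset.sum_congr rfl fun k hk => ?_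
  rw [Finset.sum_congr rfl (g := fun _ => χ k) fun u _ => ?_, Finset.sum_const, Finset.card_univ,
    ← Nat.card_eq_fintype_card, nsmul_eq_mul]
  obtain ⟨v, -, e⟩ := h.ker.exists_eq_comm h.fs.toZ3 h.ne k.2
    (fun e => (Finset.mem_erase.mp hk).1 (Subtype.ext e)) u.2
  change χ (u * k) = χ k
  rw [e, inv_mul_cancel_right, hχ]

theorem exists_D (h : SzC a b F Z) {χ : G → ℂ} (hχ : IsCharacter G χ) {u : G} (hu : u ∈ Z)
    (hu1 : u ≠ 1) : ∃ n : ℕ, (2 * Nat.card (St2 G a b) * n : ℂ) =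
      ∑ k : St2 G a b, χ k + Nat.card (St2 G a b) * χ u := by
  have h1 : St2 G a b ≠ ⊥ := (Subgroup.one_lt_card_iff_ne_bot _).mp h.large
  obtain ⟨n, hn⟩ := hχ.inner_nat (P1_char (Subgroup.normalizer (St2 G a b : Set G)))
  have h2 := fun {g : G} => h.fs.toZ3.mem_normalizer_St2_iff h.ne h1 (g := g)
  obtain ⟨s, hs1, hs2⟩ := h.fs.two h.ne h.ne.symm
  have h3 : Nat.card (Subgroup.normalizer (St2 G a b : Set G)) = 2 * Nat.card (St2 G a b) := by
    rw [← ((St2 G a b).subgroupOf (Subgroup.normalizer (St2 G a b : Set G))).card_mul_index,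
      Nat.card_congr (Subgroup.subgroupOfEquivOfLe Subgroup.le_normalizer).toEquiv, mul_comm]
    congr 1
    refine Subgroup.index_eq_two_iff.mpr ⟨⟨s, h2.mpr (Or.inr ⟨hs1, hs2⟩)⟩, fun g => ?_⟩
    simp only [Subgroup.mem_subgroupOf, mem_St2, Subgroup.coe_mul, mul_smul, hs1, hs2]
    rcases h2.mp g.2 with ⟨e1, e2⟩ | ⟨e1, e2⟩
    · exact Or.inr ⟨⟨e1, e2⟩, fun e => h.ne (e.1.symm.trans e2)⟩
    · exact Or.inl ⟨⟨e2, e1⟩, fun e => h.ne (e.1.symm.trans e1)⟩
  refine ⟨n, ?_⟩
  have h4 := card_mul_inner_P1 (Subgroup.normalizer (St2 G a b : Set G)) hχ.classFun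
  rw [sum_subgroup_diff Subgroup.le_normalizer χ (χ u) (fun x hx hxK => by
    obtain ⟨e1, e2⟩ := (h2.mp hx).resolve_left hxK
    exact h.apply_invol hχ.classFun hu hu1 (fun e => hxK (e ▸ one_mem _)) (h.fs.swap h.ne e1 e2)),
    hn, h3] at h4
  push_cast at h4
  linear_combination h4

theorem inner_H_H (h : SzC a b F Z) :
    classInner (P1 (stabilizer G a)) (P1 (stabilizer G a)) = 2 := by
  rw [P1, h.fs.inner_indFun h.ne h.ker isCharacter_one (fun _ _ => rfl) fun _ _ => rfl]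
  simp only [map_one, classInner_one_one]
  norm_num

theorem exists_odd (h : SzC a b F Z) {χ : G → ℂ} (hχ : IsCharacter G χ) :
    ∃ k : ℕ, χ 1 = classInner χ (P1 Z) + 2 * k := by
  have : (Z.subgroupOf F).Normal := ⟨fun x hx g => h.conj_mem (h.ker.fix _ g.2) hx⟩
  obtain ⟨k, hk⟩ := even_degree_sub h.two (Z.subgroupOf F) h.comm (hχ.restrict F)
  refine ⟨k, hk.trans ?_⟩
  congr 1
  refine mul_left_cancel₀ (card_ne_zero Z) ?_
  rw [card_mul_inner_P1 Z hχ.classFun,
    ← Nat.card_congr (Subgroup.subgroupOfEquivOfLe h.le).toEquiv,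
    card_mul_inner_P1 _ (hχ.restrict F).classFun]
  exact (Subgroup.subgroupOfEquivOfLe h.le).toEquiv.sum_comp fun x => χ x

theorem sum_sq_invol (h : SzC a b F Z) {u : G} (hu : u ∈ Z) (hu1 : u ≠ 1) :
    ∑ χ : IrrCharacter G, (χ : G → ℂ) u * conj ((χ : G → ℂ) u) = Nat.card F := by
  rw [column_orth_of_isConj (IsConj.refl u), le_antisymm
    (h.ker.centralizer_le h.fs.toZ3 h.ne (h.le hu) hu1) fun x hx => by
      rw [H6.mem_centralizer_singleton]
      exact h.fs.invol_central h.ne h.ker (orderOf_eq_two_iff'.mpr ⟨hu1, ((h.memZ u).mp hu).2⟩)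
        (h.le hu) hx]

end SzC

end H21
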