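import Mathlib
import Cfsg.Agent.H21.Suz1

/-! Zassenhaus groups whose kernel is a non-abelian 2-group: the order. -/

set_option autoImplicit false

namespace H21

open Cfsg MulAction H4 Classical
open scoped ComplexConjugate

theorem arith_two {X : Type*} [Fintype X] (x₁ : X) {e : ℤ} (he : 3 ≤ e) (n m z p v : X → ℤ)
    (hn : ∀ x, n x = 0 ∨ n x = 1 ∨ n x = -1) (hm : ∀ x, 0 ≤ m x) (hz : ∀ x, 0 ≤ z x)
    (hzm : ∀ x, z x = m x + e * n x) (h1 : ∑ x, m x * m x = 2 * e)
    (h2 : ∑ x, m x * z x = e * (e + 2)) (h3 : ∑ x, z x * z x = e * ((e + 1) * (e + 2)))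
    (h4 : ∑ x, p x * p x = 2) (h5 : ∑ x, v x * v x = (e + 1) ^ 2)
    (hpar : ∀ x, ∃ k, 2 * k = m x + (e + 1) * n x + p x) (heven : Even (e + 1))
    (hx : n x₁ = 0 ∧ p x₁ = 1 ∧ v x₁ = 1) : ∃ x, n x = 1 ∧ m x = 0 ∧ v x ^ 2 < 2 * (e + 1) := by
  have e1 : ∑ x, m x * z x = ∑ x, m x * m x + e * ∑ x, n x * m x := by
    rw [Finset.mul_sum, ← Finset.sum_add_distrib]
    exact Finset.sum_congr rfl fun x _ => by rw [hzm]; ring
  have e2 : ∑ x, z x * z x = ∑ x, m x * m x + 2 * e * ∑ x, n x * m x + e * e * ∑ x, n x * n x := by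
    rw [Finset.mul_sum, Finset.mul_sum, ← Finset.sum_add_distrib, ← Finset.sum_add_distrib]
    exact Finset.sum_congr rfl fun x _ => by rw [hzm]; ring
  have e3 : ∑ x, n x * m x = e := mul_left_cancel₀ (show e ≠ 0 by omega) (by
    linear_combination h2 - h1 - e1)
  have e4 : ∑ x, n x * n x = e + 1 := mul_left_cancel₀ (show e * e ≠ 0 by positivity) (by
    linear_combination h3 - h1 - e2 - 2 * e * e3)
  have e5 : ∀ x, m x * m x ≤ 2 * e := fun x => h1 ▸ Finset.single_le_sum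
    (f := fun x => m x * m x) (fun x _ => mul_self_nonneg _) (Finset.mem_univ x)
  by_contra hc
  push Not at hc
  have key : ∀ x, 2 * (e + 1) * (n x * n x) + (if x = x₁ then e + 2 else 0) ≤
      v x * v x + (e + 1) * (n x * m x) + (e + 1) * (p x * p x) := fun x => by
    split_ifs with h6
    · rw [h6, hx.1, hx.2.1, hx.2.2]; linarith
    have := mul_self_nonneg (v x)
    have := mul_self_nonneg (p x)
    rcases hn x with h7 | h7 | h7
    · rw [h7]; nlinarith
    · rw [h7]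
      rcases (by have := hm x; omega : m x = 0 ∨ m x = 1 ∨ 2 ≤ m x) with h8 | h8 | h8
      · have := hc x h7 h8; rw [h8]; nlinarith
      · obtain ⟨k, hk⟩ := hpar x
        obtain ⟨r, hr⟩ := heven
        have h9 : p x ≠ 0 := by rw [h7, h8, hr] at hk; omega
        have : 1 ≤ p x * p x := by
          have := mul_self_pos.mpr h9
          omega
        rw [h8]; nlinarith
      · nlinarith
    · have h8 := hz x
      have h9 := e5 x
      rw [hzm, h7] at h8
      nlinarith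
  have h6 := Finset.sum_le_sum fun x (_ : x ∈ Finset.univ) => key x
  simp only [Finset.sum_add_distrib, ← Finset.mul_sum, Finset.sum_ite_eq', Finset.mem_univ,
    if_true] at h6
  rw [e3, e4, h4, h5] at h6
  nlinarith

theorem arith_odd {n : ℕ} {q v : ℤ} (hq : q = 2 ^ n) (hn : 2 ≤ n) (h0 : 0 < q - v)
    (hodd : Odd (q - v)) (hd : q - v ∣ (q ^ 2 + 1) * q ^ 2) (hv : v ^ 2 < 2 * q) : Odd n := by
  have h1 : q - v ∣ q ^ 2 + 1 := by
    refine IsCoprime.dvd_of_dvd_mul_right ?_ hd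
    rw [hq] at hodd ⊢
    obtain ⟨k, hk⟩ := hodd
    exact (IsCoprime.pow_right (IsCoprime.pow_right ⟨1, -k, by rw [hk]; ring⟩))
  obtain ⟨t, ht⟩ : q - v ∣ v ^ 2 + 1 := by
    have := h1.sub (Dvd.intro (q + v) rfl)
    rwa [show q ^ 2 + 1 - (q - v) * (q + v) = v ^ 2 + 1 by ring] at this
  obtain ⟨r, rfl⟩ := Nat.exists_eq_add_of_le hn
  have h4 : q = 4 * 2 ^ r := by rw [hq]; ring
  have h5 : (1 : ℤ) ≤ 2 ^ r := one_le_pow₀ (by norm_num)
  obtain ⟨k, hk⟩ := hodd
  have h6 : 0 < t := by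
    by_contra h6
    nlinarith [sq_nonneg v]
  have h7 : t < 6 := by
    by_contra h7
    have h8 : 2 * q ≤ 3 * v := by nlinarith
    have h9 : q < 5 := by nlinarith
    have h10 : q = 4 := by omega
    have h11 : 3 ≤ v := by omega
    nlinarith
  have h8 : t = 2 := by
    obtain ⟨w, hw⟩ : ∃ w, v = 2 * w + 1 := ⟨2 * 2 ^ r - k - 1, by omega⟩
    rw [hk, hw] at ht
    have h9 : 4 * (w * w + w) + 2 = 2 * (k * t) + t := by linear_combination ht
    obtain ⟨s, hs⟩ : ∃ s, t = 2 * s := ⟨2 * (w * w + w) + 1 - k * t, by omega⟩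
    have h10 : 2 * (w * w + w) + 1 = 2 * (k * s) + s := by
      rw [hs] at h9; linarith
    omega
  rw [← Nat.not_even_iff_odd]
  rintro ⟨s, hs⟩
  have h9 : (v + 1) ^ 2 = 2 * (2 ^ s) ^ 2 := by
    rw [← pow_mul, mul_two, ← hs, ← hq]; rw [h8] at ht; linear_combination ht
  have h10 := congrArg (fun x : ℤ => padicValInt 2 x % 2) h9
  have h11 : v + 1 ≠ 0 := fun e => by rw [e] at h9; exact absurd h9.symm (by positivity)
  have : Fact (Nat.Prime 2) := ⟨Nat.prime_two⟩
  simp only [pow_two] at h10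
  rw [padicValInt.mul h11 h11, padicValInt.mul (by norm_num) (by positivity),
    padicValInt.mul (by positivity) (by positivity), show padicValInt 2 2 = 1 from
      padicValInt.self (p := 2) (by norm_num)] at h10
  omega

theorem arith_three {X ι : Type*} [Fintype X] [Fintype ι] {e ε : ℤ} (he : 3 ≤ e)
    (hι : (Fintype.card ι : ℤ) = e + 2) (hε : ε = 1 ∨ ε = -1) (t : ι → X)
    (ht : Function.Injective t) (m : ι → X → ℤ) (m₀ : X → ℤ) (hm : ∀ i x, 0 ≤ m i x)
    (hm₀ : ∀ x, 0 ≤ m₀ x) (h1 : ∀ i j, ∑ x, m i x * m j x = (if i = j then 1 else 0) + e)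
    (h2 : ∀ i, ∑ x, m i x * m₀ x = e) (h3 : ∑ x, m₀ x * m₀ x = 2 * e)
    (h4 : ∀ i j x, m i x - m j x = ε * ((if x = t i then 1 else 0) - if x = t j then 1 else 0))
    (i : ι) : m i (t i) = 1 ∧ ∑ j, m j (t i) = 1 ∧ m₀ (t i) ≤ 1 := by
  have e1 : ∀ (w : X → ℤ) (j : ι), ∑ x, m i x * w x - ∑ x, m j x * w x = ε * (w (t i) - w (t j)) :=
    fun w j => by
      rw [← Finset.sum_sub_distrib, Finset.sum_congr rfl fun x _ => by rw [← sub_mul, h4, mul_assoc],
        ← Finset.mul_sum]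
      simp only [sub_mul, Finset.sum_sub_distrib, ite_mul,
        one_mul, zero_mul, Finset.sum_ite_eq', Finset.mem_univ, if_true]
  have e2 : ∀ (g : ι → ℤ) (c : ℤ), (∀ j, j ≠ i → g j = c) → ∑ j, g j = g i + (e + 1) * c :=
    fun g c hg => by
      rw [← Finset.add_sum_erase _ _ (Finset.mem_univ i), Finset.sum_congr rfl fun j hj =>
        hg j (Finset.mem_erase.mp hj).1, Finset.sum_const, Finset.card_erase_of_mem (Finset.mem_univ i),
        nsmul_eq_mul, Nat.cast_sub (Finset.card_pos.mpr ⟨i, Finset.mem_univ i⟩), Finset.card_univ, hι]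
      push_cast; ring
  have e3 : ∀ f : X → ℤ, ∑ x, f x =
      ∑ j, f (t j) + ∑ x ∈ (Finset.univ.map ⟨t, ht⟩)ᶜ, f x := fun f => by
    rw [← Finset.sum_add_sum_compl (Finset.univ.map ⟨t, ht⟩), Finset.sum_map]
    rfl
  have e4 : ∀ j, m₀ (t j) = m₀ (t i) := fun j => by
    have := e1 m₀ j
    rw [h2, h2] at this
    rcases hε with rfl | rfl <;> linarith
  have e5 : ∀ j, j ≠ i → m i (t j) = m i (t i) - ε := fun j hj => by
    have := e1 (m i) j
    rw [h1, h1, if_pos rfl, if_neg hj] at this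
    rcases hε with rfl | rfl <;> linarith
  have e6 : ∀ j, j ≠ i → m j (t i) = m i (t i) - ε := fun j hj => by
    have := h4 i j (t i)
    rw [if_pos rfl, if_neg fun e => hj (ht e).symm] at this
    linarith
  have e7 := h1 i i
  have e8 := h3
  rw [e3, e2 _ ((m i (t i) - ε) * (m i (t i) - ε)) fun j hj => by rw [e5 j hj], if_pos rfl] at e7
  rw [e3, e2 _ (m₀ (t i) * m₀ (t i)) fun j _ => by rw [e4 j]] at e8
  have n1 : ∀ f : X → ℤ, 0 ≤ ∑ x ∈ (Finset.univ.map ⟨t, ht⟩)ᶜ, f x * f x := fun f =>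
    Finset.sum_nonneg fun x _ => mul_self_nonneg _
  have n2 := n1 (m i)
  have n3 := n1 m₀
  have n4 := hm i (t i)
  have e9 : m i (t i) = ε := by
    by_contra hne
    have h5 : 1 ≤ (m i (t i) - ε) * (m i (t i) - ε) := by
      have := mul_self_pos.mpr (sub_ne_zero.mpr hne)
      omega
    have h6 : m i (t i) = 0 := by nlinarith
    have h7 : ε * ε = 1 := by rcases hε with rfl | rfl <;> norm_num
    have h8 : ∑ x ∈ (Finset.univ.map ⟨t, ht⟩)ᶜ, m i x * m i x = 0 := by rw [h6] at e7; nlinarith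
    have h9 := h2 i
    rw [e3, e2 _ (-ε * m₀ (t i)) fun j hj => by rw [e5 j hj, e4 j, h6, zero_sub], h6,
      Finset.sum_eq_zero fun x hx => by
        rw [mul_self_eq_zero.mp ((Finset.sum_eq_zero_iff_of_nonneg fun x _ => mul_self_nonneg _).mp
          h8 x hx), zero_mul]] at h9
    have h10 := Int.le_of_dvd (by omega) (Dvd.intro (-ε * m₀ (t i)) (by linarith) : e + 1 ∣ e)
    omega
  have e10 : ε = 1 := hε.resolve_right (by omega)
  refine ⟨e9.trans e10, by rw [e2 _ 0 fun j hj => by rw [e6 j hj, e9, sub_self], e9, e10]; ring, ?_⟩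
  by_contra h5
  have h6 : 4 ≤ m₀ (t i) * m₀ (t i) := by nlinarith
  nlinarith

theorem exists_int_invol {G : Type*} [Group G] [Finite G] {χ : G → ℂ} (hχ : IsCharacter G χ) {u : G}
    (hu : u * u = 1) : ∃ v : ℤ, χ u = v := by
  obtain ⟨n, ω, -, h1, h2⟩ := hχ.exists_eigenvalues u
  have h3 : ∀ i, ∃ c : ℤ, ω i = c := fun i => by
    obtain ⟨k, hk⟩ := orderOf_dvd_of_pow_eq_one (x := u) (n := 2) (by rw [pow_two, hu])
    rcases mul_self_eq_one_iff.mp (by rw [← pow_two, hk, pow_mul, h1, one_pow] : ω i * ω i = 1)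
      with e | e
    exacts [⟨1, by simp [e]⟩, ⟨-1, by simp [e]⟩]
  choose c hc using h3
  exact ⟨∑ i, c i, by simpa [hc] using h2 1⟩

theorem inner_one_P1 {G : Type*} [Group G] [Fintype G] (A : Subgroup G) :
    classInner (fun _ => 1) (P1 A) = 1 :=
  mul_left_cancel₀ (card_ne_zero A) (by rw [card_mul_inner_P1 A (isClassFunction_const 1)]; simp)

variable {G Ω : Type*} [Group G] [MulAction G Ω]

namespace SzC

variable [Fintype G] [Finite Ω] {a b : Ω} {F Z : Subgroup G}

omit [Finite Ω] in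
theorem exists_pow (h : SzC a b F Z) :
    ∃ n : ℕ, 2 ≤ n ∧ Nat.card (St2 G a b) + 1 = 2 ^ n := by
  have : Fact (Nat.Prime 2) := ⟨Nat.prime_two⟩
  obtain ⟨n, hn⟩ := IsPGroup.iff_card.mp (h.two.to_le h.le)
  rw [h.card] at hn
  refine ⟨n, ?_, hn⟩
  have := h.large
  by_contra hlt
  rcases (by omega : n = 0 ∨ n = 1) with rfl | rfl <;> omega

theorem odd_of_sq (h : SzC a b F Z) (hN : Nat.card F = (Nat.card (St2 G a b) + 1) ^ 2) {r : ℕ}
    (hr : Nat.card (St2 G a b) + 1 = 2 ^ r) : Odd r := by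
  obtain ⟨u, hu, hu1⟩ := h.exists_invol
  obtain ⟨r', hr2, hr'⟩ := h.exists_pow
  obtain rfl : r' = r := Nat.pow_right_injective le_rfl (hr'.symm.trans hr)
  set e := Nat.card (St2 G a b) with he
  have he3 : 3 ≤ e := by
    have := Nat.pow_le_pow_right (show 0 < 2 by norm_num) hr2
    omega
  have e0 : (e : ℂ) ≠ 0 := card_ne_zero _
  have e1 : (e + 1 : ℂ) ≠ 0 := Nat.cast_add_one_ne_zero e
  choose m hm using fun χ : IrrCharacter G => χ.2.isCharacter.inner_nat (P1_char F)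
  choose z hz using fun χ : IrrCharacter G => χ.2.isCharacter.inner_nat (P1_char Z)
  choose p hp using fun χ : IrrCharacter G => χ.2.isCharacter.inner_nat (P1_char (stabilizer G a))
  choose v hv using fun χ : IrrCharacter G => exists_int_invol χ.2.isCharacter ((h.memZ u).mp hu).2
  have hn : ∀ χ : IrrCharacter G, ∃ n : ℤ, (n = 0 ∨ n = 1 ∨ n = -1) ∧ (χ = irrOne G → n = 0) ∧
      (z χ : ℤ) = m χ + e * n := fun χ => by
    by_cases h1 : χ = irrOne G
    · have h2 := hm χ
      have h3 := hz χ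
      rw [h1, irrOne_coe, inner_one_P1] at h2 h3
      exact ⟨0, Or.inl rfl, fun _ => rfl, by
        rw [h1]; exact_mod_cast (by rw [← h2, ← h3]; simp : (z (irrOne G) : ℂ) = m (irrOne G) + e * 0)⟩
    have h2 := h.fs_formula χ.2 (fun e => h1 (Subtype.ext e)) hu hu1
    have h3 := h.sum_Z χ.2.classFun hu hu1
    rw [hm, hN] at h2
    rw [hz] at h3
    have h4 : (z χ : ℂ) = m χ + e * fsInd (χ : G → ℂ) := mul_left_cancel₀ (pow_ne_zero 2 e1) (by
      push_cast at h2
      linear_combination (e + 1 : ℂ) * h3 - h2)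
    rcases χ.2.fsInd_trichotomy with h5 | h5 | h5 <;> rw [h5] at h4
    · exact ⟨0, by simp, fun _ => rfl, by exact_mod_cast h4⟩
    · exact ⟨1, by simp, fun e => absurd e h1, by exact_mod_cast h4⟩
    · exact ⟨-1, by simp, fun e => absurd e h1, by exact_mod_cast h4⟩
  choose n hn1 hn2 hn3 using hn
  have hZ1 : (e + 1 : ℂ) * P1 Z 1 = Nat.card G := by
    rw [← card_mul_P1_one Z, h.card]; push_cast; rfl
  have hZu : (e + 1 : ℂ) * P1 Z u = Nat.card F * e := by
    have := h.card_mul_P1_ker h.le (fun g hg x hx => h.conj_mem hg hx) (h.le hu) hu1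
    rw [if_pos hu, h.card] at this
    exact_mod_cast this
  obtain ⟨χ, h1, h2, h3⟩ := arith_two (irrOne G) (e := e) (by exact_mod_cast he3) n
    (fun χ => m χ) (fun χ => z χ) (fun χ => p χ) v hn1 (fun _ => Int.natCast_nonneg _)
    (fun _ => Int.natCast_nonneg _) hn3
    (sum_int_coef (P1_char F).classFun hm hm (by rw [h.inner_F_F]; push_cast; rfl))
    (sum_int_coef (P1_char F).classFun hm hz (mul_left_cancel₀ e1 (by
      rw [h.sum_Z (P1_char F).classFun hu hu1, h.P1_F_one, h.P1_F (h.le hu) hu1, hN]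
      push_cast; ring)))
    (sum_int_coef (P1_char Z).classFun hz hz (mul_left_cancel₀ e1 (mul_left_cancel₀ e1 (by
      rw [h.sum_Z (P1_char Z).classFun hu hu1, mul_add, hZ1, mul_left_comm, hZu, h.card_G, hN]
      push_cast; ring))))
    (sum_int_coef (P1_char _).classFun hp hp (by rw [h.inner_H_H]; push_cast; rfl))
    (by
      have := h.sum_sq_invol hu hu1
      simp only [hv, hN, map_intCast] at this
      exact_mod_cast this)
    (fun χ => by
      obtain ⟨k, hk⟩ := h.exists_D χ.2.isCharacter hu hu1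
      have h1 := h.sum_H χ.2.classFun
      have h2 := h.sum_Z χ.2.classFun hu hu1
      have h3 : (z χ : ℂ) = m χ + e * n χ := by exact_mod_cast hn3 χ
      rw [hp, hm] at h1
      rw [hz] at h2
      exact ⟨k, by exact_mod_cast (mul_left_cancel₀ e0 (by
        linear_combination hk - h1 - h2 + (e + 1 : ℂ) * h3) :
          (2 * k : ℂ) = m χ + (e + 1) * n χ + p χ)⟩)
    (by rw [← Nat.cast_add_one, hr]; exact (Even.pow_of_ne_zero even_two (by omega)).natCast)
    ⟨hn2 _ rfl, by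
      have := hp (irrOne G)
      rw [irrOne_coe, inner_one_P1] at this
      exact_mod_cast this.symm, by exact_mod_cast (show (v (irrOne G) : ℂ) = 1 from (hv _).symm)⟩
  obtain ⟨d, hd0, hd⟩ := χ.2.exists_nat_apply_one
  obtain ⟨k, hk⟩ := h.exists_odd χ.2.isCharacter
  have h4 := h.sum_Z χ.2.classFun hu hu1
  have h5 := hn3 χ
  rw [h1, h2] at h5
  rw [hz, hd] at hk h4
  rw [hv] at h4
  have h6 : ((e : ℤ) + 1) * z χ = d + e * v χ := by exact_mod_cast h4
  have h7 : (d : ℤ) = z χ + 2 * k := by exact_mod_cast hk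
  have h8 : (d : ℤ) = e * (e + 1 - v χ) := by rw [h5] at h6; linear_combination -h6
  have h9 : ((e : ℤ) + 1) = 2 ^ r' := by exact_mod_cast hr
  have h10 : (0 : ℤ) < e := by omega
  refine arith_odd h9 hr2 ((pos_iff_pos_of_mul_pos (h8 ▸ by exact_mod_cast hd0)).mp h10) ?_ ?_ h3
  · refine (Int.odd_mul (m := e).mp ?_).2
    obtain ⟨s, hs⟩ := (Even.pow_of_ne_zero (even_two (α := ℤ)) (show r' ≠ 0 by omega))
    exact ⟨s + k - 1, by rw [← h8, h7, h5]; omega⟩
  · have := Int.natCast_dvd_natCast.mpr (χ.2.degree_dvd_card hd)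
    rw [h8, h.card_G, hN] at this
    refine (mul_dvd_mul_iff_left h10.ne').mp (this.trans (dvd_of_eq ?_))
    push_cast; ring

end SzC

end H21
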