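import Mathlib
import Cfsg.Agent.H21.Feit4

/-! The structure equation in a Zassenhaus group whose kernel is an abelian 2-group. -/

set_option autoImplicit false

namespace H21

open Cfsg MulAction

variable {G Ω : Type*} [Group G] [MulAction G Ω]

theorem ker_of_reg' {a : Ω} {U : Subgroup G} (hUle : U ≤ stabilizer G a)
    (hUn : ∀ h ∈ stabilizer G a, ∀ u ∈ U, h * u * h⁻¹ ∈ U)
    (hreg : ∀ c d : Ω, c ≠ a → d ≠ a → ∃! u : U, (u : G) • c = d) : Ker a U :=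
  ker_of_reg hUle ⟨fun u hu g => hUn g g.2 u hu⟩ hreg

theorem Ker.even_of_two [Finite G] [Finite Ω] {a : Ω} {U : Subgroup G} (hK : Ker a U)
    (h3 : 3 ≤ Nat.card Ω) (hU2 : IsPGroup 2 U) : Even (Nat.card U) := by
  have : Fact (Nat.Prime 2) := ⟨Nat.prime_two⟩
  obtain ⟨k, hk⟩ := IsPGroup.iff_card.mp hU2
  rw [hk]
  refine (Nat.even_pow.mpr ⟨even_two, ?_⟩)
  rintro rfl
  exact hK.ne_bot h3 (Subgroup.card_eq_one.mp hk)

theorem Ker.odd_of_two [Finite G] [Finite Ω] {a b : Ω} (hab : a ≠ b) {U : Subgroup G} (hK : Ker a U)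
    (h3 : 3 ≤ Nat.card Ω) (hU2 : IsPGroup 2 U) : Odd (Nat.card Ω) := by
  have h1 := hK.even_of_two h3 hU2
  rw [hK.card hab] at h1
  obtain ⟨k, hk⟩ := h1
  exact ⟨k, by omega⟩

theorem s1167 [Finite G] [Finite Ω] (hZ : Cfsg.IsZassenhausGroup G Ω) [IsSimpleGroup G] {a : Ω}
    (U : Subgroup G) (hUle : U ≤ MulAction.stabilizer G a)
    (hUn : ∀ h ∈ MulAction.stabilizer G a, ∀ u ∈ U, h * u * h⁻¹ ∈ U)
    (hreg : ∀ c d : Ω, c ≠ a → d ≠ a → ∃! u : U, (u : G) • c = d)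
    (hU2 : IsPGroup 2 U) (hUab : ∀ u ∈ U, ∀ u' ∈ U, u * u' = u' * u)
    (v : G) (hv1 : v ≠ 1) (hv2 : v * v = 1) (hva : v • a ≠ a) :
    ∃! u₀ : G, u₀ ∈ U ∧ u₀ ≠ 1 ∧ v * u₀ * v = u₀ * v * u₀ := by
  have h := z3_of_zass hZ
  have h3 := three_le_card hZ
  have hK := ker_of_reg' hUle hUn hreg
  have hab := hva.symm
  have hvb : v • v • a = a := by rw [← mul_smul, hv2, one_smul]
  obtain ⟨-, ⟨c, hc, hc'⟩, -⟩ := h.inverts_of_odd_degree (hK.odd_of_two hab h3 hU2) hab hv1 hv2 rfl hvb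
  obtain ⟨p, -, hp, h4, -⟩ := hK.elementary_of_large h hab h3
    (le_of_comm_of_simple hZ hab hK ⟨⟨fun x y => Subtype.ext (hUab x x.2 y y.2)⟩⟩)
  obtain ⟨z, hz, hz1, hz2⟩ := exists_invol_of_even_card (hK.even_of_two h3 hU2)
  have h5 : p = 2 := by
    by_contra hp2
    exact hz1 (eq_one_of_sq_of_odd (hp.odd_of_ne_two hp2) (h4 z hz) hz2)
  have hca : c ≠ a := fun e => hva (by rw [← e, hc])
  have hcb : c ≠ v • a := fun e => hca (by rw [← hvb, ← e, hc])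
  obtain ⟨u, hu, e⟩ := hK.trans hva hca
  have hu2 : u * u = 1 := by rw [← pow_two, ← h5, h4 u hu]
  have huc : u • c = v • a := by rw [← e, ← mul_smul, hu2, one_smul]
  refine ⟨u, ⟨hu, fun e' => hcb (by rw [← e, e', one_smul]), h.ext3 hab hcb.symm hca.symm ?_ ?_ ?_⟩,
    fun w ⟨hw, _, hw2⟩ => hK.eq_of_smul hw hu hva ?_⟩
  · simp only [mul_smul, e, hc, hK.fix u hu]
  · simp only [mul_smul, e, hc, hvb, huc, hK.fix u hu]
  · simp only [mul_smul, hc, hvb, huc, hK.fix u hu]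
  · rw [e]
    refine hc' _ ?_
    have := congrArg (· • a) hw2
    simpa only [mul_smul, hK.fix w hw] using this

end H21
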