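import Mathlib
import Cfsg.Agent.H21.Suz2
import Cfsg.Agent.H21.Higman5
import Cfsg.Agent.H21.Zass8

/-! Zassenhaus groups whose kernel is a non-abelian 2-group have the order of a Suzuki group. -/

set_option autoImplicit false

namespace H21

open Cfsg MulAction H4 Classical
open scoped ComplexConjugate commutatorElement

variable {G Ω : Type*} [Group G] [MulAction G Ω]

namespace SzC

variable [Fintype G] [Finite Ω] {a b : Ω} {F Z : Subgroup G}

theorem inner_ind (h : SzC a b F Z) {ψ θ : stabilizer G a → ℂ} (hθ : IsClassFunction _ θ)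
    (hψ : ∀ x : stabilizer G a, (x : G) ∉ F → ψ x = 0) :
    Nat.card (St2 G a b) * classInner (indFun _ ψ) (indFun _ θ) =
      Nat.card (St2 G a b) * classInner ψ θ + ψ 1 * conj (θ 1) := by
  refine mul_left_cancel₀ (card_ne_zero F) ?_
  rw [mul_add, ← mul_assoc, ← mul_assoc, ← Nat.cast_mul, ← h.card_H,
    classInner_indFun_left _ _ (indFun_classFun _ _), card_mul_classInner, card_mul_classInner,
    Finset.sum_congr rfl (g := fun x => ψ x * conj (θ x) +
      if x = 1 then Nat.card F * (ψ 1 * conj (θ 1)) else 0) fun x _ => ?_, Finset.sum_add_distrib,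
    Finset.sum_ite_eq', if_pos (Finset.mem_univ _)]
  split_ifs with hx
  · rw [hx, OneMemClass.coe_one, indFun_apply_one, h.fs.toZ3.index_stab h.ne, h.card_Ω]
    simp only [map_mul, map_natCast]
    push_cast; ring
  by_cases hF : (x : G) ∈ F
  · rw [h.fs.indFun_of_mem_ker h.ker hθ hF fun e => hx (Subtype.ext e), add_zero]
  · rw [hψ x hF, zero_mul, zero_mul, add_zero]

omit [Fintype G] [Finite Ω] in
theorem normal_Z (h : SzC a b F Z) : (Z.subgroupOf (stabilizer G a)).Normal :=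
  ⟨fun _ hx g => h.conj_mem g.2 hx⟩

theorem degree_eq (h : SzC a b F Z) {ξ : stabilizer G a → ℂ} (hξ : InS a F ξ)
    (hZ : ∀ z ∈ Z.subgroupOf (stabilizer G a), ξ z = ξ 1) : ξ 1 = Nat.card (St2 G a b) := by
  have := h.normal_Z
  obtain ⟨ξ', h1, h2⟩ := H5.exists_irr_deflation (QuotientGroup.mk' (Z.subgroupOf (stabilizer G a)))
    (QuotientGroup.mk'_surjective _) hξ.1 (by
      rw [QuotientGroup.ker_mk']; exact (H5.le_charKer_iff hξ.1.isCharacter).mpr hZ)
  have h3 := h1.degree_le_index_of_comm ((F.subgroupOf (stabilizer G a)).map (QuotientGroup.mk' _))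
    (by
      rintro _ ⟨x, hx, rfl⟩ _ ⟨y, hy, rfl⟩
      rw [← map_mul, ← map_mul, QuotientGroup.mk'_apply, QuotientGroup.mk'_apply, QuotientGroup.eq,
        Subgroup.mem_subgroupOf]
      simpa [commutatorElement_def, mul_assoc] using (Sq_le_iff (C := F)).mpr h.sq
        (comm_mem_Sq (inv_mem hy) (inv_mem hx)))
  have h4 := Nat.le_of_dvd (Nat.pos_of_ne_zero Subgroup.index_ne_zero_of_finite)
    ((F.subgroupOf (stabilizer G a)).index_map_dvd
      (QuotientGroup.mk'_surjective (Z.subgroupOf (stabilizer G a))))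
  rw [h.ker.index_subgroupOf h.fs.toZ3 h.ne] at h4
  obtain ⟨k, hk⟩ := hξ.1.isCharacter.exists_degree_eq_card_mul
    ((St2 G a b).subgroupOf (stabilizer G a)) fun g hg hg1 => hξ.vanish h.fs.toZ3 h.ne h.ker fun hm =>
      hg1 (Subtype.ext (h.ker.eq_one_of_mem_St2 h.ne hm hg))
  rw [Nat.card_congr (Subgroup.subgroupOfEquivOfLe inf_le_left).toEquiv] at hk
  have h5 := hξ.1.apply_one_ne_zero
  have h6 : ξ' 1 = ξ 1 := by rw [h2]; rfl
  rw [h6, hk, ← Nat.cast_mul, Complex.natCast_re, Nat.cast_le] at h3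
  rw [hk] at h5 ⊢
  have h7 : k ≠ 0 := fun e => h5 (by simp [e])
  have h8 := h.large
  rw [show k = 1 by nlinarith [Nat.pos_of_ne_zero h7], Nat.cast_one, mul_one]

theorem not_cube [IsSimpleGroup G] (h : SzC a b F Z) :
    Nat.card F ≠ (Nat.card (St2 G a b) + 1) ^ 3 := by
  intro hN
  obtain ⟨u, hu, hu1⟩ := h.exists_invol
  obtain ⟨r, hr2, hr⟩ := h.exists_pow
  have hnZ := h.normal_Z
  have hnF := h.ker.normal_subgroupOf
  set e := Nat.card (St2 G a b) with he
  have he3 : 3 ≤ e := by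
    have := Nat.pow_le_pow_right (show 0 < 2 by norm_num) hr2
    omega
  have e0 : (e : ℂ) ≠ 0 := card_ne_zero _
  have e1 : (e + 1 : ℂ) ≠ 0 := Nat.cast_add_one_ne_zero e
  let ι := {ξ : IrrCharacter (stabilizer G a) //
    InS a F ξ ∧ ∀ z ∈ Z.subgroupOf (stabilizer G a), ξ.1 z = ξ.1 1}
  let ξ : ι → stabilizer G a → ℂ := fun i => i.1
  have hξ : ∀ i, IsIrrCharacter _ (ξ i) := fun i => i.1.2
  have hξ1 : ∀ i, ξ i 1 = e := fun i => h.degree_eq i.2.1 i.2.2
  have hξ0 : ∀ i (x : stabilizer G a), (x : G) ∉ F → ξ i x = 0 := fun i x =>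
    i.2.1.vanish h.fs.toZ3 h.ne h.ker
  have hinj : Function.Injective ξ := fun i j e => Subtype.ext (Subtype.ext e)
  have hR : P1 (Z.subgroupOf (stabilizer G a)) =
      P1 (F.subgroupOf (stabilizer G a)) + (e : ℂ) • ∑ i, ξ i := by
    refine (P1_char _).classFun.ext_inner ((P1_char _).classFun.add
      ((isClassFunction_sum _ _ fun i _ => (hξ i).classFun).smul _)) fun ψ hψ => ?_
    rw [classInner_add_left, classInner_smul_left, classInner_sum_left, inner_P1_irr _ hψ,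
      inner_P1_irr _ hψ]
    by_cases h1 : InS a F ψ ∧ ∀ z ∈ Z.subgroupOf (stabilizer G a), ψ z = ψ 1
    · rw [if_neg (by push Not; exact h1.2), if_pos h1.1.2, Finset.sum_eq_single (⟨⟨ψ, hψ⟩, h1⟩ : ι)
        (fun i _ hi => (hξ i).inner_of_ne hψ fun e => hi (hinj e)) (by simp), hψ.inner_self,
        h.degree_eq h1.1 h1.2, zero_add, mul_one]
    rw [Finset.sum_eq_zero fun i _ => (hξ i).inner_of_ne hψ fun e => h1 (e ▸ i.2), mul_zero, add_zero]
    refine if_congr ⟨fun ⟨x, hx, h2⟩ => ⟨x, h.le hx, h2⟩, fun h2 => ?_⟩ rfl rfl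
    by_contra h3
    push Not at h3
    exact h1 ⟨⟨hψ, h2⟩, h3⟩
  have hF1 : P1 (F.subgroupOf (stabilizer G a)) 1 = e := by
    rw [P1, indFun_apply_one, h.ker.index_subgroupOf h.fs.toZ3 h.ne, mul_one]
  have hι : (Fintype.card ι : ℤ) = e + 2 := by
    have h1 := card_mul_P1_one (Z.subgroupOf (stabilizer G a))
    rw [hR, Nat.card_congr (Subgroup.subgroupOfEquivOfLe (h.le.trans h.ker.le_stab)).toEquiv, h.card,
      h.card_H, hN, Pi.add_apply, hF1, Pi.smul_apply, Finset.sum_apply] at h1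
    simp only [hξ1, Finset.sum_const, Finset.card_univ, nsmul_eq_mul, smul_eq_mul] at h1
    push_cast at h1
    exact_mod_cast (mul_left_cancel₀ (mul_ne_zero e1 (mul_ne_zero e0 e0)) (by
      linear_combination h1) : (Fintype.card ι : ℂ) = e + 2)
  have hPF : indFun _ (P1 (F.subgroupOf (stabilizer G a))) = P1 F :=
    indFun_indFun F (stabilizer G a) h.ker.le_stab fun _ => 1
  have hPZ : P1 Z = P1 F + (e : ℂ) • ∑ i, indFun _ (ξ i) := by
    rw [← hPF, ← indFun_sum, ← indFun_smul, ← indFun_add, ← hR]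
    exact (indFun_indFun Z (stabilizer G a) (h.le.trans h.ker.le_stab) fun _ => 1).symm
  obtain ⟨i, j, hij⟩ := Fintype.exists_pair_of_one_lt_card (α := ι) (by omega)
  obtain ⟨ε', hε', θ, h1, h2, h3⟩ := exceptional_characters_of_TI i (stabilizer G a) F
    (fun g hg t ht ht' => by by_contra h1; exact hg (h.ker.ti ht h1 ht')) ξ hξ hinj
    (fun i j x hx => by rw [hξ0 i x hx, hξ0 j x hx]) fun i j => by rw [hξ1, hξ1]
  obtain ⟨ε, rfl, hε⟩ : ∃ δ : ℤ, (δ : ℂ) = ε' ∧ (δ = 1 ∨ δ = -1) := by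
    rcases hε' with rfl | rfl
    exacts [⟨1, by simp, Or.inl rfl⟩, ⟨-1, by simp, Or.inr rfl⟩]
  choose m₀ hm₀ using fun χ : IrrCharacter G => χ.2.isCharacter.inner_nat (P1_char F)
  choose m hm using fun (i : ι) (χ : IrrCharacter G) =>
    χ.2.isCharacter.inner_nat (hξ i).isCharacter.indFun
  let t : ι → IrrCharacter G := fun i => ⟨θ i, h1 i⟩
  obtain ⟨h4, h5, h6⟩ := arith_three (e := e) (by exact_mod_cast he3) hι hε t
    (fun i j e => h2 (Subtype.mk.inj e)) (fun i χ => m i χ) (fun χ => m₀ χ)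
    (fun _ _ => Int.natCast_nonneg _) (fun _ => Int.natCast_nonneg _)
    (fun i j => sum_int_coef (indFun_classFun _ _) (hm i) (hm j) (mul_left_cancel₀ e0 (by
      rw [h.inner_ind (hξ j).classFun (hξ0 i), hξ1, hξ1, (hξ i).inner_eq_ite (hξ j),
        if_congr hinj.eq_iff rfl rfl, map_natCast]
      push_cast; ring)))
    (fun i => sum_int_coef (indFun_classFun _ _) (hm i) hm₀ (mul_left_cancel₀ e0 (by
      rw [← hPF, h.inner_ind (P1_char _).classFun (hξ0 i), hξ1, hF1,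
        (hξ i).isCharacter.inner_comm (P1_char _), inner_P1_irr _ (hξ i), if_pos i.2.1.2, map_natCast]
      push_cast; ring)))
    (sum_int_coef (P1_char F).classFun hm₀ hm₀ (by rw [h.inner_F_F]; push_cast; rfl))
    (fun i j χ => by
      have := congrArg (classInner (χ : G → ℂ)) (h3 i j)
      rw [classInner_sub_right, hm, hm, classInner_smul_right, classInner_sub_right, map_intCast,
        irr_inner χ (t i), irr_inner χ (t j)] at this
      exact_mod_cast this) i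
  have hχ := h1 i
  have h7 : θ i ≠ fun _ => 1 := fun e => by
    have := hm i (t i)
    rw [show ((t i : IrrCharacter G) : G → ℂ) = fun _ => 1 from e,
      classInner_indFun_right _ _ (isClassFunction_const 1),
      classInner_comm_of_eq_zero i.2.1.inner_one, show m i (t i) = 1 by exact_mod_cast h4] at this
    simp at this
  have hreal : ∀ k, (fun g => conj (indFun _ (ξ k) g)) = indFun _ (ξ k) := fun k => by
    ext g
    rw [conj_indFun]
    congr 2
    ext x
    rw [← (hξ k).apply_inv]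
    by_cases hx : (x : G) ∈ F
    · rw [← ((H5.mem_charKer_iff (hξ k).isCharacter).mpr (k.2.2 (x * x) (h.sq _ hx))) x⁻¹,
        mul_inv_cancel_right]
    · rw [hξ0 k x hx, hξ0 k x⁻¹ fun e => hx (inv_mem_iff.mp e)]
  have h8 : (fun g => conj (θ i g)) = θ i := by
    have h9 : ((fun g => conj (θ i g)) - fun g => conj (θ j g)) = θ i - θ j := by
      ext g
      have h10 := congrFun (h3 i j) g
      have h11 := congrArg conj h10
      rw [Pi.sub_apply, map_sub, congrFun (hreal i) g, congrFun (hreal j) g, ← Pi.sub_apply, h10]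
        at h11
      simp only [Pi.smul_apply, smul_eq_mul, map_mul, map_intCast, Pi.sub_apply, map_sub] at h11 ⊢
      exact (mul_left_cancel₀ (by rcases hε with rfl | rfl <;> simp) h11).symm
    refine hχ.conj.eq_of_inner_ne_zero hχ fun h10 => ?_
    have h11 := congrArg (fun f => classInner f (θ i)) h9
    simp only [classInner_sub_left] at h11
    rw [h10, hχ.inner_self, (h1 j).inner_of_ne hχ fun e => hij (h2 e).symm,
      (h1 j).conj.inner_eq_ite hχ] at h11
    split_ifs at h11 <;> norm_num at h11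
  have h9 := h.fs_formula hχ h7 hu hu1
  have h10 := h.sum_Z hχ.classFun hu hu1
  have h11 : ∑ k, classInner (θ i) (indFun _ (ξ k)) = 1 := by
    rw [Finset.sum_congr rfl fun k _ => hm k (t i)]
    exact_mod_cast h5
  rw [hPZ, classInner_add_right, classInner_smul_right, classInner_sum_right, h11, map_natCast] at h10
  rw [hN] at h9
  rw [hm₀ (t i)] at h9 h10
  push_cast at h9
  have h12 : θ i u = fsInd (θ i) * (e + 1) + m₀ (t i) - 1 :=
    mul_left_cancel₀ (mul_ne_zero e0 (pow_ne_zero 2 e1)) (by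
      linear_combination (e + 1 : ℂ) * h10 - h9)
  have h13 : θ i 1 = m₀ (t i) + e * (e + 2) - fsInd (θ i) * e * (e + 1) := by
    linear_combination -h10 - e * h12
  rcases hχ.fsInd_spec.1 (isReal_iff_conj_eq.mpr h8) with h14 | h14 <;> rw [h14] at h12 h13
  · exact hu1 (hχ.eq_one_of_apply_eq_of_simple h7 (by rw [h12, h13]; ring))
  have h15 := Int.natCast_dvd_natCast.mpr (hχ.degree_dvd_card
    (d := m₀ (t i) + e * (2 * e + 3)) (by rw [h13]; push_cast; ring))
  rw [h.card_G, hN] at h15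
  push_cast at h15
  have h16 : (3 : ℤ) ≤ e := by exact_mod_cast he3
  rcases (by omega : (m₀ (t i) : ℤ) = 0 ∨ (m₀ (t i) : ℤ) = 1) with h17 | h17 <;> rw [h17] at h15
  · rw [zero_add, ← mul_assoc, mul_comm, mul_dvd_mul_iff_right (by omega)] at h15
    have h18 : 2 * (e : ℤ) + 3 ∣ 7 := by
      have := (h15.mul_left 64).sub (Dvd.intro ((4 * (e + 1) ^ 2 - 2 * (e + 1) + 1) *
        (8 * (e + 1) ^ 3 + 7)) rfl)
      rw [← dvd_neg]
      convert this using 1
      ring
    have := Int.le_of_dvd (by norm_num) h18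
    omega
  · have h18 : 2 * (e : ℤ) + 1 ∣ 9 := by
      have h19 : 2 * (e : ℤ) + 1 ∣ 1 + e * (2 * e + 3) := ⟨e + 1, by ring⟩
      have := ((h19.trans h15).mul_left 128).sub (Dvd.intro (64 * (e + 1) ^ 6 - 32 * (e + 1) ^ 5
        - 16 * (e + 1) ^ 4 + 56 * (e + 1) ^ 3 - 36 * (e + 1) ^ 2 - 18 * (e + 1) - 9) rfl)
      rw [← dvd_neg]
      convert this using 1
      ring
    have h19 := Int.le_of_dvd (by norm_num) h18
    obtain ⟨s, hs⟩ := (Even.pow_of_ne_zero (even_two (α := ℕ)) (show r ≠ 0 by omega))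
    obtain ⟨c, hc⟩ := h18
    rw [show (e : ℤ) = 3 by omega] at hc
    omega

end SzC

/-- the conjugation action of the two-point stabiliser on the kernel -/
abbrev Ker.act {a b : Ω} {F : Subgroup G} (hK : Ker a F) : MulDistribMulAction (St2 G a b) F where
  smul k x := ⟨k * x * (k : G)⁻¹, hK.conj _ (mem_St2.mp k.2).1 _ x.2⟩
  one_smul x := Subtype.ext (by change (1 : G) * x * 1⁻¹ = x; group)
  mul_smul k l x := Subtype.ext (by
    change (k : G) * l * x * ((k : G) * l)⁻¹ = k * (l * x * (l : G)⁻¹) * (k : G)⁻¹; group)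
  smul_mul k x y := Subtype.ext (by
    change (k : G) * (x * y) * (k : G)⁻¹ = k * x * (k : G)⁻¹ * (k * y * (k : G)⁻¹); group)
  smul_one k := Subtype.ext (by change (k : G) * 1 * (k : G)⁻¹ = 1; group)

theorem FS.szH [Finite G] [Finite Ω] (h : FS G Ω) {a b : Ω} (hab : a ≠ b) {F : Subgroup G}
    (hK : Ker a F) (h2 : IsPGroup 2 F) (h3 : 3 ≤ Nat.card Ω) (he : 2 ≤ Nat.card (St2 G a b)) :
    letI := hK.act (b := b); SzH (St2 G a b) F := by
  let _ := hK.act (b := b)
  refine ⟨h2, fun k l => Subtype.ext (h.comm hab k.2 l.2), fun {x y} h4 h5 h6 h7 => ?_,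
    fun {k x} h4 _ h6 => ?_, ?_⟩
  · obtain ⟨k, hk, e⟩ := h.exists_conj_invol_ker hab hK (orderOf_eq_two_iff'.mpr
      ⟨fun e => h4 (Subtype.ext e), congrArg Subtype.val h5⟩) x.2 (orderOf_eq_two_iff'.mpr
      ⟨fun e => h6 (Subtype.ext e), congrArg Subtype.val h7⟩) y.2
    exact ⟨⟨k, hk⟩, Subtype.ext e⟩
  · by_contra h7
    exact h4 (Subtype.ext (hK.fpf h.toZ3 hab k.2 (fun e => h7 (Subtype.ext e)) x.2
      (mul_inv_eq_iff_eq_mul.mp (congrArg Subtype.val h6))))
  · rw [← h.card_invol_ker_of_even hab hK (hK.card hab ▸ hK.even_of_two h3 h2)] at he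
    obtain ⟨⟨x, hx, hxF⟩, ⟨y, hy, hyF⟩, hxy⟩ := Finite.one_lt_card_iff_nontrivial.mp he
    obtain ⟨h4, h5⟩ := orderOf_eq_two_iff'.mp hx
    obtain ⟨h6, h7⟩ := orderOf_eq_two_iff'.mp hy
    exact ⟨⟨x, hxF⟩, ⟨y, hyF⟩, fun e => hxy (Subtype.ext (Subtype.mk.inj e)),
      fun e => h4 (Subtype.mk.inj e), Subtype.ext h5, fun e => h6 (Subtype.mk.inj e), Subtype.ext h7⟩

theorem FS.szC [Finite G] [Finite Ω] (h : FS G Ω) {a b : Ω} (hab : a ≠ b) {F : Subgroup G}
    (hK : Ker a F) (h2 : IsPGroup 2 F) (h3 : 3 ≤ Nat.card Ω) (he : 2 ≤ Nat.card (St2 G a b))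
    (hna : ∃ x y : F, x * y ≠ y * x) : ∃ Z, SzC a b F Z := by
  let _ := hK.act (b := b)
  have hS := h.szH hab hK h2 h3 he
  have h4 : ∀ x, x ∈ hS.Om.map F.subtype ↔ x ∈ F ∧ x * x = 1 := fun x =>
    ⟨by rintro ⟨y, hy, rfl⟩; exact ⟨y.2, congrArg Subtype.val (hS.mem_Om.mp hy)⟩,
      fun hx => ⟨⟨x, hx.1⟩, Subtype.ext hx.2, rfl⟩⟩
  refine ⟨hS.Om.map F.subtype, h, hab, hK, h2, h4, fun x hx => ⟨_, hS.sq_mem_Om hna ⟨x, hx⟩, rfl⟩,
    ?_, by rw [Subgroup.card_subtype, hS.card_K], he⟩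
  rw [Subgroup.subgroupOf, Subgroup.comap_map_eq_self_of_injective F.subtype_injective]
  refine hS.Om_le (kinv_top.commutator kinv_top) fun e => ?_
  obtain ⟨x, y, hxy⟩ := hna
  exact hxy (commutatorElement_eq_one_iff_mul_comm.mp (Subgroup.mem_bot.mp
    (e ▸ Subgroup.commutator_mem_commutator (Subgroup.mem_top x) (Subgroup.mem_top y))))

/-- Suzuki: the kernel has order `q ^ 2` with `q` an odd power of two -/
theorem suzuki_order [Finite G] [Finite Ω] (hZ : IsZassenhausGroup G Ω) [IsSimpleGroup G] {a b : Ω}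
    (hab : a ≠ b) {F : Subgroup G} (hK : Ker a F) (h2 : IsPGroup 2 F)
    (hna : ∃ x y : F, x * y ≠ y * x) : FS G Ω ∧ ∃ n : ℕ, Odd n ∧ 1 < n ∧
      Nat.card (St2 G a b) + 1 = 2 ^ n ∧ Nat.card F = (Nat.card (St2 G a b) + 1) ^ 2 := by
  have := Fintype.ofFinite G
  have h3 := three_le_card hZ
  have he := two_le_card_St2 hZ hab
  have h := fs_of_simple hZ hab (Nat.coprime_two_right.mp
    (Nat.Coprime.coprime_dvd_right (hK.even_of_two h3 h2).two_dvd (hK.coprime (z3_of_zass hZ) hab)))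
  obtain ⟨Z, hC⟩ := h.szC hab hK h2 h3 he hna
  let _ := hK.act (b := b)
  have hS := h.szH hab hK h2 h3 he
  have h4 := hS.card_eq hna
  rw [← hS.card_K] at h4
  obtain ⟨n, h5, h6⟩ := hC.exists_pow
  have h7 := h4.resolve_right hC.not_cube
  exact ⟨h, n, hC.odd_of_sq h7 h6, h5, h6, h7⟩

theorem s1147 [Finite G] [Finite Ω] (hZ : Cfsg.IsZassenhausGroup G Ω) [IsSimpleGroup G] {a b : Ω}
    (hab : a ≠ b) (U : Subgroup G) (hUle : U ≤ MulAction.stabilizer G a)
    (hUn : ∀ h ∈ MulAction.stabilizer G a, ∀ u ∈ U, h * u * h⁻¹ ∈ U)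
    (hreg : ∀ c d : Ω, c ≠ a → d ≠ a → ∃! u : U, (u : G) • c = d)
    (hU2 : IsPGroup 2 U) (hUna : ∃ u ∈ U, ∃ v ∈ U, u * v ≠ v * u) :
    ∃ n : ℕ, Odd n ∧ 1 < n ∧ Nat.card Ω = 2 ^ (2 * n) + 1 ∧
      IsCyclic ↥(MulAction.stabilizer G a ⊓ MulAction.stabilizer G b) ∧
      Nat.card ↥(MulAction.stabilizer G a ⊓ MulAction.stabilizer G b) = 2 ^ n - 1 ∧
      ∃ (F : Type) (_ : Field F) (_ : Fintype F) (φ : F ≃+* F), Fintype.card F = 2 ^ n ∧
        Nonempty (U ≃* Cfsg.suzukiTypeA F (φ : F →+* F)) := by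
  have hK := ker_of_reg' hUle hUn hreg
  have hna : ∃ x y : U, x * y ≠ y * x := by
    obtain ⟨u, hu, v, hv, h⟩ := hUna
    exact ⟨⟨u, hu⟩, ⟨v, hv⟩, fun e => h (congrArg Subtype.val e)⟩
  obtain ⟨h, n, h1, h2, h3, h4⟩ := suzuki_order hZ hab hK hU2 hna
  let _ := hK.act (b := b)
  have hS := h.szH hab hK hU2 (three_le_card hZ) (two_le_card_St2 hZ hab)
  obtain ⟨F, _, _, hF⟩ := hS.exists_field
  obtain ⟨φ, π, η, χ, -, -, h5⟩ := hS.exists_typeA hna (by rw [← hS.card_K, h4]) hF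
  refine ⟨n, h1, h2, ?_, (s0345 hZ hab).1, by rw [← h3]; rfl, F, _, _, φ,
    by rw [← Nat.card_eq_fintype_card, hF, h3], h5.iso⟩
  have := two_le_card_of_ne hab
  rw [mul_comm, pow_mul, ← h3, ← h4, hK.card hab]
  omega

theorem isSuzuki_of_ker [Finite G] [Finite Ω] (hZ : IsZassenhausGroup G Ω) [hs : IsSimpleGroup G]
    {a : Ω} {F : Subgroup G} (hK : Ker a F) (h2 : IsPGroup 2 F) (hna : ∃ x y : F, x * y ≠ y * x) :
    IsSuzuki G := by
  obtain ⟨b, hab⟩ := exists_pair hZ a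
  obtain ⟨h, n, ⟨m, rfl⟩, h2, h3, h4⟩ := suzuki_order hZ hab hK h2 hna
  refine ⟨hs, m, by omega, ?_⟩
  have := two_le_card_of_ne hab
  rw [h.toZ3.card_G hab, ← hK.card hab, show Nat.card Ω = Nat.card F + 1 by rw [hK.card hab]; omega,
    h4, ← h3, Nat.add_sub_cancel]
  ring

end H21
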