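import Mathlib
import Cfsg.Agent.H21.Suz3
import Cfsg.Agent.H21.Feit4

/-! Simple Zassenhaus groups with large two-point stabiliser. -/

set_option autoImplicit false

namespace H21

open Cfsg MulAction
open scoped MatrixGroups

variable {G Ω : Type*} [Group G] [MulAction G Ω]

theorem pgl_iso_psl_of_even (K : Type*) [Field K] [Finite K] (h : Even (Nat.card K)) :
    Nonempty (PGL(2, K) ≃* PSL(2, K)) := by
  refine ⟨(MulEquiv.ofBijective Matrix.ProjectiveSpecialLinearGroup.toPGL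
    ⟨Matrix.ProjectiveSpecialLinearGroup.toPGL_injective,
      Matrix.ProjectiveSpecialLinearGroup.toPGL_surj_of_roots fun r => ?_⟩).symm⟩
  obtain ⟨k, hk⟩ := exists_pow_sq_eq_of_odd (x := r) (n := Nat.card Kˣ) (by
    rw [Nat.card_units]; exact Nat.Even.sub_odd Nat.card_pos h odd_one) pow_card_eq_one'
  exact ⟨r ^ k, by rw [Fintype.card_fin, pow_two, hk]⟩

theorem iso_psl_of_large [Finite G] [Finite Ω] (hZ : IsZassenhausGroup G Ω) [hs : IsSimpleGroup G]
    {a b : Ω} (hab : a ≠ b) (hd : Nat.card Ω - 2 ≤ 2 * Nat.card (St2 G a b)) :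
    ∃ (K : Type) (_ : Field K) (_ : Fintype K), Nat.card K = Nat.card Ω - 1 ∧
      Nonempty (G ≃* PSL(2, K)) := by
  have h := z3_of_zass hZ
  have h3 := three_le_card hZ
  have := hZ.1
  obtain ⟨p, f, K, _, _, -, -, hc⟩ := h.exists_field h3 hab hd
  obtain ⟨F, hK⟩ := h.exists_ker hab
  refine ⟨K, inferInstance, inferInstance, hc, ?_⟩
  rcases cases_of_comm hZ hab hK (hK.isMulCommutative_of_large h hab hd) with h1 | h1
  · have h2 := h.sh3_of_card hab h1.ge
    obtain ⟨s, hsa, hsb⟩ := h.two hab hab.symm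
    obtain ⟨e⟩ := h2.iso_pgl h3 hab hsa hsb (simple_inverts hZ hab hsa hsb) K hc
    obtain ⟨e'⟩ := pgl_iso_psl_of_even K (by
      rw [hc]
      exact Nat.Odd.sub_odd (Nat.not_even_iff_odd.mp fun e => h2.not_simple h3 e hs) odd_one)
    exact ⟨e.trans e'⟩
  · exact iso_psl_of_simple hZ hab h1.1 K hc

end H21
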