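import Mathlib
import Cfsg.Agent.H8.SuzK
import Cfsg.Agent.H21.FieldAut
import Cfsg.Agent.H21.Recog

/-! Sylow `2`-subgroups of `Q`, the quotient `V / W`, and a lower bound for `|L|`. -/

set_option autoImplicit false

namespace H21

open Cfsg MulAction H8.Suz

theorem isCyclic_ringAut (F : Type*) [Field F] [Finite F] : IsCyclic (F ≃+* F) := by
  obtain ⟨p, hp⟩ := CharP.exists F
  haveI := Fact.mk (CharP.char_is_prime F p)
  letI := ZMod.algebra F p
  let f : (F ≃ₐ[ZMod p] F) →* (F ≃+* F) :=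
    { toFun := fun σ => σ.toRingEquiv
      map_one' := rfl
      map_mul' := fun _ _ => rfl }
  refine isCyclic_of_surjective f fun σ => ⟨{ σ with commutes' := fun r => ?_ }, rfl⟩
  exact congrArg (fun g : ZMod p →+* F => g r)
    (Subsingleton.elim ((σ : F →+* F).comp (algebraMap (ZMod p) F)) (algebraMap (ZMod p) F))

theorem SzH.isSuzukiTwo {K P P' : Type*} [Group P] [Group K] [MulDistribMulAction K P] [Finite P]
    [Group P'] [IsCyclic K] (h : SzH K P) (e : P ≃* P') (hna : ∃ x y : P', x * y ≠ y * x) :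
    IsSuzukiTwoGroup P' := by
  let ψ : K →* MulAut P' := (MulAut.congr e).toMonoidHom.comp (MulDistribMulAction.toMulAut K P)
  have hψ : ∀ k x, ψ k (e x) = e (k • x) := fun k x => by simp [ψ]
  refine ⟨Finite.of_equiv _ e.toEquiv, h.two.of_equiv e, hna, ?_, ψ.range,
    isCyclic_of_surjective _ ψ.rangeRestrict_surjective, fun x y hx1 hx2 hy1 hy2 => ?_⟩
  · obtain ⟨x, y, h1, h2, h3, h4, h5⟩ := h.many
    exact ⟨e x, e y, by simpa using h1, by simpa using h2, by rw [← map_mul, h3, map_one],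
      by simpa using h4, by rw [← map_mul, h5, map_one]⟩
  · obtain ⟨x, rfl⟩ := e.surjective x
    obtain ⟨y, rfl⟩ := e.surjective y
    have hx1' : x ≠ 1 := by simpa using hx1
    have hx2' : x * x = 1 := e.injective (by rw [map_mul, hx2, map_one])
    obtain ⟨k, hk⟩ := h.trans hx1' hx2' (show y ≠ 1 by simpa using hy1)
      (e.injective (by rw [map_mul, hy2, map_one]))
    refine ⟨⟨ψ k, k, rfl⟩, by simp only [hψ, hk], ?_⟩
    rintro ⟨_, l, rfl⟩ hl
    have h1 : l • x = y := e.injective ((hψ l x).symm.trans hl)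
    have h2 : k⁻¹ * l = 1 := h.free hx1' hx2' (by rw [mul_smul, h1, ← hk, inv_smul_smul])
    rw [inv_mul_eq_one] at h2
    subst h2
    rfl

variable {G Ω : Type*} [Group G] [Finite G] [MulAction G Ω] {a : Ω} {t : G} {Q : Subgroup G} {s r : G}

theorem s1132 (hG : Hyp G Ω a t Q s r) (S : Sylow 2 Q) :
    IsMulCommutative (S : Subgroup Q) ∨ IsSuzukiTwoGroup (S : Subgroup Q) := by
  by_cases hc : ∀ x y : (S : Subgroup Q), x * y = y * x
  · exact Or.inl ⟨⟨hc⟩⟩
  right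
  push Not at hc
  haveI := hG.nilpotent_Q
  have hn : (S : Subgroup Q).Normal := inferInstance
  haveI := Sylow.unique_of_normal S hn
  have hmem : ∀ x ∈ Q, (∃ n, x ^ 2 ^ n = 1) → x ∈ (S : Subgroup Q).map Q.subtype := by
    rintro x hx ⟨n, h⟩
    have h1 : IsPGroup 2 (Subgroup.zpowers (⟨x, hx⟩ : Q)) := by
      rintro ⟨_, m, rfl⟩
      refine ⟨n, Subtype.ext (Subtype.ext ?_)⟩
      change (x ^ m) ^ 2 ^ n = 1
      rw [← zpow_natCast, ← zpow_mul, mul_comm, zpow_mul, zpow_natCast, h, one_zpow]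
    obtain ⟨T, hT⟩ := h1.exists_le_sylow
    rw [Subsingleton.elim T S] at hT
    exact ⟨⟨x, hx⟩, hT (Subgroup.mem_zpowers _), rfl⟩
  have h2 : IsPGroup 2 ((S : Subgroup Q).map Q.subtype) := S.2.map _
  have hK : KK a t ≤ Subgroup.normalizer ((S : Subgroup Q).map Q.subtype : Set G) := by
    refine le_normalizer_of_conj fun k hk x hx => hmem _
      (hG.conj_Q (KK_le hk) (Subgroup.map_subtype_le _ hx)) ?_
    obtain ⟨n, hn⟩ := h2 ⟨x, hx⟩
    have hn' : x ^ 2 ^ n = 1 := congrArg Subtype.val hn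
    refine ⟨n, ?_⟩
    have := conj_pow (i := 2 ^ n) (a := k⁻¹) (b := x)
    rw [inv_inv] at this
    rw [this, hn', mul_one, inv_mul_cancel]
  letI := actOn (KK a t) _ hK
  haveI := hG.isCyclic_KK
  exact (hG.szH (Subgroup.map_subtype_le _) (fun z hz => hmem z (Q0_le hz)
    ⟨1, by rw [pow_one, pow_two, (hG.mem_Q0.mp hz).2]⟩) h2 hK).isSuzukiTwo
    (Subgroup.equivMapOfInjective _ _ Q.subtype_injective).symm hc

theorem s1133 (hG : Hyp G Ω a t Q s r) :
    ∃ v ∈ VV a t, WW a t Q ⊔ Subgroup.closure {v} = VV a t := by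
  obtain ⟨F, _, _, e, κ, h⟩ := hG.exists_fld
  have h1 : ∀ v : VV a t, ∃ σ : F ≃+* F, ∀ x, (v : G) * e x * (v : G)⁻¹ = e (σ x) := fun v => by
    simpa using h.conjV _ (v⁻¹).2
  choose σ hσ using h1
  let ψ : VV a t →* (F ≃+* F) := MonoidHom.mk' σ fun v w => RingEquiv.ext fun x => h.inj (by
    rw [← hσ, RingAut.mul_apply, ← hσ, ← hσ, Subgroup.coe_mul]; group)
  haveI := isCyclic_ringAut F
  have hψ : ∀ v, ψ v = σ v := fun _ => rfl
  clear_value ψ
  obtain ⟨⟨_, v, rfl⟩, hv⟩ := IsCyclic.exists_generator (α := ψ.range)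
  refine ⟨v, v.2, le_antisymm (sup_le hG.WW_le_VV ((Subgroup.closure_le _).mpr ?_)) fun u hu => ?_⟩
  · rintro _ rfl
    exact v.2
  obtain ⟨n, hn⟩ := hv ⟨ψ ⟨u, hu⟩, _, rfl⟩
  have hn' : ψ (v ^ n) = ψ ⟨u, hu⟩ := by rw [map_zpow]; exact congrArg Subtype.val hn
  obtain ⟨w, hw⟩ : ∃ w : VV a t, w = ⟨u, hu⟩ * (v ^ n)⁻¹ := ⟨_, rfl⟩
  have h2 : σ w = 1 := by rw [← hψ, hw, map_mul, map_inv, hn', mul_inv_cancel]
  have h3 : (w : G) ∈ WW a t Q := by
    refine mem_WW.mpr ⟨w.2.1, fun z hz => ?_⟩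
    obtain ⟨x, rfl⟩ := h.surj z hz
    have := hσ w x
    rw [h2, mul_inv_eq_iff_eq_mul] at this
    exact this.symm
  have : u = w * (v : G) ^ n := by simp [hw]
  rw [this]
  exact Subgroup.mul_mem_sup h3 (Subgroup.zpow_mem _ (Subgroup.subset_closure (Set.mem_singleton _)) n)

theorem WW_eq (hG : Hyp G Ω a t Q s r) :
    WW a t Q = VV a t ⊓ Subgroup.centralizer (invertedBy (DD a t) t) := by
  ext w
  rw [hG.mem_WW_iff, ← hG.coe_KK]
  rfl

theorem card_LL_ge (hG : Hyp G Ω a t Q s r) :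
    Nat.card Q * Nat.card (KK a t) * (Nat.card Q + 1) ≤ Nat.card (LL t Q) := by
  have hm : ∀ (x : Q) (k : KK a t), (x : G) * k ∈ LL t Q := fun x k =>
    Subgroup.mul_mem _ (le_LL x.2) (hG.KK_le_LL k.2)
  have hf : ∀ (x : Q) (k : KK a t), ((x : G) * k) • a = a := fun x k => by
    rw [mul_smul, show (k : G) • a = a from (KK_le k.2).1, RankOne.Q_fix hG.setup x.2]
  let φ : (Q × KK a t) × Option Q → LL t Q := fun p =>
    match p with
    | ((x, k), none) => ⟨x * k, hm x k⟩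
    | ((x, k), some y) => ⟨x * k * t * y,
        Subgroup.mul_mem _ (Subgroup.mul_mem _ (hm x k) t_mem_LL) (le_LL y.2)⟩
  have hne : ∀ (x x' y : Q) (k k' : KK a t), (x : G) * k ≠ x' * k' * t * y := by
    intro x x' y k k' e
    have := congrArg (· • a) e
    simp only [hf] at this
    rw [mul_smul, mul_smul, RankOne.Q_fix hG.setup y.2] at this
    exact RankOne.smul_ne_of_fix (hf x' k') (RankOne.ta_ne hG.setup) this.symm
  have hinj : Function.Injective φ := by
    rintro ⟨⟨x, k⟩, _ | y⟩ ⟨⟨x', k'⟩, _ | y'⟩ e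
    · obtain ⟨h1, h2⟩ := RankOne.QD_unique hG.setup x.2 x'.2 (KK_le k.2) (KK_le k'.2)
        (congrArg Subtype.val e)
      rw [Subtype.ext h1, Subtype.ext h2]
    · exact absurd (congrArg Subtype.val e) (hne _ _ _ _ _)
    · exact absurd (congrArg Subtype.val e).symm (hne _ _ _ _ _)
    · obtain ⟨h1, h2, h3⟩ := RankOne.canonical_unique3 hG.setup x.2 (KK_le k.2) y.2 x'.2
        (KK_le k'.2) y'.2 (congrArg Subtype.val e)
      rw [Subtype.ext h1, Subtype.ext h2, Subtype.ext h3]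
  have := Nat.card_le_card_of_injective φ hinj
  rwa [Nat.card_prod, Nat.card_prod, Finite.card_option] at this

/-- `Ω` is `Q` together with the point `a`. -/
theorem exists_equiv_option (hG : Hyp G Ω a t Q s r) {X : Type*} (π : X → G) (h1 : ∀ x, π x ∈ Q)
    (h2 : Function.Injective π) (h3 : ∀ y ∈ Q, ∃ x, π x = y) :
    ∃ e : Option X ≃ Ω, e none = a ∧ ∀ x, e (some x) = π x • t • a := by
  refine ⟨Equiv.ofBijective (fun o => o.elim a fun x => π x • t • a) ⟨?_, fun c => ?_⟩, rfl,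
    fun _ => rfl⟩
  · have hne : ∀ x, π x • t • a ≠ a := fun x =>
      RankOne.smul_ne_of_fix (RankOne.Q_fix hG.setup (h1 x)) (RankOne.ta_ne hG.setup)
    rintro (_ | x) (_ | y) e
    · rfl
    · exact absurd e.symm (hne y)
    · exact absurd e (hne x)
    · rw [h2 (RankOne.eq_of_mem_Q_of_smul_eq hG.setup (h1 x) (h1 y) (RankOne.ta_ne hG.setup) e)]
  · by_cases hc : c = a
    · exact ⟨none, hc.symm⟩
    · obtain ⟨q, hq, rfl⟩ := RankOne.exists_Q_smul_b hG.setup hc
      obtain ⟨x, rfl⟩ := h3 q hq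
      exact ⟨some x, rfl⟩

theorem iso_LL (hG : Hyp G Ω a t Q s r) {X : Type*} (e : X ≃ Ω) (L : Type*) [Group L]
    [MulAction L X] [FaithfulSMul L X] [Finite L] (h1 : Q ≤ actSub G e L) (h2 : t ∈ actSub G e L)
    (hc : Nat.card L ≤ Nat.card Q * Nat.card (KK a t) * (Nat.card Q + 1)) :
    Nonempty (LL t Q ≃* L) := by
  haveI := hG.faithfulSMul
  have h3 : LL t Q ≤ actSub G e L := sup_le h1 (Subgroup.zpowers_le.mpr h2)
  exact iso_of_actSub e L (eq_top_iff.mpr fun g _ => h3 g.2) (hc.trans (card_LL_ge hG))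

end H21
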