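import Mathlib
import Cfsg.Agent.H21.FieldAut

/-! Field computations for the identification of the Suzuki groups. -/

set_option autoImplicit false

namespace H21

variable {F : Type*} [Field F]

theorem line_arg (h2 : (2 : F) = 0) (θ : F ≃+* F) {x y e : F} (hx : x ≠ 0) (hy : y ≠ 0) (he : e ≠ 0)
    (R1 : θ x / x + θ y / y = e) (R2 : θ (θ x) / x + θ (θ y) / y = e)
    (R3 : θ (θ (θ x)) / x + θ (θ (θ y)) / y = e) : False := by
  have S1 := congrArg θ R1
  have S2 := congrArg θ R2
  simp only [map_add, map_div₀] at S1 S2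
  have hx1 : θ x ≠ 0 := by simpa using hx
  have hy1 : θ y ≠ 0 := by simpa using hy
  have T1 : (θ (θ x) - θ (θ (θ x))) / x = -(θ (θ y) - θ (θ (θ y))) / y := by
    linear_combination R2 - R3
  have T2 : (θ (θ x) - θ (θ (θ x))) / θ x = -(θ (θ y) - θ (θ (θ y))) / θ y := by
    linear_combination S1 - S2
  by_cases h : θ (θ x) - θ (θ (θ x)) = 0
  · have h' : θ (θ y) - θ (θ (θ y)) = 0 := by
      rw [h, zero_div, eq_comm, div_eq_zero_iff, neg_eq_zero] at T1
      exact T1.resolve_right hy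
    have e1 : x = θ x := θ.injective (θ.injective (sub_eq_zero.mp h))
    have e2 : y = θ y := θ.injective (θ.injective (sub_eq_zero.mp h'))
    rw [← e1, ← e2, div_self hx, div_self hy] at R1
    exact he (by linear_combination h2 - R1)
  · have e1 : θ x / x = θ y / y := by
      apply mul_left_cancel₀ h
      field_simp at T1 T2 ⊢
      apply mul_left_cancel₀ hy1
      apply mul_left_cancel₀ hx1
      have : (θ (θ x) - θ (θ (θ x))) * y * θ x = (θ (θ x) - θ (θ (θ x))) * θ y * x := by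
        linear_combination θ x * T1 - x * T2
      have := mul_left_cancel₀ h (show (θ (θ x) - θ (θ (θ x))) * (y * θ x) =
        (θ (θ x) - θ (θ (θ x))) * (θ y * x) by linear_combination this)
      linear_combination θ x * θ y * this
    rw [e1] at R1
    exact he (by linear_combination (θ y / y) * h2 - R1)

theorem u_zero_or_one [Finite F] (h2 : (2 : F) = 0) (θ : F ≃+* F) (h1 : θ ≠ 1) (hsq : θ * θ ≠ 1)
    (u : F) (M : F →+ F) (hM : ∀ y, M (u * θ y + (u + 1) * y) = u * y + (u + 1) * θ y)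
    {A B E : F} (hA : A ≠ 0) (hB : B ≠ 0)
    (h : ∀ z, M z = E * (A * M (z / A) + B * M (z / B))) : u = 0 ∨ u = 1 := by
  classical
  letI := Fintype.ofFinite (F ≃+* F)
  obtain ⟨μ, hμ⟩ := exists_coeff_addMonoidHom M
  have c1 : μ = fun σ => E * μ σ * (A / σ A + B / σ B) := by
    refine coeff_unique fun z => ?_
    rw [← hμ, h, hμ, hμ, Finset.mul_sum, Finset.mul_sum, ← Finset.sum_add_distrib, Finset.mul_sum]
    refine Finset.sum_congr rfl fun σ _ => ?_
    simp only [map_div₀]
    ring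
  have c2 : (fun τ => μ (τ * θ⁻¹) * (τ * θ⁻¹) u + μ τ * τ (u + 1)) =
      fun τ => (if τ = 1 then u else 0) + (if τ = θ then u + 1 else 0) := by
    refine coeff_unique fun y => ?_
    simp only [add_mul, Finset.sum_add_distrib, ite_mul, zero_mul, Finset.sum_ite_eq',
      Finset.mem_univ, if_true]
    have e1 : ∑ τ : F ≃+* F, μ (τ * θ⁻¹) * (τ * θ⁻¹) u * τ y = ∑ σ : F ≃+* F, μ σ * σ u * σ (θ y) :=
      (Fintype.sum_equiv (Equiv.mulRight θ) _ _ fun σ => by simp).symm
    have e2 := hM y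
    rw [hμ] at e2
    rw [e1, ← Finset.sum_add_distrib]
    refine Eq.trans (Finset.sum_congr rfl fun σ _ => ?_) (e2.trans ?_)
    · simp only [map_add, map_mul]; ring
    · change _ = u * y + _
      ring
  have μ1 : μ 1 = 0 := by
    have := congrFun c1 1
    rw [show (1 : F ≃+* F) A = A from rfl, show (1 : F ≃+* F) B = B from rfl, div_self hA,
      div_self hB] at this
    linear_combination this + E * μ 1 * h2
  by_contra hu
  push Not at hu
  have hu1 : u + 1 ≠ 0 := fun h => hu.2 (by linear_combination h - h2)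
  have d1 := congrFun c2 θ
  simp only [mul_inv_cancel, μ1, zero_mul, zero_add, if_neg h1, if_true] at d1
  have hθθ : θ * θ ≠ θ := by simpa using h1
  have d2 := congrFun c2 (θ * θ)
  simp only [mul_inv_cancel_right, if_neg hsq, if_neg hθθ, add_zero] at d2
  have hθθθ : θ * θ * θ ≠ θ := by simpa using hsq
  have d3 := congrFun c2 (θ * θ * θ)
  simp only [mul_inv_cancel_right, if_neg hθθθ, add_zero] at d3
  have m1 : μ θ ≠ 0 := fun h => hu1 (by rw [← d1, h, zero_mul])
  have m2 : μ (θ * θ) ≠ 0 := fun h => by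
    rw [h, zero_mul, add_zero] at d2
    exact mul_ne_zero m1 (by simpa using hu.1) d2
  by_cases h3 : θ * θ * θ = 1
  · rw [h3, μ1, zero_mul, add_zero, if_pos rfl] at d3
    simp only [RingAut.mul_apply, map_add, map_one] at d1 d2 d3
    have k3 : θ (θ (θ u)) = u := congrArg (fun σ : F ≃+* F => σ u) h3
    have r0 : (u + 1) * θ u * θ (θ u) = u * (θ u + 1) * (θ (θ u) + 1) := by
      linear_combination (-(θ u) * θ (θ u)) * d1 + ((θ u + 1) * θ (θ u)) * d2
        + (θ u + 1) * (θ (θ u) + 1) * d3 - μ (θ * θ) * θ (θ u) * (θ u + 1) * (θ (θ u) + 1) * h2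
    have r1 := congrArg θ r0
    simp only [map_mul, map_add, map_one, k3] at r1
    have hu2 : θ u + 1 ≠ 0 := by simpa using (map_ne_zero θ).mpr hu1
    have hu3 : θ u ≠ 0 := by simpa using hu.1
    have r2 : u * θ u * ((u + 1) * (θ u + 1)) * (θ (θ u) ^ 2 - (θ (θ u) + 1) ^ 2) = 0 := by
      linear_combination (θ (θ u) * u * (θ u + 1)) * r0 + u * (θ u + 1) * (θ (θ u) + 1) * r1
    have := (mul_eq_zero.mp r2).resolve_left
      (mul_ne_zero (mul_ne_zero hu.1 hu3) (mul_ne_zero hu1 hu2))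
    exact one_ne_zero (α := F) (by linear_combination -this - θ (θ u) * h2)
  · rw [if_neg h3] at d3
    have m3 : μ (θ * θ * θ) ≠ 0 := fun h => by
      rw [h, zero_mul, add_zero] at d3
      exact mul_ne_zero m2 (by simpa using hu.1) d3
    have key : ∀ σ, μ σ ≠ 0 → E ≠ 0 ∧ σ A⁻¹ / A⁻¹ + σ B⁻¹ / B⁻¹ = E⁻¹ := fun σ hσ => by
      have := congrFun c1 σ
      have h3 : E * (A / σ A + B / σ B) = 1 := mul_left_cancel₀ hσ (by linear_combination -this)
      refine ⟨left_ne_zero_of_mul_eq_one h3, ?_⟩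
      rw [← eq_inv_of_mul_eq_one_right h3, map_inv₀, map_inv₀]
      simp only [div_eq_mul_inv, inv_inv]
      ring
    exact line_arg h2 θ (inv_ne_zero hA) (inv_ne_zero hB) (inv_ne_zero (key θ m1).1) (key θ m1).2
      (key _ m2).2 (key _ m3).2

/-- a square root of the Frobenius map -/
theorem exists_tits [Fintype F] (θ : F ≃+* F) (hodd : Odd (orderOf θ)) (h : ∀ x, θ (θ x) = x ^ 2)
    {n : ℕ} (hn : 2 ≤ n) (hq : Fintype.card F = 2 ^ n) :
    ∃ m, 1 ≤ m ∧ Fintype.card F = 2 ^ (2 * m + 1) ∧ ∀ x, θ x = x ^ 2 ^ (m + 1) := by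
  have hp : ∀ (i : ℕ) (x : F), (θ ^ (2 * i)) x = x ^ 2 ^ i := by
    intro i
    induction i with
    | zero => intro x; simp
    | succ i ih =>
      intro x
      rw [show 2 * (i + 1) = 2 + 2 * i by ring, pow_add, pow_two, RingAut.mul_apply,
        RingAut.mul_apply, h, ih, ← pow_mul, pow_succ]
  obtain ⟨m, hm⟩ := hodd
  have h1 : orderOf θ ∣ n := by
    have : θ ^ (2 * n) = 1 := RingEquiv.ext fun x => by
      rw [hp, ← hq, FiniteField.pow_card]; rfl
    exact (Nat.Coprime.dvd_mul_left (Odd.coprime_two_right ⟨m, hm⟩)).mp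
      (orderOf_dvd_of_pow_eq_one this)
  have h2 : n ≤ orderOf θ := by
    have h3 : ∀ x : Fˣ, x ^ (2 ^ orderOf θ - 1) = 1 := fun x => by
      have := hp (orderOf θ) x
      rw [mul_comm, pow_mul, pow_orderOf_eq_one, one_pow] at this
      have h4 : x ^ (2 ^ orderOf θ - 1) * x = 1 * x := by
        rw [← pow_succ, Nat.sub_add_cancel Nat.one_le_two_pow, one_mul]
        exact Units.ext this.symm
      exact mul_right_cancel h4
    rw [FiniteField.forall_pow_eq_one_iff, hq] at h3
    have h5 : 0 < 2 ^ orderOf θ - 1 := by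
      have : 2 ^ 1 ≤ 2 ^ orderOf θ := Nat.pow_le_pow_right (by norm_num) (by omega)
      omega
    have h6 := Nat.le_of_dvd h5 h3
    have : 2 ^ n ≤ 2 ^ orderOf θ := by
      have := Nat.one_le_two_pow (n := n)
      omega
    exact (Nat.pow_le_pow_iff_right (by norm_num)).mp this
  have h3 : n = 2 * m + 1 := le_antisymm (hm ▸ h2) (hm ▸ Nat.le_of_dvd (by omega) h1)
  refine ⟨m, by omega, h3 ▸ hq, fun x => ?_⟩
  rw [← hp, show 2 * (m + 1) = 2 * m + 1 + 1 by ring, pow_succ, ← hm, pow_orderOf_eq_one, one_mul]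

end H21
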