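import Mathlib
import Cfsg.Agent.H8.SuzK
import Cfsg.Agent.H21.Suz6

/-! Coordinates on `Q` when `|Q| = q²`, and the function `n = N(√h)`. -/

set_option autoImplicit false

namespace H21

open Cfsg MulAction H8.Suz

/-- `N(x) = x^(1 + θ)` -/
def Nm {F : Type*} [Field F] (θ : F ≃+* F) (x : F) : F := x * θ x

section Nm

variable {F : Type*} [Field F] (θ : F ≃+* F)

theorem Nm_mul (x y : F) : Nm θ (x * y) = Nm θ x * Nm θ y := by simp only [Nm, map_mul]; ring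

theorem Nm_inv (x : F) : Nm θ x⁻¹ = (Nm θ x)⁻¹ := by simp only [Nm, map_inv₀, mul_inv]

theorem Nm_div (x y : F) : Nm θ (x / y) = Nm θ x / Nm θ y := by
  rw [div_eq_mul_inv, Nm_mul, Nm_inv, div_eq_mul_inv]

@[simp] theorem Nm_one : Nm θ 1 = 1 := by simp [Nm]

@[simp] theorem Nm_zero : Nm θ 0 = 0 := by simp [Nm]

theorem Nm_ne {x : F} (h : x ≠ 0) : Nm θ x ≠ 0 := mul_ne_zero h (by simpa using h)

theorem Nm_add_one (x : F) : Nm θ (x + 1) = Nm θ x + x + θ x + 1 := by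
  simp only [Nm, map_add, map_one]; ring

end Nm

/-- Normalised coordinates on a group `Q` of type A. -/
structure Co {G Ω : Type*} [Group G] [MulAction G Ω] (a : Ω) (t : G) (Q : Subgroup G) (s r : G)
    {F : Type*} [Field F] (θ : F ≃+* F) (u : F) (e : F → F → G) (χ : G → F) : Prop where
  two : (2 : F) = 0
  ne_one : θ ≠ 1
  odd : Odd (orderOf θ)
  mul : ∀ x y z w, e x y * e z w = e (x + z) (y + w + θ x * z)
  inj : ∀ {x y z w}, e x y = e z w → x = z ∧ y = w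
  mem : ∀ x y, e x y ∈ Q
  surj : ∀ g ∈ Q, ∃ x y, e x y = g
  conj : ∀ k ∈ KK a t, ∀ x y, k⁻¹ * e x y * k = e (χ k * x) (Nm θ (χ k) * y)
  onto : ∀ y, y ≠ 0 → ∃ k ∈ KK a t, χ k = y
  s_eq : e 0 1 = s
  r_eq : e 1 u = r

variable {G Ω : Type*} [Group G] [Finite G] [MulAction G Ω] {a : Ω} {t : G} {Q : Subgroup G} {s r : G}

theorem exists_co (hG : Hyp G Ω a t Q s r) (h2 : IsPGroup 2 Q)
    (hna : ∃ x ∈ Q, ∃ y ∈ Q, x * y ≠ y * x) (hc : Nat.card Q = Nat.card (Q0 Q) ^ 2) :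
    ∃ (F : Type) (_ : Field F) (_ : Fintype F) (θ : F ≃+* F) (u : F) (e : F → F → G) (χ : G → F),
      Nat.card F = Nat.card (Q0 Q) ∧ Co a t Q s r θ u e χ := by
  classical
  obtain ⟨n, hn, hq⟩ := hG.card_Q0
  obtain ⟨F, _, _, hF⟩ := exists_field_of_card Nat.prime_two hq (by
    have := hG.four_le_card_Q0; omega)
  have hK : KK a t ≤ Subgroup.normalizer (Q : Set G) :=
    le_normalizer_of_conj fun k hk x hx => hG.conj_Q (KK_le hk) hx
  letI := actOn (KK a t) Q hK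
  have h := hG.szH le_rfl Q0_le h2 hK
  have hna' : ∃ x y : Q, x * y ≠ y * x := by
    obtain ⟨x, hx, y, hy, e⟩ := hna
    exact ⟨⟨x, hx⟩, ⟨y, hy⟩, fun h => e (congrArg Subtype.val h)⟩
  obtain ⟨θ, π, η, χ, hθ, hodd, hT⟩ := h.exists_typeA hna' (by rw [← h.card_K, hG.card_KK, hc])
    (F := F) (by rw [hG.card_KK, hF])
  have two : (2 : F) = 0 := by
    have := FiniteField.cast_card_eq_zero F
    rw [← Nat.card_eq_fintype_card, hF, hq, Nat.cast_pow] at this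
    exact_mod_cast pow_eq_zero_iff (by omega) |>.mp this
  let Φ := Equiv.ofBijective _ hT.bij
  have hπ : ∀ p, π (Φ.symm p) = p.1 := fun p => congrArg Prod.fst (Φ.apply_symm_apply p)
  have hη : ∀ p, η (Φ.symm p) = p.2 := fun p => congrArg Prod.snd (Φ.apply_symm_apply p)
  have hext : ∀ (g : Q) (p : F × F), π g = p.1 → η g = p.2 → g = Φ.symm p := fun g p h1 h2 =>
    Φ.eq_symm_apply.mpr (Prod.ext h1 h2)
  have hrr := hG.r_sq_ne_one h2 hc
  obtain ⟨c, hcr⟩ : ∃ c, c = π ⟨r, hG.r_mem⟩ := ⟨_, rfl⟩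
  have hsq : ∀ g : Q, g * g = Φ.symm (0, Nm θ (π g)) := fun g => hext _ _
    (by rw [hT.π_mul]; linear_combination π g * two)
    (by rw [hT.η_mul, Nm]; linear_combination η g * two)
  have h1 : (1 : Q) = Φ.symm (0, 0) := by
    have e1 := hT.π_mul 1 1
    have e2 := hT.η_mul 1 1
    rw [mul_one] at e1 e2
    have e3 : π 1 = 0 := by linear_combination -e1
    exact hext _ _ e3 (by rw [e3] at e2; linear_combination -e2)
  have hc0 : c ≠ 0 := by
    intro h0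
    have := hsq ⟨r, hG.r_mem⟩
    rw [← hcr, h0, Nm_zero, ← h1] at this
    exact hrr (congrArg Subtype.val this)
  have hr4 : r ^ 4 = 1 := by
    have e1 := hsq (⟨r, hG.r_mem⟩ * ⟨r, hG.r_mem⟩)
    rw [hT.π_mul, ← two_mul, two, zero_mul, Nm_zero, ← h1] at e1
    have e2 : r * r * (r * r) = 1 := congrArg Subtype.val e1
    rw [← e2]; simp only [pow_succ, pow_zero, one_mul, mul_assoc]
  have hs := (hG.r_sq_eq_s hr4 hrr).1
  refine ⟨F, inferInstance, inferInstance, θ, η ⟨r, hG.r_mem⟩ / Nm θ c,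
    fun x y => Φ.symm (c * x, Nm θ c * y),
    fun k => if hk : k ∈ KK a t then χ ⟨k, hk⟩⁻¹ else 0, hF, two, hθ, hodd, fun x y z w => ?_,
    fun {x y z w} e => ?_, fun x y => Subtype.coe_prop _, fun g hg => ?_, fun k hk x y => ?_,
    fun y hy => ?_, ?_, ?_⟩
  · refine congrArg Subtype.val (hext (Φ.symm (c * x, Nm θ c * y) * Φ.symm (c * z, Nm θ c * w)) _
      ?_ ?_)
    · rw [hT.π_mul, hπ, hπ, mul_add]
    · rw [hT.η_mul, hπ, hπ, hη, hη, Nm, map_mul]; ring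
  · have := Φ.symm.injective (Subtype.ext e)
    exact ⟨mul_left_cancel₀ hc0 (congrArg Prod.fst this),
      mul_left_cancel₀ (Nm_ne θ hc0) (congrArg Prod.snd this)⟩
  · refine ⟨π ⟨g, hg⟩ / c, η ⟨g, hg⟩ / Nm θ c, ?_⟩
    rw [mul_div_cancel₀ _ hc0, mul_div_cancel₀ _ (Nm_ne θ hc0)]
    exact congrArg Subtype.val (hext ⟨g, hg⟩ _ rfl rfl).symm
  · rw [dif_pos hk]
    have := hext ((⟨k, hk⟩ : KK a t)⁻¹ • Φ.symm (c * x, Nm θ c * y))
      (c * (χ ⟨k, hk⟩⁻¹ * x), Nm θ c * (Nm θ (χ ⟨k, hk⟩⁻¹) * y))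
      (by rw [hT.π_smul, hπ]; ring) (by rw [hT.η_smul, hη]; simp only [Nm]; ring)
    rw [← this]
    change _ = k⁻¹ * _ * k⁻¹⁻¹
    rw [inv_inv]
  · obtain ⟨k, rfl⟩ := hT.onto y hy
    refine ⟨k⁻¹, (k⁻¹).2, ?_⟩
    rw [dif_pos (Subgroup.inv_mem _ k.2)]
    exact congrArg χ (inv_inv k)
  · rw [mul_zero, mul_one, hcr, ← hsq]; exact hs
  · rw [mul_one, mul_div_cancel₀ _ (Nm_ne θ hc0)]
    exact congrArg Subtype.val (hext ⟨r, hG.r_mem⟩ _ hcr.symm rfl).symm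

namespace Co

variable {F : Type*} [Field F] {θ : F ≃+* F} {u : F} {e : F → F → G} {χ : G → F}

omit [Finite G] in
theorem congr (_ : Co a t Q s r θ u e χ) {x y z w : F} (h1 : x = z) (h2 : y = w) : e x y = e z w := by
  rw [h1, h2]

omit [Finite G] in
theorem zero (h : Co a t Q s r θ u e χ) : e 0 0 = 1 := by
  have := h.mul 0 0 0 0
  simp only [add_zero, mul_zero] at this
  exact mul_eq_left.mp this

omit [Finite G] in
theorem ne_one_left (h : Co a t Q s r θ u e χ) {x : F} (hx : x ≠ 0) (y : F) : e x y ≠ 1 :=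
  fun e' => hx (h.inj (e'.trans h.zero.symm)).1

omit [Finite G] in
theorem ne_one_right (h : Co a t Q s r θ u e χ) (x : F) {y : F} (hy : y ≠ 0) : e x y ≠ 1 :=
  fun e' => hy (h.inj (e'.trans h.zero.symm)).2

omit [Finite G] in
theorem inv (h : Co a t Q s r θ u e χ) (x y : F) : (e x y)⁻¹ = e x (y + Nm θ x) := by
  rw [inv_eq_iff_mul_eq_one, h.mul, ← h.zero]
  exact h.congr (by linear_combination x * h.two) (by rw [Nm]; linear_combination (y + x * θ x) * h.two)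

omit [Finite G] in
theorem r_inv (h : Co a t Q s r θ u e χ) : r⁻¹ = e 1 (u + 1) := by rw [← h.r_eq, h.inv, Nm_one]

omit [Finite G] in
theorem χ_mul (h : Co a t Q s r θ u e χ) {k l : G} (hk : k ∈ KK a t) (hl : l ∈ KK a t) :
    χ (k * l) = χ k * χ l := by
  have h1 := h.conj _ (Subgroup.mul_mem _ hk hl) 1 0
  rw [show (k * l)⁻¹ * e 1 0 * (k * l) = l⁻¹ * (k⁻¹ * e 1 0 * k) * l by group, h.conj k hk,
    h.conj l hl] at h1
  linear_combination -(h.inj h1).1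

omit [Finite G] in
theorem χ_one (h : Co a t Q s r θ u e χ) : χ 1 = 1 := by
  have h1 := h.conj 1 (Subgroup.one_mem _) 1 0
  rw [inv_one, one_mul, mul_one] at h1
  linear_combination -(h.inj h1).1

omit [Finite G] in
theorem χ_ne (h : Co a t Q s r θ u e χ) {k : G} (hk : k ∈ KK a t) : χ k ≠ 0 :=
  left_ne_zero_of_mul_eq_one (by
    rw [← h.χ_mul hk (Subgroup.inv_mem _ hk), mul_inv_cancel, h.χ_one])

omit [Finite G] in
theorem χ_inv (h : Co a t Q s r θ u e χ) {k : G} (hk : k ∈ KK a t) : χ k⁻¹ = (χ k)⁻¹ :=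
  eq_inv_of_mul_eq_one_right (by
    rw [← h.χ_mul hk (Subgroup.inv_mem _ hk), mul_inv_cancel, h.χ_one])

omit [Finite G] in
theorem conj' (h : Co a t Q s r θ u e χ) {k : G} (hk : k ∈ KK a t) (x y : F) :
    k * e x y * k⁻¹ = e (x / χ k) (y / Nm θ (χ k)) := by
  have := h.conj _ (Subgroup.inv_mem _ hk) x y
  rw [inv_inv, h.χ_inv hk, Nm_inv] at this
  rw [this]
  exact h.congr (by ring) (by ring)

theorem Nm_inj (h : Co a t Q s r θ u e χ) (hG : Hyp G Ω a t Q s r) :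
    Function.Injective (Nm θ) := by
  intro x y hxy
  by_cases hx : x = 0
  · by_contra hy
    rw [hx, Nm_zero] at hxy
    exact Nm_ne θ (fun h0 => hy (hx.trans h0.symm)) hxy.symm
  have hy : y ≠ 0 := by
    rintro rfl
    exact Nm_ne θ hx (hxy.trans (Nm_zero θ))
  obtain ⟨k, hk, rfl⟩ := h.onto x hx
  obtain ⟨l, hl, rfl⟩ := h.onto y hy
  rw [hG.K_eq_of_conj_s hk hl]
  rw [← h.s_eq, h.conj k hk, h.conj l hl, hxy, mul_zero, mul_zero]

theorem Nm_surj [Finite F] (h : Co a t Q s r θ u e χ) (hG : Hyp G Ω a t Q s r) (y : F) :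
    ∃ x, Nm θ x = y := Finite.surjective_of_injective (h.Nm_inj hG) y

theorem exists_K_Nm [Finite F] (h : Co a t Q s r θ u e χ) (hG : Hyp G Ω a t Q s r) {y : F}
    (hy : y ≠ 0) : ∃ k ∈ KK a t, Nm θ (χ k) = y := by
  obtain ⟨x, rfl⟩ := h.Nm_surj hG y
  obtain ⟨k, hk, rfl⟩ := h.onto x (by rintro rfl; exact hy (Nm_zero θ))
  exact ⟨k, hk, rfl⟩

omit [Finite G] in
/-- changing `θ` into `θ⁻¹` -/
theorem swap (h : Co a t Q s r θ u e χ) :
    Co a t Q s r θ⁻¹ (u + 1) (fun x y => e (θ⁻¹ x) (y + Nm θ⁻¹ x)) fun k => θ (χ k) := by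
  have h1 : ∀ x, θ (θ⁻¹ x) = x := fun x => θ.apply_symm_apply x
  have h2 : ∀ x, θ⁻¹ (θ x) = x := fun x => θ.symm_apply_apply x
  refine ⟨h.two, by simpa using h.ne_one, by simpa using h.odd, fun x y z w => ?_,
    fun {x y z w} e' => ?_, fun x y => h.mem _ _, fun g hg => ?_, fun k hk x y => ?_,
    fun y hy => ?_, ?_, ?_⟩
  · rw [h.mul]
    refine h.congr (map_add _ _ _).symm ?_
    simp only [Nm, map_add, h1]
    linear_combination -(θ⁻¹ x * z) * h.two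
  · obtain ⟨e1, e2⟩ := h.inj e'
    obtain rfl : x = z := θ⁻¹.injective e1
    exact ⟨rfl, add_right_cancel e2⟩
  · obtain ⟨x, y, rfl⟩ := h.surj g hg
    refine ⟨θ x, y + Nm θ x, h.congr (h2 x) ?_⟩
    simp only [Nm, h2]
    linear_combination (x * θ x) * h.two
  · rw [h.conj k hk]
    refine h.congr (by rw [map_mul, h2]) ?_
    simp only [Nm, map_mul, h2]
    ring
  · obtain ⟨k, hk, e'⟩ := h.onto (θ⁻¹ y) (by simpa using hy)
    exact ⟨k, hk, by rw [e', h1]⟩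
  · rw [← h.s_eq]
    exact h.congr (map_zero _) (by simp)
  · rw [← h.r_eq]
    exact h.congr (map_one _) (by rw [Nm_one]; linear_combination h.two)

end Co

end H21
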