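import Mathlib
import Cfsg.Agent.H21.Suz7

/-! The structure equation determines `θ`: `θ² = 2` after a change of coordinates. -/

set_option autoImplicit false

namespace H21

open Cfsg MulAction H8.Suz

variable {G Ω : Type*} [Group G] [Finite G] [MulAction G Ω] {a : Ω} {t : G} {Q : Subgroup G} {s r : G}

omit [Finite G] in
theorem ghf_r (hG : Hyp G Ω a t Q s r) : gg a t Q r = r ∧ hh a t Q r = 1 ∧ ff a t Q r = s := by
  have := (hG.ghf_ff hG.s_mem hG.s_ne).2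
  simpa only [hG.ghf_s.1, hG.ghf_s.2.1, hG.ghf_s.2.2, inv_one, one_mul, mul_one, inv_inv] using this

omit [Finite G] in
theorem ghf_r_inv (hG : Hyp G Ω a t Q s r) :
    gg a t Q r⁻¹ = s ∧ hh a t Q r⁻¹ = 1 ∧ ff a t Q r⁻¹ = r⁻¹ := by
  have := hG.ghf_inv hG.r_mem hG.r_ne_one
  simpa only [(ghf_r hG).1, (ghf_r hG).2.1, (ghf_r hG).2.2, inv_one, mul_one, hG.tt, hG.s_inv]
    using this

theorem ghf_conjK (hG : Hyp G Ω a t Q s r) {x k : G} (hx : x ∈ Q) (h1 : x ≠ 1) (hk : k ∈ KK a t) :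
    gg a t Q (k⁻¹ * x * k) = k * gg a t Q x * k⁻¹ ∧ hh a t Q (k⁻¹ * x * k) = k * hh a t Q x * k ∧
      ff a t Q (k⁻¹ * x * k) = k * ff a t Q x * k⁻¹ := by
  have := hG.ghf_conj hx h1 (KK_le hk)
  simpa only [hG.tKt hk, inv_inv] using this

omit [Finite G] in
theorem hh_gg (hG : Hyp G Ω a t Q s r) {x : G} (hx : x ∈ Q) (h1 : x ≠ 1) :
    hh a t Q (gg a t Q x) = (hh a t Q x)⁻¹ := by
  have e1 := hG.ghf_inv hx h1
  have e2 := hG.ghf_ff (Q.inv_mem hx) (inv_ne_one.mpr h1)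
  have e3 := hG.ghf_inv (hG.ff_mem (Q.inv_mem hx) (inv_ne_one.mpr h1)) e2.1
  rw [e2.2.2.1, e1.2.2, inv_inv, inv_inv, e1.2.1] at e3
  rw [e3.2.1]
  simp only [mul_assoc, hG.tt_mul, hG.tt, mul_one]

namespace Co

variable {F : Type*} [Field F] [Finite F] {θ : F ≃+* F} {u : F} {e : F → F → G} {χ : G → F}

theorem orb (h : Co a t Q s r θ u e χ) (hG : Hyp G Ω a t Q s r) {v : F} (h0 : v ≠ 0) (h1 : v ≠ 1) :
    ∃ l : F, l ≠ 1 ∧ Nm θ l * (1 + v + θ v) = Nm θ (v + 1) ∧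
      gg a t Q (e 1 (u + 1 + (u * θ v + (u + 1) * v))) =
        e ((1 + l) / v) ((u + (u + 1) * Nm θ l + l) / Nm θ v) ∧
      hh a t Q (e 1 (u + 1 + (u * θ v + (u + 1) * v))) ∈ KK a t ∧
      Nm θ (χ (hh a t Q (e 1 (u + 1 + (u * θ v + (u + 1) * v))))) = (1 + v + θ v) ^ 2 := by
  have two := h.two
  have hv1 : v + 1 ≠ 0 := fun h' => h1 (by linear_combination h' - two)
  obtain ⟨k, hk, hκ⟩ := h.onto ((v + 1) / v) (div_ne_zero hv1 h0)
  obtain ⟨m, hm, hμ⟩ := h.onto v h0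
  have hκ0 := h.χ_ne hk
  have hκ1 : χ k ≠ 1 := by
    rw [hκ, Ne, div_eq_one_iff_eq h0]; simp
  have hN0 := Nm_ne θ hκ0
  have hN1 : Nm θ (χ k) ≠ 1 := fun h' => hκ1 (h.Nm_inj hG (h'.trans (Nm_one θ).symm))
  have hN2 : 1 + 1 / Nm θ (χ k) ≠ 0 := fun h' => hN1 (by
    field_simp at h'
    linear_combination h' - two)
  obtain ⟨l, hl, hl'⟩ := h.exists_K_Nm hG hN2
  have hNv := Nm_ne θ h0
  have hE : 1 + v + θ v = Nm θ v * (Nm θ (χ k) + 1) := by
    rw [hκ, Nm_div, Nm_add_one]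
    field_simp
    linear_combination -Nm θ v * two
  have hy := ghf_conjK hG (Q.inv_mem hG.r_mem) (inv_ne_one.mpr hG.r_ne_one) hk
  rw [(ghf_r_inv hG).1, (ghf_r_inv hG).2.1] at hy
  have hxy : r * (k⁻¹ * r⁻¹ * k) = e (1 + χ k) (u + Nm θ (χ k) * (u + 1) + χ k) := by
    rw [h.r_inv, h.conj k hk]
    nth_rewrite 1 [← h.r_eq]
    rw [h.mul]
    exact h.congr (by ring) (by rw [map_one]; ring)
  have hxy1 : r * (k⁻¹ * r⁻¹ * k) ≠ 1 := by
    rw [hxy]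
    exact h.ne_one_left (fun h' => hκ1 (by linear_combination h' - two)) _
  have hz : s * (k * s * k⁻¹) = l⁻¹ * s * l := by
    rw [← h.s_eq, h.conj' hk, h.conj l hl, h.mul, hl']
    exact h.congr (by ring) (by rw [map_zero]; ring)
  have hz' := ghf_conjK hG hG.s_mem hG.s_ne hl
  rw [hG.ghf_s.1, hG.ghf_s.2.1] at hz'
  obtain ⟨-, e1, e2, -⟩ := hG.ghf_mul hG.r_mem hG.r_ne_one
    (hG.conj_Q (KK_le hk) (Q.inv_mem hG.r_mem))
    (by simpa [mul_assoc] using fun h' : k⁻¹ * (r⁻¹ * k) = 1 => hG.r_ne_one (by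
      rw [inv_mul_eq_one, eq_inv_mul_iff_mul_eq, mul_eq_right] at h'; exact h')) hxy1
  rw [(ghf_r hG).2.1, (ghf_r hG).2.2, hy.1, hz] at e1 e2
  rw [(ghf_r hG).1, hz'.1] at e1
  rw [hz'.2.1, hy.2.1] at e2
  have hw := ghf_conjK hG (Q.mul_mem hG.r_mem (hG.conj_Q (KK_le hk) (Q.inv_mem hG.r_mem))) hxy1 hm
  have hw' : m⁻¹ * (r * (k⁻¹ * r⁻¹ * k)) * m = e 1 (u + 1 + (u * θ v + (u + 1) * v)) := by
    rw [hxy, h.conj m hm, hμ, hκ, Nm_div, Nm_add_one]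
    refine h.congr ?_ ?_
    · field_simp
      linear_combination v * two
    · have : θ v ≠ 0 := by simpa using h0
      simp only [Nm]
      field_simp
      linear_combination (v * θ v * u + v * θ v + θ v) * two
  rw [hw', e1, e2] at hw
  have hl0 := h.χ_ne hl
  refine ⟨(χ l)⁻¹, fun h' => ?_, ?_, ?_, ?_, ?_⟩
  · rw [inv_eq_one] at h'
    rw [h', Nm_one, left_eq_add, one_div, inv_eq_zero] at hl'
    exact hN0 hl'
  · rw [Nm_inv, hl', hE, show v + 1 = χ k * v by rw [hκ]; field_simp, Nm_mul]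
    have : Nm θ (χ k) + 1 ≠ 0 := fun h' => hN1 (by linear_combination h' - two)
    field_simp
  · rw [hw.1, inv_one, one_mul, mul_one, h.r_inv, h.conj' hl]
    nth_rewrite 1 [← h.r_eq]
    rw [h.mul, h.conj' hm, hμ, Nm_inv]
    exact h.congr (by ring) (by rw [map_one]; ring)
  · rw [hw.2.1]
    simp only [one_mul, mul_one]
    exact mul_mem (mul_mem hm (mul_mem (mul_mem hl hl) (mul_mem hk hk))) hm
  · rw [hw.2.1]
    simp only [one_mul, mul_one]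
    rw [h.χ_mul (mul_mem hm (mul_mem (mul_mem hl hl) (mul_mem hk hk))) hm,
      h.χ_mul hm (mul_mem (mul_mem hl hl) (mul_mem hk hk)),
      h.χ_mul (mul_mem hl hl) (mul_mem hk hk), h.χ_mul hl hl, h.χ_mul hk hk]
    simp only [Nm_mul]
    rw [hl', hE, hμ]
    field_simp

theorem L_surj (h : Co a t Q s r θ u e χ) (hG : Hyp G Ω a t Q s r) :
    (∀ d, ∃ v, u * θ v + (u + 1) * v = d) ∧
      ∃ Λ : F →+ F, ∀ v, Λ (u * θ v + (u + 1) * v) = v + θ v := by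
  let L : F →+ F := AddMonoidHom.mk' (fun v => u * θ v + (u + 1) * v) fun x y => by
    simp only [map_add]; ring
  have hinj : Function.Injective L := by
    rw [injective_iff_map_eq_zero]
    intro v hv
    change u * θ v + (u + 1) * v = 0 at hv
    by_contra h0
    have h1 : v ≠ 1 := by
      rintro rfl
      rw [map_one] at hv
      exact one_ne_zero (α := F) (by linear_combination hv - u * h.two)
    obtain ⟨l, hl, -, e1, -⟩ := h.orb hG h0 h1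
    rw [hv, add_zero, ← h.r_inv, (ghf_r_inv hG).1, ← h.s_eq] at e1
    have := (h.inj e1).1
    rw [eq_comm, div_eq_zero_iff] at this
    exact hl (by linear_combination this.resolve_right h0 - h.two)
  have hbij : Function.Bijective L := Finite.injective_iff_bijective.mp hinj
  let L' := AddEquiv.ofBijective L hbij
  refine ⟨hbij.2, (AddMonoidHom.id F + θ.toAddMonoidHom).comp L'.symm.toAddMonoidHom, fun v => ?_⟩
  have : L'.symm (u * θ v + (u + 1) * v) = v := L'.symm_apply_apply v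
  simp [this]

theorem hh_one (h : Co a t Q s r θ u e χ) (hG : Hyp G Ω a t Q s r) (v : F) :
    hh a t Q (e 1 (u + 1 + (u * θ v + (u + 1) * v))) ∈ KK a t ∧
      Nm θ (χ (hh a t Q (e 1 (u + 1 + (u * θ v + (u + 1) * v))))) = (1 + v + θ v) ^ 2 := by
  by_cases h0 : v = 0
  · simp only [h0, map_zero, mul_zero, add_zero]
    rw [← h.r_inv, (ghf_r_inv hG).2.1, h.χ_one]
    exact ⟨one_mem _, by simp⟩
  by_cases h1 : v = 1
  · rw [h1, map_one, show u + 1 + (u * 1 + (u + 1) * 1) = u by linear_combination (u + 1) * h.two,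
      h.r_eq, (ghf_r hG).2.1, h.χ_one, Nm_one]
    exact ⟨one_mem _, by linear_combination -4 * h.two⟩
  obtain ⟨l, -, -, -, e1⟩ := h.orb hG h0 h1
  exact e1

theorem exists_rep (h : Co a t Q s r θ u e χ) (hG : Hyp G Ω a t Q s r) {x : F} (hx : x ≠ 0) (y : F) :
    ∃ k ∈ KK a t, ∃ v, χ k = x ∧ y / Nm θ x + u + 1 = u * θ v + (u + 1) * v ∧
      e x y = k⁻¹ * e 1 (u + 1 + (u * θ v + (u + 1) * v)) * k := by
  obtain ⟨k, hk, rfl⟩ := h.onto x hx
  obtain ⟨v, hv⟩ := (h.L_surj hG).1 (y / Nm θ (χ k) + u + 1)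
  refine ⟨k, hk, v, rfl, hv.symm, ?_⟩
  rw [h.conj k hk, hv]
  refine h.congr (mul_one _).symm ?_
  have := Nm_ne θ hx
  field_simp
  linear_combination -(u + 1) * Nm θ (χ k) * h.two

theorem exists_rep0 (h : Co a t Q s r θ u e χ) (hG : Hyp G Ω a t Q s r) {y : F} (hy : y ≠ 0) :
    ∃ k ∈ KK a t, Nm θ (χ k) = y ∧ e 0 y = k⁻¹ * s * k := by
  obtain ⟨k, hk, rfl⟩ := h.exists_K_Nm hG hy
  exact ⟨k, hk, rfl, by rw [← h.s_eq, h.conj k hk, mul_zero, mul_one]⟩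

theorem hh_mem (h : Co a t Q s r θ u e χ) (hG : Hyp G Ω a t Q s r) {g : G} (hg : g ∈ Q)
    (h1 : g ≠ 1) : hh a t Q g ∈ KK a t := by
  obtain ⟨x, y, rfl⟩ := h.surj g hg
  by_cases hx : x = 0
  · subst hx
    obtain ⟨k, hk, -, e1⟩ := h.exists_rep0 hG (y := y) (by rintro rfl; exact h1 h.zero)
    rw [e1, (ghf_conjK hG hG.s_mem hG.s_ne hk).2.1, hG.ghf_s.2.1]
    exact mul_mem (mul_mem hk (one_mem _)) hk
  · obtain ⟨k, hk, v, -, -, e1⟩ := h.exists_rep hG hx y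
    rw [e1, (ghf_conjK hG (h.mem _ _) (h.ne_one_left one_ne_zero _) hk).2.1]
    exact mul_mem (mul_mem hk (h.hh_one hG v).1) hk

section n

variable (h : Co a t Q s r θ u e χ) (hG : Hyp G Ω a t Q s r) {n : G → F}
  (hn : ∀ x, n x ^ 2 = Nm θ (χ (hh a t Q x)))
include h hG hn

theorem n_conj {g k : G} (hg : g ∈ Q) (h1 : g ≠ 1) (hk : k ∈ KK a t) :
    n (k⁻¹ * g * k) = Nm θ (χ k) * n g := by
  apply sq_inj h.two
  rw [hn, (ghf_conjK hG hg h1 hk).2.1, h.χ_mul (mul_mem hk (h.hh_mem hG hg h1)) hk,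
    h.χ_mul hk (h.hh_mem hG hg h1), mul_pow, hn, Nm_mul, Nm_mul]
  ring

omit [Finite F] hG in
theorem n_eq_one {g : G} (h1 : hh a t Q g = 1) : n g = 1 := by
  apply sq_inj h.two
  rw [hn, h1, h.χ_one, Nm_one, one_pow]

theorem n_zero {y : F} (hy : y ≠ 0) : n (e 0 y) = y := by
  obtain ⟨k, hk, e1, e2⟩ := h.exists_rep0 hG hy
  rw [e2, h.n_conj hG hn hG.s_mem hG.s_ne hk, e1, h.n_eq_one hn hG.ghf_s.2.1, mul_one]

theorem n_gen {Λ : F →+ F} (hΛ : ∀ v, Λ (u * θ v + (u + 1) * v) = v + θ v) {x : F} (hx : x ≠ 0)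
    (y : F) : n (e x y) = Nm θ x * (1 + Λ (y / Nm θ x + u + 1)) := by
  obtain ⟨k, hk, v, e1, e2, e3⟩ := h.exists_rep hG hx y
  rw [e3, h.n_conj hG hn (h.mem _ _) (h.ne_one_left one_ne_zero _) hk, e1, e2, hΛ,
    sq_inj h.two ((hn _).trans (h.hh_one hG v).2), add_assoc]

theorem n_mul {x y : G} (hx : x ∈ Q) (hx1 : x ≠ 1) (hy : y ∈ Q) (hy1 : y ≠ 1) (hxy : x * y ≠ 1) :
    n (x * y) = n x * n (ff a t Q x * gg a t Q y) * n y := by
  obtain ⟨e1, -, e2, -⟩ := hG.ghf_mul hx hx1 hy hy1 hxy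
  have k1 := h.hh_mem hG hx hx1
  have k2 := h.hh_mem hG hy hy1
  have k3 := h.hh_mem hG (Q.mul_mem (hG.ff_mem hx hx1) (hG.gg_mem hy hy1)) e1
  apply sq_inj h.two
  rw [hn, e2, h.χ_mul (mul_mem k1 k3) k2, h.χ_mul k1 k3, mul_pow, mul_pow, hn, hn, hn, Nm_mul,
    Nm_mul]

theorem n_gg {x : G} (hx : x ∈ Q) (hx1 : x ≠ 1) : n (gg a t Q x) * n x = 1 := by
  apply sq_inj h.two
  rw [mul_pow, hn, hn, hh_gg hG hx hx1, h.χ_inv (h.hh_mem hG hx hx1), Nm_inv, one_pow,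
    inv_mul_cancel₀ (Nm_ne θ (h.χ_ne (h.hh_mem hG hx hx1)))]

theorem n_shift {j : F} (h0 : j ≠ 0) (h1 : j ≠ 1) (d : F) :
    n (e (j + 1) (Nm θ j * u + d + θ j)) =
      Nm θ j * n (e 0 (Nm θ j)⁻¹ * gg a t Q (e 1 d)) * n (e 1 d) := by
  obtain ⟨k, hk, rfl⟩ := h.onto j h0
  have e1 : k⁻¹ * r * k * e 1 d = e (χ k + 1) (Nm θ (χ k) * u + d + θ (χ k)) := by
    rw [← h.r_eq, h.conj k hk, h.mul]
    exact h.congr (by ring) (by simp only [mul_one])
  have e2 := h.n_mul hG hn (hG.conj_Q (KK_le hk) hG.r_mem) (by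
      rw [← h.r_eq, h.conj k hk]; exact h.ne_one_left (by simpa using h0) _) (h.mem 1 d)
    (h.ne_one_left one_ne_zero d) (by
      rw [e1]; exact h.ne_one_left (fun h' => h1 (by linear_combination h' - h.two)) _)
  rw [e1, h.n_conj hG hn hG.r_mem hG.r_ne_one hk, h.n_eq_one hn (ghf_r hG).2.1, mul_one,
    (ghf_conjK hG hG.r_mem hG.r_ne_one hk).2.2, (ghf_r hG).2.2, ← h.s_eq, h.conj' hk] at e2
  rw [e2, zero_div, one_div]

theorem n_shift_add {Λ : F →+ F} (hΛ : ∀ v, Λ (u * θ v + (u + 1) * v) = v + θ v) {j : F}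
    (h1 : j ≠ 1) (d : F) :
    n (e (j + 1) (Nm θ j * u + d + θ j)) + n (e (j + 1) (Nm θ j * u + (d + 1) + θ j)) =
      Nm θ (j + 1) * Λ (Nm θ (j + 1))⁻¹ := by
  have h2 : j + 1 ≠ 0 := fun h' => h1 (by linear_combination h' - h.two)
  rw [h.n_gen hG hn hΛ h2, h.n_gen hG hn hΛ h2,
    show (Nm θ j * u + (d + 1) + θ j) / Nm θ (j + 1) + u + 1 =
      ((Nm θ j * u + d + θ j) / Nm θ (j + 1) + u + 1) + (Nm θ (j + 1))⁻¹ by ring, map_add Λ _ (_⁻¹)]
  linear_combination (Nm θ (j + 1) * (1 + Λ ((Nm θ j * u + d + θ j) / Nm θ (j + 1) + u + 1))) * h.two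

theorem n_shift' {Λ : F →+ F} (hΛ : ∀ v, Λ (u * θ v + (u + 1) * v) = v + θ v) {j : F}
    (h0 : j ≠ 0) (h1 : j ≠ 1) {d A B : F} (hA : A ≠ 0) (hg : gg a t Q (e 1 d) = e A B) :
    n (e (j + 1) (Nm θ j * u + d + θ j)) =
      Nm θ j * (1 + n (e 1 d) * (Nm θ A * Λ ((Nm θ j)⁻¹ / Nm θ A))) := by
  have e1 := h.n_gg hG hn (h.mem 1 d) (h.ne_one_left one_ne_zero d)
  rw [hg, h.n_gen hG hn hΛ hA] at e1
  rw [h.n_shift hG hn h0 h1, hg, h.mul, zero_add, h.n_gen hG hn hΛ hA, map_zero,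
    show ((Nm θ j)⁻¹ + B + 0 * A) / Nm θ A + u + 1 =
      (B / Nm θ A + u + 1) + (Nm θ j)⁻¹ / Nm θ A by ring, map_add Λ _ (_ / _)]
  linear_combination Nm θ j * e1

theorem E1 {Λ : F →+ F} (hΛ : ∀ v, Λ (u * θ v + (u + 1) * v) = v + θ v) {j : F}
    (h0 : j ≠ 0) (h1 : j ≠ 1) :
    Nm θ (j + 1) * Λ (Nm θ (j + 1))⁻¹ = 1 + Nm θ j * Λ (Nm θ j)⁻¹ := by
  have hN := Nm_ne θ h0
  have hN1 : (Nm θ j)⁻¹ + 1 ≠ 0 := fun h' => h1 (h.Nm_inj hG (by
    rw [Nm_one, ← inv_eq_one]; linear_combination h' - h.two))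
  rw [← h.n_shift_add hG hn hΛ h1 u,
    h.n_shift' hG hn hΛ h0 h1 one_ne_zero (B := u) (by rw [h.r_eq, (ghf_r hG).1]),
    h.n_shift hG hn h0 h1, ← h.r_inv, (ghf_r_inv hG).1, ← h.s_eq, h.mul, h.r_eq,
    h.n_eq_one hn (ghf_r hG).2.1, h.n_eq_one hn (ghf_r_inv hG).2.1, add_zero, mul_zero, add_zero,
    h.n_zero hG hn hN1, Nm_one, div_one]
  field_simp
  linear_combination Nm θ j * h.two

end n

theorem exists_n (h : Co a t Q s r θ u e χ) :
    ∃ n : G → F, ∀ x, n x ^ 2 = Nm θ (χ (hh a t Q x)) := by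
  have : Function.Surjective fun x : F => x ^ 2 :=
    Finite.surjective_of_injective fun x y => sq_inj h.two
  exact ⟨fun x => (this _).choose, fun x => (this _).choose_spec⟩

theorem exists_ne (h : Co a t Q s r θ u e χ) (hG : Hyp G Ω a t Q s r) : ∃ v : F, v ≠ 0 ∧ v ≠ 1 := by
  obtain ⟨k, hk, h1⟩ := hG.exists_KK_ne_one
  refine ⟨χ k, h.χ_ne hk, fun h' => h1 (hG.K_eq_of_conj_s hk (one_mem _) ?_)⟩
  rw [← h.s_eq, h.conj k hk, h']
  simp

theorem u_cases (h : Co a t Q s r θ u e χ) (hG : Hyp G Ω a t Q s r) : u = 0 ∨ u = 1 := by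
  obtain ⟨n, hn⟩ := h.exists_n
  obtain ⟨-, Λ, hΛ⟩ := h.L_surj hG
  obtain ⟨v, h0, h1⟩ := h.exists_ne hG
  have two := h.two
  have h0' : v + 1 ≠ 0 := fun h' => h1 (by linear_combination h' - two)
  have h1' : v + 1 ≠ 1 := by simpa using h0
  obtain ⟨l1, hl1, -, g1, -, n1⟩ := h.orb hG h0 h1
  obtain ⟨l2, hl2, -, g2, -, n2⟩ := h.orb hG h0' h1'
  have hd : u + 1 + (u * θ (v + 1) + (u + 1) * (v + 1)) = u + 1 + (u * θ v + (u + 1) * v) + 1 := by
    rw [map_add, map_one]; linear_combination u * two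
  rw [hd] at g2 n2
  have n1' := sq_inj two ((hn _).trans n1)
  have n2' := sq_inj two ((hn _).trans n2)
  rw [show 1 + (v + 1) + θ (v + 1) = 1 + v + θ v by
    rw [map_add, map_one]; linear_combination two] at n2'
  have hA : (1 + l1) / v ≠ 0 :=
    div_ne_zero (fun h' => hl1 (by linear_combination h' - two)) h0
  have hB : (1 + l2) / (v + 1) ≠ 0 :=
    div_ne_zero (fun h' => hl2 (by linear_combination h' - two)) h0'
  obtain ⟨A, hAe⟩ : ∃ A, A = Nm θ ((1 + l1) / v) := ⟨_, rfl⟩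
  obtain ⟨B, hBe⟩ : ∃ B, B = Nm θ ((1 + l2) / (v + 1)) := ⟨_, rfl⟩
  have hA' : A ≠ 0 := hAe ▸ Nm_ne θ hA
  have hB' : B ≠ 0 := hBe ▸ Nm_ne θ hB
  have key : ∀ z, z ≠ 0 → z ≠ 1 →
      Λ z + z = (1 + v + θ v) * (A * Λ (z / A) + B * Λ (z / B)) := by
    intro z hz0 hz1
    obtain ⟨j, hj⟩ := h.Nm_surj hG z⁻¹
    have hj0 : j ≠ 0 := by rintro rfl; exact inv_ne_zero hz0 (hj.symm.trans (Nm_zero θ))
    have hj1 : j ≠ 1 := by rintro rfl; exact hz1 (inv_eq_one.mp (hj.symm.trans (Nm_one θ)))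
    have e1 := h.n_shift_add hG hn hΛ hj1 (u + 1 + (u * θ v + (u + 1) * v))
    rw [h.E1 hG hn hΛ hj0 hj1, h.n_shift' hG hn hΛ hj0 hj1 hA g1, h.n_shift' hG hn hΛ hj0 hj1 hB g2,
      n1', n2', ← hAe, ← hBe, hj, inv_inv] at e1
    field_simp at e1
    linear_combination -e1 + two
  have key' : ∀ z, Λ z + z = (1 + v + θ v) * (A * Λ (z / A) + B * Λ (z / B)) := by
    intro z
    by_cases hz0 : z = 0
    · simp [hz0]
    by_cases hz1 : z = 1
    · have e1 := key v h0 h1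
      have e2 := key (v + 1) h0' h1'
      simp only [add_div, map_add] at e2
      rw [hz1]
      linear_combination e2 - e1
    exact key z hz0 hz1
  refine u_zero_or_one two θ h.ne_one (fun h' => h.ne_one ?_) u (Λ + AddMonoidHom.id F)
    (fun y => ?_) hA' hB' (E := 1 + v + θ v) fun z => ?_
  · exact eq_one_of_sq_of_odd h.odd (pow_orderOf_eq_one θ) h'
  · rw [AddMonoidHom.add_apply, hΛ, AddMonoidHom.id_apply]
    linear_combination (y - θ y * u + u * θ y) * two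
  · simp only [AddMonoidHom.add_apply, AddMonoidHom.id_apply]
    rw [key' z]
    field_simp
    linear_combination -(1 + v + θ v) * z * two

theorem theta_sq (h : Co a t Q s r θ 1 e χ) (hG : Hyp G Ω a t Q s r) (x : F) : θ (θ x) = x ^ 2 := by
  obtain ⟨n, hn⟩ := h.exists_n
  obtain ⟨-, Λ, hΛ⟩ := h.L_surj hG
  have two := h.two
  by_cases h0 : x = 0
  · simp [h0]
  by_cases h1 : x = 1
  · simp [h1]
  have hΛ' : ∀ z, θ (Λ z) = z + θ z := fun z => by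
    have := hΛ (θ.symm z)
    rw [show (1 : F) + 1 = 0 by linear_combination two, zero_mul, add_zero, one_mul,
      θ.apply_symm_apply] at this
    rw [this, map_add, θ.apply_symm_apply]
  have e1 := congrArg θ (h.E1 hG hn hΛ h0 h1)
  have h2 : x + 1 ≠ 0 := fun h' => h1 (by linear_combination h' - two)
  have h3 : θ x ≠ 0 := by simpa using h0
  have h4 : θ x + 1 ≠ 0 := by simpa using (map_ne_zero θ).mpr h2
  have h5 : θ (θ x) ≠ 0 := by simpa using h0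
  have h6 : θ (θ x) + 1 ≠ 0 := by simpa using (map_ne_zero θ).mpr h4
  simp only [map_mul, map_add, map_one, hΛ', Nm, map_inv₀] at e1
  field_simp at e1
  linear_combination -e1 - x ^ 2 * two

end Co

end H21
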