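import Mathlib
import Cfsg.Agent.H21.Feit4
import Cfsg.Agent.S1535

/-! Feit's theorem: the kernel of a simple Zassenhaus group has prime power order. -/

set_option autoImplicit false

namespace H21

open Cfsg MulAction H4

variable {G Ω : Type*} [Group G] [MulAction G Ω] {a b : Ω} {F : Subgroup G}

theorem index_commutator_congr {A B : Type*} [Group A] [Group B] (e : A ≃* B) :
    (commutator A).index = (commutator B).index := by
  rw [← Subgroup.index_map_equiv (commutator A) e, map_commutator_eq,
    MonoidHom.range_eq_top.mpr e.surjective]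
  rfl

theorem commutator_subgroupOf (H : Subgroup G) : ⁅H, H⁆.subgroupOf H = commutator H := by
  rw [← H.map_subtype_commutator, Subgroup.subgroupOf, Subgroup.comap_map_eq_self_of_injective
    H.subtype_injective]

theorem simple_cases [Finite G] [Finite Ω] (hZ : IsZassenhausGroup G Ω) [IsSimpleGroup G]
    (hab : a ≠ b) (hK : Ker a F) :
    Nat.card Ω - 2 ≤ 2 * Nat.card (St2 G a b) ∨ ∃ p : ℕ, p.Prime ∧ (∃ m : ℕ, Nat.card F = p ^ m) ∧
      ¬ IsMulCommutative F ∧ (commutator F).index ≤ 4 * Nat.card (St2 G a b) ^ 2 + 1 := by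
  have h := z3_of_zass hZ
  have h3 := three_le_card hZ
  rcases Nat.even_or_odd (Nat.card (St2 G a b)) with he | ho
  · exact Or.inl (h.card_sub_two_le hab he)
  by_cases hle : Nat.card Ω - 2 ≤ 2 * Nat.card (St2 G a b)
  · exact Or.inl hle
  have := Fintype.ofFinite G
  have := Fintype.ofFinite (stabilizer G a)
  have := hK.normal_subgroupOf
  have h2 := two_le_card_St2 hZ hab
  have hi := hK.index_subgroupOf h hab
  have hc := hK.card_subgroupOf hab
  let e := Subgroup.subgroupOfEquivOfLe hK.le_stab
  rcases Cfsg.Agent.S1535.result (G := G) (F.subgroupOf (stabilizer G a))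
    (fun e => by rw [e, Subgroup.card_bot] at hc; omega)
    (fun e => by rw [e, Subgroup.index_top] at hi; omega)
    (fun u hu hu1 x hx => hK.centralizer_le h hab hu (fun e => hu1 (Subtype.ext e)) (by
      rw [H6.mem_centralizer_singleton] at hx ⊢
      exact congrArg Subtype.val hx))
    (by rw [hi, hc]; omega) (fun α => indFun (stabilizer G a) α)
    (isLinearIsometryOn_indFun h hab hK)
    (fun α hα => by rw [indFun_apply_one, hα.2 1 (by simp), mul_zero]) with h4 | ⟨p, hp, h4, h5, h6⟩
  · exact Or.inl ((fs_of_simple hZ hab ho).le_of_coh h3 hab hK h2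
      (hK.commutator_ne_top h h3 hab (St2_ne_bot hZ hab)) (coh_of_isCoherent h4))
  · refine Or.inr ⟨p, hp, by rwa [← Nat.card_congr e.toEquiv],
      fun h7 => h5 (isMulCommutative_subgroupOf h7 _), ?_⟩
    rwa [commutator_subgroupOf, index_commutator_congr e, hi] at h6

theorem s0346 [Finite G] [Fintype Ω] (hZ : Cfsg.IsZassenhausGroup G Ω) [IsSimpleGroup G] :
    IsPrimePow (Fintype.card Ω - 1) := by
  have h := z3_of_zass hZ
  have h3 := three_le_card hZ
  obtain ⟨-, -, a, b, hab, -, -⟩ := hZ.2.2.2.1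
  obtain ⟨F, hK⟩ := h.exists_ker hab
  rw [← Nat.card_eq_fintype_card]
  have key : ∀ p m : ℕ, p.Prime → Nat.card Ω - 1 = p ^ m → IsPrimePow (Nat.card Ω - 1) :=
    fun p m hp e => ⟨p, m, hp.prime, Nat.pos_of_ne_zero (by rintro rfl; rw [pow_zero] at e; omega), e.symm⟩
  rcases simple_cases hZ hab hK with h1 | ⟨p, hp, ⟨m, hm⟩, -⟩
  · obtain ⟨p, f, hp, -, h2⟩ := hK.elementary_of_large h hab h3 h1
    exact key p f hp (by omega)
  · exact key p m hp (by rw [← hm, hK.card hab])

end H21
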