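import Mathlib
import Cfsg.Agent.H21.Feit5
import Cfsg.Agent.S1534

/-! Feit's theorem: a small two-point stabiliser forces a non-abelian 2-group as kernel. -/

set_option autoImplicit false

namespace H21

open Cfsg MulAction H4

variable {G Ω : Type*} [Group G] [MulAction G Ω] {a b : Ω} {F : Subgroup G}

theorem Ker.normalizer_eq [Finite Ω] (hK : Ker a F) (h3 : 3 ≤ Nat.card Ω) :
    Subgroup.normalizer (F : Set G) = stabilizer G a := by
  refine le_antisymm (fun g hg => ?_) hK.stab_le_normalizer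
  obtain ⟨⟨u, hu⟩, hu1⟩ := Subgroup.ne_bot_iff_exists_ne_one.mp (hK.ne_bot h3)
  exact hK.ti hu (fun e => hu1 (Subtype.ext e)) (conj_mem_of_mem_normalizer hg hu)

theorem coh_of_isCoherent' [Fintype G] [Fintype (stabilizer G a)] (N : Subgroup G) [Fintype N]
    (hN : N = stabilizer G a)
    (hc : IsCoherent {χ : N → ℂ | IsIrrCharacter N χ ∧ ∃ k : N, (k : G) ∈ F ∧ χ k ≠ χ 1} {1}ᶜ
      (fun α => indFun N α)) : Coh a F := by
  subst hN
  convert coh_of_isCoherent hc

theorem simple_cases_two [Finite G] [Finite Ω] (hZ : IsZassenhausGroup G Ω) [IsSimpleGroup G]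
    (hab : a ≠ b) (hK : Ker a F) :
    Nat.card Ω - 2 ≤ 2 * Nat.card (St2 G a b) ∨ (IsPGroup 2 F ∧
      ¬ IsMulCommutative F ∧ (commutator F).index ≤ 4 * Nat.card (St2 G a b) ^ 2 + 1) := by
  have h := z3_of_zass hZ
  have h3 := three_le_card hZ
  rcases simple_cases hZ hab hK with h1 | ⟨-, -, -, h1, h2⟩
  · exact Or.inl h1
  rcases Nat.even_or_odd (Nat.card (St2 G a b)) with he | ho
  · exact Or.inl (h.card_sub_two_le hab he)
  have := Fintype.ofFinite G
  have := Fintype.ofFinite (stabilizer G a)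
  have := Fintype.ofFinite (Subgroup.normalizer (F : Set G))
  have hN := hK.normalizer_eq h3
  have h4 := two_le_card_St2 hZ hab
  rcases Cfsg.Agent.S1534.result F (hK.ne_bot h3) (hK.isNilpotent h hab (St2_ne_bot hZ hab))
    (fun g hg x hx hx' => by
      by_contra h5; exact hg (hN ▸ hK.ti hx h5 hx'))
    (by
      rw [hN]
      refine lt_of_le_of_ne hK.le_stab fun e => ?_
      have h5 := hK.index_subgroupOf h hab
      rw [Subgroup.subgroupOf_eq_top.mpr e.ge, Subgroup.index_top] at h5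
      omega)
    (fun k hk hk1 => hK.centralizer_le h hab hk hk1) with ⟨-, -, p, -, h5⟩ | ⟨h5, -⟩ | h5
  · exact absurd h5.1 h1
  · exact Or.inr ⟨IsPGroup.of_card h5, h1, h2⟩
  · exact Or.inl ((fs_of_simple hZ hab ho).le_of_coh h3 hab hK h4
      (hK.commutator_ne_top h h3 hab (St2_ne_bot hZ hab)) (coh_of_isCoherent' _ hN h5))

theorem s0885 [Finite G] [Fintype Ω] (hZ : Cfsg.IsZassenhausGroup G Ω) {a b : Ω} (hab : a ≠ b)
    (h e : ℕ) (hh : Fintype.card Ω = h + 1)
    (he : Nat.card ↥(MulAction.stabilizer G a ⊓ MulAction.stabilizer G b : Subgroup G) = e)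
    (H : Subgroup G) (hHa : H ≤ MulAction.stabilizer G a) (hHcard : Nat.card H + 1 = Fintype.card Ω)
    (hHfix : ∀ u ∈ H, u ≠ 1 → ∀ c : Ω, u • c = c → c = a) :
    h - 1 ≤ 2 * e ∨ (IsPGroup 2 H ∧ (∃ u v : H, u * v ≠ v * u) ∧
      (commutator H).index ≤ 4 * e ^ 2 + 1) := by
  rw [← Nat.card_eq_fintype_card] at hHcard hh
  have hK := ker_of_card (z3_of_zass hZ) hab hHa hHcard hHfix
  obtain ⟨M, h1, h2, h3⟩ := exists_simple_sub hZ
  have h4 := Nat.le_of_dvd Nat.card_pos (card_St2_subgroup_dvd M a b)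
  rw [he] at h4
  let ε := Subgroup.subgroupOfEquivOfLe (h3 a H hK)
  rcases simple_cases_two h1 hab (hK.subgroupOf (h3 a H hK)) with h5 | ⟨h5, h6, h7⟩
  · left; omega
  · refine Or.inr ⟨h5.of_equiv ε, ?_, ?_⟩
    · by_contra hc
      push Not at hc
      exact h6 (isMulCommutative_subgroupOf ⟨⟨hc⟩⟩ M)
    · rw [← index_commutator_congr ε]
      have := Nat.pow_le_pow_left h4 2
      omega

end H21
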