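import Mathlib
import Cfsg.Prelude.Def_Perm
import Cfsg.Agent.H21.Feit4
import Cfsg.Agent.H2.FpfAction

/-! Doubly transitive groups with a regular normal subgroup in which only the identity fixes three points. -/

set_option autoImplicit false

namespace H21

open Cfsg MulAction
open scoped MatrixGroups

variable {G Ω : Type*} [Group G] [MulAction G Ω]

/-- a regular normal subgroup -/
structure Reg (Ω : Type*) {G : Type*} [Group G] [MulAction G Ω] (V : Subgroup G) : Prop where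
  normal : V.Normal
  trans : ∀ x y : Ω, ∃ v ∈ V, v • x = y
  semi : ∀ v ∈ V, ∀ x : Ω, v • x = x → v = 1

variable {a b : Ω} {V F : Subgroup G}

theorem Reg.eq_of_smul (hV : Reg Ω V) {u v : G} (hu : u ∈ V) (hv : v ∈ V) {x : Ω}
    (h : u • x = v • x) : u = v :=
  (inv_mul_eq_one.mp (hV.semi _ (mul_mem (inv_mem hv) hu) x
    (by rw [mul_smul, h, inv_smul_smul]))).symm

theorem Reg.exists_conj (hV : Reg Ω V) (hK : Ker a F) {u v : G} (hu : u ∈ V) (hu1 : u ≠ 1)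
    (hv : v ∈ V) (hv1 : v ≠ 1) : ∃ w ∈ F, w * u * w⁻¹ = v := by
  obtain ⟨w, hw, e⟩ := hK.trans (y := u • a) (z := v • a) (fun e => hu1 (hV.semi u hu a e))
    (fun e => hv1 (hV.semi v hv a e))
  refine ⟨w, hw, hV.eq_of_smul (hV.normal.conj_mem u hu w) hv (x := a) ?_⟩
  rw [← e]
  conv_lhs => rw [← hK.fix w hw, conj_smul_smul]

theorem Reg.sq_of_invol (hV : Reg Ω V) (hK : Ker a F) {u : G} (hu : u ∈ V) (hu1 : u ≠ 1)
    (hu2 : u * u = 1) {v : G} (hv : v ∈ V) : v * v = 1 := by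
  by_cases hv1 : v = 1
  · rw [hv1, one_mul]
  obtain ⟨w, -, rfl⟩ := hV.exists_conj hK hu hu1 hv hv1
  exact conj_sq_eq_one hu2

theorem Reg.exists_invol (hV : Reg Ω V) (h : Z3 G Ω) (hab : a ≠ b) (h1 : St2 G a b ≠ ⊥) :
    ∃ u ∈ V, u ≠ 1 ∧ u * u = 1 := by
  obtain ⟨⟨x, hx⟩, hx1⟩ := Subgroup.ne_bot_iff_exists_ne_one.mp h1
  obtain ⟨v, hv, e⟩ := hV.trans a b
  obtain ⟨h2, h3⟩ := mem_St2.mp hx
  have h4 : x * v * x⁻¹ = v := hV.eq_of_smul (hV.normal.conj_mem v hv x) hv (x := a) (by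
    conv_lhs => rw [← h2, conj_smul_smul, e, h3, ← e])
  have h5 : x • (v • b) = v • b := by
    conv_rhs => rw [← h4, ← h3, conj_smul_smul]
  refine ⟨v, hv, fun e' => hab (by rw [← e, e', one_smul]), hV.semi _ (mul_mem hv hv) a ?_⟩
  rw [mul_smul, e]
  refine (h.eq_or_eq hab hx (fun e => hx1 (Subtype.ext e)) h5).resolve_right fun e' => hab ?_
  rw [← e, hV.semi v hv b e', one_smul]

theorem comm_of_sq {V : Subgroup G} (h : ∀ v ∈ V, v * v = 1) {u v : G} (hu : u ∈ V) (hv : v ∈ V) :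
    u * v = v * u := by
  rw [← invol_inv (h _ (mul_mem hu hv)), mul_inv_rev, invol_inv (h u hu), invol_inv (h v hv)]

theorem Reg.card_eq_pow [Finite G] [Finite Ω] (hV : Reg Ω V) (hab : a ≠ b)
    (h : ∀ v ∈ V, v * v = 1) : ∃ m : ℕ, m ≠ 0 ∧ Nat.card Ω = 2 ^ m := by
  have : Fact (Nat.Prime 2) := ⟨Nat.prime_two⟩
  have h1 : IsPGroup 2 V := fun v => ⟨1, Subtype.ext (by simpa [pow_two] using h v v.2)⟩
  obtain ⟨m, hm⟩ := IsPGroup.iff_card.mp h1
  rw [card_of_regular a hV.trans hV.semi] at hm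
  have := two_le_card_of_ne hab
  exact ⟨m, by rintro rfl; omega, hm⟩

theorem Reg.fpf (hV : Reg Ω V) (hK : Ker a F) :
    ∀ w ∈ F, w ≠ 1 → V ⊓ Subgroup.centralizer {w} = ⊥ := by
  intro w hw hw1
  rw [eq_bot_iff]
  rintro v ⟨hv, hc⟩
  replace hc := H6.mem_centralizer_singleton.mp hc
  refine hV.semi v hv a (hK.fix_unique hw hw1 ?_)
  rw [← mul_smul, ← hc, mul_smul, hK.fix w hw]

theorem Reg.isCyclic_ker [Finite G] [Finite Ω] (hV : Reg Ω V) (h : Z3 G Ω) (hab : a ≠ b)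
    (hK : Ker a F) (h1 : St2 G a b ≠ ⊥) : IsCyclic F := by
  obtain ⟨u, hu, hu1, hu2⟩ := hV.exists_invol h hab h1
  obtain ⟨m, hm, hc⟩ := hV.card_eq_pow hab fun v hv => hV.sq_of_invol hK hu hu1 hu2 hv
  have := hV.normal
  have := hK.isNilpotent h hab h1
  have := H2.isZGroup_of_fpf_of_odd (H := F) (K := V) (fun e => hu1 (by rwa [e] at hu))
    Subgroup.le_normalizer_of_normal (hV.fpf hK) (by
      rw [hK.card hab, hc]
      obtain ⟨k, rfl⟩ := Nat.exists_eq_succ_of_ne_zero hm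
      have : 0 < 2 ^ k := by positivity
      rw [pow_succ]; omega)
  infer_instance

/-- coordinates in which the group acts by semi-affine maps -/
theorem Reg.exists_coord [Finite G] [Finite Ω] (hV : Reg Ω V) (hab : a ≠ b) (hK : Ker a F)
    (hF : IsMulCommutative F) (h2 : ∀ v ∈ V, v * v = 1) (K : Type*) [Field K] [Finite K]
    (hc : Nat.card K = Nat.card Ω) : ∃ e : K ≃ Ω, e 0 = a ∧ e 1 = b ∧
      ∀ g : G, ∃ (c : Kˣ) (k₀ : K) (φ : K ≃+* K), ∀ k, g • e k = e (c * φ k + k₀) := by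
  have : IsMulCommutative V := ⟨⟨fun u v => Subtype.ext (comm_of_sq h2 u.2 v.2)⟩⟩
  have := hV.normal
  obtain ⟨v₀, hv₀, e₀⟩ := hV.trans a b
  obtain ⟨τ, μ, t1, t2, t3, t4, t5, -, -, t6⟩ := exists_field_coord V F
    (fun x hx y hy => Subtype.mk.inj (hF.is_comm.comm (⟨x, hx⟩ : F) ⟨y, hy⟩))
    Subgroup.le_normalizer_of_normal (fun U hU hU1 hn => le_antisymm hU fun v hv => by
      obtain ⟨⟨u, hu⟩, hu1⟩ := Subgroup.ne_bot_iff_exists_ne_one.mp hU1
      by_cases hv1 : v = 1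
      · rw [hv1]; exact one_mem U
      obtain ⟨w, hw, rfl⟩ := hV.exists_conj hK (hU hu) (fun e => hu1 (Subtype.ext e)) hv hv1
      exact conj_mem_of_mem_normalizer (hn hw) hu) hv₀
    (fun e => hab (by rw [← e₀, e, one_smul])) K
    (by rw [hc, card_of_regular a hV.trans hV.semi])
  have t0 : τ 0 = 1 := by
    have := t1 0 0
    rw [add_zero] at this
    exact left_eq_mul.mp this
  let e : K ≃ Ω := Equiv.ofBijective (fun k => τ k • a)
    ⟨fun k l hkl => t2 (hV.eq_of_smul (t3 k) (t3 l) hkl), fun x => by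
      obtain ⟨v, hv, rfl⟩ := hV.trans a x
      obtain ⟨k, rfl⟩ := t4 v hv
      exact ⟨k, rfl⟩⟩
  have he : ∀ k, e k = τ k • a := fun _ => rfl
  refine ⟨e, by rw [he, t0, one_smul], by rw [he, t5, e₀], fun g => ?_⟩
  obtain ⟨v, hv, e1⟩ := hV.trans a (g • a)
  obtain ⟨k₀, rfl⟩ := t4 v hv
  have h3 : ((τ k₀)⁻¹ * g) • a = a := by rw [mul_smul, ← e1, inv_smul_smul]
  obtain ⟨φ, c, h4⟩ := t6 ((τ k₀)⁻¹ * g) (Subgroup.le_normalizer_of_normal (Subgroup.mem_top _))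
    (hK.conj _ h3)
  have hc0 : c ≠ 0 := by
    rintro rfl
    have := h4 1
    rw [zero_mul, t0, conj_eq_one_iff, ← t0] at this
    exact one_ne_zero (t2 this)
  refine ⟨Units.mk0 c hc0, k₀, φ, fun k => ?_⟩
  rw [he, he, Units.val_mk0, add_comm, t1, ← h4, mul_smul]
  conv_rhs => rw [← h3, conj_smul_smul, mul_smul, smul_inv_smul]

theorem card_eq_of_coord [Finite G] (h : Z3 G Ω) (hab : a ≠ b) (h3 : ∃ c, c ≠ a ∧ c ≠ b)
    {K : Type*} [Field K] [Finite K] (e : K ≃ Ω) (e0 : e 0 = a) (e1 : e 1 = b)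
    (he : ∀ g : G, ∃ (c : Kˣ) (k₀ : K) (φ : K ≃+* K), ∀ k, g • e k = e (c * φ k + k₀))
    {B : Subgroup G} (hB : B ≤ St2 G a b) (hB1 : B ≠ ⊥) : Nat.card K = 2 ^ Nat.card B := by
  have key : ∀ x : B, ∃ φ : K ≃+* K, ∀ k, (x : G) • e k = e (φ k) := fun x => by
    obtain ⟨c, k₀, φ, h1⟩ := he x
    obtain ⟨h4, h5⟩ := mem_St2.mp (hB x.2)
    have h6 := h1 0
    rw [map_zero φ, mul_zero, zero_add, e0, h4, ← e0] at h6
    have h7 := h1 1
    rw [map_one φ, mul_one, ← e.injective h6, add_zero, e1, h5, ← e1] at h7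
    exact ⟨φ, fun k => by rw [h1, ← e.injective h6, ← e.injective h7, one_mul, add_zero]⟩
  choose φ hφ using key
  let _ : MulSemiringAction B K :=
    { smul := fun x k => φ x k
      one_smul := fun k => e.injective (by
        change e (φ 1 k) = e k
        rw [← hφ, OneMemClass.coe_one, one_smul])
      mul_smul := fun x y k => e.injective (by
        change e (φ (x * y) k) = e (φ x (φ y k))
        rw [← hφ, ← hφ, ← hφ, Subgroup.coe_mul, mul_smul])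
      smul_zero := fun x => map_zero (φ x)
      smul_add := fun x => map_add (φ x)
      smul_one := fun x => map_one (φ x)
      smul_mul := fun x => map_mul (φ x) }
  have hs : ∀ (x : B) (k : K), e (x • k) = (x : G) • e k := fun x k => (hφ x k).symm
  obtain ⟨c, hca, hcb⟩ := h3
  have : FaithfulSMul B K := ⟨fun {x y} hxy => Subtype.ext (h.ext3 hab hcb.symm hca.symm
    (by rw [← e0, ← hs, ← hs, hxy]) (by rw [← e1, ← hs, ← hs, hxy])
    (by rw [← e.apply_symm_apply c, ← hs, ← hs, hxy]))⟩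
  have := Fintype.ofFinite B
  have h4 := FixedPoints.finrank_eq_card B K
  have h5 : Nat.card (FixedPoints.subfield B K) = 2 := by
    rw [Nat.card_eq_two_iff]
    refine ⟨0, 1, zero_ne_one, Set.eq_univ_of_forall fun k => ?_⟩
    obtain ⟨x, hx1⟩ := Subgroup.ne_bot_iff_exists_ne_one.mp hB1
    have h6 : (x : G) • e k = e k := by rw [← hs, k.2 x]
    rcases h.eq_or_eq hab (hB x.2) (fun e => hx1 (Subtype.ext e)) h6 with h7 | h7
    · left; exact Subtype.ext (e.injective (h7.trans e0.symm))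
    · right; exact Subtype.ext (e.injective (h7.trans e1.symm))
  rw [Module.natCard_eq_pow_finrank (K := FixedPoints.subfield B K), h4, h5, Nat.card_eq_fintype_card]

theorem Z3.exists_third (hab : a ≠ b) [FaithfulSMul G Ω] (h1 : St2 G a b ≠ ⊥) :
    ∃ c, c ≠ a ∧ c ≠ b := by
  obtain ⟨⟨x, hx⟩, hx1⟩ := Subgroup.ne_bot_iff_exists_ne_one.mp h1
  obtain ⟨c, hc⟩ := exists_moved (Ω := Ω) (u := x) (fun e => hx1 (Subtype.ext e))
  exact ⟨c, fun e => hc (by rw [e, (mem_St2.mp hx).1]), fun e => hc (by rw [e, (mem_St2.mp hx).2])⟩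

theorem Reg.prime_and_coord [Finite G] [Finite Ω] [FaithfulSMul G Ω] (hV : Reg Ω V) (h : Z3 G Ω)
    (hab : a ≠ b) (h1 : St2 G a b ≠ ⊥) : ∃ q : ℕ, ∃ _ : Fact (Nat.Prime 2), q.Prime ∧
      Nat.card Ω = 2 ^ q ∧ Nat.card (St2 G a b) = q ∧ ∃ e : GaloisField 2 q ≃ Ω,
        ∀ g : G, ∃ (c : (GaloisField 2 q)ˣ) (k₀ : GaloisField 2 q)
          (φ : GaloisField 2 q ≃+* GaloisField 2 q), ∀ k, g • e k = e (c * φ k + k₀) := by
  have : Fact (Nat.Prime 2) := ⟨Nat.prime_two⟩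
  obtain ⟨F, hK⟩ := h.exists_ker hab
  obtain ⟨u, hu, hu1, hu2⟩ := hV.exists_invol h hab h1
  have h2 : ∀ v ∈ V, v * v = 1 := fun v hv => hV.sq_of_invol hK hu hu1 hu2 hv
  obtain ⟨m, hm, hc⟩ := hV.card_eq_pow hab h2
  have := hV.isCyclic_ker h hab hK h1
  have hK' := GaloisField.card 2 m hm
  obtain ⟨e, e0, e1, he⟩ := hV.exists_coord hab hK inferInstance h2 (GaloisField 2 m)
    (by rw [hK', hc])
  have key : ∀ B : Subgroup G, B ≤ St2 G a b → B ≠ ⊥ → Nat.card B = m := fun B hB hB1 =>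
    Nat.pow_right_injective le_rfl
      ((card_eq_of_coord h hab (Z3.exists_third hab h1) e e0 e1 he hB hB1).symm.trans hK')
  refine ⟨m, inferInstance, ?_, hc, key _ le_rfl h1, e, he⟩
  obtain ⟨p, hp, hd⟩ := Nat.exists_prime_and_dvd (n := Nat.card (St2 G a b))
    (fun e => h1 (Subgroup.card_eq_one.mp e))
  have := Fact.mk hp
  obtain ⟨x, hx⟩ := exists_prime_orderOf_dvd_card' p hd
  rw [← Subgroup.orderOf_coe] at hx
  rw [← key (Subgroup.zpowers (x : G)) (Subgroup.zpowers_le.mpr x.2) (fun e => by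
    rw [Subgroup.zpowers_eq_bot.mp e, orderOf_one] at hx
    exact hp.one_lt.ne hx), Nat.card_zpowers, hx]
  exact hp

theorem reg_of {N : Subgroup G} (hN : N.Normal) (hNt : IsPretransitive N Ω)
    (hNr : ∀ a : Ω, stabilizer N a = ⊥) : Reg Ω N :=
  ⟨hN, fun x y => by
    obtain ⟨v, hv⟩ := hNt.exists_smul_eq x y
    exact ⟨v, v.2, hv⟩, fun v hv x e => by
    have : (⟨v, hv⟩ : N) ∈ stabilizer N x := e
    rw [hNr x, Subgroup.mem_bot] at this
    exact Subtype.mk.inj this⟩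

theorem s0341 [Fintype Ω] [FaithfulSMul G Ω] (h2 : MulAction.IsMultiplyPretransitive G Ω 2)
    (h3 : ∀ g : G, ∀ a b c : Ω, a ≠ b → b ≠ c → a ≠ c → g • a = a → g • b = b → g • c = c → g = 1)
    (hfix : ∃ g : G, g ≠ 1 ∧ ∃ a b : Ω, a ≠ b ∧ g • a = a ∧ g • b = b)
    (N : Subgroup G) [hN : N.Normal] (hNt : MulAction.IsPretransitive N Ω)
    (hNr : ∀ a : Ω, MulAction.stabilizer N a = ⊥) :
    ∃ p : ℕ, p.Prime ∧ Fintype.card Ω = 2 ^ p := by
  have : Finite G := finite_of_faithful (Ω := Ω)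
  have h : Z3 G Ω := ⟨fun h1 h4 => is_two_pretransitive_iff.mp h2 h1 h4,
    fun h1 h4 h5 h6 h7 h8 => h3 _ _ _ _ h1 h4 h5 h6 h7 h8⟩
  obtain ⟨g, hg, a, b, hab, h4, h5⟩ := hfix
  obtain ⟨q, -, hq, h6, -⟩ := (reg_of hN hNt hNr).prime_and_coord h hab fun e => hg (by
    have : g ∈ St2 G a b := mem_St2.mpr ⟨h4, h5⟩
    rwa [e] at this)
  exact ⟨q, hq, by rw [← Nat.card_eq_fintype_card, h6]⟩

theorem exists_ker_of_card [Finite G] [Finite Ω] [FaithfulSMul G Ω] [IsPretransitive G Ω] {p d : ℕ}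
    (hp : p.Prime) (hΩ : Nat.card Ω = p + 1) (hG : Nat.card G = (p + 1) * p * d) (hd : d < p)
    (a : Ω) : ∃ F : Subgroup G, Ker a F ∧ Nat.card F = p := by
  have := Fact.mk hp
  have h1 : Nat.card (stabilizer G a) = p * d := by
    have := (stabilizer G a).index_mul_card
    rw [index_stabilizer_of_transitive, hΩ, hG, mul_assoc] at this
    exact Nat.eq_of_mul_eq_mul_left (by omega) this
  have hd0 : d ≠ 0 := by
    rintro rfl
    exact Nat.card_pos.ne' h1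
  have hpd : ¬ p ∣ d := Nat.not_dvd_of_pos_of_lt (by omega) hd
  obtain ⟨P⟩ : Nonempty (Sylow p (stabilizer G a)) := inferInstance
  have h2 : Nat.card P = p := by
    rw [P.card_eq_multiplicity, h1, Nat.factorization_mul hp.ne_zero hd0]
    simp [hp.factorization_self, Nat.factorization_eq_zero_of_not_dvd hpd]
  have h3 : (P : Subgroup (stabilizer G a)).index = d := by
    have := (P : Subgroup (stabilizer G a)).card_mul_index
    rw [h1, h2] at this
    exact Nat.eq_of_mul_eq_mul_left hp.pos this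
  have h4 : Nat.card (Sylow p (stabilizer G a)) = 1 := by
    have h5 := Nat.le_of_dvd (by omega) (h3 ▸ P.card_dvd_index)
    exact (card_sylow_modEq_one p (stabilizer G a)).eq_of_lt_of_lt (by omega) hp.one_lt
  have : Subsingleton (Sylow p (stabilizer G a)) := (Nat.card_eq_one_iff_unique.mp h4).1
  have h5 := P.normal_of_subsingleton
  set F := (P : Subgroup (stabilizer G a)).map (stabilizer G a).subtype with hF
  have hFc : Nat.card F = p := by rw [hF, Subgroup.card_subtype, h2]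
  have hfix : ∀ u ∈ F, u • a = a := fun u hu => Subgroup.map_subtype_le _ hu
  have := isCyclic_of_prime_card hFc
  have hcomm : ∀ u ∈ F, ∀ v ∈ F, u * v = v * u := fun u hu v hv =>
    Subtype.mk.inj (mul_comm' (⟨u, hu⟩ : F) ⟨v, hv⟩)
  obtain ⟨⟨u₀, hu₀⟩, hu1⟩ := Subgroup.ne_bot_iff_exists_ne_one.mp
    (show F ≠ ⊥ from fun e => by rw [e, Subgroup.card_bot] at hFc; exact hp.one_lt.ne hFc)
  obtain ⟨z, hz⟩ := exists_moved (Ω := Ω) (u := u₀) (fun e => hu1 (Subtype.ext e))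
  have hza : z ≠ a := fun e => hz (by rw [e, hfix u₀ hu₀])
  have hz1 : ∀ u ∈ F, u • z = z → u = 1 := fun u hu e => by
    by_contra hne
    have h6 : (⟨u₀, hu₀⟩ : F) ∈ Subgroup.zpowers (⟨u, hu⟩ : F) :=
      mem_zpowers_of_prime_card hFc fun e => hne (Subtype.mk.inj e)
    have h7 : Subgroup.zpowers (⟨u, hu⟩ : F) ≤ stabilizer F z := Subgroup.zpowers_le.mpr e
    exact hz (h7 h6)
  let f : F → {c : Ω // c ≠ a} := fun u => ⟨(u : G) • z, smul_ne_of_fix' (hfix u u.2) hza⟩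
  have hf : Function.Bijective f := (Nat.bijective_iff_injective_and_card f).mpr
    ⟨fun u v e => Subtype.ext (inv_mul_eq_one.mp (hz1 _ (mul_mem (inv_mem v.2) u.2) (by
      rw [mul_smul, Subtype.mk.inj e, inv_smul_smul]))).symm, by rw [hFc, card_ne_one, hΩ]; rfl⟩
  have hsur : ∀ y, y ≠ a → ∃ u ∈ F, u • z = y := fun y hy => by
    obtain ⟨u, hu⟩ := hf.2 ⟨y, hy⟩
    exact ⟨u, u.2, Subtype.mk.inj hu⟩
  refine ⟨F, ⟨hfix, fun g hg u hu => ?_, fun hy hy' => ?_, fun u hu y hy e => ?_⟩, hFc⟩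
  · obtain ⟨w, hw, rfl⟩ := hu
    exact ⟨_, h5.conj_mem w hw ⟨g, hg⟩, rfl⟩
  · obtain ⟨u, hu, rfl⟩ := hsur _ hy
    obtain ⟨v, hv, rfl⟩ := hsur _ hy'
    exact ⟨v * u⁻¹, mul_mem hv (inv_mem hu), by rw [mul_smul, inv_smul_smul]⟩
  · obtain ⟨w, hw, rfl⟩ := hsur _ hy
    refine hz1 u hu ?_
    rwa [← mul_smul, hcomm u hu w hw, mul_smul, smul_left_cancel_iff] at e

theorem z3_of_prime_ker [FaithfulSMul G Ω] [IsPretransitive G Ω] {p : ℕ} (hp : p.Prime)
    (hK : ∀ a : Ω, ∃ F : Subgroup G, Ker a F ∧ Nat.card F = p) : Z3 G Ω := by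
  have := Fact.mk hp
  refine ⟨fun {x y z w} h1 h2 => ?_, fun {g a b c} h1 h2 h3 h4 h5 h6 => ?_⟩
  · obtain ⟨g, rfl⟩ := exists_smul_eq G x z
    obtain ⟨F, hF, -⟩ := hK (g • x)
    obtain ⟨u, hu, e⟩ := hF.trans (y := g • y) (fun e => h1 (smul_left_cancel g e).symm) h2.symm
    exact ⟨u * g, by rw [mul_smul, hF.fix u hu], by rw [mul_smul, e]⟩
  · obtain ⟨F, hF, hc⟩ := hK a
    obtain ⟨u, hu, e⟩ := hF.trans h1.symm h3.symm
    have h7 : g * u * g⁻¹ = u := hF.eq_of_smul (hF.conj g h4 u hu) hu h1.symm (by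
      conv_lhs => rw [← h5, conj_smul_smul, e, h6, ← e])
    have h8 : ∀ w ∈ F, g * w = w * g := fun w hw => by
      have h9 : (⟨w, hw⟩ : F) ∈ Subgroup.zpowers (⟨u, hu⟩ : F) :=
        mem_zpowers_of_prime_card hc fun e' => h2 (by rw [← e, Subtype.mk.inj e', one_smul])
      obtain ⟨k, hk⟩ := Subgroup.mem_zpowers_iff.mp h9
      have h10 : u ^ k = w := congrArg Subtype.val hk
      rw [← h10]
      exact (Commute.zpow_right (mul_inv_eq_iff_eq_mul.mp h7) k).eq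
    refine eq_of_smul_eq_smul fun y : Ω => ?_
    rw [one_smul]
    by_cases hy : y = a
    · rw [hy, h4]
    obtain ⟨w, hw, rfl⟩ := hF.trans h1.symm hy
    rw [← mul_smul, h8 w hw, mul_smul, h5]

theorem Z3.exists_reg [Finite G] [Finite Ω] (h : Z3 G Ω) (h3 : 3 ≤ Nat.card Ω) (hab : a ≠ b)
    (h1 : St2 G a b = ⊥) : ∃ V : Subgroup G, Reg Ω V := by
  have h2 : ∀ {c d : Ω}, c ≠ d → ∀ g : G, g • c = c → g • d = d → g = 1 := fun {c d} hcd g e1 e2 => by
    have h4 := h.card_St2_eq hab hcd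
    rw [h1, Subgroup.card_bot, Subgroup.card_eq_one] at h4
    have : g ∈ St2 G c d := mem_St2.mpr ⟨e1, e2⟩
    rwa [h4] at this
  obtain ⟨V, hV, h4, h5, h6, h7⟩ := H4.frobenius_kernel (stabilizer G a) fun g hg x hx hx' =>
    h2 (c := a) (d := g⁻¹ • a) (fun e => hg (by
      rw [mem_stabilizer_iff]; nth_rewrite 1 [e]; rw [smul_inv_smul])) x hx
      ((conj_mem_stab_iff (smul_inv_smul g a)).mp hx')
  have hsemi : ∀ v ∈ V, ∀ x : Ω, v • x = x → v = 1 := fun v hv x e => by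
    refine ((h4 v).mp hv).resolve_right fun h8 => ?_
    obtain ⟨g, hg⟩ := h.trans hab x a
    exact h8 g ((conj_mem_stab_iff hg).mpr e)
  have htr : ∀ x : Ω, ∃ v ∈ V, v • a = x := fun x => by
    obtain ⟨g, rfl⟩ := h.trans hab a x
    obtain ⟨⟨v, s⟩, rfl⟩ := h7.2 g
    exact ⟨v, v.2, by rw [mul_smul, mem_stabilizer_iff.mp s.2]⟩
  refine ⟨V, hV, fun x y => ?_, hsemi⟩
  obtain ⟨u, hu, rfl⟩ := htr x
  obtain ⟨v, hv, rfl⟩ := htr y
  exact ⟨v * u⁻¹, mul_mem hv (inv_mem hu), by rw [mul_smul, inv_smul_smul]⟩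

theorem degree_prime_add_one [Finite G] [Finite Ω] [FaithfulSMul G Ω] [IsPretransitive G Ω]
    {p d : ℕ} (hp : p.Prime) (hΩ : Nat.card Ω = p + 1) (hG : Nat.card G = (p + 1) * p * d)
    (hd : d < p) :
    (d = p - 1 ∧ Nonempty (G ≃* Matrix.ProjGenLinGroup (Fin 2) (ZMod p))) ∨
      (2 * d = p - 1 ∧ Nonempty (G ≃* Matrix.ProjectiveSpecialLinearGroup (Fin 2) (ZMod p))) ∨
      (∃ q : ℕ, q.Prime ∧ p + 1 = 2 ^ q ∧ (d = 1 ∨ d = q) ∧ ∃ e : GaloisField 2 q ≃ Ω,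
        ∀ g : G, ∃ (c : (GaloisField 2 q)ˣ) (k₀ : GaloisField 2 q)
          (φ : GaloisField 2 q ≃+* GaloisField 2 q), ∀ k, g • e k = e (c * φ k + k₀)) := by
  have := Fact.mk hp
  have hker := exists_ker_of_card hp hΩ hG hd
  have h := z3_of_prime_ker hp hker
  have h2 := hp.two_le
  have h3 : 3 ≤ Nat.card Ω := by omega
  have : Nontrivial Ω := Finite.one_lt_card_iff_nontrivial.mp (by omega)
  obtain ⟨a, b, hab⟩ := exists_pair_ne Ω
  obtain ⟨F, hK, hF⟩ := hker a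
  have := isCyclic_of_prime_card hF
  have he : Nat.card (St2 G a b) = d := by
    have h4 := h.card_G hab
    rw [hG, hΩ, mul_assoc, Nat.add_sub_cancel] at h4
    exact (Nat.eq_of_mul_eq_mul_left hp.pos (Nat.eq_of_mul_eq_mul_left (by omega) h4)).symm
  have hc : Nat.card (ZMod p) = Nat.card Ω - 1 := by rw [Nat.card_zmod, hΩ]; rfl
  by_cases h4 : d = p - 1
  · refine Or.inl ⟨h4, ?_⟩
    have h5 := h.sh3_of_card hab (by omega)
    rcases hp.eq_two_or_odd' with h6 | h6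
    · obtain ⟨s, hs1, hs2⟩ := h.two hab hab.symm
      refine h5.iso_pgl h3 hab hs1 hs2 (fun g hg => ?_) (ZMod p) hc
      have h7 : St2 G a b = ⊥ := Subgroup.card_eq_one.mp (by omega)
      rw [h7, Subgroup.mem_bot] at hg
      simp [hg]
    · exact h5.iso_pgl_of_odd h3 (by rw [hΩ]; exact h6.add_one) (ZMod p) hc
        fun φ _ => RingEquiv.ext fun x => by
          obtain ⟨n, rfl⟩ := ZMod.natCast_zmod_surjective x
          simp
  right
  by_cases h5 : St2 G a b = ⊥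
  · right
    obtain ⟨V, hV⟩ := h.exists_reg h3 hab h5
    rw [h5, Subgroup.card_bot] at he
    have h6 : Odd p := hp.odd_of_ne_two (by omega)
    obtain ⟨u, hu, hu1, hu2⟩ := exists_invol_of_even_card (X := V) (by
      rw [card_of_regular a hV.trans hV.semi, hΩ]; exact h6.add_one)
    have h7 : ∀ v ∈ V, v * v = 1 := fun v hv => hV.sq_of_invol hK hu hu1 hu2 hv
    obtain ⟨m, hm, h8⟩ := hV.card_eq_pow hab h7
    obtain ⟨e, -, -, h9⟩ := hV.exists_coord hab hK inferInstance h7 (GaloisField 2 m)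
      (by rw [GaloisField.card 2 m hm, h8])
    refine ⟨m, (Nat.prime_of_pow_sub_one_prime (a := 2) (by rintro rfl; omega)
      (by rw [← h8, hΩ]; exact hp)).2, by rw [← h8, hΩ], Or.inl he.symm, e, h9⟩
  by_cases h6 : ∃ V : Subgroup G, Reg Ω V
  · right
    obtain ⟨V, hV⟩ := h6
    obtain ⟨q, _, h7, h8, h9, e, h10⟩ := hV.prime_and_coord h hab h5
    exact ⟨q, h7, by rw [← h8, hΩ], Or.inr (by rw [← h9, he]), e, h10⟩
  left
  have hZ : IsZassenhausGroup G Ω := by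
    refine ⟨inferInstance, is_two_pretransitive_iff.mpr fun h1 h2 => h.two h1 h2,
      fun g x y z h1 h2 h3 h4 h5 h6 => h.three h1 h2 h3 h4 h5 h6, ?_, fun N hN hNt => ?_⟩
    · obtain ⟨⟨x, hx⟩, hx1⟩ := Subgroup.ne_bot_iff_exists_ne_one.mp h5
      exact ⟨x, fun e => hx1 (Subtype.ext e), a, b, hab, hx⟩
    · by_contra hc
      push Not at hc
      exact h6 ⟨N, reg_of hN hNt hc⟩
  rcases cases_of_comm hZ hab hK inferInstance with h7 | ⟨h7, h8⟩
  · omega
  · exact ⟨by omega, iso_psl_of_simple hZ hab h7 (ZMod p) hc⟩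

theorem s0732 {α : Type*} [Fintype α] [DecidableEq α] {p d : ℕ} (hp : p.Prime)
    (hα : Fintype.card α = p + 1) (G : Subgroup (Equiv.Perm α)) [MulAction.IsPretransitive G α]
    (hG : Nat.card G = (p + 1) * p * d) (hd : d < p) :
    (d = p - 1 ∧ Nonempty (G ≃* Matrix.ProjGenLinGroup (Fin 2) (ZMod p))) ∨
      (2 * d = p - 1 ∧ Nonempty (G ≃* Matrix.ProjectiveSpecialLinearGroup (Fin 2) (ZMod p))) ∨
      (∃ q : ℕ, q.Prime ∧ p + 1 = 2 ^ q ∧ (d = 1 ∨ d = q) ∧ ∃ e : α ≃ GaloisField 2 q, ∀ g : G,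
        (e.symm.trans (((g : Equiv.Perm α)).trans e)) ∈ Cfsg.semiaffineGroup (GaloisField 2 q)) := by
  rcases degree_prime_add_one hp (Nat.card_eq_fintype_card.trans hα) hG hd with
    h | h | ⟨q, h1, h2, h3, e, h4⟩
  · exact Or.inl h
  · exact Or.inr (Or.inl h)
  · refine Or.inr (Or.inr ⟨q, h1, h2, h3, e.symm, fun g => ?_⟩)
    obtain ⟨c, k₀, φ, h5⟩ := h4 g
    exact ⟨c, k₀, φ, fun x => e.symm_apply_eq.mpr (h5 x)⟩

end H21
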