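import Mathlib
import Cfsg.Agent.H18.D1h
import Cfsg.Agent.H18.Syl

/-! Mathieu groups by order, part 1: the fixed vector trick, class multiplication constants,
Sylow counts in overgroups of a Sylow normaliser. -/

set_option autoImplicit false
set_option linter.unusedSectionVars false

open Cfsg H4 H17 H18 Subgroup Module
open scoped ComplexConjugate

namespace H21

theorem end_eq_one_of_trace {V : Type*} [AddCommGroup V] [Module ℂ V] [FiniteDimensional ℂ V]
    (A : Module.End ℂ V) {n : ℕ} (hn : n ≠ 0) (hA : A ^ n = 1)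
    (ht : LinearMap.trace ℂ V A = finrank ℂ V) : A = 1 := by
  obtain ⟨b, ω, h1, h2⟩ := exists_eigenbasis A (n := n) (by exact_mod_cast hn) hA
  have h3 := trace_eq_sum_of_eigenbasis b A ω h2
  rw [ht] at h3
  have h4 : ∀ i, ‖ω i‖ = 1 := fun i => norm_eq_one_of_pow_eq_one hn (h1 i)
  refine b.ext fun i => ?_
  have h5 : ∀ j, ω j = ω i := fun j =>
    eq_of_norm_sum_eq_card ω h4 (by rw [← h3]; simp) j i
  simp only [h5, Finset.sum_const, Finset.card_univ, Fintype.card_fin, nsmul_eq_mul] at h3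
  have h6 : (finrank ℂ V : ℂ) ≠ 0 := by
    have := i.pos
    exact_mod_cast this.ne'
  have h7 : ω i = 1 := mul_left_cancel₀ h6 (by rw [← h3, mul_one])
  rw [h2, h7, one_smul, Module.End.one_apply]

variable {G : Type*} [Group G] [Finite G]

section Avg

variable {V : Type*} [AddCommGroup V] [Module ℂ V] [FiniteDimensional ℂ V]
  (ρ : Representation ℂ G V) (W : Subgroup G) [Fintype W]

/-- The averaging projector of a subgroup. -/
noncomputable def avgP : Module.End ℂ V := (Nat.card W : ℂ)⁻¹ • ∑ w : W, ρ w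

theorem mul_avgP (w : W) : ρ w * avgP ρ W = avgP ρ W := by
  rw [avgP, mul_smul_comm, Finset.mul_sum]
  congr 1
  exact Fintype.sum_equiv (Equiv.mulLeft w) _ _ fun u => by simp

theorem avgP_apply {v : V} (hv : ∀ w ∈ W, ρ w v = v) : avgP ρ W v = v := by
  rw [avgP, LinearMap.smul_apply, LinearMap.sum_apply,
    Finset.sum_congr rfl fun (w : W) _ => hv w w.2, Finset.sum_const, Finset.card_univ,
    ← Nat.card_eq_fintype_card, ← Nat.cast_smul_eq_nsmul ℂ, smul_smul,
    inv_mul_cancel₀ (card_ne_zero W), one_smul]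

theorem avgP_idem : avgP ρ W * avgP ρ W = avgP ρ W := by
  refine LinearMap.ext fun v => ?_
  rw [Module.End.mul_apply]
  exact avgP_apply ρ W fun w hw => by
    rw [← Module.End.mul_apply, mul_avgP ρ W ⟨w, hw⟩]

theorem avgP_comm {g : G} (hg : g ∈ normalizer (W : Set G)) :
    ρ g * avgP ρ W = avgP ρ W * ρ g := by
  rw [avgP, mul_smul_comm, smul_mul_assoc, Finset.mul_sum, Finset.sum_mul]
  congr 1
  refine Fintype.sum_equiv (W.normalizerMonoidHom ⟨g, hg⟩).toEquiv _ _ fun u => ?_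
  rw [← map_mul, ← map_mul]
  congr 1
  change (g : G) * u = (g * u * g⁻¹) * g
  group

theorem trace_mul_avgP (g : G) : LinearMap.trace ℂ V (ρ g * avgP ρ W) =
    (Nat.card W : ℂ)⁻¹ * ∑ w : W, ρ.character (g * w) := by
  rw [avgP, mul_smul_comm, map_smul, Finset.mul_sum, map_sum, smul_eq_mul]
  simp only [← map_mul]
  rfl

theorem fix_of_sum {g : G} (hg : g ∈ normalizer (W : Set G))
    (h : ∑ w : W, ρ.character (g * w) = ∑ w : W, ρ.character w) {v : V}
    (hv : ∀ w ∈ W, ρ w v = v) : ρ g v = v := by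
  have hE := avgP_idem ρ W
  have hc := avgP_comm ρ W hg
  set E := avgP ρ W with hEdef
  have hpow : ∀ k : ℕ, (ρ g * E + (1 - E)) ^ k = ρ g ^ k * E + (1 - E) := fun k => by
    induction k with
    | zero => simp
    | succ k ih =>
      have e1 : E * (ρ g * E) = ρ g * E := by rw [← mul_assoc, ← hc, mul_assoc, hE]
      rw [pow_succ, ih, pow_succ]
      simp only [add_mul, mul_add, mul_sub, sub_mul, mul_one, one_mul, mul_assoc, e1, hE]
      abel
  have h1 : ρ g * E + (1 - E) = 1 := by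
    refine end_eq_one_of_trace _ (orderOf_pos g).ne' ?_ ?_
    · rw [hpow, ← map_pow, pow_orderOf_eq_one, map_one, one_mul, add_sub_cancel]
    · have h2 := trace_mul_avgP ρ W 1
      simp only [map_one, one_mul] at h2
      rw [map_add, map_sub, trace_mul_avgP, h, ← h2, LinearMap.trace_one]
      ring
  have h2 := congrArg (fun A : Module.End ℂ V => A v) h1
  simp only [LinearMap.add_apply, Module.End.mul_apply, LinearMap.sub_apply,
    Module.End.one_apply, hEdef, avgP_apply ρ W hv, sub_self, add_zero] at h2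
  exact h2

end Avg

/-- The character afforded by the fixed space of `W`. -/
theorem isCharacter_fix {χ : G → ℂ} (hχ : IsCharacter G χ) (W : Subgroup G) [Fintype W] :
    IsCharacter (normalizer (W : Set G))
      fun g => (Nat.card W : ℂ)⁻¹ * ∑ w : W, χ (g * w) := by
  obtain ⟨n, ρ, rfl⟩ := hχ
  have h := isCharacter_half_add_trace (ρ.comp (normalizer (W : Set G)).subtype)
    ((2 : ℂ) • avgP ρ W - 1) (by
      simp only [sub_mul, mul_sub, smul_mul_assoc, mul_smul_comm, avgP_idem, mul_one, one_mul]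
      module) (fun g => by
      have := avgP_comm ρ W g.2
      simp only [MonoidHom.comp_apply, coe_subtype, sub_mul, mul_sub, smul_mul_assoc,
        mul_smul_comm, this, mul_one, one_mul])
  convert h using 2 with g
  simp only [MonoidHom.comp_apply, coe_subtype, mul_sub, mul_smul_comm, mul_one, map_sub,
    map_smul, trace_mul_avgP, smul_eq_mul]
  simp only [Representation.character, MonoidHom.comp_apply, coe_subtype]
  ring

/-- The stabiliser of a fixed vector. -/
theorem exists_stab {χ : Irr G} (h1 : χ ≠ irrOne G) (P : Subgroup G) [Fintype P]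
    (hP : ∑ w : P, χ.1 w ≠ 0) : ∃ K : Subgroup G, K ≠ ⊤ ∧ P ≤ K ∧
      ∀ (W : Subgroup G) [Fintype W] (g : G), W ≤ K → g ∈ normalizer (W : Set G) →
        ∑ w : W, χ.1 (g * w) = ∑ w : W, χ.1 w → g ∈ K := by
  obtain ⟨χ, n, ρ, hρ, rfl⟩ := χ
  have h2 : avgP ρ P ≠ 0 := fun h => by
    have h3 := trace_mul_avgP ρ P 1
    simp only [h, mul_zero, map_zero, one_mul] at h3
    exact hP ((mul_eq_zero.1 h3.symm).resolve_left (inv_ne_zero (card_ne_zero P)))
  obtain ⟨u, hu⟩ : ∃ u, avgP ρ P u ≠ 0 := by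
    by_contra hc
    push Not at hc
    exact h2 (LinearMap.ext hc)
  set v := avgP ρ P u
  let K : Subgroup G :=
    { carrier := {g | ρ g v = v}
      mul_mem' := fun {a b} ha hb => by
        simp only [Set.mem_setOf_eq, map_mul, Module.End.mul_apply] at *
        rw [hb, ha]
      one_mem' := by simp
      inv_mem' := fun {a} ha => by
        simp only [Set.mem_setOf_eq] at *
        conv_lhs => rw [← ha, ← Module.End.mul_apply, ← map_mul, inv_mul_cancel, map_one]
        rfl }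
  refine ⟨K, fun hK => ?_, fun w hw => ?_, fun W _ g hW hg h => fix_of_sum ρ W hg h fun w hw => hW hw⟩
  · have := Fintype.ofFinite G
    have h3 := rep_classInner_one_eq_finrank ρ
    have h4 : classInner ρ.character (fun _ => 1) = 0 :=
      H4.Cfsg.IsIrrCharacter.inner_of_ne ⟨n, ρ, hρ, rfl⟩ isIrrCharacter_one fun e => h1 (Subtype.ext e)
    rw [h4] at h3
    have h5 : finrank ℂ ρ.invariants = 0 := by exact_mod_cast h3.symm
    rw [Submodule.finrank_eq_zero] at h5
    have h6 : v ∈ ρ.invariants := fun g => (hK ▸ mem_top g : g ∈ K)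
    rw [h5] at h6
    exact hu h6
  · change ρ w (avgP ρ P u) = avgP ρ P u
    rw [← Module.End.mul_apply, mul_avgP ρ P ⟨w, hw⟩]

theorem sum_zpowers {p : ℕ} [Fact p.Prime] {x : G} (hx : orderOf x = p) [Fintype (zpowers x)]
    (f : G → ℂ) : ∑ w : zpowers x, f w = ∑ i : ZMod p, f (xp x i) := by
  symm
  refine Fintype.sum_bijective (fun i => ⟨xp x i, xp_mem x i⟩) ⟨fun i j h => xp_injective hx
    (congrArg Subtype.val h), fun w => ?_⟩ _ _ fun _ => rfl
  obtain ⟨i, hi⟩ := exists_xp_of_mem hx w.2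
  exact ⟨i, Subtype.ext hi⟩

theorem sum_xp_eq {p : ℕ} [Fact p.Prime] {x : G} (hx : orderOf x = p) {θ : G → ℂ}
    (hθ : IsCharacter G θ) : ∑ i : ZMod p, θ (xp x i) = p * mult x θ (0 : ZMod p) := by
  rw [mult_eq hx hθ]
  simp only [mul_zero, neg_zero, psi_zero, mul_one]
  rw [mul_inv_cancel_left₀ p_ne_zero']

theorem sum_mul_xp {p : ℕ} [Fact p.Prime] {x : G} (hx : orderOf x = p) {θ : G → ℂ}
    (hθ : IsClassFunction G θ) {g : G} (hg : g ∈ normalizer (zpowers x : Set G))
    (hg' : g ∉ centralizer ({x} : Set G)) : ∑ i : ZMod p, θ (g * xp x i) = p * θ g := by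
  have : ∀ i : ZMod p, θ (g * xp x i) = θ g := fun i => by
    rw [hθ.mul_comm]; exact (hθ.apply_of_isConj (isConj_xp_mul hx hg hg' i)).symm
  simp [this]

/-- The fixed vector trick for elements of prime order. -/
theorem exists_stab' {χ : Irr G} (h1 : χ ≠ irrOne G) {p : ℕ} [Fact p.Prime] {x : G}
    (hx : orderOf x = p) (h0 : mult x χ.1 (0 : ZMod p) ≠ 0) :
    ∃ K : Subgroup G, K ≠ ⊤ ∧ x ∈ K ∧ ∀ (q : ℕ) [Fact q.Prime] (y g : G), orderOf y = q → y ∈ K →
      g ∈ normalizer (zpowers y : Set G) → g ∉ centralizer ({y} : Set G) →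
      χ.1 g = mult y χ.1 (0 : ZMod q) → g ∈ K := by
  have := Fintype.ofFinite (zpowers x)
  obtain ⟨K, hK, hP, h⟩ := exists_stab h1 (zpowers x) (by
    rw [sum_zpowers hx, sum_xp_eq hx χ.2.isCharacter]
    exact mul_ne_zero p_ne_zero' (by exact_mod_cast h0))
  refine ⟨K, hK, hP (mem_zpowers x), fun q _ y g hy hyK hg hg' e => ?_⟩
  have := Fintype.ofFinite (zpowers y)
  refine h (zpowers y) g (zpowers_le.2 hyK) hg ?_
  rw [sum_zpowers hy fun w => χ.1 (g * w), sum_zpowers hy, sum_xp_eq hy χ.2.isCharacter,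
    sum_mul_xp hy χ.2.classFun hg hg', e]

/-- Eigenvalues on the fixed space of an element of prime order. -/
theorem exists_fix_eigen {θ : G → ℂ} (hθ : IsCharacter G θ) {p : ℕ} [Fact p.Prime] {x : G}
    (hx : orderOf x = p) {g : G} (hg : g ∈ normalizer (zpowers x : Set G)) :
    ∃ ω : Fin (mult x θ (0 : ZMod p)) → ℂ, (∀ i, ω i ^ orderOf g = 1) ∧
      (∀ k : ℕ, ∑ i : ZMod p, θ (g ^ k * xp x i) = p * ∑ i, ω i ^ k) ∧
      ∀ k : ℕ, g ^ k ∉ centralizer ({x} : Set G) → θ (g ^ k) = ∑ i, ω i ^ k := by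
  have := Fintype.ofFinite (zpowers x)
  obtain ⟨n, ω, h1, h2, h3⟩ := (isCharacter_fix hθ (zpowers x)).exists_eigenvalues ⟨g, hg⟩
  simp only [Nat.card_zpowers, hx, OneMemClass.coe_one, one_mul, SubgroupClass.coe_pow] at h1 h3
  rw [sum_zpowers hx, sum_xp_eq hx hθ, inv_mul_cancel_left₀ p_ne_zero'] at h1
  obtain rfl : mult x θ (0 : ZMod p) = n := by exact_mod_cast h1
  have h4 : ∀ k : ℕ, ∑ i : ZMod p, θ (g ^ k * xp x i) = p * ∑ i, ω i ^ k := fun k => by
    rw [← h3 k, sum_zpowers hx fun w => θ (g ^ k * w), mul_inv_cancel_left₀ p_ne_zero']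
  refine ⟨ω, by simpa only [Subgroup.orderOf_mk] using h2, h4, fun k hk => ?_⟩
  have := h4 k
  rw [sum_mul_xp hx hθ.classFun (pow_mem hg k) hk] at this
  exact mul_left_cancel₀ p_ne_zero' this

/-- The class multiplication formula. -/
theorem card_triple (a b x : G) :
    (Nat.card {gh : G × G // gh.1 * a * gh.1⁻¹ * (gh.2 * b * gh.2⁻¹) = x} : ℂ) =
      Nat.card G * ∑ χ : Irr G, conj (χ.1 x) * (χ.1 a * χ.1 b / χ.1 1) := by
  classical
  have := Fintype.ofFinite G
  have h1 := (isClassFunction_card_conj x).sum_conj_mul_conj a b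
  have h2 : ∀ χ : Irr G, classInner (fun g => (Nat.card {y : G // y * x * y⁻¹ = g} : ℂ)) χ.1 =
      conj (χ.1 x) := fun χ => by
    have h3 := sum_conj_eq x fun g => conj (χ.1 g)
    simp only [χ.2.classFun x, Finset.sum_const, Finset.card_univ, nsmul_eq_mul,
      ← Nat.card_eq_fintype_card] at h3
    rw [classInner_def, ← h3, inv_mul_cancel_left₀ (card_ne_zero G)]
  simp only [h2] at h1
  have h4 : ∑ g : G, ∑ h : G, (Nat.card {y : G // y * x * y⁻¹ = g * a * g⁻¹ * (h * b * h⁻¹)} : ℂ) =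
      Nat.card G * Nat.card {gh : G × G // gh.1 * a * gh.1⁻¹ * (gh.2 * b * gh.2⁻¹) = x} := by
    simp only [Nat.card_eq_fintype_card, Fintype.card_subtype, Finset.card_filter, Nat.cast_sum]
    rw [← Fintype.sum_prod_type', Finset.sum_comm, ← nsmul_eq_mul, ← Finset.card_univ,
      ← Finset.sum_const]
    refine Finset.sum_congr rfl fun y _ => ?_
    refine (Fintype.sum_equiv ((Equiv.mulLeft y).prodCongr (Equiv.mulLeft y)) _ _ fun gh => ?_).symm
    have : y * x * y⁻¹ = y * gh.1 * a * (y * gh.1)⁻¹ * (y * gh.2 * b * (y * gh.2)⁻¹) ↔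
        gh.1 * a * gh.1⁻¹ * (gh.2 * b * gh.2⁻¹) = x := by
      rw [show y * gh.1 * a * (y * gh.1)⁻¹ * (y * gh.2 * b * (y * gh.2)⁻¹) =
        y * (gh.1 * a * gh.1⁻¹ * (gh.2 * b * gh.2⁻¹)) * y⁻¹ by group, mul_left_inj, mul_right_inj,
        eq_comm]
    simp only [Equiv.prodCongr_apply, Equiv.coe_mulLeft, Prod.map_fst, Prod.map_snd, this]
  rw [h4, sq, mul_assoc] at h1
  exact mul_left_cancel₀ (card_ne_zero G) h1

/-- A product of two involutions is real. -/
theorem sum_nonreal {a b x : G} (ha : a * a = 1) (hb : b * b = 1) (hx : ¬ IsConj x x⁻¹) :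
    ∑ χ : Irr G, conj (χ.1 x) * (χ.1 a * χ.1 b / χ.1 1) = 0 := by
  have h := card_triple a b x
  have : IsEmpty {gh : G × G // gh.1 * a * gh.1⁻¹ * (gh.2 * b * gh.2⁻¹) = x} := ⟨fun ⟨⟨g, k⟩, e⟩ => by
    refine hx (isConj_iff.2 ⟨g * a * g⁻¹, ?_⟩)
    have ha' : a⁻¹ = a := inv_eq_of_mul_eq_one_right ha
    have hb' : b⁻¹ = b := inv_eq_of_mul_eq_one_right hb
    rw [← e]
    simp only [mul_inv_rev, inv_inv, ha', hb', mul_assoc, inv_mul_cancel_left]
    rw [← mul_assoc a a, ha, one_mul, mul_inv_cancel_left]⟩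
  rw [Nat.card_of_isEmpty, Nat.cast_zero] at h
  exact (mul_eq_zero.1 h.symm).resolve_left (card_ne_zero G)

theorem card_triple_eq (a b x : G) :
    Nat.card {gh : G × G // gh.1 * a * gh.1⁻¹ * (gh.2 * b * gh.2⁻¹) = x} =
      Nat.card (centralizer ({a} : Set G)) * Nat.card (centralizer ({b} : Set G)) *
        Nat.card {s : G // IsConj a s ∧ IsConj b (s⁻¹ * x)} := by
  classical
  have := Fintype.ofFinite G
  have key : ∀ c s : G, (Finset.univ.filter fun g : G => g * c * g⁻¹ = s).card =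
      if IsConj c s then Nat.card (centralizer ({c} : Set G)) else 0 := fun c s => by
    split_ifs with h
    · rw [← Fintype.card_subtype, ← Nat.card_eq_fintype_card, card_conj_solutions h,
        H4.card_centralizer_of_isConj h]
    · rw [Finset.card_eq_zero, Finset.filter_eq_empty_iff]
      exact fun g _ e => h (isConj_iff.2 ⟨g, e⟩)
  rw [Nat.card_eq_fintype_card, Fintype.card_subtype,
    Finset.card_eq_sum_card_fiberwise (f := fun gh : G × G => gh.1 * a * gh.1⁻¹)
      (t := Finset.univ) (fun _ _ => Finset.mem_univ _)]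
  have h1 : ∀ s : G, ((Finset.univ.filter fun gh : G × G =>
      gh.1 * a * gh.1⁻¹ * (gh.2 * b * gh.2⁻¹) = x).filter fun gh => gh.1 * a * gh.1⁻¹ = s) =
      (Finset.univ.filter fun g : G => g * a * g⁻¹ = s) ×ˢ
        (Finset.univ.filter fun g : G => g * b * g⁻¹ = s⁻¹ * x) := fun s => by
    ext ⟨g, h⟩
    simp only [Finset.mem_filter, Finset.mem_univ, true_and, Finset.mem_product]
    constructor
    · rintro ⟨e1, rfl⟩
      exact ⟨rfl, by rw [← e1, inv_mul_cancel_left]⟩
    · rintro ⟨rfl, e2⟩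
      exact ⟨by rw [e2, mul_inv_cancel_left], rfl⟩
  simp only [h1, Finset.card_product, key]
  rw [Nat.card_eq_fintype_card (α := {s : G // IsConj a s ∧ IsConj b (s⁻¹ * x)}),
    Fintype.card_subtype, Finset.card_filter, Finset.mul_sum]
  refine Finset.sum_congr rfl fun s _ => ?_
  by_cases h2 : IsConj a s <;> by_cases h3 : IsConj b (s⁻¹ * x) <;>
    simp [h2, h3, -isConj_iff]

end H21
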