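import Mathlib
import Cfsg.Agent.H21.Mat1

/-! Mathieu groups by order, part 2: value tables at elements of prime order. -/

set_option autoImplicit false
set_option linter.unusedSectionVars false

open Cfsg H4 H17 H18 Subgroup Module
open scoped ComplexConjugate

namespace H21

variable {G : Type*} [Group G] [Finite G] {p : ℕ} [hp : Fact p.Prime]

/-- Sylow count inside a subgroup. -/
theorem D1.card_sub {x : G} (h : D1 p x) {K : Subgroup G} (hx : x ∈ K) :
    ∃ n, n % p = 1 ∧ Nat.card K = Nat.card (normalizer (zpowers x : Set G) ⊓ K : Subgroup G) * n := by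
  have h' : D1 p (⟨x, hx⟩ : K) :=
    ⟨by rw [Subgroup.orderOf_mk, h.ord], fun e => h.nd (e.trans (card_subgroup_dvd_card K))⟩
  obtain ⟨n, hn⟩ := h'.exists_card_sylow
  refine ⟨Nat.card (Sylow p K), by rw [hn, Nat.mul_add_mod_of_lt hp.out.one_lt], ?_⟩
  rw [← h'.index_normalizer, ← card_mul_index (normalizer (zpowers (⟨x, hx⟩ : K) : Set K))]
  congr 1
  have : normalizer (zpowers (⟨x, hx⟩ : K) : Set K) =
      (normalizer (zpowers x : Set G)).subgroupOf K := by
    ext g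
    rw [mem_subgroupOf, mem_normalizer_zpowers_iff, mem_normalizer_zpowers_iff]
    simp only [mem_zpowers_iff, Subtype.ext_iff, SubgroupClass.coe_zpow, MulMemClass.coe_mul,
      InvMemClass.coe_inv]
  rw [this, ← inf_subgroupOf_right,
    Nat.card_congr (subgroupOfEquivOfLe inf_le_right).toEquiv]

theorem D1.card_sub' {x : G} (h : D1 p x) {K : Subgroup G}
    (hK : normalizer (zpowers x : Set G) ≤ K) :
    ∃ n, n % p = 1 ∧ Nat.card K = Nat.card (normalizer (zpowers x : Set G)) * n := by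
  obtain ⟨n, h1, h2⟩ := D1.card_sub h (hK (le_normalizer (mem_zpowers x)))
  exact ⟨n, h1, by rwa [inf_eq_left.2 hK] at h2⟩

theorem vanish {χ : Irr G} {k : ℕ} (h1 : p ^ k ∣ deg χ) (h2 : ¬ p ^ (k + 1) ∣ Nat.card G) {g : G}
    (hg : p ∣ orderOf g) : χ.1 g = 0 := by
  obtain ⟨M, hM⟩ := exists_PM hp.out
  refine eq_zero_of_defect_zero M ?_ hg
  have h3 := (hp.out.pow_dvd_iff_le_factorization (deg_ne_zero χ)).1 h1
  have h4 := (hp.out.pow_dvd_iff_le_factorization (Nat.card_pos (α := G)).ne').not.1 h2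
  omega

theorem vanish1 {x : G} (h : D1 p x) {χ : Irr G} (h1 : p ∣ deg χ) {g : G}
    (hg : p ∣ orderOf g) : χ.1 g = 0 :=
  vanish (k := 1) (by rwa [pow_one]) h.nd hg

/-- Constant integer value on the nontrivial powers. -/
theorem mult_of_const {x : G} (hx : orderOf x = p) {θ : G → ℂ} (hθ : IsCharacter G θ) {d : ℕ}
    (hd : θ 1 = d) {c : ℤ} (h : ∀ i : ZMod p, i ≠ 0 → θ (xp x i) = c) :
    (p : ℤ) * mult x θ (0 : ZMod p) = d + (p - 1) * c := by
  have h1 := sum_xp_eq hx hθ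
  rw [sum_eq_add_sum_units, xp_zero, hd,
    Finset.sum_congr rfl fun (u : (ZMod p)ˣ) _ => h u u.ne_zero, Finset.sum_const,
    Finset.card_univ, ZMod.card_units, nsmul_eq_mul, Nat.cast_pred hp.out.pos] at h1
  exact_mod_cast h1.symm

theorem mult_of_const' {x : G} (hx : orderOf x = p) (χ : Irr G) {c : ℤ}
    (h : ∀ g, p ∣ orderOf g → χ.1 g = c) :
    (p : ℤ) * mult x χ.1 (0 : ZMod p) = deg χ + (p - 1) * c :=
  mult_of_const hx χ.2.isCharacter (deg_eq χ).symm fun i hi => h _ (by rw [orderOf_xp hx hi])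

theorem isConj_xp_of_top {x : G} (hx : orderOf x = p) (ht : Aut hx = ⊤) {i : ZMod p}
    (hi : i ≠ 0) : IsConj x (xp x i) :=
  (mem_Aut hx (a := Units.mk0 i hi)).1 (ht ▸ mem_top _)

/-- Rational elements of prime order. -/
theorem exists_int_of_top {x : G} (hx : orderOf x = p) (ht : Aut hx = ⊤) {θ : G → ℂ}
    (hθ : IsCharacter G θ) : ∃ c : ℤ, ∀ i : ZMod p, i ≠ 0 → θ (xp x i) = c := by
  obtain ⟨c, hc⟩ := hθ.isGen.exists_int_of_isConj (g := x) fun m hm => by
    rw [← xp_natCast hx]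
    refine isConj_xp_of_top hx ht fun e => ?_
    rw [ZMod.natCast_eq_zero_iff] at e
    rw [hx] at hm
    exact (hp.out.coprime_iff_not_dvd.1 hm.symm) e
  exact ⟨c, fun i hi => by rw [← hθ.classFun.apply_of_isConj (isConj_xp_of_top hx ht hi), hc]⟩

theorem aut_eq_top {x : G} (hx : orderOf x = p) (h : Nat.card (Aut hx) = p - 1) : Aut hx = ⊤ := by
  have := card_Aut_mul_index hx
  rw [h] at this
  have h2 : p - 1 ≠ 0 := by have := hp.out.two_le; omega
  exact index_eq_one.1 (Nat.eq_of_mul_eq_mul_left (Nat.pos_of_ne_zero h2) (by rw [this, mul_one]))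

/-- The principal block when all generators of the Sylow subgroup are conjugate. -/
theorem D1.top {x : G} (h : D1 p x) (ht : Aut h.ord = ⊤) : ∃ c : Irr G → ℤ,
    (Bf G p).card = p ∧ c (irrOne G) = 1 ∧
    (∀ χ ∈ Bf G p, (c χ = 1 ∨ c χ = -1) ∧ (deg χ : ℤ) ≡ c χ [ZMOD p] ∧
      ∀ g, p ∣ orderOf g → χ.1 g = c χ) ∧
    ∀ g, ¬ p ∣ orderOf g → ∑ χ ∈ Bf G p, (c χ : ℂ) * χ.1 g = 0 := by
  classical
  obtain ⟨D⟩ := h.nonempty_bData
  have hX : D.X = {D.μ 1} := by
    ext χ
    rw [D.mem_X, Finset.mem_singleton]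
    exact ⟨fun ⟨j, e⟩ => e ▸ D.μ_eq_iff.2 (ht ▸ mem_top _), fun e => ⟨1, e.symm⟩⟩
  have he : Nat.card (Aut h.ord) = p - 1 := by
    rw [ht, card_top, Nat.card_eq_fintype_card, ZMod.card_units]
  have hp1 := hp.out.pos
  refine ⟨fun χ => if χ ∈ D.Nx then D.a χ else D.δ, ?_, by simp [D.one_mem, D.a_one], ?_, ?_⟩
  · rw [D.Bf_eq, Finset.card_disjUnion, D.card_Nx, hX, he, Finset.card_singleton]
    omega
  · intro χ hχ
    by_cases h1 : χ ∈ D.Nx
    · simp only [if_pos h1]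
      exact ⟨D.a_sq χ h1, D.deg_Nx h1, fun g hg => D.apply_Nx h1 hg⟩
    · simp only [if_neg h1]
      rw [D.Bf_eq, Finset.mem_disjUnion, hX, Finset.mem_singleton] at hχ
      obtain rfl := hχ.resolve_left h1
      refine ⟨D.δ_sq, ?_, fun g hg => ?_⟩
      · have := D.deg_μ 1
        rw [he, Nat.cast_pred hp1] at this
        refine this.trans (Int.modEq_iff_dvd.2 ⟨D.δ, by ring⟩)
      · have := D.sum_X_sing hg
        rwa [hX, Finset.sum_singleton] at this
  · intro g hg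
    rw [D.sum_Bf, hX, Finset.sum_singleton, ← D.rel hg 1]
    congr 1
    · exact Finset.sum_congr rfl fun χ hχ => by simp only [if_pos hχ]
    · simp only [if_neg (D.μ_notMem 1)]

theorem SC.dvd_deg {x : G} (h : SC p x) {χ : Irr G} (hχ : χ ∉ B0 p G) : p ∣ deg χ := by
  have := mult_of_const' h.ord χ (c := 0) fun g hg => by
    rw [SC.apply_eq_zero h hχ hg, Int.cast_zero]
  rw [mul_zero, add_zero] at this
  exact Int.natCast_dvd_natCast.1 ⟨_, this.symm⟩

theorem SC.mem_B0 {x : G} (h : SC p x) {χ : Irr G} (hχ : ¬ p ∣ deg χ) : χ ∈ B0 p G := by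
  by_contra e
  exact hχ (SC.dvd_deg h e)

/-- Sums against the column of a `p`-singular element. -/
theorem SC.sum_col {x : G} (h : SC p x) {g : G} (hg : p ∣ orderOf g) (f : Irr G → ℂ) :
    ∑ χ : Irr G, conj (χ.1 g) * f χ = ∑ χ ∈ Bf G p, conj (χ.1 g) * f χ := by
  symm
  refine Finset.sum_subset (Finset.subset_univ _) fun χ _ hχ => ?_
  rw [SC.apply_eq_zero h (mem_Bf.not.1 hχ) hg, map_zero, zero_mul]

/-- The involutions inverting a self-centralising element. -/
theorem SC.count {x : G} (h : SC p x) (hp2 : p ≠ 2) {z : G} (hz : z * z = 1)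
    (hi : z * x * z⁻¹ = x⁻¹) :
    (Nat.card (centralizer ({z} : Set G)) : ℂ) ^ 2 * p =
      Nat.card G * ∑ χ ∈ Bf G p, conj (χ.1 x) * (χ.1 z * χ.1 z / χ.1 1) := by
  rw [← SC.sum_col h (by rw [h.ord]), ← card_triple, card_triple_eq]
  have hN : z ∈ normalizer (zpowers x : Set G) :=
    mem_normalizer_zpowers_iff.2 (hi ▸ inv_mem (mem_zpowers x))
  have hC : z ∉ centralizer ({x} : Set G) := fun hc => hp2 (by
    rw [mem_centralizer_singleton_iff.1 hc, mul_inv_cancel_right, eq_inv_iff_mul_eq_one,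
      ← sq] at hi
    exact (Nat.prime_dvd_prime_iff_eq hp.out Nat.prime_two).1 (h.ord ▸ orderOf_dvd_of_pow_eq_one hi))
  have hz' : z⁻¹ = z := inv_eq_of_mul_eq_one_right hz
  have h1 : Nat.card {s : G // IsConj z s ∧ IsConj z (s⁻¹ * x)} = p := by
    rw [← ZMod.card p, ← Nat.card_eq_fintype_card]
    symm
    refine Nat.card_congr (Equiv.ofBijective (fun i => ⟨xp x i * z,
      isConj_xp_mul h.ord hN hC i, ?_⟩) ⟨fun i j e => xp_injective h.ord
        (mul_right_cancel (congrArg Subtype.val e)), fun ⟨s, h1, h2⟩ => ?_⟩)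
    · have := isConj_xp_mul h.ord hN hC (1 - i)
      refine this.trans (isConj_iff.2 ⟨z, ?_⟩)
      rw [mul_inv_rev, hz', ← xp_neg h.ord, sub_eq_neg_add, xp_add h.ord, xp_one]
      simp only [mul_assoc, hz, mul_one]
    · obtain ⟨a, hs⟩ := isConj_iff.1 h1
      obtain ⟨b, hb⟩ := isConj_iff.1 h2
      have hs2 : s * s = 1 := by
        rw [← hs]; simp only [mul_assoc, inv_mul_cancel_left]
        rw [← mul_assoc z z, hz, one_mul, mul_inv_cancel]
      have ht2 : s⁻¹ * x * (s⁻¹ * x) = 1 := by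
        rw [← hb]; simp only [mul_assoc, inv_mul_cancel_left]
        rw [← mul_assoc z z, hz, one_mul, mul_inv_cancel]
      have hs' : s⁻¹ = s := inv_eq_of_mul_eq_one_right hs2
      have h3 : s * x * s = x⁻¹ := by
        rw [hs'] at ht2
        rw [eq_inv_iff_mul_eq_one, mul_assoc (s * x), ht2]
      have h4 : s * z ∈ centralizer ({x} : Set G) := by
        rw [mem_centralizer_singleton_iff]
        rw [hz'] at hi
        have h5 : z * x = x⁻¹ * z := by rw [← hi, mul_assoc, hz, mul_one]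
        have h6 : s * x⁻¹ = x * s := by
          rw [← h3, ← mul_assoc, ← mul_assoc, hs2, one_mul]
        rw [mul_assoc, h5, ← mul_assoc, h6, mul_assoc]
      rw [h.cent] at h4
      obtain ⟨i, hi⟩ := exists_xp_of_mem h.ord h4
      exact ⟨i, Subtype.ext (by simp only [hi, mul_assoc, hz, mul_one])⟩
  rw [h1]
  push_cast
  ring

namespace Two

variable {x : G} {h : D1 p x} (D : BData h) (h2 : (Aut h.ord).index = 2)
  (hm : (-1 : (ZMod p)ˣ) ∉ Aut h.ord)
include h2 hm

theorem μ_ne (j : (ZMod p)ˣ) : D.μ j ≠ D.μ (-j) := fun e =>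
  hm (by simpa using D.μ_eq_iff.1 e)

open Classical in
theorem X_eq (j : (ZMod p)ˣ) : D.X = {D.μ j, D.μ (-j)} := by
  symm
  refine Finset.eq_of_subset_of_card_le (fun χ hχ => ?_) ?_
  · rw [Finset.mem_insert, Finset.mem_singleton] at hχ
    rcases hχ with rfl | rfl <;> exact D.μ_mem_X _
  · rw [D.card_X, h2, Finset.card_pair (μ_ne D h2 hm j)]

theorem not_isConj : ¬ IsConj x x⁻¹ := fun e => hm (by
  rw [mem_Aut, Units.val_neg, Units.val_one, xp_neg h.ord, xp_one]; exact e)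

theorem add_neg (j : (ZMod p)ˣ) {g : G} (hg : p ∣ orderOf g) :
    (D.μ j).1 g + (D.μ (-j)).1 g = D.δ := by
  classical
  have := D.sum_X_sing hg
  rwa [X_eq D h2 hm j, Finset.sum_pair (μ_ne D h2 hm j)] at this

theorem μ_inv (j : (ZMod p)ˣ) : (D.μ j).1 x⁻¹ = (D.μ (-j)).1 x := by
  have h1 := D.apply_μ_xp j (i := -1) (neg_ne_zero.2 one_ne_zero)
  have h3 := D.apply_μ_xp (-j) (i := 1) one_ne_zero
  rw [xp_neg h.ord, xp_one] at h1
  rw [xp_one] at h3
  rw [h1, h3]; simp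

theorem add_inv (j : (ZMod p)ˣ) : (D.μ j).1 x + (D.μ j).1 x⁻¹ = D.δ := by
  rw [μ_inv D h2 hm, add_neg D h2 hm j (by rw [h.ord])]

/-- The quadratic relation for involutions. -/
theorem quad (hs : SC p x) {a b : G} (ha : a * a = 1) (hb : b * b = 1) (hp2 : p ≠ 2) :
    ∑ χ ∈ D.Nx, (D.a χ : ℂ) * (χ.1 a * χ.1 b / deg χ) +
      D.δ * ((D.μ 1).1 a * (D.μ 1).1 b / deg (D.μ 1)) = 0 := by
  classical
  have hreg : ∀ {a : G}, a * a = 1 → ¬ p ∣ orderOf a := fun {a} ha e =>
    hp2 ((Nat.prime_dvd_prime_iff_eq hp.out Nat.prime_two).1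
      (e.trans (orderOf_dvd_of_pow_eq_one (by rw [sq, ha]))))
  have h1 := sum_nonreal ha hb (not_isConj (h := h) h2 hm)
  have hx : p ∣ orderOf x := by rw [h.ord]
  rw [SC.sum_col hs hx, D.sum_Bf, X_eq D h2 hm 1, Finset.sum_pair (μ_ne D h2 hm 1),
    D.μ_reg (-1) 1 a (hreg ha), D.μ_reg (-1) 1 b (hreg hb), D.μ_reg (-1) 1 1 reg_one, ← add_mul,
    ← map_add, add_neg D h2 hm 1 hx, map_intCast] at h1
  rw [← h1, deg_eq]
  congr 1
  exact Finset.sum_congr rfl fun χ hχ => by rw [D.apply_Nx hχ hx, map_intCast, deg_eq]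

theorem sum_sq_le : ∑ χ ∈ D.Nx, deg χ ^ 2 + 2 * deg (D.μ 1) ^ 2 ≤ Nat.card G := by
  classical
  have h1 := sum_degree_sq (G := G)
  simp only [← deg_eq] at h1
  have h3 : ∑ χ : Irr G, deg χ ^ 2 = Nat.card G := by exact_mod_cast h1
  have h4 := D.sum_Bf fun χ => deg χ ^ 2
  rw [X_eq D h2 hm 1, Finset.sum_pair (μ_ne D h2 hm 1), D.deg_μ_congr (-1) 1, ← two_mul] at h4
  rw [← h4, ← h3]
  exact Finset.sum_le_sum_of_subset (Finset.subset_univ _)

end Two

theorem deg_sq_le (χ : Irr G) : deg χ ^ 2 ≤ Nat.card G := by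
  have h1 := sum_degree_sq (G := G)
  simp only [← deg_eq] at h1
  have h3 : ∑ χ : Irr G, deg χ ^ 2 = Nat.card G := by exact_mod_cast h1
  rw [← h3]
  exact Finset.single_le_sum (f := fun χ : Irr G => deg χ ^ 2) (fun _ _ => Nat.zero_le _)
    (Finset.mem_univ χ)

theorem sum_deg_sq_le (s : Finset (Irr G)) : ∑ χ ∈ s, deg χ ^ 2 ≤ Nat.card G := by
  have h1 := sum_degree_sq (G := G)
  simp only [← deg_eq] at h1
  have h3 : ∑ χ : Irr G, deg χ ^ 2 = Nat.card G := by exact_mod_cast h1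
  rw [← h3]
  exact Finset.sum_le_sum_of_subset (Finset.subset_univ _)

/-- An involution commuting with `x` and a character of degree `< 2 p`, or of degree `2 p`
vanishing on `p`-singular elements. -/
theorem odd_centralizer [IsSimpleGroup G] (hG : ¬ IsMulCommutative G) {x : G} (h : D1 p x)
    (hp2 : p ≠ 2) {χ : Irr G} (h1 : χ ≠ irrOne G) (hd : deg χ = 2 * p) :
    Odd (Nat.card (centralizer ({x} : Set G))) := by
  rw [← Nat.not_even_iff_odd, even_iff_two_dvd]
  intro e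
  obtain ⟨⟨y, hy⟩, hy2⟩ := exists_prime_orderOf_dvd_card' 2 e
  rw [Subgroup.orderOf_mk] at hy2
  have hc : Commute x y := (mem_centralizer_singleton.1 hy).symm
  have hv : ∀ g, p ∣ orderOf g → χ.1 g = 0 := fun g hg => vanish1 h (by rw [hd]; simp) hg
  have hyr : ∀ j : ZMod 2, ¬ p ∣ orderOf (xp y j) := fun j e =>
    hp2 ((Nat.prime_dvd_prime_iff_eq hp.out Nat.prime_two).1 (e.trans
      ((orderOf_pow_dvd _).trans hy2.dvd)))
  have h3 := dvd_mult h.ord hy2 hc χ.2.isCharacter (fun i hi j => by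
    have hi' : p ∣ orderOf (xp x i) := by rw [orderOf_xp h.ord hi]
    rw [hv _ hi', hv]
    have hcc : Commute (xp x i) (xp y j) := (hc.pow_left _).pow_right _
    by_contra e
    have := reg_mul e (reg_zpow (hyr j) (-1)) (by
      simpa using (hcc.mul_left (Commute.refl _)).inv_right)
    rw [zpow_neg_one, mul_inv_cancel_right] at this
    exact this hi') (b := 1) one_ne_zero
  have h4 := sum_mult_mul_eq_zero (commutator_eq_top_of_simple hG) hy2 χ.2.isCharacter
  have h5 := sum_mult hy2 χ.2.isCharacter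
  have h6 := apply_xp_eq_sum_mult hy2 χ.2.isCharacter 1
  have h7 : (Finset.univ : Finset (ZMod 2)) = {0, 1} := rfl
  have h8 : psi (1 : ZMod 2) = -1 := (isPrimitiveRoot_psi one_ne_zero).eq_neg_one_of_two_right
  rw [h7, Finset.sum_pair (by decide)] at h4 h5 h6
  simp only [mul_zero, mul_one, zero_add, psi_zero, xp_one, h8, ZMod.natCast_eq_zero_iff] at h4 h6
  rw [← deg_eq, hd] at h5
  have h9 : 2 * p = mult y χ.1 (0 : ZMod 2) + mult y χ.1 (1 : ZMod 2) := by exact_mod_cast h5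
  obtain ⟨k, hk⟩ := (Nat.Coprime.mul_dvd_of_dvd_of_dvd
    ((Nat.coprime_primes Nat.prime_two hp.out).2 hp2.symm) h4 h3)
  have hy1 : y ≠ 1 := ne_one_of_orderOf hy2
  refine norm_ne_of_simple hG h1 hy1 ?_
  rw [h6, ← deg_eq, hd]
  rcases k with _ | _ | k
  · rw [hk] at h9 ⊢
    simp only [mul_zero, add_zero] at h9
    rw [← h9]; simp
  · rw [hk] at h9 ⊢
    have : mult y χ.1 (0 : ZMod 2) = 0 := by omega
    rw [this]; simp
  · have := hp.out.pos
    rw [hk] at h9
    nlinarith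

end H21
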