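import Mathlib
import Cfsg.Agent.H21.Mat2

/-! Mathieu groups by order, part 3: enumerations of blocks, labelling of coset actions,
word certificates. -/

set_option autoImplicit false
set_option linter.unusedSectionVars false

open Cfsg H4 H17 H18 Subgroup Module
open scoped ComplexConjugate

namespace H21

/-- Sorted enumeration of a finite set. -/
theorem exists_sorted {α : Type*} (s : Finset α) {m : ℕ} (hs : s.card = m) (w : α → ℤ) :
    ∃ e : Fin m → α, Function.Injective e ∧ (∀ i, e i ∈ s) ∧ (∀ a ∈ s, ∃ i, e i = a) ∧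
      Monotone (fun i => w (e i)) ∧
      ∀ {M : Type} [AddCommMonoid M] (f : α → M), ∑ a ∈ s, f a = ∑ i, f (e i) := by
  classical
  let e0 : Fin m ≃ s := (Finset.equivFinOfCardEq hs).symm
  let σ := Tuple.sort fun i => w (e0 i)
  refine ⟨fun i => e0 (σ i), fun i j h => σ.injective (e0.injective (Subtype.ext h)),
    fun i => (e0 (σ i)).2, fun a ha => ⟨σ.symm (e0.symm ⟨a, ha⟩), by simp⟩,
    Tuple.monotone_sort fun i => w (e0 i), fun f => ?_⟩
  rw [← Finset.sum_coe_sort s f]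
  exact (Fintype.sum_equiv (σ.trans e0) _ _ fun _ => rfl).symm

variable {G : Type*} [Group G] [Finite G] {p : ℕ} [hp : Fact p.Prime]

theorem one_lt_deg (hG : commutator G = ⊤) {χ : Irr G} (h : χ ≠ irrOne G) : 1 < deg χ := by
  have := (deg_eq_one_iff_of_perfect hG).not.2 h
  have := deg_ne_zero χ
  omega

theorem le_of_sq_le {d B N : ℕ} (h : d ^ 2 ≤ N) (hB : N < (B + 1) ^ 2) : d ≤ B := by
  by_contra e
  have : (B + 1) ^ 2 ≤ d ^ 2 := Nat.pow_le_pow_left (by omega) 2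
  omega

theorem modEq_cases {d : ℕ} {a : ℤ} {e : ℕ} (ha : a = 1 ∨ a = -1) (h : (d : ℤ) ≡ a * e [ZMOD p]) :
    a = 1 ∧ d % p = e % p ∨ a = -1 ∧ (d + e) % p = 0 := by
  rcases ha with rfl | rfl
  · refine Or.inl ⟨rfl, ?_⟩
    rw [one_mul] at h
    exact_mod_cast h.eq
  · refine Or.inr ⟨rfl, ?_⟩
    have := (h.add_right e).eq
    rw [neg_one_mul, neg_add_cancel, Int.zero_emod] at this
    exact_mod_cast this

/-- Degrees in the principal block when the Sylow subgroup is not self-centralising. -/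
theorem D1.nonSC [IsSimpleGroup G] (hG : ¬ IsMulCommutative G) {x : G} (h : D1 p x)
    (hC : Nat.card (centralizer ({x} : Set G)) ≠ p) :
    (∃ d, 2 * p ≤ d ∧ d ^ 2 ≤ Nat.card G ∧ d ∣ Nat.card (Aut h.ord) * Nat.card (Sylow p G) ∧
      (d % p = 1 % p ∨ (d + 1) % p = 0)) ∧
    ∃ d, 2 * p ≤ d ∧ d ^ 2 ≤ Nat.card G ∧ d ∣ Nat.card (Aut h.ord) * Nat.card (Sylow p G) ∧
      (d % p = Nat.card (Aut h.ord) % p ∨ (d + Nat.card (Aut h.ord)) % p = 0) := by
  obtain ⟨D⟩ := h.nonempty_bData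
  have key : ∀ χ ∈ B0 p G, χ ≠ irrOne G → 2 * p ≤ deg χ := fun χ h1 h2 => by
    by_contra e
    exact hC (by rw [h.centralizer_eq_of_deg_lt hG h1 h2 (not_le.1 e), Nat.card_zpowers, h.ord])
  constructor
  · have h1 := h.card_Aut_ne_one (commutator_eq_top_of_simple hG)
    have h0 : 0 < Nat.card (Aut h.ord) := Nat.card_pos
    obtain ⟨χ, hχ, hχ1⟩ := Finset.exists_mem_ne (s := D.Nx) (by rw [D.card_Nx]; omega) (irrOne G)
    refine ⟨deg χ, key χ (D.Nx_mem hχ) hχ1, deg_sq_le χ, D.deg_dvd (D.Nx_mem hχ), ?_⟩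
    have := modEq_cases (e := 1) (D.a_sq χ hχ) (by simpa using D.deg_Nx hχ)
    tauto
  · refine ⟨deg (D.μ 1), key _ (D.μ_mem 1) (D.μ_ne_one 1), deg_sq_le _, D.deg_dvd (D.μ_mem 1), ?_⟩
    have := modEq_cases (a := -D.δ) (by rcases D.δ_sq with e | e <;> simp [e]) (D.deg_μ 1)
    tauto

theorem D1.dvd_card_centralizer {x : G} (h : D1 p x) : p ∣ Nat.card (centralizer ({x} : Set G)) :=
  h.ord ▸ orderOf_dvd_natCard' (mem_centralizer_singleton_iff.2 rfl)
where orderOf_dvd_natCard' {K : Subgroup G} {y : G} (hy : y ∈ K) : orderOf y ∣ Nat.card K :=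
  Subgroup.orderOf_dvd_natCard K hy

theorem D1.sc {x : G} (h : D1 p x) (hC : Nat.card (centralizer ({x} : Set G)) = p) : SC p x :=
  ⟨h.ord, (eq_of_le_of_card_ge (zpowers_le.2 (mem_centralizer_singleton_iff.2 rfl))
    (by rw [hC, Nat.card_zpowers, h.ord])).symm⟩

/-- Check that a list contains all admissible signed degrees. -/
def chkL (p e N B : ℕ) (L : List ℤ) : Bool :=
  (List.range (B + 1)).all fun d => d ≤ 1 || N % d != 0 ||
    ((d % p != e % p || L.contains (d : ℤ)) && ((d + e) % p != 0 || L.contains (-(d : ℤ))))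

/-- Signed degrees from a list. -/
theorem sdeg_mem {d : ℕ} {a : ℤ} {e N B : ℕ} (ha : a = 1 ∨ a = -1) (h : (d : ℤ) ≡ a * e [ZMOD p])
    (h1 : 1 < d) (hB : d ≤ B) (hN : d ∣ N) (L : List ℤ) (hL : chkL p e N B L = true) :
    a * d ∈ L := by
  have h2 := List.all_eq_true.1 hL d (List.mem_range.2 (by omega))
  have h3 := Nat.mod_eq_zero_of_dvd hN
  simp only [h3, bne_self_eq_false, Bool.or_false, Bool.or_eq_true, decide_eq_true_eq,
    Bool.and_eq_true, bne_iff_ne, List.contains_iff_mem] at h2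
  obtain ⟨h4, h5⟩ := h2.resolve_left (by omega)
  rcases modEq_cases ha h with ⟨rfl, h2⟩ | ⟨rfl, h2⟩
  · rw [one_mul]; exact h4.resolve_left fun e => e h2
  · rw [neg_one_mul]; exact h5.resolve_left fun e => e h2

/-- Check that there is no admissible degree. -/
def noDeg (p e N B : ℕ) : Bool :=
  (List.range (B + 1)).all fun d => d < 2 * p || N % d != 0 ||
    (d % p != e % p && (d + e) % p != 0)

theorem false_of_noDeg {e N B M : ℕ} (hB : M < (B + 1) ^ 2) (h : noDeg p e N B = true)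
    (h' : ∃ d, 2 * p ≤ d ∧ d ^ 2 ≤ M ∧ d ∣ N ∧ (d % p = e % p ∨ (d + e) % p = 0)) : False := by
  obtain ⟨d, h1, h2, h3, h4⟩ := h'
  have h5 := List.all_eq_true.1 h d (List.mem_range.2 (by have := le_of_sq_le h2 hB; omega))
  have h6 := Nat.mod_eq_zero_of_dvd h3
  simp only [h6, bne_self_eq_false, Bool.or_false, Bool.or_eq_true, decide_eq_true_eq,
    Bool.and_eq_true, bne_iff_ne] at h5
  omega

theorem eq_of_sdeg {d : ℕ} {a w : ℤ} (ha : a = 1 ∨ a = -1) (hd : d ≠ 0) (h : a * d = w) :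
    d = w.natAbs ∧ a = w.sign := by
  have : (0 : ℤ) < d := by omega
  rcases ha with rfl | rfl <;> subst h
  · simp [Int.sign_eq_one_of_pos this]
  · simp [Int.sign_eq_one_of_pos this]

theorem exists_act {x : G} (hx : orderOf x = p) {a : (ZMod p)ˣ}
    (ha : a ^ Nat.card (Aut hx) = 1) :
    ∃ g ∈ normalizer (zpowers x : Set G), g * x * g⁻¹ = xp x (a : ZMod p) := by
  obtain ⟨g, hg⟩ := exists_act_eq hx (mem_of_pow_card (Aut hx) ha)
  exact ⟨g, g.2, hg ▸ act_spec hx g⟩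

theorem act_eq {x : G} (hx : orderOf x = p) {g : G} (hg : g ∈ normalizer (zpowers x : Set G))
    {a : (ZMod p)ˣ} (h : g * x * g⁻¹ = xp x (a : ZMod p)) : act hx ⟨g, hg⟩ = a :=
  Units.ext (xp_injective hx ((act_spec hx ⟨g, hg⟩).symm.trans h))

theorem mem_norm_of_eq {x g : G} {a : ZMod p} (h : g * x * g⁻¹ = xp x a) :
    g ∈ normalizer (zpowers x : Set G) :=
  mem_normalizer_zpowers_iff.2 (h ▸ xp_mem x a)

theorem pow_conj_xp {x : G} (hx : orderOf x = p) {g : G} {a : ZMod p}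
    (h : g * x * g⁻¹ = xp x a) (k : ℕ) : g ^ k * x * (g ^ k)⁻¹ = xp x (a ^ k) := by
  induction k with
  | zero => simp [xp_one]
  | succ k ih =>
    rw [pow_succ', mul_inv_rev, show g * g ^ k * x * ((g ^ k)⁻¹ * g⁻¹) =
      g * (g ^ k * x * (g ^ k)⁻¹) * g⁻¹ by group, ih, conj_xp, h, ← xp_mul hx, pow_succ']

theorem mem_cent_iff {x : G} (hx : orderOf x = p) {g : G} {a : ZMod p}
    (h : g * x * g⁻¹ = xp x a) : g ∈ centralizer ({x} : Set G) ↔ a = 1 := by
  rw [mem_centralizer_singleton_iff, ← mul_inv_eq_iff_eq_mul, h]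
  constructor
  · intro e
    exact xp_injective hx (e.trans (xp_one x).symm)
  · rintro rfl
    exact xp_one x

theorem normalizer_le {x : G} (hx : orderOf x = p) {g : G} {a : (ZMod p)ˣ}
    (h : g * x * g⁻¹ = xp x (a : ZMod p)) (ha : Nat.card (Aut hx) ≤ orderOf a) {Y : Subgroup G}
    (hC : centralizer ({x} : Set G) ≤ Y) (hg : g ∈ Y) : normalizer (zpowers x : Set G) ≤ Y := by
  have hgN := mem_norm_of_eq h
  have h1 := act_eq hx hgN h
  have h2 : zpowers a = Aut hx := eq_of_le_of_card_ge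
    (zpowers_le.2 (h1 ▸ act_mem_Aut hx ⟨g, hgN⟩)) (by rwa [Nat.card_zpowers])
  intro n hn
  obtain ⟨k, hk⟩ := mem_zpowers_iff.1 (h2 ▸ act_mem_Aut hx ⟨n, hn⟩ : _ ∈ zpowers a)
  have h3 : act hx (⟨n, hn⟩ * (⟨g, hgN⟩ : normalizer (zpowers x : Set G)) ^ (-k)) = 1 := by
    rw [map_mul, map_zpow, h1, ← hk, zpow_neg, mul_inv_cancel]
  have h4 := hC ((act_eq_one_iff hx).1 h3)
  simp only [MulMemClass.coe_mul, SubgroupClass.coe_zpow] at h4
  simpa using mul_mem h4 (zpow_mem hg k)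

/-- In the self-centralising case the elements outside the Sylow subgroup have order `|act|`. -/
theorem SC.orderOf_of_act {x : G} (h : SC p x) {g : G} {a : (ZMod p)ˣ}
    (hg : g * x * g⁻¹ = xp x (a : ZMod p)) (ha : a ≠ 1) : orderOf g = orderOf a := by
  have hreg : ¬ p ∣ orderOf g := fun e => by
    have h1 := h.orderOf_eq e
    have h2 := pow_conj_xp h.ord hg p
    have h3 : g ^ p = 1 := by rw [← h1, pow_orderOf_eq_one]
    rw [h3, ZMod.pow_card, one_mul, inv_one, mul_one] at h2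
    exact ha (Units.ext (xp_injective h.ord (h2.symm.trans (xp_one x).symm)))
  refine orderOf_eq_orderOf_iff.2 fun k => ?_
  have h2 := pow_conj_xp h.ord hg k
  rw [← Units.val_eq_one, Units.val_pow_eq_pow_val, ← mem_cent_iff h.ord h2]
  refine ⟨fun e => e ▸ one_mem _, fun e => ?_⟩
  refine h.eq_one_of_commute (mem_centralizer_singleton.1 e).symm fun e' =>
    hreg (e'.trans (orderOf_pow_dvd k))

/-- Labelling of a coset action of degree `p + 1`. -/
theorem exists_label [IsSimpleGroup G] {K : Subgroup G} (hK : K.index = p + 1) {x : G}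
    (hx : orderOf x = p) (hxK : x ∈ K) {w : G} (hwK : w ∈ K) {k : ZMod p} (hk : k ≠ 1)
    (hw : w * x * w⁻¹ = xp x k) :
    ∃ φ : G →* Equiv.Perm (Option (ZMod p)), Function.Injective φ ∧
      (∀ g, φ g none = none ↔ g ∈ K) ∧ (∀ i, φ x (some i) = some (i + 1)) ∧
      ∀ i, φ w (some i) = some (k * i) := by
  classical
  have hK' : K ≠ ⊤ := fun e => by
    rw [e, index_top] at hK
    have := hp.out.pos
    omega
  have hinj : Function.Injective (MulAction.toPermHom G (G ⧸ K)) := by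
    rw [← MonoidHom.ker_eq_bot_iff, ← normalCore_eq_ker, normalCore_eq_bot_of_simple hK']
  obtain ⟨ω, hω⟩ : ∃ ω : G ⧸ K, x • ω ≠ ω := by
    by_contra e
    push Not at e
    exact ne_one_of_orderOf hx (hinj (Equiv.ext fun ω => by simpa using e ω))
  have hfix : ∀ g : G, g • ((1 : G) : G ⧸ K) = ((1 : G) : G ⧸ K) ↔ g ∈ K := fun g => by
    rw [← MulAction.mem_stabilizer_iff, MulAction.stabilizer_quotient]
  have hxp : ∀ (i : ZMod p) (η : G ⧸ K), xp x i • η = η → i ≠ 0 → x • η = η := fun i η e hi => by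
    have h1 : xp x i ∈ MulAction.stabilizer G η := e
    have h2 := (zpowers_le.2 h1) (xp_mem (xp x i) i⁻¹)
    rwa [← xp_mul hx, mul_inv_cancel₀ hi, xp_one] at h2
  have lab : ∀ η : G ⧸ K, x • η ≠ η → Function.Bijective fun y : Option (ZMod p) =>
      y.elim ((1 : G) : G ⧸ K) fun i => xp x i • η := fun η hη => by
    have : Fintype (G ⧸ K) := Fintype.ofFinite _
    refine (Fintype.bijective_iff_injective_and_card _).2 ⟨?_, ?_⟩
    · have h1 : ∀ i : ZMod p, xp x i • η ≠ ((1 : G) : G ⧸ K) := fun i e => hη (by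
        rw [smul_eq_iff_eq_inv_smul, (hfix (xp x i)⁻¹).2 (inv_mem (pow_mem hxK _))] at e
        rw [e, (hfix _).2 hxK])
      rintro (_ | i) (_ | j) e
      · rfl
      · exact absurd e.symm (h1 j)
      · exact absurd e (h1 i)
      · simp only [Option.elim_some] at e
        rw [smul_eq_iff_eq_inv_smul, ← mul_smul, ← xp_neg hx, ← xp_add hx] at e
        by_contra e'
        refine hη (hxp _ η e.symm fun h0 => e' ?_)
        rw [neg_add_eq_zero.1 h0]
    · rw [Fintype.card_option, ZMod.card, ← Nat.card_eq_fintype_card, ← index_eq_card, hK]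
  have hwx : ∀ i : ZMod p, w * xp x i = xp x (k * i) * w := fun i => by
    rw [xp_mul hx, ← hw, ← conj_xp, inv_mul_cancel_right]
  obtain ⟨η, hη, hwη⟩ : ∃ η : G ⧸ K, x • η ≠ η ∧ w • η = η := by
    obtain ⟨(_ | c), hc⟩ := (lab ω hω).2 (w • ω)
    · exfalso
      simp only [Option.elim_none] at hc
      rw [← inv_smul_eq_iff, (hfix _).2 (inv_mem hwK)] at hc
      exact hω (by rw [← hc, (hfix _).2 hxK])
    · simp only [Option.elim_some] at hc
      refine ⟨xp x (c / (1 - k)) • ω, fun e => hω ?_, ?_⟩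
      · rwa [← mul_smul, (commute_xp x _).eq, mul_smul, smul_left_cancel_iff] at e
      · rw [← mul_smul, hwx, mul_smul, ← hc, ← mul_smul, ← xp_add hx]
        congr 2
        field_simp [sub_ne_zero.2 hk.symm]
        ring
  let e := Equiv.ofBijective _ (lab η hη)
  have he0 : e none = ((1 : G) : G ⧸ K) := rfl
  have he1 : ∀ i, e (some i) = xp x i • η := fun _ => rfl
  have hφ : ∀ (g : G) (y y' : Option (ZMod p)),
      (e.symm.permCongrHom.toMonoidHom.comp (MulAction.toPermHom G (G ⧸ K))) g y = y' ↔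
        g • e y = e y' := fun g y y' => by
    simp [Equiv.permCongr_apply, Equiv.symm_apply_eq]
  refine ⟨e.symm.permCongrHom.toMonoidHom.comp (MulAction.toPermHom G (G ⧸ K)),
    e.symm.permCongrHom.injective.comp hinj, fun g => ?_, fun i => ?_, fun i => ?_⟩
  · rw [hφ, he0, hfix]
  · rw [hφ, he1, he1, ← mul_smul, add_comm, xp_add hx, xp_one]
  · rw [hφ, he1, he1, ← mul_smul, hwx, mul_smul, hwη]

section Words

variable {Ω : Type*}

/-- Evaluation of a word in a list of maps. -/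
def evw (fs : List (Ω → Ω)) : List ℕ → Ω → Ω
  | [], y => y
  | i :: l, y => fs.getD i id (evw fs l y)

theorem exists_evw {Γ : Subgroup (Equiv.Perm Ω)} {fs : List (Ω → Ω)}
    (h : ∀ f ∈ fs, ∃ g ∈ Γ, (g : Ω → Ω) = f) (l : List ℕ) : ∃ g ∈ Γ, (g : Ω → Ω) = evw fs l := by
  induction l with
  | nil => exact ⟨1, one_mem _, rfl⟩
  | cons i l ih =>
    obtain ⟨g, hg, e⟩ := ih
    obtain ⟨g', hg', e'⟩ : ∃ g ∈ Γ, (g : Ω → Ω) = fs.getD i id := by
      rcases lt_or_ge i fs.length with h1 | h1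
      · rw [List.getD_eq_getElem _ _ h1]
        exact h _ (List.getElem_mem h1)
      · rw [List.getD_eq_default _ _ h1]
        exact ⟨1, one_mem _, rfl⟩
    refine ⟨g' * g, mul_mem hg' hg, funext fun y => ?_⟩
    rw [Equiv.Perm.mul_apply, e, e']
    rfl

theorem iter_gcd {g : Equiv.Perm Ω} {N n : ℕ} (hN : g ^ N = 1) {y : Ω} (hy : g^[n] y = y) :
    g^[Nat.gcd n N] y = y :=
  Function.IsPeriodicPt.gcd hy (by
    change g^[N] y = y
    rw [Equiv.Perm.iterate_eq_pow, hN, Equiv.Perm.one_apply])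

/-- A word with a cycle whose length is forbidden. -/
def Bad [DecidableEq Ω] (fs : List (Ω → Ω)) (o : Ω) (N₀ N₁ : ℕ) (c : List ℕ × Ω × ℕ) : Bool :=
  (evw fs c.1)^[c.2.2] c.2.1 == c.2.1 &&
    ((evw fs c.1)^[Nat.gcd c.2.2 N₁] c.2.1 != c.2.1 ||
      (evw fs c.1 o == o && (evw fs c.1)^[Nat.gcd c.2.2 N₀] c.2.1 != c.2.1))

theorem not_bad [DecidableEq Ω] {Γ : Subgroup (Equiv.Perm Ω)} {fs : List (Ω → Ω)}
    (h : ∀ f ∈ fs, ∃ g ∈ Γ, (g : Ω → Ω) = f) {o : Ω} {N₀ N₁ : ℕ}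
    (h0 : ∀ g ∈ Γ, g o = o → g ^ N₀ = 1) (h1 : ∀ g ∈ Γ, g ^ N₁ = 1) (c : List ℕ × Ω × ℕ) :
    Bad fs o N₀ N₁ c ≠ true := by
  obtain ⟨g, hg, e⟩ := exists_evw h c.1
  simp only [Bad, ← e, ne_eq, Bool.and_eq_true, beq_iff_eq, Bool.or_eq_true, bne_iff_ne]
  rintro ⟨h2, h3 | ⟨h3, h4⟩⟩
  · exact h3 (iter_gcd (h1 g hg) h2)
  · exact h4 (iter_gcd (h0 g hg h3) h2)

theorem pow_card_of_hom {H : Type*} [Group H] (φ : G →* H) {K : Subgroup G} {g : G} (hg : g ∈ K) :
    φ g ^ Nat.card K = 1 := by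
  rw [← map_pow, show g ^ Nat.card K = 1 from
    congrArg Subtype.val (pow_card_eq_one' (x := (⟨g, hg⟩ : K))), map_one]

end Words

end H21
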