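import Mathlib
import Cfsg.Agent.H21.Mat3

/-! Simple groups of order 7920: a subgroup of index 12. -/

set_option autoImplicit false
set_option linter.unusedSectionVars false
set_option synthInstance.maxSize 4000

open Cfsg H4 H17 H18 Subgroup Module
open scoped ComplexConjugate

namespace H21

variable {G : Type*} [Group G] [Finite G]

section
variable {p : ℕ} [hp : Fact p.Prime]

theorem SC.not_dvd_centralizer {x : G} (h : SC p x) {w : G} (hw : ¬ p ∣ orderOf w) (h1 : w ≠ 1) :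
    ¬ p ∣ Nat.card (centralizer ({w} : Set G)) := fun e => by
  obtain ⟨⟨y, hy⟩, hy2⟩ := exists_prime_orderOf_dvd_card' p e
  rw [Subgroup.orderOf_mk] at hy2
  exact h1 ((h.of_orderOf hy2).eq_one_of_commute (mem_centralizer_singleton.1 hy) hw)

theorem neg_notMem_Aut {x : G} (hx : orderOf x = p) (hp2 : p ≠ 2) (h : Odd (Nat.card (Aut hx))) :
    (-1 : (ZMod p)ˣ) ∉ Aut hx := fun e => by
  have h1 := congrArg (fun a : Aut hx => ((a : (ZMod p)ˣ) : ZMod p))
    (pow_card_eq_one' (x := (⟨-1, e⟩ : Aut hx)))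
  simp only [SubmonoidClass.mk_pow, h.neg_one_pow, Units.val_neg, Units.val_one,
    OneMemClass.coe_one] at h1
  have : Fact (2 < p) := ⟨lt_of_le_of_ne hp.out.two_le hp2.symm⟩
  exact ZMod.neg_one_ne_one h1

theorem index_Aut {x : G} (hx : orderOf x = p) {e t : ℕ} (he : Nat.card (Aut hx) = e)
    (h : e * t = p - 1) : (Aut hx).index = t := by
  have h1 := card_Aut_mul_index hx
  have h0 : 0 < Nat.card (Aut hx) := Nat.card_pos
  rw [← h, he] at h1
  exact Nat.eq_of_mul_eq_mul_left (he ▸ h0) h1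

/-- Sorted enumeration of the non-exceptional characters. -/
theorem BData.enum {x : G} {h : D1 p x} (D : BData h) {m : ℕ} (hm : Nat.card (Aut h.ord) = m + 1) :
    ∃ χ : Fin m → Irr G, Function.Injective χ ∧ (∀ i, χ i ∈ D.Nx ∧ χ i ≠ irrOne G) ∧
      (∀ ψ ∈ D.Nx, ψ = irrOne G ∨ ∃ i, χ i = ψ) ∧ Monotone (fun i => D.a (χ i) * deg (χ i)) ∧
      ∀ {M : Type} [AddCommMonoid M] (f : Irr G → M),
        ∑ ψ ∈ D.Nx, f ψ = f (irrOne G) + ∑ i, f (χ i) := by
  classical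
  obtain ⟨χ, h1, h2, h3, h4, h5⟩ := exists_sorted (D.Nx.erase (irrOne G)) (m := m)
    (by rw [Finset.card_erase_of_mem D.one_mem, D.card_Nx, hm, Nat.add_sub_cancel])
    fun ψ => D.a ψ * deg ψ
  refine ⟨χ, h1, fun i => (Finset.mem_erase.1 (h2 i)).symm, fun ψ hψ => ?_, h4, fun f => ?_⟩
  · by_cases e : ψ = irrOne G
    · exact Or.inl e
    · exact Or.inr (h3 ψ (Finset.mem_erase.2 ⟨e, hψ⟩))
  · rw [← h5, Finset.add_sum_erase _ _ D.one_mem]

theorem BData.sdeg_Nx (hG : commutator G = ⊤) {x : G} {h : D1 p x} (D : BData h) {χ : Irr G}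
    (hχ : χ ∈ D.Nx ∧ χ ≠ irrOne G) {N B : ℕ} (hB : Nat.card G < (B + 1) ^ 2)
    (hN : Nat.card (Aut h.ord) * Nat.card (Sylow p G) = N) (L : List ℤ)
    (hL : chkL p 1 N B L = true) :
    D.a χ * deg χ ∈ L :=
  sdeg_mem (e := 1) (D.a_sq χ hχ.1) (by simpa using D.deg_Nx hχ.1) (one_lt_deg hG hχ.2)
    (le_of_sq_le (deg_sq_le χ) hB) (hN ▸ D.deg_dvd (D.Nx_mem hχ.1)) L hL

theorem BData.sdeg_μ (hG : commutator G = ⊤) {x : G} {h : D1 p x} (D : BData h) {N B e : ℕ}
    (hB : Nat.card G < (B + 1) ^ 2) (he : Nat.card (Aut h.ord) = e)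
    (hN : Nat.card (Aut h.ord) * Nat.card (Sylow p G) = N) (L : List ℤ)
    (hL : chkL p e N B L = true) :
    -D.δ * deg (D.μ 1) ∈ L :=
  sdeg_mem (a := -D.δ) (by rcases D.δ_sq with e | e <;> simp [e]) (he ▸ D.deg_μ 1)
    (one_lt_deg hG (D.μ_ne_one 1)) (le_of_sq_le (deg_sq_le _) hB)
    (hN ▸ D.deg_dvd (D.μ_mem 1)) L hL

theorem sq_sdeg {a : ℤ} (ha : a = 1 ∨ a = -1) (d : ℕ) : (a * d) ^ 2 = (d ^ 2 : ℕ) := by
  rcases ha with rfl | rfl <;> simp

theorem index_eq_of_card {K : Subgroup G} {a b : ℕ} (hK : Nat.card K = a) (hG : Nat.card G = a * b) :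
    K.index = b := by
  have h1 := card_mul_index K
  have h0 : 0 < Nat.card K := Nat.card_pos
  rw [hK, hG] at h1
  exact Nat.eq_of_mul_eq_mul_left (hK ▸ h0) h1

theorem card_ne_of_ne_top {K : Subgroup G} (hK : K ≠ ⊤) : Nat.card K ≠ Nat.card G := fun e =>
  hK (eq_top_of_card_eq K e)

end

instance fact5 : Fact (Nat.Prime 5) := ⟨by norm_num⟩
instance fact7 : Fact (Nat.Prime 7) := ⟨by norm_num⟩
instance fact11 : Fact (Nat.Prime 11) := ⟨by norm_num⟩
instance fact23 : Fact (Nat.Prime 23) := ⟨by norm_num⟩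

def u3 : (ZMod 11)ˣ := Units.mk0 3 (by decide)
def u2 : (ZMod 5)ˣ := Units.mk0 2 (by decide)
theorem orderOf_u3 : orderOf u3 = 5 := orderOf_eq_prime (by decide) (by decide)
theorem orderOf_u2 : orderOf u2 = 4 :=
  orderOf_eq_prime_pow (p := 2) (n := 1) (by decide) (by decide)

/-- The element of order five normalising a self-centralising element of order eleven. -/
theorem exists_w {x : G} (h : SC 11 x) (he : 5 ∣ Nat.card (Aut h.ord)) :
    ∃ w : G, orderOf w = 5 ∧ w * x * w⁻¹ = xp x (3 : ZMod 11) := by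
  obtain ⟨k, hk⟩ := he
  obtain ⟨w, -, hw⟩ := exists_act h.ord (a := u3) (by
    rw [hk, pow_mul, ← orderOf_u3, pow_orderOf_eq_one, one_pow])
  exact ⟨w, by rw [SC.orderOf_of_act h hw (by decide), orderOf_u3], hw⟩

theorem inv_of_sq {w f : G} (hw : orderOf w = 5) (hf : f * w * f⁻¹ = xp w (2 : ZMod 5)) :
    f ^ 2 * w * (f ^ 2)⁻¹ = w⁻¹ := by
  rw [pow_conj_xp hw hf, show (2 : ZMod 5) ^ 2 = -1 by decide, xp_neg hw, xp_one]

variable [IsSimpleGroup G]

theorem m11_sc (hc : Nat.card G = 7920) :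
    ∃ x : G, ∃ h : SC 11 x, Nat.card (Aut h.ord) = 5 ∧ Nat.card (Sylow 11 G) = 144 := by
  have hG : ¬ IsMulCommutative G := not_comm_of_not_prime (by rw [hc]; norm_num)
  obtain ⟨x, h⟩ := exists_D1 (G := G) (p := 11) (by rw [hc]; norm_num) (by rw [hc]; norm_num)
  have h1 := card_sylow_mem hc (by norm_num) 11 (by norm_num)
  have h2 := h.card_eq
  have h3 := h.card_Aut_ne_one (commutator_eq_top_of_simple hG)
  have h4 := card_Aut_dvd h.ord
  obtain ⟨c, h5⟩ := D1.dvd_card_centralizer h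
  have h6 := D1.nonSC hG h
  rw [hc] at h2 h6
  rw [h5] at h2 h6
  have h7 : Nat.card (Sylow 11 G) ∈ [12, 45, 144] := by
    revert h1
    generalize Nat.card (Sylow 11 G) = n
    revert n
    decide +kernel
  have h8 : Nat.card (Aut h.ord) ∈ [2, 5, 10] := by
    revert h3 h4
    generalize Nat.card (Aut h.ord) = n
    intro h3 h4
    have := Nat.le_of_dvd (by norm_num) h4
    interval_cases n <;> simp_all
  suffices c = 1 ∧ Nat.card (Aut h.ord) = 5 ∧ Nat.card (Sylow 11 G) = 144 from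
    ⟨x, D1.sc h (by rw [h5, this.1]), this.2⟩
  generalize Nat.card (Aut h.ord) = e at *
  generalize Nat.card (Sylow 11 G) = n at *
  have h9 : c * e * n = 720 := by linarith
  by_cases hc1 : c = 1
  · clear h6
    simp only [List.mem_cons, List.not_mem_nil, or_false] at h7 h8
    rcases h7 with rfl | rfl | rfl <;> rcases h8 with rfl | rfl | rfl <;> omega
  · exfalso
    obtain ⟨d1, d2⟩ := h6 (by omega)
    clear h6 h1 h2 h3 h4
    simp only [List.mem_cons, List.not_mem_nil, or_false] at h7 h8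
    rcases h7 with rfl | rfl | rfl <;> rcases h8 with rfl | rfl | rfl <;> first
      | omega
      | exact false_of_noDeg (B := 88) (by norm_num) (by decide +kernel) d1
      | exact false_of_noDeg (B := 88) (by norm_num) (by decide +kernel) d2

theorem m11_local (hc : Nat.card G = 7920) : ∃ x w f : G, ∃ (hx : SC 11 x) (hw : SC 5 w),
    Nat.card (Aut hx.ord) = 5 ∧ Nat.card (Aut hw.ord) = 4 ∧ w * x * w⁻¹ = xp x (3 : ZMod 11) ∧
    f * w * f⁻¹ = xp w (2 : ZMod 5) ∧ ∃ K : Subgroup G, Nat.card K = 660 ∧ x ∈ K ∧ w ∈ K := by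
  classical
  have hG : ¬ IsMulCommutative G := not_comm_of_not_prime (by rw [hc]; norm_num)
  have hperf := commutator_eq_top_of_simple hG
  obtain ⟨x, hx, he, hn⟩ := m11_sc hc
  obtain ⟨w, hw5, hw⟩ := exists_w hx (by rw [he])
  obtain ⟨D⟩ := hx.d1.nonempty_bData
  have h2 : (Aut hx.d1.ord).index = 2 := index_Aut _ he (by norm_num)
  have hm := neg_notMem_Aut hx.ord (by norm_num) (by rw [he]; decide)
  obtain ⟨χ, -, hχ, hall, hmono, hsum⟩ := BData.enum D (m := 4) he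
  have hL : ∀ i, D.a (χ i) * deg (χ i) ∈ [-10, 12, 45] := fun i =>
    BData.sdeg_Nx hperf D (hχ i) (B := 88) (N := 720) (by rw [hc]; norm_num) (by rw [he, hn]) _
      (by decide +kernel)
  have hL' := BData.sdeg_μ hperf D (B := 88) (N := 720) (by rw [hc]; norm_num) he
    (by rw [he, hn]) [5, -6, 16, 60, -72] (by decide +kernel)
  have hrel := D.deg_rel 1
  have hsq := Two.sum_sq_le D h2 hm
  rw [hsum, D.a_one, H17.deg_irrOne, Fin.sum_univ_four] at hrel
  rw [hsum, H17.deg_irrOne, Fin.sum_univ_four, hc] at hsq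
  have key : ∀ a ∈ [-10, 12, 45], ∀ b ∈ [-10, 12, 45], ∀ c ∈ [-10, 12, 45], ∀ d ∈ [-10, 12, 45],
      ∀ s ∈ [5, -6, 16, 60, -72], a ≤ b → b ≤ c → c ≤ d → (1 : ℤ) + (a + b + c + d) - s = 0 →
      1 + (a ^ 2 + b ^ 2 + c ^ 2 + d ^ 2) + 2 * s ^ 2 ≤ 7920 →
      a = -10 ∧ (d = 12 ∨ b = -10 ∧ c = -10 ∧ d = 45 ∧ s = 16) := by decide +kernel
  obtain ⟨k0, k1⟩ := key _ (hL 0) _ (hL 1) _ (hL 2) _ (hL 3) _ hL' (hmono (by decide))
    (hmono (by decide)) (hmono (by decide)) (by linear_combination hrel) (by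
      simp only [sq_sdeg (D.a_sq _ (hχ _).1), neg_mul, neg_sq, sq_sdeg D.δ_sq]
      exact_mod_cast hsq)
  have hdeg : ∀ i {v : ℤ}, D.a (χ i) * deg (χ i) = v → deg (χ i) = v.natAbs := fun i _ e =>
    (eq_of_sdeg (D.a_sq _ (hχ i).1) (deg_ne_zero _) e).1
  -- the prime five
  have hw1 : D1 5 w := ⟨hw5, by rw [hc]; norm_num⟩
  have hwSC : Nat.card (centralizer ({w} : Set G)) = 5 ∧ Nat.card (Aut hw5) = 4 := by
    have h1 := odd_centralizer hG hw1 (by norm_num) (hχ 0).2 (hdeg 0 k0)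
    have h3 := SC.not_dvd_centralizer hx (w := w) (by rw [hw5]; norm_num) hw1.ne_one
    have h4 := hw1.card_eq
    have h5 := hw1.card_Aut_ne_one hperf
    have h6 := card_Aut_dvd hw5
    obtain ⟨n, h7⟩ := hw1.exists_card_sylow
    obtain ⟨c, h8⟩ := D1.dvd_card_centralizer hw1
    rw [hc, h7] at h4
    rw [h8] at h1 h3 h4 ⊢
    generalize Nat.card (Aut hw5) = e at *
    have h9 : c ∣ 1584 := ⟨e * (n * 5 + 1), by linarith⟩
    have h10 : c ∈ [1, 3, 9] := by
      have : ∀ c ≤ 1584, c ∣ 1584 → (5 * c) % 2 = 1 → ¬ 11 ∣ 5 * c → c ∈ [1, 3, 9] := by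
        decide +kernel
      exact this c (Nat.le_of_dvd (by norm_num) h9) h9 (Nat.odd_iff.1 h1) h3
    have := Nat.le_of_dvd (by norm_num) h6
    simp only [List.mem_cons, List.not_mem_nil, or_false] at h10
    rcases h10 with rfl | rfl | rfl <;> interval_cases e <;> omega
  have hws : SC 5 w := D1.sc hw1 hwSC.1
  obtain ⟨c, hc5, hc1, hcv, hcr⟩ := D1.top hw1 (aut_eq_top hw5 hwSC.2)
  have hmem : ∀ ψ : Irr G, ¬ 5 ∣ deg ψ → ψ ∈ Bf G 5 := fun ψ e => mem_Bf.2 (SC.mem_B0 hws e)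
  rcases k1 with k1 | ⟨k1, k2, k3, k4⟩
  · exfalso
    have h1 := hdeg 3 k1
    obtain ⟨h3, h4, -⟩ := hcv _ (hmem (χ 3) (by rw [h1]; decide))
    rw [h1] at h4
    rcases h3 with e | e <;> rw [e] at h4 <;> revert h4 <;> decide
  have hμ : ∀ j, deg (D.μ j) = 16 := fun j => by
    rw [D.deg_μ_congr j 1]
    exact (eq_of_sdeg (by rcases D.δ_sq with e | e <;> simp [e]) (deg_ne_zero _) k4).1
  have hμc : ∀ j, c (D.μ j) = 1 := fun j => by
    obtain ⟨h3, h4, -⟩ := hcv _ (hmem (D.μ j) (by rw [hμ]; decide))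
    rw [hμ] at h4
    rcases h3 with e | e
    · exact e
    · rw [e] at h4; exact absurd h4 (by decide)
  have hne := Two.μ_ne D h2 hm 1
  have hsub : ({irrOne G, D.μ 1, D.μ (-1)} : Finset (Irr G)) ⊆ Bf G 5 := by
    intro ψ hψ
    simp only [Finset.mem_insert, Finset.mem_singleton] at hψ
    rcases hψ with rfl | rfl | rfl
    · exact mem_Bf.2 one_mem_B0
    all_goals exact hmem _ (by rw [hμ]; decide)
  have hnot : irrOne G ∉ ({D.μ 1, D.μ (-1)} : Finset (Irr G)) := by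
    simp only [Finset.mem_insert, Finset.mem_singleton, not_or]
    exact ⟨(D.μ_ne_one _).symm, (D.μ_ne_one _).symm⟩
  obtain ⟨θ, -, hθ, -, hθm, hθs⟩ := exists_sorted (Bf G 5 \ {irrOne G, D.μ 1, D.μ (-1)}) (m := 2)
    (by rw [Finset.card_sdiff_of_subset hsub, hc5, Finset.card_insert_of_notMem hnot,
      Finset.card_pair hne]) fun ψ => c ψ * deg ψ
  have hS : ∀ f : Irr G → ℂ, ∑ ψ ∈ Bf G 5, f ψ =
      f (θ 0) + f (θ 1) + (f (irrOne G) + (f (D.μ 1) + f (D.μ (-1)))) := fun f => by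
    rw [← Finset.sum_sdiff hsub, hθs, Fin.sum_univ_two, Finset.sum_insert hnot,
      Finset.sum_pair hne]
  have hθ11 : ∀ i, θ i ∉ B0 11 G := fun i e => by
    obtain ⟨h3, h4⟩ := Finset.mem_sdiff.1 (hθ i)
    have h5 := not_dvd_deg_of_mem_B0 hw1 (mem_Bf.1 h3)
    simp only [Finset.mem_insert, Finset.mem_singleton, not_or] at h4
    rcases (D.mem_iff _).1 e with h6 | ⟨j, h6⟩
    · rcases hall _ h6 with h7 | ⟨j, h7⟩
      · exact h4.1 h7
      · rw [← h7] at h5
        fin_cases j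
        · exact h5 (by erw [hdeg 0 k0]; decide)
        · exact h5 (by erw [hdeg 1 k1]; decide)
        · exact h5 (by erw [hdeg 2 k2]; decide)
        · exact h5 (by erw [hdeg 3 k3]; decide)
    · have h7 := D.μ_mem_X j
      rw [Two.X_eq D h2 hm 1, h6, Finset.mem_insert, Finset.mem_singleton] at h7
      tauto
  have hθL : ∀ i, c (θ i) * deg (θ i) ∈ [11, -44, 66] := fun i => by
    obtain ⟨h3, h4⟩ := Finset.mem_sdiff.1 (hθ i)
    obtain ⟨h5, h6, -⟩ := hcv _ h3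
    have h7 : c (θ i) * deg (θ i) ∈ [-4, 6, -9, 11, 16, -24, 36, -44, 66] :=
      sdeg_mem (p := 5) (e := 1) (N := 7920) (B := 88) h5 (by simpa using h6)
        (one_lt_deg hperf fun e => h4 (by simp [e]))
        (le_of_sq_le (deg_sq_le _) (by rw [hc]; norm_num)) (hc ▸ deg_dvd_card _) _
        (by decide +kernel)
    have h8 : (11 : ℤ) ∣ c (θ i) * deg (θ i) :=
      Dvd.dvd.mul_left (by exact_mod_cast SC.dvd_deg hx (hθ11 i)) _
    revert h7 h8
    generalize c (θ i) * deg (θ i) = v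
    revert v
    decide
  have hr1 := hcr 1 reg_one
  rw [hS] at hr1
  simp only [← deg_eq, hμ, hμc, hc1, H17.deg_irrOne] at hr1
  have hr2 : c (θ 0) * deg (θ 0) + c (θ 1) * deg (θ 1) = -33 := by
    apply Int.cast_injective (α := ℂ)
    push_cast at hr1 ⊢
    linear_combination hr1
  have key2 : ∀ a ∈ [11, -44, 66], ∀ b ∈ [11, -44, 66], a ≤ b → (a : ℤ) + b = -33 →
      a = -44 ∧ b = 11 := by decide
  obtain ⟨l0, l1⟩ := key2 _ (hθL 0) _ (hθL 1) (hθm (by decide)) hr2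
  have hθB : ∀ i, θ i ∈ Bf G 5 := fun i => (Finset.mem_sdiff.1 (hθ i)).1
  obtain ⟨d0, c0⟩ := eq_of_sdeg (hcv _ (hθB 0)).1 (deg_ne_zero _) l0
  obtain ⟨d1, c1⟩ := eq_of_sdeg (hcv _ (hθB 1)).1 (deg_ne_zero _) l1
  replace d0 : deg (θ 0) = 44 := d0
  replace d1 : deg (θ 1) = 11 := d1
  replace c0 : c (θ 0) = -1 := c0
  replace c1 : c (θ 1) = 1 := c1
  -- the involution
  obtain ⟨f, -, hf⟩ := exists_act hw5 (a := u2) (by rw [hwSC.2, ← orderOf_u2, pow_orderOf_eq_one])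
  have hf4 : orderOf f = 4 := by rw [SC.orderOf_of_act hws hf (by decide), orderOf_u2]
  have hz := inv_of_sq hw5 hf
  have hz2 : orderOf (f ^ 2) = 2 := by rw [orderOf_pow, hf4]; rfl
  set z := f ^ 2 with hzf
  have hzz : z * z = 1 := by rw [← sq, ← hz2, pow_orderOf_eq_one]
  have hμz : ∀ j, (D.μ j).1 z = 0 := fun j =>
    vanish (p := 2) (k := 4) (by rw [hμ]; decide) (by rw [hc]; norm_num) (by rw [hz2])
  have hm5 : mult w (θ 1).1 (0 : ZMod 5) = 3 := by
    have := mult_of_const' hw5 (θ 1) (hcv _ (hθB 1)).2.2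
    rw [d1, c1] at this
    omega
  have hm11 : mult x (θ 1).1 (0 : ZMod 11) = 1 := by
    have := mult_of_const' hx.ord (θ 1) (c := 0) fun g hg => by
      rw [SC.apply_eq_zero hx (hθ11 1) hg, Int.cast_zero]
    rw [d1] at this
    omega
  have hθz : (θ 1).1 z = 3 := by
    obtain ⟨m₁, m₂, h3, h4⟩ := exists_dihedral hw5 (by norm_num) hzz hz (θ 1).2.isCharacter
    obtain ⟨k, h5⟩ := exists_four_dvd hperf hz2 (θ 1).2.isCharacter
    rw [← deg_eq, d1, h4] at h5
    have h6 : (11 : ℤ) - (m₁ - m₂) = 4 * k := by exact_mod_cast h5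
    have h7 : m₁ = 3 ∧ m₂ = 0 ∨ m₁ = 1 ∧ m₂ = 2 := by omega
    rcases h7 with ⟨rfl, rfl⟩ | ⟨rfl, rfl⟩
    · rw [h4]; norm_num
    exfalso
    have h8 := hcr z (by rw [hz2]; decide)
    have h9 := SC.count hws (by norm_num) hzz hz
    have hw' : 5 ∣ orderOf w := by rw [hw5]
    rw [hS] at h8 h9
    rw [(hcv _ (hθB 0)).2.2 w hw', (hcv _ (hθB 1)).2.2 w hw'] at h9
    simp only [hμz, c0, c1, hc1, h4, irrOne_apply, ← deg_eq, d0, d1, hc] at h8 h9
    have h10 : (θ 0).1 z = 0 := by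
      push_cast at h8
      linear_combination -h8
    rw [h10] at h9
    have h11 : Nat.card (centralizer ({z} : Set G)) ^ 2 = 1728 := by
      apply Nat.cast_injective (R := ℂ)
      simp only [map_intCast, map_one] at h9
      push_cast at h9 ⊢
      linear_combination h9 / 5
    generalize Nat.card (centralizer ({z} : Set G)) = n at h11
    have : n ≤ 42 := by nlinarith
    interval_cases n <;> omega
  obtain ⟨K, hK, hxK, hKs⟩ := exists_stab' (χ := θ 1) (fun e => by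
    rw [e, H17.deg_irrOne] at d1; omega) hx.ord (by rw [hm11]; decide)
  have hwK : w ∈ K := hKs 11 x w hx.ord hxK (mem_norm_of_eq hw)
    (by rw [mem_cent_iff hx.ord hw]; decide)
    (by rw [hm11, (hcv _ (hθB 1)).2.2 w (by rw [hw5]), c1]; norm_num)
  have hz' : z * w * z⁻¹ = xp w (-1 : ZMod 5) := by rw [hz, xp_neg hw5, xp_one]
  have hzK : z ∈ K := hKs 5 w z hw5 hwK (mem_norm_of_eq hz')
    (by rw [mem_cent_iff hw5 hz']; decide) (by rw [hm5, hθz]; norm_num)
  refine ⟨x, w, f, hx, hws, he, hwSC.2, hw, hf, K, ?_, hxK, hwK⟩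
  obtain ⟨n, h3, h4⟩ := D1.card_sub' hx.d1 (normalizer_le hx.ord (a := u3) hw
    (by rw [he, orderOf_u3]) (by rw [hx.cent]; exact zpowers_le.2 hxK) hwK)
  have h5 := card_subgroup_dvd_card K
  have h6 := card_ne_of_ne_top hK
  have h7 := hz2 ▸ Subgroup.orderOf_dvd_natCard K hzK
  rw [hx.card_normalizer, he] at h4
  rw [h4, hc] at h5 h6
  rw [h4] at h7 ⊢
  have h8 : n ≤ 144 := by have := Nat.le_of_dvd (by norm_num) h5; omega
  revert h3 h5 h6 h7
  clear h4
  revert n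
  decide +kernel

end H21
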