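import Mathlib
import Cfsg.Agent.H21.Mat11a

/-! Simple groups of order 7920: identification on twelve points. -/

set_option autoImplicit false
set_option linter.unusedSectionVars false
set_option synthInstance.maxSize 4000

open Cfsg H4 H17 H18 Subgroup Module

namespace H21

section Gen
variable {p : ℕ}

def shF : Option (ZMod p) → Option (ZMod p) := Option.map (· + 1)
def mlF (k : ZMod p) : Option (ZMod p) → Option (ZMod p) := Option.map (k * ·)
def ngF : Option (ZMod p) → Option (ZMod p) := Option.map (- ·)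
def shP : Equiv.Perm (Option (ZMod p)) := (Equiv.addRight 1).optionCongr
def mlP (u : (ZMod p)ˣ) : Equiv.Perm (Option (ZMod p)) := (Units.mulLeft u).optionCongr
def ngP : Equiv.Perm (Option (ZMod p)) := (Equiv.neg _).optionCongr

theorem coe_shP : (shP : Option (ZMod p) → Option (ZMod p)) = shF := rfl
theorem coe_mlP (u : (ZMod p)ˣ) : (mlP u : Option (ZMod p) → Option (ZMod p)) = mlF (u : ZMod p) := rfl
theorem coe_ngP : (ngP : Option (ZMod p) → Option (ZMod p)) = ngF := rfl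

theorem eq_shP {g : Equiv.Perm (Option (ZMod p))} (h0 : g none = none)
    (h : ∀ i, g (some i) = some (i + 1)) : g = shP :=
  Equiv.ext fun y => by cases y; exacts [h0, h _]

theorem eq_mlP {g : Equiv.Perm (Option (ZMod p))} {u : (ZMod p)ˣ} (h0 : g none = none)
    (h : ∀ i, g (some i) = some (u * i)) : g = mlP u :=
  Equiv.ext fun y => by cases y; exacts [h0, h _]

theorem ngP_mul_self : (ngP : Equiv.Perm (Option (ZMod p))) * ngP = 1 :=
  Equiv.ext fun y => by cases y <;> simp [ngP]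

theorem ngP_inv : (ngP : Equiv.Perm (Option (ZMod p)))⁻¹ = ngP :=
  inv_eq_of_mul_eq_one_right ngP_mul_self

theorem ngP_shP : (ngP : Equiv.Perm (Option (ZMod p))) * shP * ngP⁻¹ = shP⁻¹ := by
  rw [ngP_inv, eq_inv_iff_mul_eq_one]
  exact Equiv.ext fun y => by cases y <;> simp [ngP, shP]

theorem ngP_mlP (u : (ZMod p)ˣ) : ngP * mlP u * ngP⁻¹ = mlP u := by
  rw [ngP_inv]
  exact Equiv.ext fun y => by cases y <;> simp [ngP, mlP]

/-- A map intertwining two maps is determined by its values on orbit representatives. -/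
def cand {Ω : Type*} (β : Ω → Ω) (lg rp : Ω → ℕ) (vals : List Ω) (o : Ω) (y : Ω) : Ω :=
  β^[lg y] (vals.getD (rp y) o)

theorem eq_cand {Ω : Type*} {σ β β' : Ω → Ω} (h : ∀ y, σ (β y) = β' (σ y)) {lg rp : Ω → ℕ}
    {reps : List Ω} {o : Ω} (hr : ∀ y, β^[lg y] (reps.getD (rp y) o) = y) :
    σ = cand β' lg rp (reps.map σ) (σ o) := by
  funext y
  rw [cand, List.getD_map, ← (Function.Semiconj.iterate_right h _).eq, hr]

theorem conj_apply {Ω : Type*} {σ β β' : Equiv.Perm Ω} (h : σ * β * σ⁻¹ = β') (y : Ω) :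
    σ (β y) = β' (σ y) := by
  rw [← h]; simp

end Gen

theorem iso_of_le_range {G H : Type*} [Group G] [Group H] {φ : G →* H} (hφ : Function.Injective φ)
    {S : Set G} (hS : closure S = ⊤) {X : Subgroup H} (h1 : φ '' S ⊆ X) (h2 : X ≤ φ.range) :
    Nonempty (G ≃* X) := by
  have : φ.range = X := le_antisymm (by
    rw [MonoidHom.range_eq_map, ← hS, MonoidHom.map_closure, closure_le]; exact h1) h2
  exact ⟨(MonoidHom.ofInjective hφ).trans (MulEquiv.subgroupCongr this)⟩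

abbrev Ω11 := Option (ZMod 11)

def pts11 : List Ω11 := none :: (List.range 11).map fun i => some (i : ZMod 11)
theorem mem_pts11 : ∀ y, y ∈ pts11 := by decide +kernel
theorem nodup_pts11 : pts11.Nodup := by decide +kernel

def tbl11 (l : List ℕ) : Ω11 → ℕ
  | none => l.getD 11 0
  | some i => l.getD i.val 0

def dec11 (n : ℕ) : Ω11 := if n = 11 then none else some (n : ZMod 11)

def lg11 : Ω11 → ℕ := tbl11 [0, 0, 0, 1, 4, 3, 1, 2, 4, 2, 3, 0]
def rp11 : Ω11 → ℕ := tbl11 [1, 2, 3, 2, 2, 2, 3, 3, 3, 2, 3, 0]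
theorem rep11 : ∀ y, (mlF 3)^[lg11 y] ([none, some 0, some 1, some 2].getD (rp11 y) none) = y := by
  decide +kernel

theorem fix_ml {k : ZMod 11} (hk : k ≠ 1) {y : Ω11} (h : mlF k y = y) : y ∈ [none, some 0] := by
  revert k y
  decide +kernel

/-- A permutation given by tables. -/
def tblP (l l' : List ℕ) (h : (pts11.all fun y => dec11 (tbl11 l' (dec11 (tbl11 l y))) == y &&
    dec11 (tbl11 l (dec11 (tbl11 l' y))) == y) = true) : Equiv.Perm Ω11 where
  toFun y := dec11 (tbl11 l y)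
  invFun y := dec11 (tbl11 l' y)
  left_inv y := by
    have := List.all_eq_true.1 h y (mem_pts11 y)
    simp only [Bool.and_eq_true, beq_iff_eq] at this
    exact this.1
  right_inv y := by
    have := List.all_eq_true.1 h y (mem_pts11 y)
    simp only [Bool.and_eq_true, beq_iff_eq] at this
    exact this.2

def s11 : Equiv.Perm Ω11 := tblP [11, 2, 4, 7, 10, 6, 3, 5, 9, 8, 1, 0]
  [11, 10, 1, 6, 2, 7, 5, 3, 9, 8, 4, 0] (by decide +kernel)

/-- The smallest Mathieu group on twelve points. -/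
def X11 : Subgroup (Equiv.Perm Ω11) := closure {shP, mlP u3, s11}

def eqF (f g : Ω11 → Ω11) : Bool := pts11.all fun y => f y == g y

theorem eq_of_eqF {f g : Ω11 → Ω11} (h : eqF f g = true) : f = g :=
  funext fun y => by simpa using List.all_eq_true.1 h y (mem_pts11 y)

def certs11 : List (List ℕ × Ω11 × ℕ) := [([0, 2], some 0, 7), ([0, 2], some 0, 8),
  ([0, 2], some 0, 9), ([0, 2], some 2, 7), ([0, 2], some 2, 8), ([0, 2], some 4, 7),
  ([0, 0, 1, 2], some 0, 7), ([0, 0, 1, 2], some 0, 8), ([0, 0, 1, 2], some 1, 7),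
  ([0, 0, 1, 2], some 1, 8), ([0, 0, 2], some 0, 7), ([0, 0, 2], some 0, 8), ([0, 0, 2], some 1, 7),
  ([0, 0, 2], some 1, 8), ([0, 0, 2, 1], some 0, 7), ([0, 0, 2, 1], some 0, 8),
  ([0, 0, 2, 1], some 1, 7), ([0, 0, 2, 1], some 1, 8), ([0, 0, 2, 1, 1], some 0, 7),
  ([0, 0, 2, 2], some 0, 8), ([0, 1, 2], some 0, 7), ([0, 1, 2], some 0, 8), ([0, 1, 2], some 0, 9),
  ([0, 1, 2], some 2, 7), ([0, 1, 2], some 2, 8), ([0, 1, 2, 1], some 0, 7),
  ([0, 2, 1], some 0, 7), ([0, 2, 1], some 0, 8), ([0, 2, 1], some 2, 7), ([0, 2, 1], some 2, 8),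
  ([0, 2, 1, 1], some 0, 7), ([0, 2, 1, 2], some 0, 8), ([0, 2, 2], some 0, 8),
  ([0, 2, 2], some 0, 9), ([0, 2, 2, 2], some 0, 7)]

/-- The map is a translate of `s`, possibly conjugated by negation. -/
def goodF (s σ : Ω11 → Ω11) : Bool :=
  (List.range 5).any fun j => eqF σ (s ∘ (mlF 3)^[j]) || eqF (ngF ∘ σ ∘ ngF) (s ∘ (mlF 3)^[j])

theorem chk11 : ∀ A ∈ [none, some 0], ∀ B ∈ [none, some 0], ∀ C ∈ pts11, ∀ D ∈ pts11,
    (pts11.map (cand (mlF 9) lg11 rp11 [A, B, C, D] A)).Nodup →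
    (certs11.any (Bad [shF, mlF 3, cand (mlF 9) lg11 rp11 [A, B, C, D] A] none 660 7920) ||
      goodF s11 (cand (mlF 9) lg11 rp11 [A, B, C, D] A)) = true := by
  decide +kernel

variable {G : Type*} [Group G] [Finite G]

theorem iso_of_goodF {φ : G →* Equiv.Perm Ω11} (hφ : Function.Injective φ) {x w f : G}
    (hx : φ x = shP) (hw : φ w = mlP u3) {s : Equiv.Perm Ω11} (h : goodF s (φ f) = true) :
    ∃ ψ : G →* Equiv.Perm Ω11, Function.Injective ψ ∧ (∀ g, ψ g none = none ↔ φ g none = none) ∧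
      (ψ x = shP ∨ ψ x⁻¹ = shP) ∧ ψ w = mlP u3 ∧ ∃ j : ℕ, ψ f = s * mlP u3 ^ j := by
  obtain ⟨j, -, hj⟩ := List.any_eq_true.1 h
  rcases Bool.or_eq_true_iff.1 hj with e | e
  · refine ⟨φ, hφ, fun _ => Iff.rfl, Or.inl hx, hw, j, DFunLike.coe_injective ?_⟩
    rw [Equiv.Perm.coe_mul, Equiv.Perm.coe_pow]
    exact eq_of_eqF e
  · refine ⟨(MulAut.conj ngP).toMonoidHom.comp φ, (MulAut.conj ngP).injective.comp hφ,
      fun g => ?_, Or.inr ?_, ?_, j, DFunLike.coe_injective ?_⟩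
    · change ngP (φ g (ngP⁻¹ none)) = none ↔ _
      rw [ngP_inv, ← Equiv.Perm.eq_inv_iff_eq' , ngP_inv]
      rfl
    · change ngP * φ x⁻¹ * ngP⁻¹ = _
      rw [map_inv, hx, ← conj_inv, ngP_shP, inv_inv]
    · change ngP * φ w * ngP⁻¹ = _
      rw [hw, ngP_mlP]
    · change ((ngP * φ f * ngP⁻¹ : Equiv.Perm Ω11) : Ω11 → Ω11) = _
      rw [ngP_inv, Equiv.Perm.coe_mul s, Equiv.Perm.coe_pow]
      exact eq_of_eqF e
where Equiv.Perm.eq_inv_iff_eq' {Ω : Type} {f : Equiv.Perm Ω} {a b : Ω} : a = f⁻¹ b ↔ f a = b :=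
  Equiv.Perm.eq_inv_iff_eq

theorem cand_of {φ : G →* Equiv.Perm Ω11} {w f : G} (hw5 : orderOf w = 5) (hw : φ w = mlP u3)
    {j : ZMod 5} (hf : f * w * f⁻¹ = xp w j) {k : ZMod 11} (hk : 3 ^ j.val = k) (hk1 : k ≠ 1) :
    ∃ A ∈ [none, some 0], ∃ B ∈ [none, some 0], ∃ C ∈ pts11, ∃ D ∈ pts11, φ f none = A ∧
      (φ f : Ω11 → Ω11) = cand (mlF k) lg11 rp11 [A, B, C, D] A ∧
      (pts11.map (cand (mlF k) lg11 rp11 [A, B, C, D] A)).Nodup := by
  have h1 : φ f * mlP u3 * (φ f)⁻¹ = mlP (u3 ^ j.val) := by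
    rw [← hw, ← map_inv, ← map_mul, ← map_mul, hf, xp, map_pow, hw]
    generalize j.val = n
    induction n with
    | zero => exact Equiv.ext fun y => by cases y <;> simp [mlP]
    | succ n ih => rw [pow_succ, ih]; exact Equiv.ext fun y => by cases y <;> simp [mlP, pow_succ, mul_assoc]
  have h2 : ∀ y, φ f (mlF 3 y) = mlF k (φ f y) := fun y => by
    have := conj_apply h1 y
    rwa [coe_mlP, coe_mlP, Units.val_pow_eq_pow_val, show ((u3 : (ZMod 11)ˣ) : ZMod 11) = 3 from rfl,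
      hk] at this
  have h3 := eq_cand h2 rep11
  refine ⟨_, fix_ml hk1 (h2 none).symm, φ f (some 0), fix_ml hk1 (by rw [← h2]; rfl), φ f (some 1),
    mem_pts11 _, φ f (some 2), mem_pts11 _, rfl, h3, ?_⟩
  exact (show _ = cand (mlF k) lg11 rp11 [_, _, _, _] _ from h3) ▸
    nodup_pts11.map (φ f).injective

theorem mem_range3 {φ : G →* Equiv.Perm Ω11} {x w f : G} (hx : φ x = shP) (hw : φ w = mlP u3)
    {σ : Ω11 → Ω11} (hf : (φ f : Ω11 → Ω11) = σ) :
    ∀ F ∈ [shF, mlF 3, σ], ∃ g ∈ φ.range, (g : Ω11 → Ω11) = F := by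
  simp only [List.mem_cons, List.not_mem_nil, or_false]
  rintro F (rfl | rfl | rfl)
  · exact ⟨_, ⟨x, rfl⟩, by rw [hx]; rfl⟩
  · exact ⟨_, ⟨w, rfl⟩, by rw [hw]; rfl⟩
  · exact ⟨_, ⟨f, rfl⟩, hf⟩

theorem closure3_iso {H : Type*} [Group H] {ψ : G →* H} (hψ : Function.Injective ψ) {x w f : G}
    (hgen : closure {x, w, f} = ⊤) {a b s : H} (hx : ψ x = a ∨ ψ x⁻¹ = a) (hw : ψ w = b) {j : ℕ}
    (hf : ψ f = s * b ^ j) : ψ.range = closure {a, b, s} := by
  have ha : a ∈ closure ({a, b, s} : Set H) := subset_closure (by simp)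
  have hb : b ∈ closure ({a, b, s} : Set H) := subset_closure (by simp)
  have hs : s ∈ closure ({a, b, s} : Set H) := subset_closure (by simp)
  refine le_antisymm ?_ ((closure_le _).2 ?_)
  · rw [MonoidHom.range_eq_map, ← hgen, MonoidHom.map_closure, closure_le]
    rintro _ ⟨g, rfl | rfl | rfl, rfl⟩
    · rcases hx with e | e
      · rwa [e]
      · rw [map_inv, inv_eq_iff_eq_inv] at e
        rw [e]; exact inv_mem ha
    · rwa [hw]
    · rw [hf]; exact mul_mem hs (pow_mem hb j)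
  · rintro _ (rfl | rfl | rfl)
    · rcases hx with e | e <;> exact ⟨_, e⟩
    · exact ⟨_, hw⟩
    · exact ⟨f * (w ^ j)⁻¹, by rw [map_mul, map_inv, map_pow, hf, hw, mul_inv_cancel_right]⟩

theorem m11_iso [IsSimpleGroup G] (hc : Nat.card G = 7920) : Nonempty (G ≃* X11) := by
  obtain ⟨x, w, f, hx, hw, he, he', hxw, hwf, K, hK, hxK, hwK⟩ := m11_local hc
  obtain ⟨φ, hφ, h0, h1, h2⟩ := exists_label (p := 11)
    (index_eq_of_card hK (b := 12) (by rw [hc])) hx.ord hxK hwK (by decide) hxw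
  have hφx := eq_shP ((h0 x).2 hxK) h1
  have hφw : φ w = mlP u3 := eq_mlP ((h0 w).2 hwK) h2
  obtain ⟨A, hA, B, hB, C, hC, D, hD, -, h3, h4⟩ := cand_of hw.ord hφw hwf (k := 9) (by decide)
    (by decide)
  have h5 := chk11 A hA B hB C hC D hD h4
  rw [Bool.or_eq_true, List.any_eq_true, ← h3] at h5
  rcases h5 with ⟨c, -, h5⟩ | h5
  · refine absurd h5 (not_bad (mem_range3 hφx hφw rfl) ?_ ?_ c)
    · rintro _ ⟨g, rfl⟩ hg
      exact hK ▸ pow_card_of_hom φ ((h0 g).1 hg)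
    · rintro _ ⟨g, rfl⟩
      rw [← map_pow, ← hc, pow_card_eq_one', map_one]
  obtain ⟨ψ, hψ, -, h6, h7, j, h8⟩ := iso_of_goodF hφ hφx hφw h5
  have hgen : closure {x, w, f} = ⊤ := by
    set Y := closure {x, w, f}
    have hxY : x ∈ Y := subset_closure (by simp)
    have hwY : w ∈ Y := subset_closure (by simp)
    have hfY : f ∈ Y := subset_closure (by simp)
    obtain ⟨n, e1, e2⟩ := D1.card_sub' hx.d1 (normalizer_le hx.ord (a := u3) hxw
      (by rw [he, orderOf_u3]) (by rw [hx.cent]; exact zpowers_le.2 hxY) hwY)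
    obtain ⟨m, e3, e4⟩ := D1.card_sub' hw.d1 (normalizer_le hw.ord (a := u2) hwf
      (by rw [he', orderOf_u2]) (by rw [hw.cent]; exact zpowers_le.2 hwY) hfY)
    have e5 := card_subgroup_dvd_card Y
    rw [hx.card_normalizer, he] at e2
    rw [hw.card_normalizer, he'] at e4
    refine eq_top_of_card_eq _ ?_
    rw [hc] at e5 ⊢
    rw [e2] at e4 e5 ⊢
    have e6 : n ≤ 144 := by have := Nat.le_of_dvd (by norm_num) e5; omega
    have e7 : n ∈ [1, 12, 144] := by
      clear e2 e4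
      revert e1 e5
      revert n
      decide +kernel
    simp only [List.mem_cons, List.not_mem_nil, or_false] at e7
    omega
  exact ⟨(MonoidHom.ofInjective hψ).trans (MulEquiv.subgroupCongr (closure3_iso hψ hgen h6 h7 h8))⟩

theorem m11_unique {H : Type*} [Group H] [Finite H] (hG : IsM11 G) (hH : IsM11 H) :
    Nonempty (G ≃* H) := by
  have := hG.1
  have := hH.1
  obtain ⟨e⟩ := m11_iso hG.2
  obtain ⟨e'⟩ := m11_iso hH.2
  exact ⟨e.trans e'.symm⟩

end H21
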