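import Cfsg.Agent.H21.KSR0

set_option autoImplicit false
open Finset MulAction

namespace H21.KSR

section Mon
variable {G : Type*} [Group G] {Ω : Type*} [MulAction G Ω] [Fintype Ω] [DecidableEq Ω]

/-- monomial matrix of a cocycle -/
def mon (c : G → Ω → ℂ) (g : G) : Matrix Ω Ω ℂ :=
  Matrix.of fun y x => if y = g • x then c g x else 0

theorem mon_apply (c : G → Ω → ℂ) (g : G) (y x : Ω) :
    mon c g y x = if y = g • x then c g x else 0 := rfl

theorem mul_mon (c : G → Ω → ℂ) (M : Matrix Ω Ω ℂ) (g : G) (y x : Ω) :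
    (M * mon c g) y x = M y (g • x) * c g x := by
  simp [Matrix.mul_apply, mon_apply]

theorem mon_mul (c : G → Ω → ℂ) (M : Matrix Ω Ω ℂ) (g : G) (x y : Ω) :
    (mon c g * M) (g • x) y = c g x * M x y := by
  simp [Matrix.mul_apply, mon_apply, eq_comm]

theorem mon_hom {c : G → Ω → ℂ} (hc : ∀ g h x, c (g * h) x = c g (h • x) * c h x) (g h : G) :
    mon c (g * h) = mon c g * mon c h := by
  ext y x
  rw [mul_mon, mon_apply, mon_apply, mul_smul, hc]
  split_ifs <;> simp

theorem mon_one {c : G → Ω → ℂ} (hc1 : ∀ x, c 1 x = 1) : mon c 1 = 1 := by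
  ext y x
  rw [mon_apply, one_smul, hc1, Matrix.one_apply]

theorem equivar {c : G → Ω → ℂ} {M : Matrix Ω Ω ℂ} {h : G} (hM : mon c h * M = M * mon c h)
    (y x : Ω) : M (h • y) (h • x) * c h x = c h y * M y x := by
  rw [← mul_mon, ← hM, mon_mul]

theorem root_facts {z : ℂ} {N : ℕ} (hN : N ≠ 0) (h : z ^ N = 1) :
    IsIntegral ℤ z ∧ ‖z‖ = 1 ∧ z ≠ 0 := by
  refine ⟨IsIntegral.of_pow (Nat.pos_of_ne_zero hN) (h ▸ isIntegral_one), ?_, ?_⟩
  · exact Complex.norm_eq_one_of_pow_eq_one h hN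
  · rintro rfl; rw [zero_pow hN] at h; exact zero_ne_one h

theorem exT [Fintype G] {c : G → Ω → ℂ} (hc : ∀ g h x, c (g * h) x = c g (h • x) * c h x)
    {a b : Ω} {t : G} (hta : t • a = b) (hfix : ∀ (h : G) (x : Ω), (h * t * h⁻¹) • x ≠ x)
    (hs : ∀ h : G, (h * t * h⁻¹) • a = b → c (h * t * h⁻¹) a = 1) :
    ∃ T : Matrix Ω Ω ℂ, (∀ k, mon c k * T = T * mon c k) ∧ (∀ x, T x x = 0) ∧ T b a = 1 := by
  set N₀ := (univ.filter fun h : G => (h * t * h⁻¹) • a = b).card with hN₀
  have hN : (N₀ : ℂ) ≠ 0 := by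
    have : 0 < N₀ := card_pos.2 ⟨1, by simp [hta]⟩
    exact_mod_cast this.ne'
  refine ⟨(N₀ : ℂ)⁻¹ • ∑ h : G, mon c (h * t * h⁻¹), fun k => ?_, fun x => ?_, ?_⟩
  · rw [Matrix.mul_smul, Matrix.smul_mul, Finset.mul_sum, Finset.sum_mul]
    congr 1
    refine Fintype.sum_equiv (Equiv.mulLeft k) _ _ fun h => ?_
    rw [← mon_hom hc, ← mon_hom hc]; congr 1; simp [mul_assoc]
  · rw [Matrix.smul_apply, Matrix.sum_apply, sum_eq_zero, smul_zero]
    intro h _
    rw [mon_apply, if_neg (hfix h x).symm]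
  · rw [Matrix.smul_apply, Matrix.sum_apply]
    have : ∀ h ∈ (univ : Finset G), mon c (h * t * h⁻¹) b a =
        if (h * t * h⁻¹) • a = b then 1 else 0 := by
      intro h _
      rw [mon_apply]
      by_cases h1 : (h * t * h⁻¹) • a = b
      · rw [if_pos h1.symm, if_pos h1, hs h h1]
      · rw [if_neg (Ne.symm h1), if_neg h1]
    rw [sum_congr rfl this, sum_boole, smul_eq_mul, inv_mul_cancel₀ hN]

theorem core [Fintype G] {c : G → Ω → ℂ} {N : ℕ} (hN : N ≠ 0)
    (hc : ∀ g h x, c (g * h) x = c g (h • x) * c h x) (hc1 : ∀ x, c 1 x = 1)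
    (hcN : ∀ g x, c g x ^ N = 1) (h2 : IsMultiplyPretransitive G Ω 2) {a b : Ω} (hab : a ≠ b)
    {t : G} (ht : t * t = 1) (hta : t • a = b)
    (hfix : ∀ (h : G) (x : Ω), (h * t * h⁻¹) • x ≠ x)
    (hs : ∀ h : G, (h * t * h⁻¹) • a = b → c (h * t * h⁻¹) a = 1)
    {g : G} {l : ℕ} (hl : l.Prime) (hgl : g ^ l = 1) (hga : g • a = a)
    (hgf : ∀ j, 0 < j → j < l → ∀ x, g ^ j • x = x → x = a)
    (hU : ∀ x, x ≠ a → ∃ u : G, u • b = x ∧ g * u = u * g) :
    ∃ ν : G →* ℂˣ, ∀ x : G, x • a = a → (ν x : ℂ) = c x a := by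
  rw [is_two_pretransitive_iff] at h2
  obtain ⟨T, hT1, hT2, hT3⟩ := exT hc hta hfix hs
  have hc0 : ∀ g x, c g x ≠ 0 := fun g x => (root_facts hN (hcN g x)).2.2
  have htb : t • b = a := by rw [← hta, ← mul_smul, ht, one_smul]
  have hcta : c t a = 1 := by simpa using hs 1 (by simpa using hta)
  have hctb : c t b = 1 := by
    have := hc t t a; rw [ht, hc1, hta, hcta, mul_one] at this; exact this.symm
  have hT4 : T a b = 1 := by
    have := equivar (hT1 t) b a; rwa [htb, hta, hcta, hctb, hT3, mul_one, mul_one] at this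
  have hT5 : ∀ x y, x ≠ y → T x y * T y x = 1 ∧ T y x ^ N = 1 := by
    intro x y hxy
    obtain ⟨h, rfl, rfl⟩ := h2 hab hxy
    have e1 := equivar (hT1 h) b a
    have e2 := equivar (hT1 h) a b
    rw [hT3, mul_one] at e1; rw [hT4, mul_one] at e2
    constructor
    · apply mul_right_cancel₀ (hc0 h a); rw [mul_assoc, e1, e2, one_mul]
    · have := congrArg (· ^ N) e1
      simp only [mul_pow, hcN, mul_one] at this; exact this
  have hT6 : ∀ x y, IsIntegral ℤ (T x y) ∧ ‖T x y‖ ≤ 1 := by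
    intro x y
    by_cases h : y = x
    · rw [h, hT2]; exact ⟨isIntegral_zero, by simp⟩
    · have := root_facts hN (hT5 y x h).2; exact ⟨this.1, this.2.1.le⟩
  obtain ⟨n, hΩ⟩ : ∃ n, Fintype.card Ω = n + 1 :=
    Nat.exists_eq_succ_of_ne_zero (Fintype.card_pos_iff.2 ⟨a⟩).ne'
  have hn : 0 < n := by
    have : 1 < Fintype.card Ω := Fintype.one_lt_card_iff.2 ⟨a, b, hab⟩
    omega
  have hsum : ∀ (F : Ω → ℂ) (v : ℂ), F a = 0 → (∀ x, x ≠ a → F x = v) → ∑ x, F x = n * v := by
    intro F v h0 h1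
    rw [← add_sum_erase _ _ (mem_univ a), h0, zero_add,
      sum_congr rfl fun x hx => h1 x (ne_of_mem_erase hx), sum_const, card_erase_of_mem (mem_univ a),
      card_univ, hΩ, nsmul_eq_mul, Nat.add_sub_cancel]
  have hdet : ∀ M : Matrix Ω Ω ℂ, (∀ k, mon c k * M = M * mon c k) → M a a = 0 → M b a = 0 →
      M = 0 := by
    intro M hM h0 h1
    ext y x
    rw [Matrix.zero_apply]
    by_cases hxy : x = y
    · subst hxy
      obtain ⟨h, rfl, -⟩ : ∃ h : G, h • a = x ∧ True := by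
        by_cases hx : x = a
        · exact ⟨1, by rw [hx, one_smul], trivial⟩
        · obtain ⟨h, h3, -⟩ := h2 hab hx; exact ⟨h, h3, trivial⟩
      have := equivar (hM h) a a
      rw [h0, mul_zero] at this; exact (mul_eq_zero.1 this).resolve_right (hc0 _ _)
    · obtain ⟨h, rfl, rfl⟩ := h2 hab hxy
      have := equivar (hM h) b a
      rw [h1, mul_zero] at this; exact (mul_eq_zero.1 this).resolve_right (hc0 _ _)
  set γ := (T * T) b a with hγ
  have hγi : IsIntegral ℤ γ := by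
    rw [hγ, Matrix.mul_apply]; exact IsIntegral.sum _ fun z _ => (hT6 _ _).1.mul (hT6 _ _).1
  have hTT : T * T = (n : ℂ) • (1 : Matrix Ω Ω ℂ) + γ • T := by
    rw [← sub_eq_zero]
    refine hdet _ (fun k => ?_) ?_ ?_
    · rw [mul_sub, sub_mul, mul_add, add_mul, ← mul_assoc, hT1, mul_assoc, hT1, mul_assoc]
      simp only [Matrix.mul_smul, Matrix.smul_mul, mul_one, one_mul, hT1]
    · rw [Matrix.sub_apply, Matrix.mul_apply, hsum _ 1 (by rw [hT2, zero_mul])
        fun x hx => (hT5 a x (Ne.symm hx)).1]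
      simp [hT2]
    · simp [← hγ, hT3, Matrix.one_apply_ne hab.symm]
  have hT0 : T.trace = 0 := by simp [Matrix.trace, hT2]
  have hJ : mon c t * mon c t = 1 := by rw [← mon_hom hc, ht, mon_one hc1]
  have hJ0 : (mon c t).trace = 0 := by
    refine sum_eq_zero fun x _ => ?_
    have := hfix 1 x
    rw [one_mul, inv_one, mul_one] at this
    rw [Matrix.diag_apply, mon_apply, if_neg this.symm]
  have hJ1 : (mon c t * T).trace = n + 1 := by
    have : ∀ x ∈ (univ : Finset Ω), (mon c t * T).diag x = 1 := by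
      intro x _
      have h0 := hfix 1 x
      rw [one_mul, inv_one, mul_one] at h0
      obtain ⟨h, rfl, h4⟩ := h2 hab h0.symm
      have h5 : (h⁻¹ * t * h⁻¹⁻¹) • a = b := by
        rw [inv_inv, mul_smul, mul_smul, ← h4, inv_smul_smul]
      have h6 := hs _ h5
      have h7 := hc h (h⁻¹ * t * h⁻¹⁻¹) a
      rw [h5, h6, mul_one, inv_inv, ← mul_assoc, ← mul_assoc, mul_inv_cancel, one_mul, hc] at h7
      have e2 := equivar (hT1 h) a b
      rw [hT4, mul_one, h4] at e2
      rw [Matrix.diag_apply, hT1, mul_mon]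
      apply mul_right_cancel₀ (hc0 h a)
      rw [mul_assoc, h7, e2, one_mul]
    rw [Matrix.trace, sum_congr rfl this, sum_const, card_univ, hΩ]; simp
  -- the element of prime order
  have hgj : ∀ j : ℕ, g ^ j • a = a := fun j =>
    mem_stabilizer_iff.1 (pow_mem (mem_stabilizer_iff.2 hga) j)
  have hcj : ∀ j : ℕ, c (g ^ j) a = c g a ^ j := by
    intro j; induction j with
    | zero => rw [pow_zero, pow_zero, hc1]
    | succ j ih => rw [pow_succ, hc, hga, ih, pow_succ]
  have hmj : ∀ j : ℕ, mon c g ^ j = mon c (g ^ j) := by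
    intro j; induction j with
    | zero => rw [pow_zero, pow_zero, mon_one hc1]
    | succ j ih => rw [pow_succ, ih, pow_succ, mon_hom hc]
  set A := (c g a)⁻¹ • mon c g with hA
  have hAj : ∀ j : ℕ, A ^ j = (c (g ^ j) a)⁻¹ • mon c (g ^ j) := by
    intro j; rw [hA, smul_pow, hmj, hcj, inv_pow]
  have hAl : A ^ l = 1 := by rw [hAj, hgl, hc1, mon_one hc1, inv_one, one_smul]
  have hAT : A * T = T * A := by rw [hA, Matrix.mul_smul, Matrix.smul_mul, hT1]
  have htr : ∀ j < l, (A ^ j).trace = 1 + if j = 0 then (n : ℂ) else 0 := by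
    intro j hj
    split_ifs with h0
    · rw [h0, pow_zero, Matrix.trace_one, hΩ]; push_cast; ring
    · rw [hAj, Matrix.trace_smul, Matrix.trace, sum_eq_single a, Matrix.diag_apply, mon_apply,
        if_pos (hgj j).symm, smul_eq_mul, inv_mul_cancel₀ (hc0 _ _), add_zero]
      · intro x _ hx
        rw [Matrix.diag_apply, mon_apply, if_neg]
        exact fun h => hx (hgf j (Nat.pos_of_ne_zero h0) hj x h.symm)
      · intro h; exact absurd (mem_univ a) h
  have hl0 : (l : ℂ) ≠ 0 := by exact_mod_cast hl.ne_zero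
  have hln : l ∣ n := by
    obtain ⟨k, hk, -⟩ := idem ((l : ℂ)⁻¹ • ∑ j ∈ range l, A ^ j) (by
      rw [Matrix.smul_mul, Matrix.mul_smul, (geom_idem hAl).2, smul_smul (l : ℂ)⁻¹ (l : ℂ),
        inv_mul_cancel₀ hl0, one_smul])
    rw [Matrix.trace_smul, Matrix.trace_sum, sum_congr rfl fun j hj => htr j (mem_range.1 hj),
      sum_add_distrib, sum_ite_eq', if_pos (mem_range.2 hl.pos), sum_const, card_range] at hk
    have h1 : (l : ℂ) + n = l * k := by rw [← hk]; simp only [smul_eq_mul, nsmul_eq_mul]; field_simp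
    have h3 : l + n = l * k := by exact_mod_cast h1
    exact (Nat.dvd_add_right dvd_rfl).1 ⟨k, h3⟩
  obtain ⟨e₁, e₂, k, hp, hse, hk, hle⟩ : ∃ e₁ e₂ k : ℤ, e₁ * e₂ = -n ∧ (e₁ : ℂ) + e₂ = γ ∧
      (n : ℤ) + 1 = k * (e₁ - e₂) ∧ (l : ℤ) ∣ e₂ := by
    obtain ⟨e₁, e₂, k, hp, hse, hk⟩ := eig_int hn hΩ hγi hTT hT0 hJ (hT1 t) hJ0 hJ1
    have : (l : ℤ) ∣ e₁ * e₂ := by rw [hp]; exact (Int.natCast_dvd_natCast.2 hln).neg_right
    rcases (Nat.prime_iff_prime_int.1 hl).dvd_or_dvd this with h | h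
    · exact ⟨e₂, e₁, -k, by rw [mul_comm, hp], by rw [add_comm, hse], by rw [hk]; ring, h⟩
    · exact ⟨e₁, e₂, k, hp, hse, hk, h⟩
  have hτv : ∀ j x, (T * A ^ j) x x = (c (g ^ j) a)⁻¹ * (T x (g ^ j • x) * c (g ^ j) x) := by
    intro j x; rw [hAj, Matrix.mul_smul, Matrix.smul_apply, mul_mon, smul_eq_mul]
  have hfx := fix_proj hn hl hln hp hk hle (by rw [hse]; exact hTT) hAl hAT htr
    (fun j => (T * A ^ j) b b) (fun j _ => by
      refine hsum _ _ (by rw [Matrix.diag_apply, hτv, hgj, hT2, zero_mul, mul_zero]) fun x hx => ?_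
      obtain ⟨u, rfl, hu⟩ := hU x hx
      have h1 : Commute (mon c u) A := by
        rw [hA]; refine Commute.smul_right ?_ _
        rw [Commute, SemiconjBy, ← mon_hom hc, ← mon_hom hc, hu]
      have h3 : Commute (mon c u) (T * A ^ j) := Commute.mul_right (hT1 u) (h1.pow_right j)
      have := equivar h3.eq b b
      rw [mul_comm (c u b)] at this
      exact mul_right_cancel₀ (hc0 _ _) this)
    (by simp only [pow_zero, mul_one, hT2])
    (fun j _ => by
      simp only [hτv]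
      exact (root_facts hN (by rw [inv_pow, hcN, inv_one])).1.mul
        ((hT6 _ _).1.mul (root_facts hN (hcN _ _)).1))
    (fun j _ => by
      simp only [hτv, norm_mul, norm_inv, (root_facts hN (hcN _ _)).2.1, inv_one, one_mul, mul_one]
      exact (hT6 _ _).2)
  have hgb : g • b ≠ b := fun h =>
    hab (hgf 1 one_pos hl.one_lt b (by rwa [pow_one])).symm
  have he1 : e₁ * e₁ = 1 := by
    have h1 := congrFun (congrFun hfx (g • b)) b
    rw [hA, Matrix.smul_mul, Matrix.smul_apply, mon_mul, Matrix.sub_apply, Matrix.sub_apply, hT2,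
      Matrix.smul_apply, Matrix.smul_apply, Matrix.one_apply_eq, Matrix.one_apply_ne hgb] at h1
    have h3 := congrArg norm h1
    simp only [smul_eq_mul, mul_one, mul_zero, sub_zero, zero_sub, norm_mul, norm_inv, norm_neg,
      (root_facts hN (hcN _ _)).2.1, (root_facts hN (hT5 b _ hgb.symm).2).2.1, inv_one, one_mul,
      Complex.norm_intCast] at h3
    have h4 : |e₁| = 1 := by exact_mod_cast h3
    rw [← abs_mul_abs_self, h4, mul_one]
  have he2 : e₂ - e₁ = -e₁ * (n + 1) := by linear_combination e₁ * hp - e₂ * he1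
  have he2' : (e₂ : ℂ) - e₁ = -e₁ * (n + 1) := by exact_mod_cast congrArg (Int.cast : ℤ → ℂ) he2
  have he0 : (e₁ : ℂ) ≠ 0 := by
    intro h; have : e₁ = 0 := by exact_mod_cast h
    rw [this] at he1; simp at he1
  have hn1 : (n : ℂ) + 1 ≠ 0 := by exact_mod_cast Nat.succ_ne_zero n
  have h0 : (e₂ : ℂ) - e₁ ≠ 0 := by rw [he2']; exact mul_ne_zero (neg_ne_zero.2 he0) hn1
  have hp' : (e₁ : ℂ) * e₂ = -(n : ℂ) := by exact_mod_cast congrArg (Int.cast : ℤ → ℂ) hp
  obtain ⟨hP, -⟩ := proj_idem (T := T) (sub_ne_zero.1 h0) (by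
    rw [hTT, mul_comm (e₂ : ℂ), hp', neg_neg, add_comm (e₂ : ℂ), hse])
  set P := ((e₂ : ℂ) - e₁)⁻¹ • (T - (e₁ : ℂ) • (1 : Matrix Ω Ω ℂ)) with hPd
  have hPc : ∀ h, mon c h * P = P * mon c h := by
    intro h
    rw [hPd, Matrix.mul_smul, Matrix.smul_mul, mul_sub, sub_mul, hT1, Matrix.mul_smul,
      Matrix.smul_mul, mul_one, one_mul]
  obtain ⟨f, hf, -, hf1⟩ := idem P hP
  have hf2 : f = 1 := by
    rw [hPd, Matrix.trace_smul, Matrix.trace_sub, hT0, Matrix.trace_smul, Matrix.trace_one, hΩ,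
      he2'] at hf
    have : (f : ℂ) = 1 := by rw [← hf]; simp only [smul_eq_mul]; push_cast; field_simp; ring
    exact_mod_cast this
  set w := P.mulVec (Pi.single a 1) with hw
  have hwa : w a ≠ 0 := by
    rw [hw, Matrix.mulVec_single_one, Matrix.col_apply, hPd, Matrix.smul_apply, Matrix.sub_apply,
      hT2, Matrix.smul_apply, Matrix.one_apply_eq]
    simp [h0, he0]
  have hw0 : w ≠ 0 := fun h => hwa (by rw [h]; rfl)
  have hν : ∀ h : G, ∃ z : ℂ, (mon c h).mulVec w = z • w := by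
    intro h
    rw [hw, Matrix.mulVec_mulVec, hPc, ← Matrix.mulVec_mulVec]
    exact hf1 hf2 _ _ hw0
  choose ν hν using hν
  have hinj : ∀ z z' : ℂ, z • w = z' • w → z = z' := fun z z' h => smul_left_injective ℂ hw0 h
  let ν' : G →* ℂ :=
    { toFun := ν
      map_one' := hinj _ _ (by rw [← hν, mon_one hc1, Matrix.one_mulVec, one_smul])
      map_mul' := fun x y => hinj _ _ (by
        rw [← hν, mon_hom hc, ← Matrix.mulVec_mulVec, hν, Matrix.mulVec_smul, hν, smul_smul,
          mul_comm]) }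
  refine ⟨ν'.toHomUnits, fun x hx => ?_⟩
  refine hinj (ν x) _ ?_
  rw [← hν, hw, Matrix.mulVec_mulVec, hPc, Matrix.mulVec_single_one, Matrix.mulVec_single_one]
  ext y
  rw [Matrix.col_apply, mul_mon, hx, Pi.smul_apply, Matrix.col_apply, smul_eq_mul, mul_comm]

end Mon

theorem eq_one_of_odd {H : Type*} [Group H] (hodd : Odd (Nat.card H)) {y : H} (hy : y * y = 1) :
    y = 1 := by
  obtain ⟨k, hk⟩ := hodd
  have := pow_card_eq_one' (x := y)
  rwa [hk, pow_succ, pow_mul, pow_two, hy, one_pow, one_mul] at this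

theorem no_fix {G : Type*} [Group G] {Ω : Type*} [MulAction G Ω]
    (h2 : IsMultiplyPretransitive G Ω 2) {a b : Ω} (hab : a ≠ b)
    (hodd : Odd (Nat.card (stabilizer G a))) {t : G} (ht : t * t = 1) (hta : t • a = b)
    (h : G) (x : Ω) : (h * t * h⁻¹) • x ≠ x := by
  rw [is_two_pretransitive_iff] at h2
  intro hx
  obtain ⟨k, rfl⟩ : ∃ k : G, k • a = x := by
    by_cases hx : x = a
    · exact ⟨1, by rw [hx, one_smul]⟩
    · obtain ⟨h, h3, -⟩ := h2 hab hx; exact ⟨h, h3⟩
  have hm : k⁻¹ * (h * t * h⁻¹) * k ∈ stabilizer G a := by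
    rw [mem_stabilizer_iff, mul_smul, mul_smul, hx, inv_smul_smul]
  have h1 := eq_one_of_odd hodd (y := ⟨_, hm⟩) (Subtype.ext (by
    show k⁻¹ * (h * t * h⁻¹) * k * (k⁻¹ * (h * t * h⁻¹) * k) = 1
    calc _ = k⁻¹ * h * (t * t) * h⁻¹ * k := by group
      _ = 1 := by rw [ht]; group))
  have h3 : k⁻¹ * (h * t * h⁻¹) * k = 1 := congrArg Subtype.val h1
  have h4 : t = 1 := by
    calc t = h⁻¹ * k * (k⁻¹ * (h * t * h⁻¹) * k) * k⁻¹ * h := by group
      _ = 1 := by rw [h3]; group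
  rw [h4, one_smul] at hta; exact hab hta

/-- (R1) monomial extension theorem. -/
theorem R1 {G : Type*} [Group G] [Finite G] {Ω : Type*} [MulAction G Ω] [FaithfulSMul G Ω]
    (h2 : IsMultiplyPretransitive G Ω 2) {a b : Ω} (hab : a ≠ b)
    (hodd : Odd (Nat.card (stabilizer G a))) {t : G} (ht : t * t = 1) (hta : t • a = b)
    (μ : stabilizer G a →* ℂˣ)
    (hμ : ∀ d : stabilizer G a, (d : G) • b = b → t * d * t = (d : G)⁻¹ → μ d = 1)
    (U : Subgroup G) (hUB : U ≤ stabilizer G a) (hUt : ∀ x, x ≠ a → ∃ u ∈ U, u • b = x)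
    {g : G} (hg1 : g ≠ 1) (hga : g • a = a) (hgc : ∀ u ∈ U, g * u = u * g) :
    ∃ ν : G →* ℂˣ, ∀ x : stabilizer G a, ν x = μ x := by
  classical
  have h2' := h2
  rw [is_two_pretransitive_iff] at h2'
  have htr : ∀ x, ∃ k : G, k • a = x := by
    intro x
    by_cases hx : x = a
    · exact ⟨1, by rw [hx, one_smul]⟩
    · obtain ⟨h, h3, -⟩ := h2' hab hx; exact ⟨h, h3⟩
  haveI : Finite Ω := Finite.of_surjective (fun k : G => k • a) htr
  letI := Fintype.ofFinite Ω
  letI := Fintype.ofFinite G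
  obtain ⟨r, hr, hra, hrb⟩ : ∃ r : Ω → G, (∀ x, r x • a = x) ∧ r a = 1 ∧ r b = t := by
    choose r hr using htr
    refine ⟨fun x => if x = a then 1 else if x = b then t else r x, fun x => ?_, by simp,
      by simp [hab.symm]⟩
    dsimp only
    split_ifs with h1 h3
    · rw [h1, one_smul]
    · rw [h3, hta]
    · exact hr x
  have hκ : ∀ (k : G) (x : Ω), (r (k • x))⁻¹ * k * r x ∈ stabilizer G a := by
    intro k x; rw [mem_stabilizer_iff, mul_smul, mul_smul, hr, inv_smul_eq_iff, hr]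
  have htb : t • b = a := by rw [← hta, ← mul_smul, ht, one_smul]
  have hti : t⁻¹ = t := inv_eq_of_mul_eq_one_right ht
  have ho : orderOf g ≠ 0 := (orderOf_pos g).ne'
  have hl : (orderOf g).minFac.Prime := Nat.minFac_prime (by rwa [Ne, orderOf_eq_one_iff])
  have hol := orderOf_pow_orderOf_div ho (Nat.minFac_dvd (orderOf g))
  set l := (orderOf g).minFac
  set g' := g ^ (orderOf g / l) with hg'
  have hg'a : g' • a = a := mem_stabilizer_iff.1 (pow_mem (mem_stabilizer_iff.2 hga) _)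
  have hg'c : ∀ u ∈ U, Commute g' u := fun u hu => Commute.pow_left (hgc u hu) _
  obtain ⟨ν, hν⟩ := core (c := fun k x => (μ ⟨_, hκ k x⟩ : ℂ)) (N := Nat.card (stabilizer G a))
    Nat.card_pos.ne' (fun k h x => by
      rw [← Units.val_mul, ← map_mul]; congr 2; apply Subtype.ext
      simp [mul_smul, mul_assoc])
    (fun x => by
      have : (⟨_, hκ 1 x⟩ : stabilizer G a) = 1 := Subtype.ext (by simp)
      simp only [this, map_one, Units.val_one])
    (fun k x => by rw [← Units.val_pow_eq_pow_val, ← map_pow, pow_card_eq_one', map_one, Units.val_one])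
    h2 hab ht hta (no_fix h2 hab hodd ht hta) (fun h hh => by
      have hs : (h * t * h⁻¹) * (h * t * h⁻¹) = 1 := by
        calc _ = h * (t * t) * h⁻¹ := by group
          _ = 1 := by rw [ht]; group
      generalize h * t * h⁻¹ = s at hh hs
      have hsb : s • b = a := by rw [← hh, ← mul_smul, hs, one_smul]
      have := hμ ⟨_, hκ s a⟩ (by
        show ((r (s • a))⁻¹ * s * r a) • b = b
        rw [hh, hrb, hra, hti, mul_one, mul_smul, hsb, hta]) (by
        show t * ((r (s • a))⁻¹ * s * r a) * t = ((r (s • a))⁻¹ * s * r a)⁻¹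
        rw [hh, hrb, hra, mul_one, mul_inv_rev, inv_inv, inv_eq_of_mul_eq_one_right hs]; group)
      simp only [this, Units.val_one])
    (g := g') hl (by rw [← hol, pow_orderOf_eq_one]) hg'a (fun j hj0 hjl x hx => by
      by_contra hxa
      have h1 : g' ^ j = 1 := by
        refine eq_of_smul_eq_smul (α := Ω) fun y => ?_
        rw [one_smul]
        by_cases hy : y = a
        · rw [hy]; exact mem_stabilizer_iff.1 (pow_mem (mem_stabilizer_iff.2 hg'a) _)
        · obtain ⟨u, hu, rfl⟩ := hUt x hxa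
          obtain ⟨v, hv, rfl⟩ := hUt y hy
          rw [← mul_smul, ((hg'c u hu).pow_left j).eq, mul_smul, smul_left_cancel_iff] at hx
          rw [← mul_smul, ((hg'c v hv).pow_left j).eq, mul_smul, hx]
      have := Nat.le_of_dvd hj0 (orderOf_dvd_of_pow_eq_one h1)
      omega)
    (fun x hx => by obtain ⟨u, hu, h⟩ := hUt x hx; exact ⟨u, h, (hg'c u hu).eq⟩)
  refine ⟨ν, fun x => Units.ext ?_⟩
  rw [hν x x.2]
  congr 2; apply Subtype.ext
  show (r ((x : G) • a))⁻¹ * x * r a = x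
  rw [mem_stabilizer_iff.1 x.2, hra]; simp

end H21.KSR
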