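import Cfsg.Agent.H21.KSR2a

set_option autoImplicit false
open Finset MulAction Cfsg H4
open scoped ComplexConjugate

namespace H21.KSR

section Sums
variable {G : Type*} [Group G] [Fintype G] {Ω : Type*} [MulAction G Ω] [DecidableEq Ω]

/-- conjugators making `t` send `p` to `q` -/
def HS (t : G) (p q : Ω) : Finset G := univ.filter fun x => (x * t * x⁻¹) • p = q

theorem mem_HS {t x : G} {p q : Ω} : x ∈ HS t p q ↔ (x * t * x⁻¹) • p = q := by simp [HS]

theorem sum_HS (t k : G) (p q : Ω) (Φ : G → ℂ) :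
    ∑ x ∈ HS t (k • p) (k • q), Φ (x * t * x⁻¹) = ∑ x ∈ HS t p q, Φ (k * (x * t * x⁻¹) * k⁻¹) := by
  symm
  refine Finset.sum_equiv (Equiv.mulLeft k) (fun x => ?_) (fun x _ => ?_)
  · rw [mem_HS, mem_HS, Equiv.coe_mulLeft, ← mul_smul,
      show k * x * t * (k * x)⁻¹ * k = k * (x * t * x⁻¹) by group, mul_smul k, smul_left_cancel_iff]
  · congr 1; rw [Equiv.coe_mulLeft]; group

omit [Fintype G] in
theorem conj_sq {t : G} (ht : t * t = 1) (x : G) : x * t * x⁻¹ * (x * t * x⁻¹) = 1 := by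
  calc _ = x * (t * t) * x⁻¹ := by group
    _ = 1 := by rw [ht]; group

theorem HS_swap {t : G} (ht : t * t = 1) (p q : Ω) : HS t p q = HS t q p := by
  ext x
  rw [mem_HS, mem_HS]
  constructor <;> (intro h; rw [← h, ← mul_smul, conj_sq ht, one_smul])

theorem sum_fib [Fintype Ω] (t : G) (a : Ω) (Φ : G → ℂ) :
    ∑ x, Φ x = ∑ c, ∑ x ∈ HS t a c, Φ x :=
  (Finset.sum_fiberwise univ (fun x : G => (x * t * x⁻¹) • a) Φ).symm

omit [DecidableEq Ω] in
theorem sum_split_pt [Fintype Ω] {n : ℕ} (hΩ : Fintype.card Ω = n + 1) (a : Ω) (F : Ω → ℂ)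
    (v : ℂ) (h1 : ∀ x, x ≠ a → F x = v) : ∑ x, F x = F a + n * v := by
  classical
  rw [← add_sum_erase _ _ (mem_univ a),
    sum_congr rfl fun x hx => h1 x (ne_of_mem_erase hx), sum_const, card_erase_of_mem (mem_univ a),
    card_univ, hΩ, nsmul_eq_mul, Nat.add_sub_cancel]

theorem pair_count [Fintype Ω] {n : ℕ} (hΩ : Fintype.card Ω = n + 1) {t : G} (ht : t * t = 1)
    {a b : Ω} (hfix : ∀ (h : G) (x : Ω), (h * t * h⁻¹) • x ≠ x)
    (hB : ∀ c, c ≠ a → ∃ u : G, u • a = a ∧ u • b = c) {E : G → ℂ}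
    (E0 : ∀ x, x • a ≠ a → E x = 0) (E1 : ∀ u x, u • a = a → E (u * x * u⁻¹) = E x) :
    ∑ x, ∑ y, E (x * t * x⁻¹ * (y * t * y⁻¹)) =
      n * ∑ x ∈ HS t a b, ∑ y ∈ HS t a b, E (x * t * x⁻¹ * (y * t * y⁻¹)) := by
  rw [sum_fib t a, sum_split_pt hΩ a _
    (∑ x ∈ HS t a b, ∑ y ∈ HS t a b, E (x * t * x⁻¹ * (y * t * y⁻¹))), sum_eq_zero, zero_add]
  · intro x hx; exact absurd (mem_HS.1 hx) (hfix x a)
  intro c hc
  obtain ⟨u, hu, rfl⟩ := hB c hc
  have h1 : ∀ x ∈ HS t a (u • b), ∑ y, E (x * t * x⁻¹ * (y * t * y⁻¹)) =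
      ∑ y ∈ HS t a b, E (x * t * x⁻¹ * (u * (y * t * y⁻¹) * u⁻¹)) := by
    intro x hx
    rw [← sum_HS t u a b (fun s => E (x * t * x⁻¹ * s)), hu]
    symm
    refine sum_subset (subset_univ _) fun y _ hy => E0 _ fun h => hy ?_
    rw [HS_swap ht, mem_HS] at hx
    rw [mem_HS]
    rw [mul_smul, ← hx, smul_left_cancel_iff, hx] at h
    exact h
  rw [sum_congr rfl h1]
  have h2 := sum_HS t u a b (fun s => ∑ y ∈ HS t a b, E (s * (u * (y * t * y⁻¹) * u⁻¹)))
  rw [hu] at h2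
  rw [h2]
  refine sum_congr rfl fun x _ => sum_congr rfl fun y _ => ?_
  rw [← E1 u (x * t * x⁻¹ * (y * t * y⁻¹)) hu]; congr 1; group

theorem card_HS [Fintype Ω] {n : ℕ} (hΩ : Fintype.card Ω = n + 1) {t : G}
    {a b : Ω} (hfix : ∀ (h : G) (x : Ω), (h * t * h⁻¹) • x ≠ x)
    (hB : ∀ c, c ≠ a → ∃ u : G, u • a = a ∧ u • b = c) :
    (Nat.card G : ℂ) = n * (HS t a b).card := by
  have h0 := sum_fib t a (fun _ => 1)
  rw [sum_split_pt hΩ a _ ((HS t a b).card : ℂ), sum_eq_zero (s := HS t a a), zero_add] at h0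
  · rw [← h0]; simp
  · intro x hx; exact absurd (mem_HS.1 hx) (hfix x a)
  intro c hc
  obtain ⟨u, hu, rfl⟩ := hB c hc
  have h2 := sum_HS t u a b (fun _ => 1)
  rw [hu] at h2
  rw [h2]; simp

theorem avg {t : G} {a b : Ω} (N : Subgroup G) [Fintype N]
    (hN : ∀ k : N, HS t ((k : G) • a) ((k : G) • b) = HS t a b) {χ : N → ℂ}
    (hχ : IsIrrCharacter N χ) {e : ℂ}
    (hm : ∀ x ∈ HS t a b, ∃ h : x * t * x⁻¹ ∈ N, χ ⟨_, h⟩ = e) :
    ∑ x ∈ HS t a b, ∑ y ∈ HS t a b, extendByZero N χ (x * t * x⁻¹ * (y * t * y⁻¹)) =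
      ((HS t a b).card : ℂ) ^ 2 * (e * e / χ 1) := by
  set W := ∑ x ∈ HS t a b, ∑ y ∈ HS t a b, extendByZero N χ (x * t * x⁻¹ * (y * t * y⁻¹)) with hW
  have h1 : ∀ k k' : N, W = ∑ x ∈ HS t a b, ∑ y ∈ HS t a b,
      extendByZero N χ (k * (x * t * x⁻¹) * k⁻¹ * (k' * (y * t * y⁻¹) * k'⁻¹)) := by
    intro k k'
    have h2 := sum_HS t k a b (fun s => ∑ y ∈ HS t a b, extendByZero N χ (s * (y * t * y⁻¹)))
    rw [hN] at h2
    rw [hW, h2]
    refine sum_congr rfl fun x _ => ?_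
    have h3 := sum_HS t k' a b (fun s => extendByZero N χ (k * (x * t * x⁻¹) * (k : G)⁻¹ * s))
    rw [hN] at h3
    exact h3
  have h2 : (Nat.card N : ℂ) ^ 2 * W = ∑ k : N, ∑ k' : N, W := by
    simp only [sum_const, card_univ, nsmul_eq_mul, Nat.card_eq_fintype_card]; ring
  refine mul_left_cancel₀ (pow_ne_zero 2 (card_ne_zero N)) ?_
  rw [h2, sum_congr rfl fun k _ => sum_congr rfl fun k' _ => h1 k k']
  calc _ = ∑ x ∈ HS t a b, ∑ y ∈ HS t a b, ∑ k : N, ∑ k' : N,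
        extendByZero N χ (k * (x * t * x⁻¹) * k⁻¹ * (k' * (y * t * y⁻¹) * k'⁻¹)) := by
        simp only [sum_comm (s := (univ : Finset N)) (t := HS t a b)]
    _ = ∑ x ∈ HS t a b, ∑ y ∈ HS t a b, (Nat.card N : ℂ) ^ 2 * (e * e / χ 1) := by
        refine sum_congr rfl fun x hx => sum_congr rfl fun y hy => ?_
        obtain ⟨h3, h4⟩ := hm x hx
        obtain ⟨h5, h6⟩ := hm y hy
        have := pair_irr hχ ⟨_, h3⟩ ⟨_, h5⟩
        rw [h4, h6] at this
        rw [← this]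
        refine sum_congr rfl fun k _ => sum_congr rfl fun k' _ => ?_
        rw [← extendByZero_coe N χ]; rfl
    _ = _ := by simp only [sum_const, nsmul_eq_mul]; ring

end Sums

/-- setwise stabiliser of a pair -/
def NN (G : Type*) [Group G] {Ω : Type*} [MulAction G Ω] (a b : Ω) : Subgroup G where
  carrier := {g | (g • a = a ∧ g • b = b) ∨ (g • a = b ∧ g • b = a)}
  one_mem' := Or.inl ⟨one_smul _ _, one_smul _ _⟩
  mul_mem' := by
    rintro x y (⟨h1, h2⟩ | ⟨h1, h2⟩) (⟨h3, h4⟩ | ⟨h3, h4⟩)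
    · exact Or.inl ⟨by rw [mul_smul, h3, h1], by rw [mul_smul, h4, h2]⟩
    · exact Or.inr ⟨by rw [mul_smul, h3, h2], by rw [mul_smul, h4, h1]⟩
    · exact Or.inr ⟨by rw [mul_smul, h3, h1], by rw [mul_smul, h4, h2]⟩
    · exact Or.inl ⟨by rw [mul_smul, h3, h2], by rw [mul_smul, h4, h1]⟩
  inv_mem' := by
    rintro x (⟨h1, h2⟩ | ⟨h1, h2⟩)
    · exact Or.inl ⟨by rw [inv_smul_eq_iff, h1], by rw [inv_smul_eq_iff, h2]⟩
    · exact Or.inr ⟨by rw [inv_smul_eq_iff, h2], by rw [inv_smul_eq_iff, h1]⟩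

/-- (R2) -/
theorem R2 {G : Type*} [Group G] [Finite G] {Ω : Type*} [MulAction G Ω]
    (h2 : IsMultiplyPretransitive G Ω 2) {a b : Ω} (hab : a ≠ b)
    (hodd : Odd (Nat.card (stabilizer G a))) {t : G} (ht : t * t = 1) (hta : t • a = b)
    (U : Subgroup G) (hUB : U ≤ stabilizer G a)
    (hUn : ∀ x ∈ stabilizer G a, ∀ u ∈ U, x * u * x⁻¹ ∈ U)
    (hUt : ∀ x, x ≠ a → ∃ u ∈ U, u • b = x) (hUr : ∀ u ∈ U, u • b = b → u = 1)
    (hUnil : Group.IsNilpotent U)
    (hcop : (Nat.card ↥(stabilizer G a ⊓ stabilizer G b)).Coprime (Nat.card U))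
    (hgen : Subgroup.normalClosure (U : Set G) = ⊤)
    {d : G} (hda : d • a = a) (hdb : d • b = b) (hdt : t * d = d * t) : d = 1 := by
  classical
  by_contra hd1
  have hfix := no_fix h2 hab hodd ht hta
  have htb : t • b = a := by rw [← hta, ← mul_smul, ht, one_smul]
  have hti : t⁻¹ = t := inv_eq_of_mul_eq_one_right ht
  have htr : ∀ x, ∃ k : G, k • a = x := by
    intro x
    by_cases hx : x = a
    · exact ⟨1, by rw [hx, one_smul]⟩
    · obtain ⟨u, -, h⟩ := hUt x hx; exact ⟨u * t, by rw [mul_smul, hta, h]⟩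
  haveI : Finite Ω := Finite.of_surjective (fun k : G => k • a) htr
  haveI : IsPretransitive G Ω := ⟨fun x y => by
    obtain ⟨k, rfl⟩ := htr x; obtain ⟨l, rfl⟩ := htr y
    exact ⟨l * k⁻¹, by rw [mul_smul, inv_smul_smul]⟩⟩
  letI := Fintype.ofFinite Ω
  letI := Fintype.ofFinite G
  have hUa : ∀ u ∈ U, u • a = a := fun u hu => hUB hu
  have hΩ : Fintype.card Ω = Nat.card U + 1 := by
    rw [Nat.card_eq_fintype_card, ← Fintype.card_option]
    symm
    refine Fintype.card_of_bijective (f := fun o : Option U => o.elim a fun u => (u : G) • b) ⟨?_, ?_⟩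
    · have h0 : ∀ u : U, a ≠ (u : G) • b := fun u h => hab (by
        rw [← hUa u u.2, smul_left_cancel_iff] at h; exact h)
      rintro (_ | u) (_ | v) h
      · rfl
      · exact absurd h (h0 v)
      · exact absurd h.symm (h0 u)
      · have h3 : (u : G) • b = (v : G) • b := h
        have := hUr _ (U.mul_mem (U.inv_mem v.2) u.2) (by rw [mul_smul, h3, inv_smul_smul])
        rw [inv_mul_eq_one] at this
        rw [Subtype.ext this]
    · intro x
      by_cases hx : x = a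
      · exact ⟨none, hx.symm⟩
      · obtain ⟨u, hu, h⟩ := hUt x hx; exact ⟨some ⟨u, hu⟩, h⟩
  set n := Nat.card U with hn
  set N := NN G a b with hN
  set D : Subgroup N := (stabilizer G a).subgroupOf N with hD
  have memD : ∀ k : N, k ∈ D ↔ (k : G) • a = a := fun k => Iff.rfl
  have hDb : ∀ k : N, (k : G) • a = a → (k : G) • b = b := by
    intro k hk
    rcases k.2 with h | h
    · exact h.2
    · exact absurd (hk.symm.trans h.1) hab
  let t' : N := ⟨t, Or.inr ⟨hta, htb⟩⟩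
  have ht' : t' * t' = 1 := Subtype.ext ht
  have htD : t' ∉ D := fun h => hab (((memD _).1 h).symm.trans hta)
  have hidx : D.index = 2 := by
    rw [Subgroup.index_eq_two_iff]
    refine ⟨t', fun k => ?_⟩
    have h1 : k * t' ∈ D ↔ (k : G) • b = a := by
      rw [memD]; show ((k : G) * t) • a = a ↔ _; rw [mul_smul, hta]
    rw [h1, memD]
    rcases k.2 with h | h
    · exact Or.inr ⟨h.1, by rw [h.2]; exact hab.symm⟩
    · exact Or.inl ⟨h.2, by rw [h.1]; exact hab.symm⟩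
  have hm : Nat.card D = Nat.card ↥(stabilizer G a ⊓ stabilizer G b) := Nat.card_congr
    { toFun := fun k => ⟨(k : N), k.2, hDb _ k.2⟩
      invFun := fun x => ⟨⟨x, Or.inl ⟨x.2.1, x.2.2⟩⟩, x.2.1⟩
      left_inv := fun _ => rfl
      right_inv := fun _ => rfl }
  rw [← hm] at hcop
  set m := Nat.card D with hmd
  -- the projection of the point stabiliser onto D
  have hex : ∀ x : stabilizer G a, ∃ k : D, (x : G) * ((k : N) : G)⁻¹ ∈ U := by
    intro x
    have hx : (x : G) • b ≠ a := fun h => hab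
      ((smul_left_cancel_iff (x : G)).1 ((mem_stabilizer_iff.1 x.2).trans h.symm))
    obtain ⟨u, hu, h⟩ := hUt _ hx
    have h1 : (u⁻¹ * x) • a = a := by rw [mul_smul, x.2, inv_smul_eq_iff, hUa u hu]
    refine ⟨⟨⟨u⁻¹ * x, Or.inl ⟨h1, by rw [mul_smul, ← h, inv_smul_smul]⟩⟩, h1⟩, ?_⟩
    simpa using hu
  have huniq : ∀ (x : G) (k k' : D), x * ((k : N) : G)⁻¹ ∈ U → x * ((k' : N) : G)⁻¹ ∈ U →
      k = k' := by
    intro x k k' h1 h3
    have h4 := hUr _ (U.mul_mem (U.inv_mem h1) h3) (by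
      rw [show (x * ((k : N) : G)⁻¹)⁻¹ * (x * ((k' : N) : G)⁻¹) = ((k : N) : G) * ((k' : N) : G)⁻¹ by
        group, mul_smul, inv_smul_eq_iff.2 (hDb _ k'.2).symm, hDb _ k.2])
    rw [inv_mul_eq_one, mul_right_inj, inv_inj] at h4
    exact Subtype.ext (Subtype.ext h4)
  choose p hp using hex
  let π : stabilizer G a →* D := MonoidHom.mk' p fun x y => huniq _ _ _ (hp (x * y)) (by
    have := U.mul_mem (hUn x x.2 _ (hp y)) (hp x)
    convert this using 1
    simp only [Subgroup.coe_mul]; group)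
  have hπ : ∀ (x : stabilizer G a) (k : D), (x : G) * ((k : N) : G)⁻¹ ∈ U → π x = k :=
    fun x k h => huniq _ _ _ (hp x) h
  let ι : D → stabilizer G a := fun k => ⟨(k : N), k.2⟩
  have hπι : ∀ k, π (ι k) = k := fun k => hπ _ _ (by simp [ι])
  have hπs : Function.Surjective π := fun k => ⟨ι k, hπι k⟩
  have hB : Nat.card (stabilizer G a) = n * m := by
    have h1 : π.ker = U.subgroupOf (stabilizer G a) := by
      ext x
      rw [MonoidHom.mem_ker, Subgroup.mem_subgroupOf]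
      constructor
      · intro h; have := hp x; rw [show p x = 1 from h] at this; simpa using this
      · intro h; exact hπ _ _ (by simpa using h)
    rw [← π.ker.card_mul_index, Subgroup.index_ker, MonoidHom.range_eq_top.2 hπs, Subgroup.card_top,
      h1, Nat.card_congr (Subgroup.subgroupOfEquivOfLe hUB).toEquiv]
  have hG : Nat.card G = (n + 1) * (n * m) := by
    rw [← (stabilizer G a).index_mul_card, index_stabilizer_of_transitive, Nat.card_eq_fintype_card,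
      hΩ, hB]
  have hmodd : Odd m := Odd.of_dvd_nat hodd (by rw [hB]; exact dvd_mul_left _ _)
  let v : N := ⟨d, Or.inl ⟨hda, hdb⟩⟩
  obtain ⟨χ, e, hχ, hχD, hχt, he0, hem, hχv⟩ := glaub D hidx hmodd ht' htD (v := v) hda
    (fun h => hd1 (congrArg Subtype.val h)) (Subtype.ext hdt)
  obtain ⟨δ, hδ0, hδ⟩ := hχ.exists_nat_apply_one
  have hδm : δ ∣ m := hχD.degree_dvd_card hδ
  let μ : stabilizer G a → ℂ := fun x => χ (π x)
  have hμ : IsIrrCharacter _ μ := H5.isIrr_comp_surjective π hπs hχD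
  have hμι : ∀ k : D, μ (ι k) = χ k := fun k => by simp only [μ, hπι]
  set E := extendByZero (stabilizer G a) μ with hE
  have E0 : ∀ x : G, x • a ≠ a → E x = 0 := fun x hx => extendByZero_of_not_mem _ _ hx
  have E1 : ∀ u x : G, u • a = a → E (u * x * u⁻¹) = E x := fun u x hu =>
    extendByZero_conj_mem _ hμ.classFun x hu
  have E2 : ∀ k : N, (k : G) • a = a → E k = χ k := fun k hk => by
    rw [← hμι ⟨k, hk⟩]; exact extendByZero_of_mem _ _ hk
  have E3 : ∀ u (hu : u ∈ U), μ ⟨u, hUB hu⟩ = δ := fun u hu => by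
    have : π ⟨u, hUB hu⟩ = 1 := hπ _ _ (by simpa using hu)
    simp only [μ, this, OneMemClass.coe_one, hδ]
  obtain ⟨r, hr, hra, hrc⟩ : ∃ r : Ω → G, (∀ c, r c • c = a) ∧ r a = 1 ∧
      ∀ c, c ≠ a → ∃ u ∈ U, r c = t * u⁻¹ := by
    have : ∀ c, ∃ k : G, k • c = a ∧ (c = a → k = 1) ∧ (c ≠ a → ∃ u ∈ U, k = t * u⁻¹) := by
      intro c
      by_cases hc : c = a
      · exact ⟨1, by rw [hc, one_smul], fun _ => rfl, fun h => absurd hc h⟩
      · obtain ⟨u, hu, h⟩ := hUt c hc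
        exact ⟨t * u⁻¹, by rw [← h, mul_smul, inv_smul_smul, htb], fun h => absurd h hc,
          fun _ => ⟨u, hu, rfl⟩⟩
    choose r h1 h3 h4 using this
    exact ⟨r, h1, h3 a rfl, h4⟩
  set θ := indFun (stabilizer G a) μ with hθd
  have hθ : ∀ g, θ g = ∑ c, E (r c * g * (r c)⁻¹) := fun g => indFun_stab a r hr hμ.classFun g
  have hθc : IsCharacter G θ := hμ.isCharacter.indFun
  have hθθ : classInner θ θ = 2 := by
    rw [hθd, classInner_indFun_left _ _ hθc.classFun]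
    refine mul_left_cancel₀ (card_ne_zero (stabilizer G a)) ?_
    rw [card_mul_classInner]
    simp only [hθ, map_sum, Finset.mul_sum]
    rw [sum_comm, sum_split_pt hΩ a _ (m : ℂ)]
    · simp only [hra, one_mul, inv_one, mul_one, hE, extendByZero_coe]
      rw [← card_mul_classInner, hμ.inner_self, hB]; push_cast; ring
    · intro c hc
      obtain ⟨u, hu, hru⟩ := hrc c hc
      rw [hru, ← Equiv.sum_comp (MulAut.conj (⟨u, hUB hu⟩ : stabilizer G a)).toEquiv]
      have h1 : (m : ℂ) = ∑ k : D, χ k * conj (χ k) := by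
        rw [← card_mul_classInner (fun k : D => χ k) (fun k : D => χ k), hχD.inner_self, mul_one]
      rw [h1]
      symm
      refine Fintype.sum_of_injective ι (fun k k' h => by rw [← hπι k, h, hπι]) _ _
        (fun x hx => ?_) (fun k => ?_)
      · rw [E0, map_zero, mul_zero]
        intro h
        refine hx ⟨⟨⟨x, Or.inl ⟨x.2, ?_⟩⟩, x.2⟩, rfl⟩
        have h3 : (t * u⁻¹ * (u * x * u⁻¹) * (t * u⁻¹)⁻¹) • a = a := h
        rw [show t * u⁻¹ * (u * x * u⁻¹) * (t * u⁻¹)⁻¹ = t * x * t⁻¹ by group, mul_smul, mul_smul,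
          hti, hta] at h3
        exact (smul_left_cancel_iff t).1 (h3.trans htb.symm)
      · show _ = μ (⟨u, hUB hu⟩ * ι k * (⟨u, hUB hu⟩ : stabilizer G a)⁻¹) *
          conj (E (t * u⁻¹ * (u * ((k : N) : G) * u⁻¹) * (t * u⁻¹)⁻¹))
        rw [hμ.classFun, hμι, show t * u⁻¹ * (u * ((k : N) : G) * u⁻¹) * (t * u⁻¹)⁻¹ =
          ((t' * k * t'⁻¹ : N) : G) by simp only [Subgroup.coe_mul, Subgroup.coe_inv, t']; group,
          E2, hχ.classFun]
        show (t * ((k : N) : G) * t⁻¹) • a = a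
        rw [mul_smul, mul_smul, hti, hta, hDb _ k.2, htb]
  obtain ⟨ψ₁, ψ₂, h₁, h₂, hsum, hi₁, hi₂⟩ := split_two hθc hθθ
  rw [hθd, classInner_indFun_right _ _ h₁.classFun] at hi₁
  rw [hθd, classInner_indFun_right _ _ h₂.classFun] at hi₂
  obtain ⟨f₁, hf₁0, hf₁⟩ := h₁.exists_nat_apply_one
  obtain ⟨f₂, hf₂0, hf₂⟩ := h₂.exists_nat_apply_one
  obtain ⟨c, hc⟩ := int_invol h₁.isCharacter ht
  have hc2 : ψ₂ t = -c := by
    have h1 : θ t = 0 := by
      rw [hθ]; exact sum_eq_zero fun x _ => E0 _ (hfix _ _)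
    rw [hsum, Pi.add_apply, hc] at h1
    linear_combination h1
  have hs : (f₁ : ℂ) + f₂ = (n + 1) * δ := by
    have h1 := indFun_apply_one (stabilizer G a) μ
    rw [← hθd, hsum, Pi.add_apply, hf₁, hf₂, index_stabilizer_of_transitive,
      Nat.card_eq_fintype_card, hΩ] at h1
    rw [h1, show μ 1 = δ from E3 1 U.one_mem]; push_cast; ring
  have hu : ∀ u ∈ U, u ≠ 1 → ψ₁ u + ψ₂ u = δ := by
    intro u hu hu1
    rw [← Pi.add_apply, ← hsum, hθ, sum_split_pt hΩ a _ 0, mul_zero, add_zero, hra, one_mul, inv_one,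
      mul_one, ← E3 u hu]
    · exact extendByZero_of_mem _ _ (hUB hu)
    · intro x hx
      obtain ⟨w, hw, hrw⟩ := hrc x hx
      refine E0 _ fun h => hu1 ?_
      rw [hrw, show t * w⁻¹ * u * (t * w⁻¹)⁻¹ = t * (w⁻¹ * u * w) * t⁻¹ by group, mul_smul,
        mul_smul, hti, hta, ← htb, smul_left_cancel_iff] at h
      have := hUr _ (U.mul_mem (U.mul_mem (U.inv_mem hw) hu) hw) h
      calc u = w * (w⁻¹ * u * w) * w⁻¹ := by group
        _ = 1 := by rw [this]; group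
  have hBt : ∀ x, x ≠ a → ∃ u : G, u • a = a ∧ u • b = x := fun x hx => by
    obtain ⟨u, hu, h⟩ := hUt x hx; exact ⟨u, hUa u hu, h⟩
  have hGN := card_HS hΩ hfix hBt
  have hmem : ∀ x ∈ HS t a b, x * t * x⁻¹ ∈ N := fun x hx =>
    Or.inr ⟨mem_HS.1 hx, by rw [HS_swap ht] at hx; exact mem_HS.1 hx⟩
  have hpair : (Nat.card G : ℂ) ^ 2 * (c * c / f₁) + (Nat.card G : ℂ) ^ 2 * (c * c / f₂) =
      (n + 1) * (n * (((HS t a b).card : ℂ) ^ 2 * (e * e / δ))) := by
    have h1 := pair_irr h₁ t t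
    have h3 := pair_irr h₂ t t
    rw [hc, hf₁] at h1
    rw [hc2, hf₂, neg_mul_neg] at h3
    rw [← h1, ← h3, ← hδ, ← avg (t := t) (a := a) (b := b) N (fun k => ?_) hχ (fun x hx => ⟨hmem x hx, ?_⟩)]
    · have h4 : ∑ x ∈ HS t a b, ∑ y ∈ HS t a b, extendByZero N χ (x * t * x⁻¹ * (y * t * y⁻¹)) =
          ∑ x ∈ HS t a b, ∑ y ∈ HS t a b, E (x * t * x⁻¹ * (y * t * y⁻¹)) := by
        refine sum_congr rfl fun x hx => sum_congr rfl fun y hy => ?_
        rw [extendByZero_of_mem _ _ (N.mul_mem (hmem x hx) (hmem y hy)), ← E2]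
        rw [HS_swap ht] at hx
        show (x * t * x⁻¹ * (y * t * y⁻¹)) • a = a
        rw [mul_smul, mem_HS.1 hy, mem_HS.1 hx]
      rw [h4, ← pair_count hΩ ht hfix hBt E0 E1, ← sum_add_distrib]
      simp only [← sum_add_distrib]
      have h5 : ∀ g, ψ₁ g + ψ₂ g = ∑ c, E (r c * g * (r c)⁻¹) := fun g => by
        rw [← hθ, hsum, Pi.add_apply]
      simp only [h5]
      have h6 : ∀ k : G, ∑ x : G, ∑ y : G, E (k * (x * t * x⁻¹ * (y * t * y⁻¹)) * k⁻¹) =
          ∑ x : G, ∑ y : G, E (x * t * x⁻¹ * (y * t * y⁻¹)) := by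
        intro k
        refine Fintype.sum_equiv (Equiv.mulLeft k) _ _ fun x =>
          Fintype.sum_equiv (Equiv.mulLeft k) _ _ fun y => ?_
        congr 1; simp only [Equiv.coe_mulLeft]; group
      calc _ = ∑ z : Ω, ∑ x : G, ∑ y : G, E (r z * (x * t * x⁻¹ * (y * t * y⁻¹)) * (r z)⁻¹) := by
            simp only [sum_comm (s := (univ : Finset Ω)) (t := (univ : Finset G))]
        _ = _ := by
            simp only [h6, sum_const, card_univ, hΩ, nsmul_eq_mul]; push_cast; ring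
    · rcases k.2 with h | h
      · rw [h.1, h.2]
      · rw [h.1, h.2, HS_swap ht]
    · have h4 : t' * ⟨_, hmem x hx⟩ ∈ D := by
        rw [memD]; show (t * (x * t * x⁻¹)) • a = a
        rw [mul_smul, mem_HS.1 hx, htb]
      obtain ⟨k, -, w, hw, h5, h6⟩ := KSG.ex_kw D hidx hmodd ht' htD ⟨_, h4⟩
      rw [show t' * ((⟨_, h4⟩ : D) : N) = ⟨_, hmem x hx⟩ by
        show t' * (t' * _) = _; rw [← mul_assoc, ht', one_mul]] at h6
      have h7 : (⟨w, hw⟩ : D) = 1 := eq_one_of_odd hmodd (Subtype.ext (by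
        have h8 : k * (t' * w) * k⁻¹ * (k * (t' * w) * k⁻¹) = 1 := by
          rw [h6]; exact Subtype.ext (conj_sq ht x)
        show w * w = 1
        calc w * w = k⁻¹ * (k * (t' * w) * k⁻¹ * (k * (w * t') * k⁻¹)) * k *
              (t' * w * (w * t'))⁻¹ * (w * w) := by group
          _ = (t' * w * (w * t'))⁻¹ * (w * w) := by rw [← h5, h8]; group
          _ = 1 := by
            rw [show t' * w * (w * t') = w * w by
              rw [h5, mul_assoc w, ← mul_assoc t', h5, mul_assoc w, ht', mul_one], inv_mul_cancel]))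
      have h9 : w = 1 := congrArg Subtype.val h7
      rw [← h6, h9, mul_one, hχ.classFun, hχt]
  have hn0 : (n : ℂ) ≠ 0 := card_ne_zero U
  have hn1 : (n : ℂ) + 1 ≠ 0 := by exact_mod_cast Nat.succ_ne_zero n
  have hN0 : ((HS t a b).card : ℂ) ≠ 0 := fun h => card_ne_zero G (by rw [hGN, h, mul_zero])
  have heq : (f₁ : ℤ) * f₂ * e ^ 2 = n * c ^ 2 * δ ^ 2 := by
    have hA : (c : ℂ) * c / f₁ * f₁ = c * c := div_mul_cancel₀ _ (by exact_mod_cast hf₁0.ne')
    have hA' : (c : ℂ) * c / f₂ * f₂ = c * c := div_mul_cancel₀ _ (by exact_mod_cast hf₂0.ne')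
    have hC : (e : ℂ) * e / δ * δ = e * e := div_mul_cancel₀ _ (by exact_mod_cast hδ0.ne')
    rw [hGN] at hpair
    generalize ((HS t a b).card : ℂ) = N₀ at hpair hN0
    have : (f₁ : ℂ) * f₂ * e ^ 2 = n * c ^ 2 * δ ^ 2 := by
      refine mul_left_cancel₀ (mul_ne_zero (mul_ne_zero hn1 hn0) (pow_ne_zero 2 hN0)) ?_
      linear_combination (-((n + 1) * n * N₀ ^ 2 * f₁ * f₂)) * hC - f₁ * f₂ * δ * hpair +
        (n * N₀) ^ 2 * δ * f₂ * hA + (n * N₀) ^ 2 * δ * f₁ * hA' + (n * N₀) ^ 2 * δ * c ^ 2 * hs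
    exact_mod_cast this
  have hin : ∀ ψ : G → ℂ, IsIrrCharacter G ψ →
      classInner (fun h : stabilizer G a => ψ h) μ = 1 →
      (δ : ℝ) ≤ (classInner (fun u : U => ψ u) (fun _ => 1)).re := by
    intro ψ hψ h
    have h1 := H5.inner_comp_re_le (Subgroup.inclusion hUB) (hψ.isCharacter.restrict _) hμ
      (by rw [h]; exact one_ne_zero) isCharacter_one
    have h3 : classInner (fun x : U => μ (Subgroup.inclusion hUB x)) (fun _ => 1) = δ := by
      have : (fun x : U => μ (Subgroup.inclusion hUB x)) = (δ : ℂ) • fun _ => (1 : ℂ) := by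
        funext x; rw [Pi.smul_apply, smul_eq_mul, mul_one]; exact E3 x x.2
      rw [this, classInner_smul_left, classInner_one_one, mul_one]
    rw [h3, Complex.natCast_re] at h1
    exact h1
  have hfin : ∀ ψ : G → ℂ, classInner (fun h : stabilizer G a => ψ h) μ = 1 →
      ψ ≠ fun _ => 1 := by
    rintro ψ h rfl
    have h1 := isIrrCharacter_one.eq_of_inner_ne_zero hμ (by rw [h]; exact one_ne_zero)
    refine hχv (H5.mul_mem_charKer_right hχ.classFun ?_ _)
    rw [H5.mem_charKer_iff hχ.isCharacter, ← hμι ⟨v, hda⟩, show χ 1 = μ (ι 1) from (hμι 1).symm, ← h1]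
  rcases endgame h₁ h₂ U hUnil hG hcop hf₁ hf₂ (by exact_mod_cast hs) hδ0.ne' hδm hem heq hu
    (hin _ h₁ hi₁) (hin _ h₂ hi₂) hgen with h | h
  · exact hfin _ hi₁ h
  · exact hfin _ hi₂ h

end H21.KSR
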