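import Mathlib
import Cfsg.Agent.H21.Mat11b

/-! Mathieu groups by order, part 4: integer values, elements of order four, signed fixed
vectors. -/

set_option autoImplicit false
set_option linter.unusedSectionVars false

open Cfsg H4 H17 H18 Subgroup Module
open scoped ComplexConjugate

namespace H21

theorem four_roots {ι : Type*} (s : Finset ι) (ω : ι → ℂ) (h : ∀ i, ω i ^ 4 = 1) :
    ∃ a b c d : ℕ, s.card = a + b + c + d ∧
      ∑ i ∈ s, ω i = ((a : ℂ) - c) + ((b : ℂ) - d) * Complex.I ∧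
      ∑ i ∈ s, ω i ^ 2 = (a : ℂ) + c - b - d ∧ ∏ i ∈ s, ω i = Complex.I ^ (b + 2 * c + 3 * d) := by
  classical
  induction s using Finset.induction_on with
  | empty => exact ⟨0, 0, 0, 0, by simp⟩
  | insert j s hj ih =>
    obtain ⟨a, b, c, d, h1, h2, h3, h4⟩ := ih
    rw [Finset.card_insert_of_notMem hj, Finset.sum_insert hj, Finset.sum_insert hj,
      Finset.prod_insert hj, h1, h2, h3, h4]
    have hI := Complex.I_mul_I
    have h5 : (ω j - 1) * (ω j - Complex.I) * (ω j + 1) * (ω j + Complex.I) = 0 := by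
      linear_combination h j - (ω j ^ 2 - 1) * hI
    simp only [mul_eq_zero, sub_eq_zero, add_eq_zero_iff_eq_neg] at h5
    rcases h5 with ((e | e) | e) | e <;> rw [e]
    · exact ⟨a + 1, b, c, d, by ring, by push_cast; ring, by push_cast; ring, by ring⟩
    · exact ⟨a, b + 1, c, d, by ring, by push_cast; ring, by push_cast; linear_combination hI, by ring⟩
    · exact ⟨a, b, c + 1, d, by ring, by push_cast; ring, by push_cast; ring,
        by linear_combination -Complex.I ^ (b + 2 * c + 3 * d) * hI⟩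
    · exact ⟨a, b, c, d + 1, by ring, by push_cast; ring, by push_cast; linear_combination hI,
        by linear_combination -Complex.I ^ (b + 2 * c + 3 * d + 1) * hI⟩

variable {G : Type*} [Group G] [Finite G] {p : ℕ} [hp : Fact p.Prime]

theorem four_char {θ : G → ℂ} (hθ : IsCharacter G θ) {f : G} (hf : f ^ 4 = 1) :
    ∃ a b c d : ℕ, θ 1 = (a + b + c + d : ℕ) ∧ θ f = ((a : ℂ) - c) + ((b : ℂ) - d) * Complex.I ∧
      θ (f ^ 2) = (a : ℂ) + c - b - d := by
  obtain ⟨n, ω, h1, h2, h3⟩ := hθ.exists_eigenvalues f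
  obtain ⟨k, hk⟩ := orderOf_dvd_of_pow_eq_one hf
  obtain ⟨a, b, c, d, e1, e2, e3, -⟩ := four_roots Finset.univ ω fun i => by
    rw [hk, pow_mul, h2, one_pow]
  refine ⟨a, b, c, d, by rw [h1, ← e1]; simp, by simpa [← e2] using h3 1, by rw [h3, e3]⟩

theorem four_char_det (hG : commutator G = ⊤) {θ : G → ℂ} (hθ : IsCharacter G θ) {f : G}
    (hf : f ^ 4 = 1) :
    ∃ a b c d : ℕ, θ 1 = (a + b + c + d : ℕ) ∧ θ f = ((a : ℂ) - c) + ((b : ℂ) - d) * Complex.I ∧
      θ (f ^ 2) = (a : ℂ) + c - b - d ∧ (b + 2 * c + 3 * d) % 4 = 0 := by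
  obtain ⟨n, ω, h1, h2, h3, h4⟩ := exists_eigenvalues_of_perfect hG hθ f
  obtain ⟨k, hk⟩ := orderOf_dvd_of_pow_eq_one hf
  obtain ⟨a, b, c, d, e1, e2, e3, e4⟩ := four_roots Finset.univ ω fun i => by
    rw [hk, pow_mul, h2, one_pow]
  refine ⟨a, b, c, d, by rw [h1, ← e1]; simp, by simpa [← e2] using h3 1, by rw [h3, e3], ?_⟩
  rw [h4, eq_comm, Complex.isPrimitiveRoot_I.pow_eq_one_iff_dvd] at e4
  omega

theorem re_im_int {u : ℤ} {a b c d : ℕ}
    (h : (u : ℂ) = ((a : ℂ) - c) + ((b : ℂ) - d) * Complex.I) : u = a - c ∧ b = d := by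
  have h1 := congrArg Complex.re h
  have h2 := congrArg Complex.im h
  simp at h1 h2
  exact ⟨by exact_mod_cast h1, by exact_mod_cast sub_eq_zero.1 h2.symm⟩

/-- The congruence for an integral value at an element of order four. -/
theorem four_int (hG : commutator G = ⊤) (χ : Irr G) {f : G} (hf : f ^ 4 = 1) {u v : ℤ}
    (hu : χ.1 f = u) (hv : χ.1 (f ^ 2) = v) : ((deg χ : ℤ) + v - 2 * u) % 8 = 0 := by
  obtain ⟨a, b, c, d, e1, e2, e3, e4⟩ := four_char_det hG χ.2.isCharacter hf
  rw [hu] at e2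
  rw [hv] at e3
  rw [← deg_eq] at e1
  have e5 : deg χ = a + b + c + d := by exact_mod_cast e1
  have e6 : v = a + c - b - d := by exact_mod_cast e3
  have := re_im_int e2
  omega

/-- Multiplicities of eigenvalues. -/
theorem sum_pow_nat {θ : G → ℂ} (hθ : IsCharacter G θ) {f : G} {n : ℕ} (hf : f ^ n = 1) {ζ : ℂ}
    (hζ : ζ ^ n = 1) : ∃ m : ℕ, ∑ k ∈ Finset.range n, θ (f ^ k) * ζ ^ k = n * m := by
  classical
  obtain ⟨d, ω, -, h2, h3⟩ := hθ.exists_eigenvalues f
  obtain ⟨k, hk⟩ := orderOf_dvd_of_pow_eq_one hf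
  refine ⟨(Finset.univ.filter fun i => ω i * ζ = 1).card, ?_⟩
  simp only [h3, Finset.sum_mul, ← mul_pow]
  rw [Finset.sum_comm, Finset.card_eq_sum_ones, Finset.sum_filter]
  push_cast
  rw [Finset.mul_sum]
  refine Finset.sum_congr rfl fun i _ => ?_
  split_ifs with e
  · simp [e]
  · have := mul_geom_sum (ω i * ζ) n
    rw [mul_pow, hζ, hk, pow_mul, h2, one_pow, one_mul, sub_self, ← hk] at this
    rw [(mul_eq_zero.1 this).resolve_left (sub_ne_zero.2 e), mul_zero]

/-- The integer nearest to a character value. -/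
noncomputable def iv (χ : Irr G) (g : G) : ℤ := round (χ.1 g).re

theorem iv_eq {χ : Irr G} {g : G} (h : ∃ n : ℤ, χ.1 g = n) : χ.1 g = iv χ g := by
  obtain ⟨n, hn⟩ := h
  simp [iv, hn]

theorem iv_of_eq {χ : Irr G} {g : G} {n : ℤ} (h : χ.1 g = n) : iv χ g = n := by simp [iv, h]

theorem iv_inv (χ : Irr G) {z : G} (hz : z * z = 1) : χ.1 z = iv χ z :=
  iv_eq (χ.2.isGen.exists_int_of_sq (by rw [sq, hz]))

theorem iv_one (g : G) : iv (irrOne G) g = 1 := iv_of_eq (by simp [irrOne_apply])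

/-- A Galois conjugate. -/
def galP (χ : Irr G) {m : ℕ} (hm : m.Coprime (Nat.card G)) : Irr G := ⟨_, χ.2.pow_arg hm⟩

theorem deg_galP (χ : Irr G) {m : ℕ} (hm : m.Coprime (Nat.card G)) : deg (galP χ hm) = deg χ := by
  have : (deg (galP χ hm) : ℂ) = deg χ := by rw [deg_eq, deg_eq]; simp [galP]
  exact_mod_cast this

theorem int_of_galP {χ : Irr G} {g : G} (h : ∀ ψ : Irr G, deg ψ = deg χ → ψ.1 g = χ.1 g) :
    χ.1 g = iv χ g :=
  iv_eq (χ.2.isGen.exists_int_of_pow Nat.card_pos.ne' pow_card_eq_one' fun _ hm =>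
    h _ (deg_galP χ hm))

theorem abs_iv_lt [IsSimpleGroup G] (hG : ¬ IsMulCommutative G) {χ : Irr G} (h1 : χ ≠ irrOne G)
    {g : G} (hg : g ≠ 1) {v : ℤ} (hv : χ.1 g = v) : |v| < deg χ := by
  have h2 := norm_ne_of_simple hG h1 hg
  have h3 := χ.2.isCharacter.norm_le g
  rw [hv, ← deg_eq, Complex.norm_intCast, Complex.natCast_re] at h2 h3
  exact_mod_cast lt_of_le_of_ne h3 h2

theorem central_dvd (χ : Irr G) {g : G} {v : ℤ} (hv : χ.1 g = v) :
    (deg χ : ℤ) ∣ (Nat.card G / Nat.card (centralizer ({g} : Set G)) : ℕ) * v := by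
  have h := χ.2.isIntegral_centralChar g
  rw [hv, ← deg_eq] at h
  rw [← (centralizer ({g} : Set G)).card_mul_index, Nat.mul_div_cancel_left _ Nat.card_pos]
  exact int_dvd_of_isIntegral_div (by exact_mod_cast deg_ne_zero χ) (by exact_mod_cast h)

theorem four_dvd_inv (hG : commutator G = ⊤) (χ : Irr G) {z : G} (hz : orderOf z = 2) {v : ℤ}
    (hv : χ.1 z = v) : ((deg χ : ℤ) - v) % 4 = 0 := by
  obtain ⟨k, hk⟩ := exists_four_dvd hG hz χ.2.isCharacter
  rw [hv, ← deg_eq] at hk
  have : (deg χ : ℤ) - v = 4 * k := by exact_mod_cast hk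
  omega

/-- The character on the fixed space of an element of prime order. -/
theorem isCharacter_fix' {θ : G → ℂ} (hθ : IsCharacter G θ) {x : G} (hx : orderOf x = p) :
    IsCharacter (normalizer (zpowers x : Set G))
      fun g => (p : ℂ)⁻¹ * ∑ i : ZMod p, θ (g * xp x i) := by
  have := Fintype.ofFinite (zpowers x)
  have h := isCharacter_fix hθ (zpowers x)
  simp only [Nat.card_zpowers, hx] at h
  convert h using 3 with g
  exact (sum_zpowers hx fun w => θ (g * w)).symm

theorem dvd_of_sum_xp {θ : G → ℂ} (hθ : IsCharacter G θ) {x : G} (hx : orderOf x = p) {g : G}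
    (hg : g ∈ normalizer (zpowers x : Set G)) {n : ℤ} (h : ∑ i : ZMod p, θ (g * xp x i) = n) :
    (p : ℤ) ∣ n := by
  have h1 := (isCharacter_fix' hθ hx).isIntegral ⟨g, hg⟩
  simp only [h] at h1
  refine int_dvd_of_isIntegral_div (by exact_mod_cast hp.out.ne_zero) ?_
  rw [div_eq_inv_mul]
  exact_mod_cast h1

theorem dvd_orderOf_mul {g y : G} (hc : Commute g y) (hg : ¬ p ∣ orderOf g) (hy : p ∣ orderOf y) :
    p ∣ orderOf (g * y) := by
  by_contra e
  have := reg_mul (reg_zpow hg (-1)) e (by simpa using ((Commute.refl g).mul_right hc).inv_left)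
  rw [zpow_neg_one, inv_mul_cancel_left] at this
  exact this hy

/-- Congruence between the value at a regular element and the constant value on its section. -/
theorem dvd_sub_of_const {θ : G → ℂ} (hθ : IsCharacter G θ) {x : G} (hx : orderOf x = p) {g : G}
    (hc : Commute g x) {u v : ℤ} (hu : θ g = u) (hv : ∀ i : ZMod p, i ≠ 0 → θ (g * xp x i) = v) :
    (p : ℤ) ∣ u - v := by
  have h1 := dvd_of_sum_xp hθ hx (centralizer_le_normalizer_zpowers x
    (mem_centralizer_singleton_iff.2 hc)) (n := u - v + p * v) (by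
      rw [sum_eq_add_sum_units, Finset.sum_congr rfl fun (i : (ZMod p)ˣ) _ => hv i i.ne_zero]
      simp [xp, hu, Nat.totient_prime hp.out, Nat.cast_sub hp.out.one_le]
      ring)
  exact (dvd_add_left (dvd_mul_right _ _)).1 h1

theorem D1.card_centralizer_eq {x y : G} (h : D1 p x) (hy : orderOf y = p) :
    Nat.card (centralizer ({y} : Set G)) = Nat.card (centralizer ({x} : Set G)) := by
  obtain ⟨i, hi⟩ := h.exists_isConj_of_pElt (h.of_orderOf hy).pElt (ne_one_of_orderOf hy)
  rw [H4.card_centralizer_of_isConj hi, h.centralizer_xp i.ne_zero]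

/-- A subgroup containing a Sylow normaliser is self-normalising. -/
theorem D1.mem_of_conj {x : G} (h : D1 p x) {K : Subgroup G}
    (hK : normalizer (zpowers x : Set G) ≤ K) {g : G} (hg : ∀ k ∈ K, g * k * g⁻¹ ∈ K) : g ∈ K := by
  have hx : x ∈ K := hK (le_normalizer (mem_zpowers x))
  have h1 : D1 p (⟨x, hx⟩ : K) := ⟨by rw [Subgroup.orderOf_mk, h.ord], fun e =>
    h.2 (e.trans (card_subgroup_dvd_card K))⟩
  have h2 : orderOf (⟨_, hg x hx⟩ : K) = p := by rw [Subgroup.orderOf_mk, H17.orderOf_conj, h.ord]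
  obtain ⟨i, hi⟩ := h1.exists_isConj_of_pElt (h1.of_orderOf h2).pElt (ne_one_of_orderOf h2)
  obtain ⟨k, hk⟩ := isConj_iff.1 hi
  have h3 : (k : G) * g ∈ K := hK (mem_norm_of_eq (a := (i : ZMod p)) (by
    have := congrArg Subtype.val hk
    simp only [coe_mul, coe_inv, xp, SubgroupClass.coe_pow] at this
    rw [xp, ← this]; group))
  simpa using mul_mem (inv_mem k.2) h3

theorem two_of_sum_sq {α : Type*} (F : Finset α) (f : α → ℤ) (h0 : ∀ a ∈ F, f a ≠ 0)
    (h : ∑ a ∈ F, f a ^ 2 = 2) : ∃ a b, a ≠ b ∧ (∀ c, c ∈ F ↔ c = a ∨ c = b) ∧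
      (f a = 1 ∨ f a = -1) ∧ (f b = 1 ∨ f b = -1) := by
  classical
  have h1 : ∀ a ∈ F, f a ^ 2 = 1 := fun a ha => by
    have h2 := Finset.single_le_sum (f := fun a => f a ^ 2) (fun a _ => sq_nonneg _) ha
    have h3 := h0 a ha
    rw [h] at h2
    have : -2 < f a ∧ f a < 2 := by constructor <;> nlinarith
    obtain ⟨h4, h5⟩ := this
    interval_cases f a <;> simp_all
  rw [Finset.sum_congr rfl h1, Finset.sum_const, nsmul_eq_mul, mul_one] at h
  obtain ⟨a, b, hab, rfl⟩ := Finset.card_eq_two.1 (by exact_mod_cast h : F.card = 2)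
  exact ⟨a, b, hab, by simp, sq_eq_one_iff.1 (h1 a (by simp)),
    sq_eq_one_iff.1 (h1 b (by simp))⟩

theorem fix_of_sum_neg {V : Type*} [AddCommGroup V] [Module ℂ V] [FiniteDimensional ℂ V]
    (ρ : Representation ℂ G V) (W : Subgroup G) [Fintype W] {g : G}
    (hg : g ∈ normalizer (W : Set G))
    (h : ∑ w : W, ρ.character (g * w) = -∑ w : W, ρ.character w) {v : V}
    (hv : ∀ w ∈ W, ρ w v = v) : ρ g v = -v := by
  have hE := avgP_idem ρ W
  have hc := avgP_comm ρ W hg
  set E := avgP ρ W with hEdef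
  have hpow : ∀ k : ℕ, (-ρ g * E + (1 - E)) ^ k = (-ρ g) ^ k * E + (1 - E) := fun k => by
    induction k with
    | zero => simp
    | succ k ih =>
      have e1 : E * (-ρ g * E) = -ρ g * E := by
        rw [neg_mul, mul_neg, ← mul_assoc, ← hc, mul_assoc, hE]
      rw [pow_succ, ih, pow_succ]
      simp only [add_mul, mul_add, mul_sub, sub_mul, mul_one, one_mul, mul_assoc, e1, hE]
      abel
  have h1 : -ρ g * E + (1 - E) = 1 := by
    refine end_eq_one_of_trace _ (n := 2 * orderOf g) (by simpa using (orderOf_pos g).ne') ?_ ?_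
    · rw [hpow, pow_mul, neg_sq, ← pow_mul, mul_comm 2, pow_mul, ← map_pow, pow_orderOf_eq_one,
        map_one, one_pow, one_mul, add_sub_cancel]
    · have h2 := trace_mul_avgP ρ W 1
      simp only [map_one, one_mul] at h2
      rw [map_add, map_sub, neg_mul, map_neg, trace_mul_avgP, h, mul_neg, ← h2, LinearMap.trace_one]
      ring
  have h2 := congrArg (fun A : Module.End ℂ V => A v) h1
  simp only [LinearMap.add_apply, Module.End.mul_apply, LinearMap.sub_apply, LinearMap.neg_apply,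
    Module.End.one_apply, hEdef, avgP_apply ρ W hv, sub_self, add_zero] at h2
  rw [← h2, neg_neg, h2]

/-- The signed fixed vector trick: if the Sylow normaliser fixes a vector, no element negates
the fixed space of one of its elements. -/
theorem D1.not_neg {χ : Irr G} {x : G} (h : D1 p x) (h0 : mult x χ.1 (0 : ZMod p) ≠ 0)
    {w : G} {a : (ZMod p)ˣ} (hw : w * x * w⁻¹ = xp x (a : ZMod p)) (ha1 : a ≠ 1)
    (ha : Nat.card (Aut h.ord) ≤ orderOf a) (hs : SC p x) (hχ : χ.1 w = mult x χ.1 (0 : ZMod p))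
    {q : ℕ} [Fact q.Prime] (hq : orderOf w = q) {g : G} (hg : g ∈ normalizer (zpowers w : Set G))
    (hg' : g ∉ centralizer ({w} : Set G)) : χ.1 g ≠ -mult w χ.1 (0 : ZMod q) := fun e => by
  have := Fintype.ofFinite (zpowers x)
  have := Fintype.ofFinite (zpowers w)
  have hx := h.ord
  have hwC : w ∉ centralizer ({x} : Set G) := by
    rw [mem_cent_iff hx hw]; exact fun e => ha1 (Units.ext e)
  have s1 := sum_xp_eq hx χ.2.isCharacter
  have s2 := sum_xp_eq hq χ.2.isCharacter
  have s3 := sum_mul_xp hx χ.2.classFun (mem_norm_of_eq hw) hwC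
  have s4 := sum_mul_xp hq χ.2.classFun hg hg'
  rw [← sum_zpowers hx] at s1
  rw [← sum_zpowers hq] at s2
  rw [← sum_zpowers hx fun y => χ.1 (w * y), hχ, ← s1] at s3
  rw [← sum_zpowers hq fun y => χ.1 (g * y), e, mul_neg, ← s2] at s4
  have hP : ∑ y : zpowers x, χ.1 y ≠ 0 := by
    rw [s1]; exact mul_ne_zero p_ne_zero' (by exact_mod_cast h0)
  obtain ⟨χ, n, ρ, hρ, rfl⟩ := χ
  have h2 : avgP ρ (zpowers x) ≠ 0 := fun h => by
    have h3 := trace_mul_avgP ρ (zpowers x) 1
    simp only [h, mul_zero, map_zero, one_mul] at h3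
    exact hP ((mul_eq_zero.1 h3.symm).resolve_left (inv_ne_zero (card_ne_zero _)))
  obtain ⟨u, hu⟩ : ∃ u, avgP ρ (zpowers x) u ≠ 0 := by
    by_contra hc
    push Not at hc
    exact h2 (LinearMap.ext hc)
  set v := avgP ρ (zpowers x) u
  let K : Subgroup G :=
    { carrier := {g | ρ g v = v}
      mul_mem' := fun {a b} ha hb => by
        simp only [Set.mem_setOf_eq, map_mul, Module.End.mul_apply] at *
        rw [hb, ha]
      one_mem' := by simp
      inv_mem' := fun {a} ha => by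
        simp only [Set.mem_setOf_eq] at *
        conv_lhs => rw [← ha, ← Module.End.mul_apply, ← map_mul, inv_mul_cancel, map_one]
        rfl }
  have hxK : zpowers x ≤ K := fun y hy => by
    change ρ y (avgP ρ _ u) = avgP ρ _ u
    rw [← Module.End.mul_apply, mul_avgP ρ _ ⟨y, hy⟩]
  have hwK : w ∈ K := fix_of_sum ρ _ (mem_norm_of_eq hw) s3 hxK
  have h3 : ρ g v = -v := fix_of_sum_neg ρ _ hg s4 (zpowers_le.2 hwK)
  have h4 : ρ g⁻¹ v = -v := by
    have := congrArg (ρ g⁻¹) h3
    rw [← Module.End.mul_apply, ← map_mul, inv_mul_cancel, map_one, map_neg] at this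
    exact neg_eq_iff_eq_neg.1 this.symm
  have h5 : g ∈ K := D1.mem_of_conj h (normalizer_le hx hw ha (hs.cent ▸ hxK) hwK) fun k hk => by
    change ρ _ v = v
    rw [map_mul, map_mul, Module.End.mul_apply, Module.End.mul_apply, h4, map_neg, hk, map_neg, h3,
      neg_neg]
  have h6 : v = -v := h5.symm.trans h3
  exact hu (by
    have : (2 : ℂ) • v = 0 := by rw [two_smul]; nth_rewrite 2 [h6]; simp
    simpa using this)

end H21
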