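import Mathlib
import Cfsg.Agent.H21.Mat4

/-! Mathieu groups by order, part 5: the principal block of a self-centralising non-real element
with two exceptional characters. -/

set_option autoImplicit false
set_option linter.unusedSectionVars false

open Cfsg H4 H17 H18 Subgroup Module
open scoped ComplexConjugate

namespace H21

variable {G : Type*} [Group G] [Finite G] {p : ℕ} [hp : Fact p.Prime]

theorem quad_term {a u v : ℤ} (ha : a = 1 ∨ a = -1) {d N : ℕ} (hd : d ≠ 0) (h : d ∣ N) :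
    (N : ℂ) * ((a : ℂ) * ((u : ℂ) * v / d)) = ((u * v * (N / (a * d)) : ℤ) : ℂ) := by
  obtain ⟨k, rfl⟩ := h
  have h1 : (d : ℂ) ≠ 0 := by exact_mod_cast hd
  have h2 : (d : ℤ) ≠ 0 := by exact_mod_cast hd
  have h3 : ((d * k : ℕ) : ℤ) / (a * d) = a * k := by
    refine Int.ediv_eq_of_eq_mul_right (by rcases ha with rfl | rfl <;> simpa) ?_
    rcases ha with rfl | rfl <;> push_cast <;> ring
  rw [h3]
  push_cast
  field_simp

theorem sum_norm_le (s : Finset (Irr G)) (g : G) :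
    ∑ χ ∈ s, ‖χ.1 g‖ ^ 2 ≤ (Nat.card (centralizer ({g} : Set G)) : ℝ) := by
  rw [← sum_norm_sq_irr]
  exact Finset.sum_le_sum_of_subset_of_nonneg (Finset.subset_univ _) fun _ _ _ => sq_nonneg _

theorem norm_sq_int {z : ℂ} {v : ℤ} (h : z = v) : ‖z‖ ^ 2 = ((v ^ 2 : ℤ) : ℝ) := by
  rw [h, Complex.norm_intCast, sq_abs]; push_cast; rfl

/-- The principal block data. -/
structure EH (p m : ℕ) [Fact p.Prime] (x : G) where
  sc : SC p x
  p2 : p ≠ 2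
  he : Nat.card (Aut sc.ord) = m + 1
  h2 : (Aut sc.d1.ord).index = 2
  hm : (-1 : (ZMod p)ˣ) ∉ Aut sc.d1.ord
  D : BData sc.d1
  χ : Fin m → Irr G
  inj : Function.Injective χ
  mem : ∀ i, χ i ∈ D.Nx ∧ χ i ≠ irrOne G
  all : ∀ ψ ∈ D.Nx, ψ = irrOne G ∨ ∃ i, χ i = ψ
  mono : Monotone fun i => D.a (χ i) * deg (χ i)
  sum : ∀ {M : Type} [AddCommMonoid M] (f : Irr G → M),
    ∑ ψ ∈ D.Nx, f ψ = f (irrOne G) + ∑ i, f (χ i)

theorem nonempty_EH {m : ℕ} {x : G} (h : SC p x) (he : Nat.card (Aut h.ord) = m + 1)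
    (h2 : (m + 1) * 2 = p - 1) (ho : Odd (m + 1)) : Nonempty (EH p m x) := by
  obtain ⟨D⟩ := h.d1.nonempty_bData
  obtain ⟨χ, h3, h4, h5, h6, h7⟩ := BData.enum D he
  have p2 : p ≠ 2 := by omega
  exact ⟨⟨h, p2, he, index_Aut _ he h2, neg_notMem_Aut h.ord p2 (he ▸ ho), D, χ, h3, h4, h5, h6, h7⟩⟩

namespace EH

variable {m : ℕ} {x : G} (E : EH p m x)

def a (i : Fin m) : ℤ := E.D.a (E.χ i)
noncomputable def s (i : Fin m) : ℤ := E.a i * deg (E.χ i)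
def μ : Irr G := E.D.μ 1
def ν : Irr G := E.D.μ (-1)
noncomputable def t : ℤ := E.D.δ * deg E.μ

theorem a_sq (i : Fin m) : E.a i = 1 ∨ E.a i = -1 := E.D.a_sq _ (E.mem i).1
theorem s_mono : Monotone E.s := E.mono
theorem deg_χ (i : Fin m) : deg (E.χ i) = (E.s i).natAbs :=
  (eq_of_sdeg (E.a_sq i) (deg_ne_zero _) rfl).1
theorem a_eq (i : Fin m) : E.a i = (E.s i).sign := (eq_of_sdeg (E.a_sq i) (deg_ne_zero _) rfl).2
theorem deg_μ : deg E.μ = E.t.natAbs := (eq_of_sdeg E.D.δ_sq (deg_ne_zero _) rfl).1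
theorem δ_eq : E.D.δ = E.t.sign := (eq_of_sdeg E.D.δ_sq (deg_ne_zero _) rfl).2
theorem deg_ν : deg E.ν = E.t.natAbs := (E.D.deg_μ_congr _ _).trans E.deg_μ
theorem μ_ne_ν : E.μ ≠ E.ν := Two.μ_ne E.D E.h2 E.hm 1
theorem μ_ne_one : E.μ ≠ irrOne G := E.D.μ_ne_one _
theorem ν_ne_one : E.ν ≠ irrOne G := E.D.μ_ne_one _
theorem χ_ne_one (i : Fin m) : E.χ i ≠ irrOne G := (E.mem i).2
theorem μ_mem : E.μ ∈ Bf G p := mem_Bf.2 (E.D.μ_mem _)
theorem ν_mem : E.ν ∈ Bf G p := mem_Bf.2 (E.D.μ_mem _)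
theorem χ_mem (i : Fin m) : E.χ i ∈ Bf G p := mem_Bf.2 (E.D.Nx_mem (E.mem i).1)
theorem ν_reg {g : G} (hg : ¬ p ∣ orderOf g) : E.ν.1 g = E.μ.1 g := E.D.μ_reg _ _ g hg

theorem sum_Bf {M : Type} [AddCommMonoid M] (f : Irr G → M) :
    ∑ ψ ∈ Bf G p, f ψ = f (irrOne G) + ∑ i, f (E.χ i) + (f E.μ + f E.ν) := by
  classical
  rw [E.D.sum_Bf, E.sum, Two.X_eq E.D E.h2 E.hm 1, Finset.sum_pair (Two.μ_ne E.D E.h2 E.hm 1)]
  rfl

theorem mem_cases {ψ : Irr G} (h : ψ ∈ Bf G p) :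
    ψ = irrOne G ∨ (∃ i, ψ = E.χ i) ∨ ψ = E.μ ∨ ψ = E.ν := by
  classical
  rcases (E.D.mem_iff ψ).1 (mem_Bf.1 h) with h1 | ⟨j, rfl⟩
  · rcases E.all ψ h1 with h2 | ⟨i, rfl⟩
    · exact Or.inl h2
    · exact Or.inr (Or.inl ⟨i, rfl⟩)
  · have := E.D.μ_mem_X j
    rw [Two.X_eq E.D E.h2 E.hm 1, Finset.mem_insert, Finset.mem_singleton] at this
    exact Or.inr (Or.inr this)

include E in
theorem dvd_deg {ψ : Irr G} (h : ψ ∉ Bf G p) : p ∣ deg ψ := SC.dvd_deg E.sc (mem_Bf.not.1 h)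

include E in
theorem mem_Bf_of {ψ : Irr G} (h : ¬ p ∣ deg ψ) : ψ ∈ Bf G p := mem_Bf.2 (SC.mem_B0 E.sc h)

include E in
theorem not_dvd {ψ : Irr G} (h : ψ ∈ Bf G p) : ¬ p ∣ deg ψ :=
  not_dvd_deg_of_mem_B0 E.sc.d1 (mem_Bf.1 h)

theorem deg_cases (ψ : Irr G) : ψ = irrOne G ∨ (∃ i, deg ψ = (E.s i).natAbs) ∨
    deg ψ = E.t.natAbs ∨ p ∣ deg ψ := by
  by_cases h : ψ ∈ Bf G p
  · rcases E.mem_cases h with h | ⟨i, rfl⟩ | rfl | rfl
    · exact Or.inl h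
    · exact Or.inr (Or.inl ⟨i, E.deg_χ i⟩)
    · exact Or.inr (Or.inr (Or.inl E.deg_μ))
    · exact Or.inr (Or.inr (Or.inl E.deg_ν))
  · exact Or.inr (Or.inr (Or.inr (E.dvd_deg h)))

theorem rel {g : G} (hg : ¬ p ∣ orderOf g) :
    1 + ∑ i, ((E.s i).sign : ℂ) * (E.χ i).1 g + E.t.sign * E.μ.1 g = 0 := by
  have h := E.D.rel hg 1
  rw [E.sum, E.D.a_one, irrOne_apply, E.δ_eq] at h
  simp only [← E.a_eq]
  simpa [a, μ] using h

theorem deg_rel : 1 + ∑ i, E.s i + E.t = 0 := by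
  have h := E.D.deg_rel 1
  rw [E.sum, E.D.a_one, H17.deg_irrOne] at h
  simpa [a, μ, s, t] using h

theorem sq_le : 1 + ∑ i, E.s i ^ 2 + 2 * E.t ^ 2 ≤ Nat.card G := by
  have h := Two.sum_sq_le E.D E.h2 E.hm
  rw [E.sum, H17.deg_irrOne] at h
  simp only [s, t, sq_sdeg (E.a_sq _), sq_sdeg E.D.δ_sq]
  exact_mod_cast h

theorem s_mem (hG : commutator G = ⊤) {N B : ℕ} (hB : Nat.card G < (B + 1) ^ 2)
    (hN : Nat.card G = p * N) (L : List ℤ) (hL : chkL p 1 N B L = true) (i : Fin m) :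
    E.s i ∈ L :=
  BData.sdeg_Nx hG E.D (E.mem i) hB
    (Nat.eq_of_mul_eq_mul_left hp.out.pos (E.sc.card_eq.symm.trans hN)) L hL

theorem t_mem (hG : commutator G = ⊤) {N B : ℕ} (hB : Nat.card G < (B + 1) ^ 2)
    (hN : Nat.card G = p * N) (L : List ℤ) (hL : chkL p (m + 1) N B L = true) : -E.t ∈ L := by
  have := BData.sdeg_μ hG E.D hB E.he
    (Nat.eq_of_mul_eq_mul_left hp.out.pos (E.sc.card_eq.symm.trans hN)) L hL
  rwa [neg_mul] at this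

theorem quad {y z : G} (hy : y * y = 1) (hz : z * z = 1) :
    (Nat.card G : ℤ) + ∑ i, iv (E.χ i) y * iv (E.χ i) z * (Nat.card G / E.s i) +
      iv E.μ y * iv E.μ z * (Nat.card G / E.t) = 0 := by
  have h := congrArg ((Nat.card G : ℂ) * ·) (Two.quad E.D E.h2 E.hm E.sc hy hz E.p2)
  simp only [E.sum, mul_add, Finset.mul_sum, E.D.a_one, irrOne_apply, H17.deg_irrOne] at h
  rw [Finset.sum_congr rfl fun i _ => by
    rw [iv_inv _ hy, iv_inv _ hz, quad_term (E.D.a_sq _ (E.mem i).1) (deg_ne_zero _) (deg_dvd_card _)],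
    iv_inv (E.D.μ 1) hy, iv_inv (E.D.μ 1) hz,
    quad_term E.D.δ_sq (deg_ne_zero _) (deg_dvd_card _)] at h
  apply Int.cast_injective (α := ℂ)
  push_cast at h ⊢
  simpa [s, t, a, μ] using h

theorem rel_int {g : G} (hg : ¬ p ∣ orderOf g) (h : ∀ i, (E.χ i).1 g = iv (E.χ i) g)
    (h' : E.μ.1 g = iv E.μ g) :
    1 + ∑ i, (E.s i).sign * iv (E.χ i) g + E.t.sign * iv E.μ g = 0 := by
  have h1 := E.rel hg
  rw [Finset.sum_congr rfl fun i _ => by rw [h i], h'] at h1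
  exact_mod_cast h1

open Classical in
theorem norm_le {g : G} (hg : ¬ p ∣ orderOf g) (h : ∀ i, (E.χ i).1 g = iv (E.χ i) g)
    (h' : E.μ.1 g = iv E.μ g) (F : Finset (Irr G)) (hF : ∀ ψ ∈ F, ψ ∉ Bf G p) :
    ((1 + ∑ i, iv (E.χ i) g ^ 2 + 2 * iv E.μ g ^ 2 : ℤ) : ℝ) + ∑ ψ ∈ F, ‖ψ.1 g‖ ^ 2 ≤
      Nat.card (centralizer ({g} : Set G)) := by
  have h1 := sum_norm_le (Bf G p ∪ F) g
  rw [Finset.sum_union (Finset.disjoint_right.2 hF), E.sum_Bf, E.ν_reg hg, norm_sq_int h',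
    Finset.sum_congr rfl fun i _ => norm_sq_int (h i), irrOne_apply] at h1
  push_cast at h1 ⊢
  simp only [norm_one, one_pow] at h1
  linarith

theorem χ_int {i : Fin m} (h1 : (E.s i).natAbs ≠ 1) (h2 : (E.s i).natAbs ≠ E.t.natAbs)
    (h3 : ∀ j, (E.s j).natAbs = (E.s i).natAbs → j = i) (g : G) :
    (E.χ i).1 g = iv (E.χ i) g := by
  refine int_of_galP fun ψ hψ => ?_
  rcases E.mem_cases (E.mem_Bf_of (hψ ▸ E.not_dvd (E.χ_mem i))) with rfl | ⟨j, rfl⟩ | rfl | rfl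
  · exact absurd (by rw [← E.deg_χ, ← hψ, H17.deg_irrOne]) h1
  · rw [h3 j (by rw [← E.deg_χ, hψ, E.deg_χ])]
  · exact absurd (by rw [← E.deg_χ, ← hψ, E.deg_μ]) h2
  · exact absurd (by rw [← E.deg_χ, ← hψ, E.deg_ν]) h2

theorem μ_gal (h1 : E.t.natAbs ≠ 1) (h2 : ∀ i, (E.s i).natAbs ≠ E.t.natAbs) {g : G}
    (hg : ¬ p ∣ orderOf g) {ψ : Irr G} (hψ : deg ψ = deg E.μ) : ψ.1 g = E.μ.1 g := by
  rcases E.mem_cases (E.mem_Bf_of (hψ ▸ E.not_dvd E.μ_mem)) with rfl | ⟨j, rfl⟩ | rfl | rfl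
  · exact absurd (by rw [← E.deg_μ, ← hψ, H17.deg_irrOne]) h1
  · exact absurd (by rw [← E.deg_μ, ← hψ, E.deg_χ]) (h2 j)
  · rfl
  · exact E.ν_reg hg

theorem μ_int (h1 : E.t.natAbs ≠ 1) (h2 : ∀ i, (E.s i).natAbs ≠ E.t.natAbs) {g : G}
    (hg : ¬ p ∣ orderOf g) : E.μ.1 g = iv E.μ g :=
  int_of_galP fun _ hψ => E.μ_gal h1 h2 hg hψ

theorem χ_sing (i : Fin m) {g : G} (hg : p ∣ orderOf g) : (E.χ i).1 g = (E.s i).sign := by
  rw [← E.a_eq]; exact E.D.apply_Nx (E.mem i).1 hg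

theorem mult_μ : (p : ℤ) * mult x E.μ.1 (0 : ZMod p) = E.t.natAbs + E.t.sign * (m + 1) := by
  have := E.D.deg_μ_eq 1
  rw [E.he, E.δ_eq] at this
  rw [← E.deg_μ, μ, this]
  push_cast
  ring

theorem mult_χ (i : Fin m) :
    (p : ℤ) * mult x (E.χ i).1 (0 : ZMod p) = (E.s i).natAbs + (p - 1) * (E.s i).sign := by
  rw [← E.deg_χ]
  exact mult_of_const' E.sc.ord _ fun g hg => E.χ_sing i hg

/-- Multiplicities in a character vanishing on singular elements. -/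
theorem proj {n : Irr G → ℕ} (h : ∀ g, p ∣ orderOf g → ∑ ψ, (n ψ : ℂ) * ψ.1 g = 0) :
    (n (irrOne G) : ℤ) + ∑ i, (E.s i).sign * n (E.χ i) + E.t.sign * n E.μ = 0 ∧
    (n (irrOne G) : ℤ) + ∑ i, (E.s i).sign * n (E.χ i) + E.t.sign * n E.ν = 0 := by
  have := Fintype.ofFinite G
  have key : ∀ j, (n (irrOne G) : ℤ) + ∑ i, (E.s i).sign * n (E.χ i) +
      E.t.sign * n (E.D.μ j) = 0 := fun j => by
    have h1 := E.D.inner_Φ_eq_zero (θ := ∑ ψ : Irr G, (n ψ : ℂ) • ψ.1) (fun g hg => by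
      simpa using h g hg) j
    simp only [classInner_sum_smul_irr, E.sum, E.D.a_one, E.δ_eq] at h1
    simp only [← E.a_eq]
    apply Int.cast_injective (α := ℂ)
    simpa [a] using h1
  exact ⟨key 1, key (-1)⟩

end EH

/-- Admissible values at an involution. -/
def okv (d : ℤ) (C N : ℕ) (v : ℤ) : Bool :=
  ((d.natAbs : ℤ) - v) % 4 == 0 && decide (|v| < d.natAbs) && decide (v ^ 2 ≤ C) &&
    ((N / C : ℕ) * v) % d.natAbs == 0

def vals (d : ℤ) (C N : ℕ) : List ℤ :=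
  ((List.range (2 * d.natAbs)).map fun k : ℕ => (k : ℤ) - d.natAbs).filter (okv d C N)

theorem mem_vals {d : ℤ} {C N : ℕ} {v : ℤ} (h : okv d C N v = true) : v ∈ vals d C N := by
  refine List.mem_filter.2 ⟨List.mem_map.2 ⟨(v + d.natAbs).toNat, List.mem_range.2 ?_, ?_⟩, h⟩ <;>
  · simp only [okv, Bool.and_eq_true, decide_eq_true_eq, abs_lt] at h
    omega

theorem okv_iv [IsSimpleGroup G] (hG : ¬ IsMulCommutative G) {χ : Irr G} (h1 : χ ≠ irrOne G)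
    {d : ℤ} (hd : deg χ = d.natAbs) {z : G} (hz : orderOf z = 2) :
    okv d (Nat.card (centralizer ({z} : Set G))) (Nat.card G) (iv χ z) = true := by
  have hzz : z * z = 1 := by rw [← sq, ← hz, pow_orderOf_eq_one]
  have h := iv_inv χ hzz
  have h2 := χ.2.norm_sq_le_card_centralizer z
  rw [norm_sq_int h] at h2
  simp only [okv, ← hd, Bool.and_eq_true, beq_iff_eq, decide_eq_true_eq]
  exact ⟨⟨⟨four_dvd_inv (commutator_eq_top_of_simple hG) χ hz h,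
    abs_iv_lt hG h1 (ne_one_of_orderOf hz) h⟩, by exact_mod_cast h2⟩,
    Int.emod_eq_zero_of_dvd (central_dvd χ h)⟩

/-- Enumeration of the values of a block with four non-exceptional characters at an involution. -/
def invChk (s0 s1 s2 s3 t : ℤ) (N : ℕ) (Cs : List ℕ) (P : ℕ → ℤ → ℤ → ℤ → ℤ → ℤ → Bool) : Bool :=
  Cs.all fun C => (vals t C N).all fun n => (vals s0 C N).all fun v0 => (vals s1 C N).all fun v1 =>
    (vals s2 C N).all fun v2 =>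
      let v3 := -(1 + s0.sign * v0 + s1.sign * v1 + s2.sign * v2 + t.sign * n) * s3.sign
      !okv s3 C N v3 || decide ((C : ℤ) < 1 + v0 ^ 2 + v1 ^ 2 + v2 ^ 2 + v3 ^ 2 + 2 * n ^ 2) ||
        (N : ℤ) + v0 * v0 * (N / s0) + v1 * v1 * (N / s1) + v2 * v2 * (N / s2) + v3 * v3 * (N / s3) +
          n * n * (N / t) != 0 || P C v0 v1 v2 v3 n

theorem EH.inv_chk [IsSimpleGroup G] (hG : ¬ IsMulCommutative G) {x : G} (E : EH p 4 x) {z : G}
    (hz : orderOf z = 2) {N : ℕ} (hN : Nat.card G = N) {Cs : List ℕ}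
    (hC : Nat.card (centralizer ({z} : Set G)) ∈ Cs) {P : ℕ → ℤ → ℤ → ℤ → ℤ → ℤ → Bool}
    (h : invChk (E.s 0) (E.s 1) (E.s 2) (E.s 3) E.t N Cs P = true) :
    P (Nat.card (centralizer ({z} : Set G))) (iv (E.χ 0) z) (iv (E.χ 1) z) (iv (E.χ 2) z)
      (iv (E.χ 3) z) (iv E.μ z) = true := by
  subst hN
  have hzz : z * z = 1 := by rw [← sq, ← hz, pow_orderOf_eq_one]
  have hr : ¬ p ∣ orderOf z := fun e =>
    E.p2 ((Nat.prime_dvd_prime_iff_eq hp.out Nat.prime_two).1 (hz ▸ e))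
  have o := fun i => okv_iv hG (E.χ_ne_one i) (E.deg_χ i) hz
  have h1 := List.all_eq_true.1 (List.all_eq_true.1 (List.all_eq_true.1 (List.all_eq_true.1
    (List.all_eq_true.1 h _ hC) _ (mem_vals (okv_iv hG E.μ_ne_one E.deg_μ hz))) _ (mem_vals (o 0)))
    _ (mem_vals (o 1))) _ (mem_vals (o 2))
  have h2 := E.rel_int hr (fun i => iv_inv _ hzz) (iv_inv _ hzz)
  have h3 := E.norm_le hr (fun i => iv_inv _ hzz) (iv_inv _ hzz) ∅ (by simp)
  have h4 := E.quad hzz hzz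
  rw [Finset.sum_empty, add_zero] at h3
  rw [← Int.cast_natCast, Int.cast_le] at h3
  rw [Fin.sum_univ_four] at h2 h3 h4
  have h5 : -(1 + (E.s 0).sign * iv (E.χ 0) z + (E.s 1).sign * iv (E.χ 1) z +
      (E.s 2).sign * iv (E.χ 2) z + E.t.sign * iv E.μ z) * (E.s 3).sign = iv (E.χ 3) z := by
    have := E.a_sq 3
    rw [E.a_eq] at this
    rcases this with e | e <;> rw [e] at h2 ⊢ <;> linarith
  simp only [h5, o 3, Bool.not_true, Bool.false_or, Bool.or_eq_true, decide_eq_true_eq,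
    bne_iff_ne] at h1
  rcases h1 with (h1 | h1) | h1
  · linarith
  · exact absurd (by linarith) h1
  · exact h1

theorem exists_central_inv (h : 2 ∣ Nat.card G) :
    ∃ z : G, orderOf z = 2 ∧ ¬ 2 ∣ (centralizer ({z} : Set G)).index := by
  obtain ⟨y, h1, ⟨k, hk⟩, h3⟩ := exists_central_pElt (p := 2) h
  rcases k with _ | k
  · exact absurd (orderOf_eq_one_iff.1 hk) h1
  refine ⟨y ^ 2 ^ k, ?_, fun e => h3 (e.trans (index_dvd_of_le fun g hg => ?_))⟩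
  · rw [orderOf_pow, hk, Nat.gcd_eq_right (pow_dvd_pow 2 k.le_succ), pow_succ,
      Nat.mul_div_cancel_left _ (by positivity)]
  · exact mem_centralizer_singleton_iff.2 ((show Commute g y from
      mem_centralizer_singleton_iff.1 hg).pow_right _)

end H21
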