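import Mathlib
import Cfsg.Agent.H21.Mat5

/-! Mathieu groups by order, part 6: local tools for Sylow subgroups of prime order. -/

set_option autoImplicit false
set_option linter.unusedSectionVars false

open Cfsg H4 H17 H18 Subgroup Module
open scoped ComplexConjugate

namespace H21

variable {G : Type*} [Group G] [Finite G] {p : ℕ} [hp : Fact p.Prime]

/-- All admissible degrees `≥ 2 p` are divisible by `q`. -/
def allDvd (p e N B q : ℕ) : Bool :=
  (List.range (B + 1)).all fun d => d < 2 * p || N % d != 0 || d % q == 0 ||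
    (d % p != 1 && (d + 1) % p != 0 && d % p != e % p && (d + e) % p != 0)

theorem D1.sc_of_allDvd [IsSimpleGroup G] (hG : ¬ IsMulCommutative G) {x : G} (h : D1 p x)
    {e N B q : ℕ} (he : Nat.card (Aut h.ord) = e) (hN : e * Nat.card (Sylow p G) = N)
    (hB : Nat.card G < (B + 1) ^ 2) (hq : q.Prime) (hc : allDvd p e N B q = true) :
    Nat.card (centralizer ({x} : Set G)) = p := by
  by_contra hC
  obtain ⟨D⟩ := h.nonempty_bData
  obtain ⟨χ, h1, h2, h3⟩ := h.exists_not_dvd hq
  have h4 : 2 * p ≤ deg χ := by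
    by_contra e
    exact hC (by rw [h.centralizer_eq_of_deg_lt hG h1 h2 (not_le.1 e), Nat.card_zpowers, h.ord])
  have h5 := List.all_eq_true.1 hc (deg χ)
    (List.mem_range.2 (Nat.lt_succ_of_le (le_of_sq_le (deg_sq_le χ) hB)))
  have h6 := D.deg_dvd h1
  rw [he, hN] at h6
  have h7 := D.deg_cases h1
  rw [he] at h7
  have h8 := hp.out.one_lt
  simp only [Nat.mod_eq_zero_of_dvd h6, bne_self_eq_false, Bool.or_false, Bool.or_eq_true,
    decide_eq_true_eq, beq_iff_eq, Bool.and_eq_true, bne_iff_ne, ← Nat.dvd_iff_mod_eq_zero] at h5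
  rcases h5 with (h5 | h5) | ⟨⟨⟨a1, a2⟩, a3⟩, a4⟩
  · omega
  · exact h3 h5
  rcases h7 with h7 | h7 | h7 | h7
  · have := modEq_cases (p := p) (e := 1) (Or.inl rfl) (by simpa using h7)
    rw [Nat.mod_eq_of_lt h8] at this
    omega
  · have := modEq_cases (p := p) (e := 1) (Or.inr rfl) (by simpa using h7)
    omega
  · have := modEq_cases (p := p) (e := e) (Or.inl rfl) (by simpa using h7)
    omega
  · have := modEq_cases (p := p) (e := e) (Or.inr rfl) (by simpa using h7)
    omega

theorem normalizer_zpowers_ne_top [IsSimpleGroup G] (hG : ¬ IsMulCommutative G) {y : G}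
    (hy : y ≠ 1) : normalizer (zpowers y : Set G) ≠ ⊤ := fun h => by
  rcases (normalizer_eq_top_iff.1 h).eq_bot_or_eq_top with e | e
  · exact hy (zpowers_eq_bot.1 e)
  · exact hG ⟨⟨fun a b => by
      obtain ⟨i, rfl⟩ := mem_zpowers_iff.1 (e ▸ mem_top a)
      obtain ⟨j, rfl⟩ := mem_zpowers_iff.1 (e ▸ mem_top b)
      exact zpow_mul_comm y i j⟩⟩

/-- A characteristic subgroup of prime order in the centraliser. -/
theorem normalizer_le_of_unique {x y : G} (hx : orderOf x = p) {q : ℕ} [hq : Fact q.Prime]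
    (hpq : p ≠ q) (hy : orderOf y = q) (hc : Commute x y)
    (h2 : ¬ q ^ 2 ∣ Nat.card (centralizer ({x} : Set G)))
    (hn : ∀ n, n % q = 1 → p * q * n ∣ Nat.card (centralizer ({x} : Set G)) → n = 1) :
    normalizer (zpowers x : Set G) ≤ normalizer (zpowers y : Set G) := fun g hg => by
  set C := centralizer ({x} : Set G)
  have hyC : y ∈ C := mem_centralizer_singleton_iff.2 hc.symm
  have hxC : x ∈ C := mem_centralizer_singleton_iff.2 rfl
  have h1 : D1 q (⟨y, hyC⟩ : C) := ⟨by rw [Subgroup.orderOf_mk, hy], h2⟩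
  set N := normalizer (zpowers (⟨y, hyC⟩ : C) : Set C)
  have h3 : N = ⊤ := by
    rw [← index_eq_one, h1.index_normalizer]
    obtain ⟨n, hn'⟩ := h1.exists_card_sylow
    refine hn _ (by rw [hn', Nat.mul_add_mod_of_lt hq.out.one_lt]) ?_
    rw [← card_mul_index N, h1.index_normalizer]
    refine Nat.mul_dvd_mul_right (((Nat.coprime_primes hp.out hq.out).2 hpq).mul_dvd_of_dvd_of_dvd
      ?_ ?_) _
    · have := orderOf_dvd_natCard N (x := ⟨x, hxC⟩) (centralizer_le_normalizer_zpowers _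
        (mem_centralizer_singleton_iff.2 (Subtype.ext hc)))
      rwa [Subgroup.orderOf_mk, hx] at this
    · exact h1.ord ▸ orderOf_dvd_natCard N (le_normalizer (mem_zpowers _))
  have h4 : g * y * g⁻¹ ∈ C := by
    obtain ⟨i, hi⟩ := exists_xp_of_mem hx (mem_normalizer_zpowers_iff.1 (inv_mem hg))
    rw [mem_centralizer_singleton_iff]
    have := ((commute_xp x i).symm.symm.symm : Commute (xp x i) x)
    have e : Commute y (xp x i) := hc.symm.pow_right _
    rw [hi, inv_inv] at e
    calc g * y * g⁻¹ * x = g * (y * (g⁻¹ * x * g)) * g⁻¹ := by group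
      _ = _ := by rw [e.eq]; group
  have h5 : orderOf (⟨_, h4⟩ : C) = q := by rw [Subgroup.orderOf_mk, H17.orderOf_conj, hy]
  obtain ⟨i, hi⟩ := h1.exists_isConj_of_pElt (h1.of_orderOf h5).pElt (ne_one_of_orderOf h5)
  obtain ⟨k, hk⟩ := isConj_iff.1 hi.symm
  have h6 := ((mem_normalizer_iff.1 (h3 ▸ mem_top k : k ∈ N)) _).1 (xp_mem _ (i : ZMod q))
  rw [hk] at h6
  obtain ⟨j, hj⟩ := mem_zpowers_iff.1 h6
  exact mem_normalizer_zpowers_iff.2 ⟨j, congrArg Subtype.val hj⟩

/-- A subgroup of index `p + 1` leaves no room in the centraliser. -/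
theorem eq_one_of_index [IsSimpleGroup G] {K : Subgroup G} (hK : K.index = p + 1) {x : G}
    (hx : orderOf x = p) (hxK : x ∈ K) {w : G} (hwK : w ∈ K) {k : ZMod p} (hk : k ≠ 1)
    (hw : w * x * w⁻¹ = xp x k) {y : G} (hyK : y ∈ K) (hc : Commute x y)
    (hy : ¬ p ∣ orderOf y) : y = 1 := by
  obtain ⟨φ, hφ, h0, h1, -⟩ := exists_label hK hx hxK hwK hk hw
  have h2 : φ y none = none := (h0 y).2 hyK
  obtain ⟨j, hj⟩ : ∃ j, φ y (some 0) = some j := by
    rcases e : φ y (some 0) with _ | j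
    · exact absurd ((φ y).injective (e.trans h2.symm)) (by simp)
    · exact ⟨j, rfl⟩
  have h3 : ∀ (n : ℕ) (i : ZMod p), φ (x ^ n) (some i) = some (i + n) := fun n i => by
    induction n with
    | zero => simp
    | succ n ih => rw [pow_succ', map_mul, Equiv.Perm.mul_apply, ih, h1]; push_cast; ring_nf
  have h4 : y = x ^ j.val := hφ (Equiv.ext fun z => by
    rcases z with _ | i
    · rw [h2, (h0 _).2 (pow_mem hxK _)]
    · have := h3 i.val 0
      rw [zero_add, ZMod.natCast_zmod_val] at this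
      rw [h3, ← this, ← Equiv.Perm.mul_apply, ← map_mul, ← (hc.pow_left _).eq, map_mul,
        Equiv.Perm.mul_apply, hj, h3, ZMod.natCast_zmod_val, ZMod.natCast_zmod_val, add_comm])
  by_contra e
  exact hy (by rw [h4, show x ^ j.val = xp x j from rfl, orderOf_xp hx fun e' =>
    e (by rw [h4, e']; simp)])

theorem exists_commute_of_dvd {x : G} {q : ℕ} [Fact q.Prime]
    (h : q ∣ Nat.card (centralizer ({x} : Set G))) : ∃ y : G, orderOf y = q ∧ Commute x y := by
  obtain ⟨⟨y, hy⟩, hy2⟩ := exists_prime_orderOf_dvd_card' q h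
  exact ⟨y, by simpa using hy2, (mem_centralizer_singleton_iff.1 hy).symm⟩

/-- A character of defect zero for `q` has value divisible by `q` at regular elements whose
centraliser has order divisible by `q`. -/
theorem dvd_of_vanish {χ : Irr G} {q k : ℕ} [Fact q.Prime] (h1 : q ^ k ∣ deg χ)
    (h2 : ¬ q ^ (k + 1) ∣ Nat.card G) {g : G} (hg : ¬ q ∣ orderOf g)
    (h : q ∣ Nat.card (centralizer ({g} : Set G))) {u : ℤ} (hu : χ.1 g = u) : (q : ℤ) ∣ u := by
  obtain ⟨y, hy, hc⟩ := exists_commute_of_dvd h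
  simpa using dvd_sub_of_const χ.2.isCharacter hy hc hu (v := 0) fun i hi => by
    rw [Int.cast_zero]
    exact vanish h1 h2 (dvd_orderOf_mul (hc.pow_right _) hg (orderOf_xp hy hi).symm.dvd)

/-- Values on the normaliser outside the centraliser are bounded by the fixed space. -/
theorem abs_le_mult {θ : G → ℂ} (hθ : IsCharacter G θ) {x : G} (hx : orderOf x = p) {g : G}
    (hg : g ∈ normalizer (zpowers x : Set G)) (hg' : g ∉ centralizer ({x} : Set G)) {u : ℤ}
    (hu : θ g = u) : |u| ≤ mult x θ (0 : ZMod p) := by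
  have h := (isCharacter_fix' hθ hx).norm_le ⟨g, hg⟩
  simp only [OneMemClass.coe_one, one_mul] at h
  rw [sum_mul_xp hx hθ.classFun hg hg', sum_xp_eq hx hθ, inv_mul_cancel_left₀ p_ne_zero',
    inv_mul_cancel_left₀ p_ne_zero', hu, Complex.norm_intCast, Complex.natCast_re] at h
  exact_mod_cast h

theorem sum_pow_prime {R ι : Type*} [CommRing R] (s : Finset ι) (ω : ι → R) :
    ∃ r, (∑ i ∈ s, ω i) ^ p = ∑ i ∈ s, ω i ^ p + p * r := by
  classical
  induction s using Finset.induction_on with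
  | empty => exact ⟨0, by simp [hp.out.ne_zero]⟩
  | insert j s hj ih =>
    obtain ⟨r, hr⟩ := ih
    obtain ⟨r', hr'⟩ := exists_add_pow_prime_eq hp.out (ω j) (∑ i ∈ s, ω i)
    exact ⟨r + ω j * (∑ i ∈ s, ω i) * r', by
      rw [Finset.sum_insert hj, Finset.sum_insert hj, hr', hr]; ring⟩

/-- Congruence between the values at `g` and `g ^ p`. -/
theorem dvd_sub_pow {θ : G → ℂ} (hθ : IsCharacter G θ) {g : G} {a b : ℤ} (ha : θ g = a)
    (hb : θ (g ^ p) = b) : (p : ℤ) ∣ a - b := by
  obtain ⟨n, ω, -, h2, h3⟩ := hθ.exists_eigenvalues g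
  obtain ⟨r, hr⟩ := sum_pow_prime (p := p) (R := integralClosure ℤ ℂ) Finset.univ fun i =>
    ⟨ω i, IsIntegral.of_pow (orderOf_pos g) (by rw [h2]; exact isIntegral_one)⟩
  have h4 := congrArg Subtype.val hr
  have h5 := h3 1
  simp only [pow_one] at h5
  simp only [SubmonoidClass.coe_pow, AddSubmonoidClass.coe_finset_sum, AddMemClass.coe_add,
    MulMemClass.coe_mul, ← h5, ← h3 p, ha, hb, SubringClass.coe_natCast] at h4
  have h6 : (p : ℤ) ∣ a ^ p - b := int_dvd_of_isIntegral_div (by exact_mod_cast hp.out.ne_zero) (by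
    convert r.2 using 1
    push_cast
    rw [h4, add_sub_cancel_left, mul_div_cancel_left₀ _ p_ne_zero']
    rfl)
  have h7 : (p : ℤ) ∣ a ^ p - a := (ZMod.intCast_zmod_eq_zero_iff_dvd _ p).1 (by
    push_cast; rw [ZMod.pow_card, sub_self])
  simpa using dvd_sub h6 h7

/-- Congruence of an integral value at a `p`-element. -/
theorem dvd_sub_deg (χ : Irr G) {g : G} {k : ℕ} (hg : g ^ p ^ k = 1)
    (h : ∀ g, χ.1 g = iv χ g) : (p : ℤ) ∣ deg χ - iv χ g := by
  induction k generalizing g with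
  | zero =>
    rw [pow_zero, pow_one] at hg
    rw [hg, iv_of_eq (n := deg χ) (by rw [← deg_eq]; simp)]; simp
  | succ k ih =>
    have h1 := ih (g := g ^ p) (by rw [← pow_mul, ← pow_succ', hg])
    simpa using dvd_sub h1 (dvd_sub_pow χ.2.isCharacter (h g) (h _))

theorem exists_sum_subgroup {θ : G → ℂ} (hθ : IsCharacter G θ) (Q : Subgroup G) [Fintype Q] :
    ∃ m : ℕ, ∑ g : Q, θ g = Nat.card Q * m := by
  obtain ⟨m, hm⟩ := (hθ.restrict Q).inner_nat isCharacter_one
  refine ⟨m, ?_⟩
  rw [← hm, card_mul_classInner]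
  simp

/-- The divisors of a product. -/
def divs : List ℕ → List ℕ
  | [] => [1]
  | a :: l => ((List.range (a + 2)).filter fun d => (a + 1) % d == 0).flatMap fun d =>
      (divs l).map (d * ·)

theorem mem_divs {n : ℕ} (l : List ℕ) (h : n ∣ (l.map (· + 1)).prod) : n ∈ divs l := by
  induction l generalizing n with
  | nil => simpa [divs] using h
  | cons a l ih =>
    rw [List.map_cons, List.prod_cons] at h
    obtain ⟨d, e, h1, h2, rfl⟩ := (Nat.dvd_mul).1 h
    simp only [divs, List.mem_flatMap, List.mem_filter, List.mem_range, beq_iff_eq, List.mem_map]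
    exact ⟨d, ⟨Nat.lt_succ_of_le (Nat.le_of_dvd a.succ_pos h1), Nat.mod_eq_zero_of_dvd h1⟩, e,
      ih h2, rfl⟩

end H21
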