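import Mathlib
import Cfsg.Agent.H21.Mat6

/-! Simple groups of order 95040: the prime eleven. -/

set_option autoImplicit false
set_option linter.unusedSectionVars false
set_option synthInstance.maxSize 4000

open Cfsg H4 H17 H18 Subgroup Module
open scoped ComplexConjugate

namespace H21

variable {G : Type*} [Group G] [Finite G] [IsSimpleGroup G]

instance fact3 : Fact (Nat.Prime 3) := ⟨by norm_num⟩

theorem m12_sc (hc : Nat.card G = 95040) :
    ∃ x : G, ∃ h : SC 11 x, Nat.card (Aut h.ord) = 5 := by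
  have hG : ¬ IsMulCommutative G := not_comm_of_not_prime (by rw [hc]; norm_num)
  obtain ⟨x, h⟩ := exists_D1 (G := G) (p := 11) (by rw [hc]; norm_num) (by rw [hc]; norm_num)
  have h1 := card_sylow_mem hc (by norm_num) 11 (by norm_num)
  have h2 := h.card_eq
  have h3 := h.card_Aut_ne_one (commutator_eq_top_of_simple hG)
  have h4 := card_Aut_dvd h.ord
  obtain ⟨c, h5⟩ := D1.dvd_card_centralizer h
  have h6 := fun e N q he hN => D1.sc_of_allDvd hG h (e := e) (N := N) (B := 308) (q := q) he hN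
    (by rw [hc]; norm_num)
  have h7 : Nat.card (Sylow 11 G) ∈ [12, 45, 144, 320, 540, 1728] := by
    rw [Finset.mem_filter, Nat.mem_divisors] at h1
    have h8 : Nat.card (Sylow 11 G) ∣ 8640 := ⟨c * Nat.card (Aut h.ord), by rw [hc, h5] at h2; linarith⟩
    have : ∀ n ∈ divs [63, 26, 4], n % 11 = 1 → 1 < n → n ∈ [12, 45, 144, 320, 540, 1728] := by
      decide +kernel
    exact this _ (mem_divs _ h8) h1.2.1 h1.2.2
  have h8 : Nat.card (Aut h.ord) ∈ [2, 5, 10] := by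
    revert h3 h4
    generalize Nat.card (Aut h.ord) = n
    intro h3 h4
    have := Nat.le_of_dvd (by norm_num) h4
    interval_cases n <;> simp_all
  suffices c = 1 ∧ Nat.card (Aut h.ord) = 5 from ⟨x, D1.sc h (by rw [h5, this.1]), this.2⟩
  have h9 : c * Nat.card (Aut h.ord) * Nat.card (Sylow 11 G) = 8640 := by rw [hc, h5] at h2; linarith
  have key : Nat.card (Sylow 11 G) = 144 → Nat.card (Aut h.ord) = 10 → False := fun hn he => by
    rw [hn, he] at h9
    obtain rfl : c = 6 := by omega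
    obtain ⟨y, hy, hxy⟩ := exists_commute_of_dvd (x := x) (q := 3) (by rw [h5]; decide)
    have a1 := normalizer_le_of_unique h.ord (by decide) hy hxy (by rw [h5]; decide) fun n h1 h2 => by
      rw [h5] at h2
      have := Nat.le_of_dvd (by norm_num) h2
      omega
    obtain ⟨n, a2, a3⟩ := D1.card_sub' h a1
    have a4 := Sylow.prime_pow_dvd_card_normalizer (p := 3) (n := 1) (H := zpowers y)
      (by rw [hc]; decide) (by rw [Nat.card_zpowers, hy]; rfl)
    have a5 := card_ne_of_ne_top (normalizer_zpowers_ne_top hG (ne_one_of_orderOf hy))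
    have a6 := card_subgroup_dvd_card (normalizer (zpowers y : Set G))
    rw [h.card_normalizer, h5, he] at a3
    rw [a3] at a4 a5 a6
    rw [hc] at a5 a6
    obtain rfl : n = 12 := by
      have : n ≤ 144 := by have := Nat.le_of_dvd (by norm_num) a6; omega
      revert a2 a4 a5 a6
      clear * - this
      revert n
      decide +kernel
    obtain ⟨w, hw, hw'⟩ := exists_act h.ord (a := u3) (by rw [he]; decide)
    exact ne_one_of_orderOf hy (eq_one_of_index (p := 11) (index_eq_of_card a3 (by rw [hc])) h.ord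
      (a1 (le_normalizer (mem_zpowers x))) (a1 hw) (by decide) hw' (le_normalizer (mem_zpowers y))
      hxy (by rw [hy]; decide))
  rw [h5] at h6
  generalize Nat.card (Aut h.ord) = e at *
  generalize Nat.card (Sylow 11 G) = n at *
  clear h1 h2 h3 h4
  simp only [List.mem_cons, List.not_mem_nil, or_false] at h7 h8
  rcases h7 with rfl | rfl | rfl | rfl | rfl | rfl <;> rcases h8 with rfl | rfl | rfl <;> first
    | omega
    | exact (key rfl rfl).elim
    | (have := h6 _ _ 2 rfl rfl (by norm_num) (by decide +kernel); omega)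
    | (have := h6 _ _ 3 rfl rfl (by norm_num) (by decide +kernel); omega)

/-- Arithmetic of the centraliser of an element of order five. -/
theorem m12_five (hc : Nat.card G = 95040) {x w : G} (hx : SC 11 x) (hw : D1 5 w) :
    ∃ c, Nat.card (centralizer ({w} : Set G)) = 5 * c ∧ c ∣ 1728 ∧
      (Nat.card (Aut hw.ord) = 2 ∧ c % 5 = 4 ∨ Nat.card (Aut hw.ord) = 4 ∧ c % 5 = 2) ∧
      c * (Nat.card (Aut hw.ord) * Nat.card (Sylow 5 G)) = 19008 := by
  have hG : ¬ IsMulCommutative G := not_comm_of_not_prime (by rw [hc]; norm_num)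
  have h3 := SC.not_dvd_centralizer hx (w := w) (by rw [hw.ord]; norm_num) hw.ne_one
  have h4 := hw.card_eq
  have h5 := hw.card_Aut_ne_one (commutator_eq_top_of_simple hG)
  have h6 := card_Aut_dvd hw.ord
  obtain ⟨n, h7⟩ := hw.exists_card_sylow
  obtain ⟨c, h8⟩ := D1.dvd_card_centralizer hw
  rw [hc, h8] at h4
  rw [h8] at h3
  refine ⟨c, h8, ?_, ?_, by linarith⟩
  · refine Nat.Coprime.dvd_of_dvd_mul_left ?_ 
      (show c ∣ 11 * 1728 from ⟨Nat.card (Aut hw.ord) * Nat.card (Sylow 5 G), by linarith⟩)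
    exact ((Nat.Prime.coprime_iff_not_dvd (by norm_num)).2 fun e => h3 (e.mul_left _)).symm
  · rw [h7] at h4
    generalize Nat.card (Aut hw.ord) = e at *
    have := Nat.le_of_dvd (by norm_num) h6
    have h9 : c * e + 5 * (c * e * n) = 19008 := by linarith
    generalize c * e * n = k at h9
    interval_cases e <;> omega

theorem m12_ten (hc : Nat.card G = 95040) {x w : G} (hx : SC 11 x) (hw : D1 5 w) {χ : Irr G}
    (hd : deg χ = 10) (h : ∀ g, χ.1 g = iv χ g) : False := by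
  have hG : ¬ IsMulCommutative G := not_comm_of_not_prime (by rw [hc]; norm_num)
  have h1 : χ ≠ irrOne G := fun e => by rw [e, H17.deg_irrOne] at hd; omega
  obtain ⟨c, h2, h3, h4, -⟩ := m12_five hc hx hw
  have h5 := odd_centralizer hG hw (by norm_num) h1 hd
  have h6 : 3 ^ 2 ∣ Nat.card (centralizer ({w} : Set G)) := by
    rw [h2] at h5 ⊢
    have : ∀ c ∈ divs [63, 26], (5 * c) % 2 = 1 → (c % 5 = 4 ∨ c % 5 = 2) → 3 ^ 2 ∣ 5 * c := by
      decide +kernel
    exact this c (mem_divs _ h3) (Nat.odd_iff.1 h5) (by omega)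
  obtain ⟨Q, hQ⟩ := Sylow.exists_subgroup_card_pow_prime 3 h6
  have := Fintype.ofFinite Q
  obtain ⟨m, hm⟩ := exists_sum_subgroup (χ.2.isCharacter.restrict _) Q
  have h7 : ∀ g : Q, g ≠ 1 → χ.1 g = -5 := fun g hg => by
    have e1 : ((g : centralizer ({w} : Set G)) : G) ^ 3 ^ 2 = 1 := by
      rw [← hQ]; exact congrArg (fun y : Q => ((y : centralizer ({w} : Set G)) : G)) pow_card_eq_one'
    have e0 : ((g : centralizer ({w} : Set G)) : G) ≠ 1 := fun e => hg (Subtype.ext (Subtype.ext e))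
    have e2 := dvd_sub_deg χ e1 h
    have e3 := abs_iv_lt hG h1 e0 (h _)
    have e5 : ¬ 5 ∣ orderOf ((g : centralizer ({w} : Set G)) : G) := fun e =>
      absurd (e.trans (orderOf_dvd_of_pow_eq_one e1)) (by decide)
    have e6 : Commute ((g : centralizer ({w} : Set G)) : G) w :=
      mem_centralizer_singleton_iff.1 (g : centralizer ({w} : Set G)).2
    have e4 := dvd_sub_of_const χ.2.isCharacter hw.ord e6 (h _) (v := 0) fun i hi => by
      rw [Int.cast_zero]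
      exact vanish1 hw (by rw [hd]; decide)
        (dvd_orderOf_mul (e6.pow_right _) e5 (orderOf_xp hw.ord hi).symm.dvd)
    rw [h, hd] at *
    rw [abs_lt] at e3
    have : iv χ g = -5 := by omega
    rw [this]; norm_num
  classical
  rw [← Finset.add_sum_erase _ _ (Finset.mem_univ 1), Finset.sum_congr rfl fun g hg =>
    h7 g (Finset.ne_of_mem_erase hg), Finset.sum_const, Finset.card_erase_of_mem (Finset.mem_univ _),
    Finset.card_univ, ← Nat.card_eq_fintype_card, hQ] at hm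
  simp only [OneMemClass.coe_one, ← deg_eq, hd] at hm
  have : (-30 : ℤ) = 9 * m := by
    apply Int.cast_injective (α := ℂ)
    push_cast
    simp only [nsmul_eq_mul] at hm
    push_cast at hm
    linear_combination hm
  omega

open Classical in
theorem EH.split {p m : ℕ} [Fact p.Prime] {x : G} (E : EH p m x) (B : Finset (Irr G)) {M : Type}
    [AddCommMonoid M] (f : Irr G → M) : ∑ ψ ∈ B, f ψ =
      (if irrOne G ∈ B then f (irrOne G) else 0) + ∑ i, (if E.χ i ∈ B then f (E.χ i) else 0) +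
      ((if E.μ ∈ B then f E.μ else 0) + if E.ν ∈ B then f E.ν else 0) + ∑ ψ ∈ B \ Bf G p, f ψ := by
  rw [← E.sum_Bf fun ψ => if ψ ∈ B then f ψ else 0, Finset.sum_ite_mem, Finset.inter_comm,
    Finset.sum_inter_add_sum_sdiff]

theorem m12_e2 {a b : ℤ} {d f : ℕ} (ha : a = 1 ∨ a = -1) (hb : b = 1 ∨ b = -1)
    (h1 : 1 * (1 : ℕ) + a * d + b * f = 0) (h2 : ((5 : ℕ) : ℤ) ∣ a - d)
    (h3 : ((5 : ℕ) : ℤ) ∣ -b * (2 : ℕ) - f)
    (h4 : d ∈ [120, 54, 32, 45, 160, 144, 16] ∨ 11 ∣ d)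
    (h5 : f ∈ [120, 54, 32, 45, 160, 144, 16] ∨ 11 ∣ f) (h6 : d ∣ 95040) (h7 : f ∣ 95040) :
    False := by
  have key : ∀ d ∈ divs [63, 26, 4, 10], d % 5 = 1 ∧ 95040 % (d + 1) = 0 ∧
      (d + 1 ∈ [120, 54, 32, 45, 160, 144, 16] ∨ 11 ∣ d + 1) ∨ d % 5 = 4 ∧ 95040 % (d - 1) = 0 ∧
      (d - 1 ∈ [120, 54, 32, 45, 160, 144, 16] ∨ 11 ∣ d - 1) →
      ¬ (d ∈ [120, 54, 32, 45, 160, 144, 16] ∨ 11 ∣ d) := by decide +kernel
  have h8 := Nat.mod_eq_zero_of_dvd h7
  refine key d (mem_divs _ h6) ?_ h4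
  clear h4 key
  rcases ha with rfl | rfl <;> rcases hb with rfl | rfl
  · omega
  · obtain rfl : f = d + 1 := by omega
    exact Or.inl ⟨by omega, h8, h5⟩
  · obtain rfl : f = d - 1 := by omega
    exact Or.inr ⟨by omega, h8, h5⟩
  · omega

/-- The prime five when a character of degree 54 is present. -/
theorem m12_c (hc : Nat.card G = 95040) {x w : G} (E : EH 11 4 x) (hw : D1 5 w)
    (hxw : w * x * w⁻¹ = xp x (3 : ZMod 11)) (s0 : E.s 0 = -120) (s1 : E.s 1 = -54)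
    (h : E.s 2 = -32 ∧ E.s 3 = 45 ∧ E.t = 160 ∨ E.s 2 = 45 ∧ E.s 3 = 144 ∧ E.t = -16) :
    E.s 2 = 45 ∧ E.s 3 = 144 ∧ E.t = -16 ∧ Nat.card (centralizer ({w} : Set G)) = 10 ∧
      Nat.card (Aut hw.ord) = 4 ∧ E.χ 1 ∉ Bf G 5 ∧
      (E.χ 3 ∈ Bf G 5 ∧ E.μ ∉ Bf G 5 ∧ E.ν ∉ Bf G 5 ∨ E.χ 3 ∉ Bf G 5 ∧ E.μ ∈ Bf G 5) := by
  classical
  have hG : ¬ IsMulCommutative G := not_comm_of_not_prime (by rw [hc]; norm_num)
  have hperf := commutator_eq_top_of_simple hG
  obtain ⟨c, c1, c2, c3, c4⟩ := m12_five hc E.sc hw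
  have i1 := E.χ_int (i := 1) (by rw [s1]; decide) (by omega) (fun j hj => by
    fin_cases j <;> simp only [Fin.zero_eta, Fin.mk_one, Fin.reduceFinMk] at hj ⊢ <;> omega)
  have d1 : deg (E.χ 1) = 54 := by rw [E.deg_χ, s1]; rfl
  have h3 : ¬ 3 ∣ c := fun e => by
    have a1 := dvd_of_vanish (χ := E.χ 1) (q := 3) (k := 3) (by rw [d1]; decide) (by rw [hc]; decide)
      (by rw [hw.ord]; decide) (c1 ▸ e.mul_left 5) (i1 w)
    have a2 := abs_le_mult (E.χ 1).2.isCharacter E.sc.ord (mem_norm_of_eq hxw)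
      (by rw [mem_cent_iff E.sc.ord hxw]; decide) (i1 w)
    have a3 := E.mult_χ 1
    have a4 := dvd_sub_deg (p := 5) (E.χ 1) (g := w) (k := 1) (by rw [pow_one, ← hw.ord, pow_orderOf_eq_one]) i1
    rw [s1, show Int.sign (-54) = -1 from rfl] at a3
    rw [abs_le] at a2
    omega
  obtain ⟨D⟩ := hw.nonempty_bData
  have dc : ∀ ψ : Irr G, ψ ≠ irrOne G → deg ψ ∈ [120, 54, 32, 45, 160, 144, 16] ∨ 11 ∣ deg ψ :=
    fun ψ hψ => by
    simp only [List.mem_cons, List.not_mem_nil, or_false]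
    rcases E.deg_cases ψ with e | ⟨i, e⟩ | e | e
    · exact absurd e hψ
    · fin_cases i <;> simp only [Fin.zero_eta, Fin.mk_one, Fin.reduceFinMk, s0, s1] at e <;> omega
    · omega
    · exact Or.inr e
  rcases c3 with ⟨he, -⟩ | ⟨he, c3⟩
  · exfalso
    obtain ⟨χ, -, hχ, -, -, hs⟩ := BData.enum D (m := 1) he
    have a1 := D.deg_rel 1
    rw [hs, D.a_one, H17.deg_irrOne, Fin.sum_univ_one] at a1
    have a3 := (D.deg_μ 1).dvd
    rw [he] at a3
    exact m12_e2 (D.a_sq _ (hχ 0).1) D.δ_sq a1 (D.deg_Nx (hχ 0).1).dvd a3 (dc _ (hχ 0).2)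
      (dc _ (D.μ_ne_one 1)) (hc ▸ deg_dvd_card _) (hc ▸ deg_dvd_card _)
  obtain ⟨k, k1, k2, k3, k4⟩ := D1.top hw (aut_eq_top hw.ord he)
  have k5 : ∑ ψ ∈ Bf G 5, k ψ * deg ψ = 0 := by
    have := k4 1 reg_one
    simp only [← deg_eq] at this
    exact_mod_cast this
  have k6 := E.split (Bf G 5) fun _ => 1
  rw [E.split, if_pos (mem_Bf.2 one_mem_B0), k2, H17.deg_irrOne, Fin.sum_univ_four] at k5
  rw [← Finset.card_eq_sum_ones, ← Finset.card_eq_sum_ones, k1, if_pos (mem_Bf.2 one_mem_B0),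
    Fin.sum_univ_four] at k6
  have k7 : (11 : ℤ) ∣ ∑ ψ ∈ Bf G 5 \ Bf G 11, k ψ * deg ψ := Finset.dvd_sum fun ψ hψ =>
    Dvd.dvd.mul_left (by exact_mod_cast E.dvd_deg (Finset.mem_sdiff.1 hψ).2) _
  have k8 : (Bf G 5 \ Bf G 11).card = 0 → ∑ ψ ∈ Bf G 5 \ Bf G 11, k ψ * deg ψ = 0 := fun e => by
    rw [Finset.card_eq_zero.1 e, Finset.sum_empty]
  have k9 : ∀ (ψ : Irr G) (d : ℕ), deg ψ = d → ψ ∉ Bf G 5 ∧
      (if ψ ∈ Bf G 5 then k ψ * deg ψ else 0) = 0 ∧
      (if ψ ∈ Bf G 5 then 1 else 0) = 0 ∨ ψ ∈ Bf G 5 ∧ (if ψ ∈ Bf G 5 then 1 else 0) = 1 ∧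
      (c = 2 ∨ 594 % d = 0) ∧ ((if ψ ∈ Bf G 5 then k ψ * deg ψ else 0) = d ∧ d % 5 = 1 ∨
      (if ψ ∈ Bf G 5 then k ψ * deg ψ else 0) = -d ∧ d % 5 = 4) := fun ψ d hd => by
    subst hd
    by_cases e : ψ ∈ Bf G 5
    · obtain ⟨b1, b2, -⟩ := k3 ψ e
      have b3 := b2.dvd
      refine Or.inr ⟨e, if_pos e, or_iff_not_imp_left.2 fun e2 => ?_, ?_⟩
      · have b4 := D.deg_dvd (mem_Bf.1 e)
        have : ∀ c ∈ divs [63, 26], c % 5 = 2 → ¬ 3 ∣ c → c ≠ 2 → c = 32 := by decide +kernel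
        obtain rfl := this c (mem_divs _ c2) c3 h3 e2
        exact Nat.mod_eq_zero_of_dvd (b4.trans ⟨1, by linarith⟩)
      · rw [if_pos e]
        clear k5 k6 k7 k8
        rcases b1 with b1 | b1 <;> rw [b1] at b3 ⊢ <;> omega
    · exact Or.inl ⟨e, if_neg e, if_neg e⟩
  have l0 := (k9 (E.χ 0) 120 (by rw [E.deg_χ, s0]; rfl)).resolve_right (by omega)
  have l1 := k9 (E.χ 1) 54 d1
  rw [c1]
  rcases h with ⟨s2, s3, s4⟩ | ⟨s2, s3, s4⟩
  · have l2 := (k9 (E.χ 2) 32 (by rw [E.deg_χ, s2]; rfl)).resolve_right (by omega)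
    have l3 := (k9 (E.χ 3) 45 (by rw [E.deg_χ, s3]; rfl)).resolve_right (by omega)
    have l4 := (k9 E.μ 160 (by rw [E.deg_μ, s4]; rfl)).resolve_right (by omega)
    have l5 := (k9 E.ν 160 (by rw [E.deg_ν, s4]; rfl)).resolve_right (by omega)
    omega
  · have l2 := (k9 (E.χ 2) 45 (by rw [E.deg_χ, s2]; rfl)).resolve_right (by omega)
    have l3 := k9 (E.χ 3) 144 (by rw [E.deg_χ, s3]; rfl)
    have l4 := k9 E.μ 16 (by rw [E.deg_μ, s4]; rfl)
    have l5 := k9 E.ν 16 (by rw [E.deg_ν, s4]; rfl)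
    clear k9 dc c2 c4 h3
    rcases l1 with l1 | l1 <;> rcases l3 with l3 | l3 <;> rcases l4 with l4 | l4 <;>
      rcases l5 with l5 | l5 <;> first
      | omega
      | exact ⟨s2, s3, s4, by omega, he, l1.1, Or.inl ⟨l3.1, l4.1, l5.1⟩⟩
      | exact ⟨s2, s3, s4, by omega, he, l1.1, Or.inr ⟨l3.1, l4.1⟩⟩

end H21
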