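import Mathlib
import Cfsg.Agent.H21.Mat12a

/-! Simple groups of order 95040: the principal 11-block. -/

set_option autoImplicit false
set_option linter.unusedSectionVars false
set_option synthInstance.maxSize 4000

open Cfsg H4 H17 H18 Subgroup Module
open scoped ComplexConjugate

namespace H21

variable {G : Type*} [Group G] [Finite G] [IsSimpleGroup G]

theorem EH.not_dvd_orderOf {p m : ℕ} [Fact p.Prime] {x : G} (E : EH p m x) {q : ℕ} (hq : q.Prime)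
    (hpq : q ≠ p) (g : G) (hg : p ∣ orderOf g) : ¬ q ∣ orderOf g := fun e =>
  hpq ((Nat.prime_dvd_prime_iff_eq hq Fact.out).1 (E.sc.orderOf_eq hg ▸ e))

/-- The Brauer–Tuan congruence. -/
theorem EH.bt (hG : ¬ IsMulCommutative G) {p m : ℕ} [Fact p.Prime] {x : G} (E : EH p m x) {q : ℕ}
    [hq : Fact q.Prime] (hpq : q ≠ p) {b : ℕ} (hb : q ^ b ∣ Nat.card G) :
    ∃ (η : Fin m → ℤ) (ε : ℤ), (∀ i, η i = 0 ∨ η i = 1 ∧ ∀ k, (E.s i).natAbs ≠ q ^ k) ∧
      (ε = 0 ∨ ε = 1 ∧ ∀ k, E.t.natAbs ≠ q ^ k) ∧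
      ((q ^ b : ℕ) : ℤ) ∣ 1 + ∑ i, η i * E.s i + ε * E.t := by
  classical
  obtain ⟨T, h1, h2, ε, h3, h4⟩ := E.D.brauer_tuan' hG (E.not_dvd_orderOf hq.out hpq) 1 hb
  refine ⟨fun i => if E.χ i ∈ T then 1 else 0, ε, fun i => ?_, by rwa [← E.deg_μ], ?_⟩
  · by_cases e : E.χ i ∈ T
    · exact Or.inr ⟨if_pos e, by rw [← E.deg_χ]; exact h2 _ e⟩
    · exact Or.inl (if_neg e)
  · have h5 := E.sum fun ψ => if ψ ∈ T then E.D.a ψ * deg ψ else 0
    rw [Finset.sum_ite_mem, Finset.inter_eq_right.2 (h1.trans (Finset.erase_subset _ _)),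
      if_neg fun e => Finset.notMem_erase _ _ (h1 e), zero_add] at h5
    rw [h5] at h4
    simpa [EH.s, EH.a, EH.t, EH.μ] using h4

theorem deg_ne_of_centralizer (hG : ¬ IsMulCommutative G) {p : ℕ} [Fact p.Prime] {w : G}
    (hw : D1 p w) (h : Nat.card (centralizer ({w} : Set G)) ≠ p) (χ : Irr G) : deg χ ≠ p := fun e => by
  obtain ⟨q, y, hq, hpq, hy, hc⟩ := hw.exists_commute fun e' => h (by rw [e', Nat.card_zpowers, hw.ord])
  have := Fact.mk hq
  have h1 : χ ≠ irrOne G := fun e' => by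
    rw [e', H17.deg_irrOne] at e; exact (Fact.out : p.Prime).one_lt.ne e
  have h2 := two_mul_le_of_commute (commutator_eq_top_of_simple hG) hpq hw.ord hy hc (χ := χ)
    (fun i hi j => by
      have hi' := (orderOf_xp hw.ord hi).symm.dvd
      have hcc : Commute (xp y j) (xp w i) := (hc.symm.pow_left _).pow_right _
      rw [vanish1 hw e.symm.dvd hi', ← hcc.eq]
      exact vanish1 hw e.symm.dvd (dvd_orderOf_mul hcc (fun e' => hpq
        ((Nat.prime_dvd_prime_iff_eq Fact.out hq).1 (e'.trans ((orderOf_pow_dvd _).trans hy.dvd)))) hi'))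
    fun e' => ne_one_of_orderOf hy
      (χ.2.eq_one_of_apply_eq_of_simple (irr_ne_one_iff.1 h1) e')
  have := (Fact.out : p.Prime).pos
  omega

theorem m12_key : ∀ a ∈ [-120, -54, -32, -10, 12, 45, 144], ∀ b ∈ [-120, -54, -32, -10, 12, 45, 144],
    ∀ c ∈ [-120, -54, -32, -10, 12, 45, 144], ∀ d ∈ [-120, -54, -32, -10, 12, 45, 144],
    ∀ t ∈ [5, -6, 16, 27, 60, -72, -160, 192, -270], a ≤ b → b ≤ c → c ≤ d →
    (1 : ℤ) + (a + b + c + d) - t = 0 → 1 + (a ^ 2 + b ^ 2 + c ^ 2 + d ^ 2) + 2 * t ^ 2 ≤ 95040 →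
    t = 5 ∨ (∃ i : Fin 4, ![a, b, c, d] i = -10 ∧ t.natAbs ≠ 10 ∧
      ∀ j, (![a, b, c, d] j).natAbs = 10 → j = i) ∨
    (a = -10 ∧ b = -10 ∧ c = -10 ∧ d = 45 ∧ t = 16) ∨
    (a = -120 ∧ b = -54 ∧ (c = -32 ∧ d = 45 ∧ -t = 160 ∨ c = 45 ∧ d = 144 ∧ -t = -16)) ∨
    invChk a b c d (-t) 95040 [64, 192, 320, 576, 960, 1728, 2880, 8640]
      (fun _ _ _ _ _ _ => false) = true := by
  decide +kernel

theorem m12_cent (hc : Nat.card G = 95040) {x : G} (hx : SC 11 x) {z : G} (hz : orderOf z = 2) :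
    Nat.card (centralizer ({z} : Set G)) ∣ 8640 := by
  have h1 := SC.not_dvd_centralizer hx (w := z) (by rw [hz]; decide) (ne_one_of_orderOf hz)
  exact ((Nat.Prime.coprime_iff_not_dvd (by norm_num)).2 h1).symm.dvd_of_dvd_mul_left
    ((card_subgroup_dvd_card _).trans (by rw [hc]))

theorem m12_central (hc : Nat.card G = 95040) {x : G} (hx : SC 11 x) : ∃ z : G, orderOf z = 2 ∧
    Nat.card (centralizer ({z} : Set G)) ∈ [64, 192, 320, 576, 960, 1728, 2880, 8640] := by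
  obtain ⟨z, hz, h1⟩ := exists_central_inv (G := G) (by rw [hc]; decide)
  have h2 := card_mul_index (centralizer ({z} : Set G))
  have h3 : 2 ^ 6 ∣ Nat.card (centralizer ({z} : Set G)) :=
    (Nat.Coprime.pow_left 6 ((Nat.Prime.coprime_iff_not_dvd Nat.prime_two).2 h1)).dvd_of_dvd_mul_right
      (by rw [h2, hc]; decide)
  have : ∀ c ∈ divs [63, 26, 4], 2 ^ 6 ∣ c → c ∈ [64, 192, 320, 576, 960, 1728, 2880, 8640] := by
    decide +kernel
  exact ⟨z, hz, this _ (mem_divs _ (m12_cent hc hx hz)) h3⟩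

/-- The local data of a simple group of order 95040. -/
structure S12 (G : Type*) [Group G] [Finite G] where
  hc : Nat.card G = 95040
  x : G
  w : G
  E : EH 11 4 x
  hw : D1 5 w
  hxw : w * x * w⁻¹ = xp x (3 : ZMod 11)
  s0 : E.s 0 = -120
  s1 : E.s 1 = -54
  s2 : E.s 2 = 45
  s3 : E.s 3 = 144
  st : E.t = -16
  cw : Nat.card (centralizer ({w} : Set G)) = 10
  aw : Nat.card (Aut hw.ord) = 4
  b1 : E.χ 1 ∉ Bf G 5
  b2 : E.χ 3 ∈ Bf G 5 ∧ E.μ ∉ Bf G 5 ∧ E.ν ∉ Bf G 5 ∨ E.χ 3 ∉ Bf G 5 ∧ E.μ ∈ Bf G 5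

theorem nonempty_S12 (hc : Nat.card G = 95040) : Nonempty (S12 G) := by
  have hG : ¬ IsMulCommutative G := not_comm_of_not_prime (by rw [hc]; norm_num)
  have hperf := commutator_eq_top_of_simple hG
  obtain ⟨x, hx, he⟩ := m12_sc hc
  obtain ⟨w, hw5, hxw⟩ := exists_w hx (by rw [he])
  have hw : D1 5 w := ⟨hw5, by rw [hc]; norm_num⟩
  obtain ⟨E⟩ := nonempty_EH (m := 4) hx he (by norm_num) (by decide)
  have hL := E.s_mem hperf (B := 308) (N := 8640) (by rw [hc]; norm_num) (by rw [hc])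
    [-120, -54, -32, -10, 12, 45, 144] (by decide +kernel)
  have hL' := E.t_mem hperf (B := 308) (N := 8640) (by rw [hc]; norm_num) (by rw [hc])
    [5, -6, 16, 27, 60, -72, -160, 192, -270] (by decide +kernel)
  have h1 := E.deg_rel
  have h2 := E.sq_le
  rw [Fin.sum_univ_four] at h1 h2
  rw [hc] at h2
  have h3 := m12_key _ (hL 0) _ (hL 1) _ (hL 2) _ (hL 3) _ hL' (E.s_mono (by decide))
    (E.s_mono (by decide)) (E.s_mono (by decide)) (by linarith) (by rw [neg_sq]; exact_mod_cast h2)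
  have h4 : ![E.s 0, E.s 1, E.s 2, E.s 3] = E.s := funext fun i => by fin_cases i <;> rfl
  rw [h4, neg_neg, Int.natAbs_neg] at h3
  rcases h3 with h3 | ⟨i, h3, h5, h6⟩ | ⟨k0, k1, k2, k3, k4⟩ | ⟨k0, k1, k2⟩ | h3
  · obtain ⟨c, c1, -, c3, -⟩ := m12_five hc hx hw
    exact absurd (by rw [E.deg_μ]; omega) (deg_ne_of_centralizer hG hw (by omega) E.μ)
  · exact (m12_ten hc hx hw (by rw [E.deg_χ, h3]; rfl) (E.χ_int (i := i) (by rw [h3]; decide)
      (by omega) fun j hj => h6 j (by omega))).elim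
  · obtain ⟨η, ε, e1, e2, e3⟩ := E.bt hG (q := 2) (by decide) (b := 6) (by rw [hc]; decide)
    have e4 : ε = 0 := e2.resolve_right fun e => e.2 4 (by omega)
    rw [Fin.sum_univ_four, k0, k1, k2, k3, e4] at e3
    have := e1 0; have := e1 1; have := e1 2; have := e1 3
    omega
  · obtain ⟨l1, l2, l3, l4, l5, l6, l7⟩ := m12_c hc E hw hxw k0 k1 k2
    exact ⟨⟨hc, x, w, E, hw, hxw, k0, k1, l1, l2, l3, l4, l5, l6, l7⟩⟩
  · obtain ⟨z, hz, hz'⟩ := m12_central hc hx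
    exact absurd (E.inv_chk hG hz hc hz' h3) (by decide)

end H21
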