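import Mathlib
import Cfsg.Agent.H21.Mat6

/-! Mathieu groups by order, part 7: an element of prime order with centraliser of order `2 p`. -/

set_option autoImplicit false
set_option linter.unusedSectionVars false

open Cfsg H4 H17 H18 Subgroup Module
open scoped ComplexConjugate

namespace H21

variable {G : Type*} [Group G] [Finite G] {p : ℕ} [hp : Fact p.Prime]

theorem mul_self_of_two {z : G} (hz : orderOf z = 2) : z * z = 1 := by
  rw [← sq, ← hz, pow_orderOf_eq_one]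

theorem two_of_mul_self {z : G} (hz : z * z = 1) (h1 : z ≠ 1) : orderOf z = 2 :=
  orderOf_eq_prime (by rw [sq, hz]) h1

theorem sum_xp_two {u : G} (F : G → ℂ) : ∑ i : ZMod 2, F (xp u i) = F 1 + F u := by
  rw [show (Finset.univ : Finset (ZMod 2)) = {0, 1} from rfl, Finset.sum_pair (by decide), xp_zero,
    xp_one]

theorem half_char {θ : G → ℂ} (hθ : IsCharacter G θ) {u f : G} (hu : orderOf u = 2)
    (hc : Commute f u) (hf : f ^ 4 = 1) : ∃ a b c d : ℕ, θ 1 + θ u = 2 * (a + b + c + d : ℕ) ∧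
      θ f + θ (f * u) = 2 * (((a : ℂ) - c) + ((b : ℂ) - d) * Complex.I) ∧
      θ (f ^ 2) + θ (f ^ 2 * u) = 2 * ((a : ℂ) + c - b - d) := by
  obtain ⟨a, b, c, d, h1, h2, h3⟩ := four_char (isCharacter_fix' hθ hu)
    (f := ⟨f, centralizer_le_normalizer_zpowers u (mem_centralizer_singleton_iff.2 hc)⟩)
    (Subtype.ext hf)
  simp only [OneMemClass.coe_one, SubgroupClass.coe_pow] at h1 h2 h3
  rw [sum_xp_two fun y => θ (1 * y)] at h1
  rw [sum_xp_two fun y => θ (f * y)] at h2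
  rw [sum_xp_two fun y => θ (f ^ 2 * y)] at h3
  simp only [mul_one, one_mul, Nat.cast_ofNat] at h1 h2 h3
  exact ⟨a, b, c, d, by rw [← h1]; ring, by rw [← h2]; ring, by rw [← h3]; ring⟩

theorem half_four (χ : Irr G) {u f : G} (hu : orderOf u = 2) (hc : Commute f u) (hf : f ^ 4 = 1)
    (h1 : χ.1 f = iv χ f) (h2 : χ.1 (f * u) = iv χ (f * u)) :
    ((deg χ : ℤ) + iv χ u - iv χ (f ^ 2) - iv χ (f ^ 2 * u)) % 8 = 0 := by
  obtain ⟨a, b, c, d, e1, e2, e3⟩ := half_char χ.2.isCharacter hu hc hf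
  have hu2 := mul_self_of_two hu
  have hz : f ^ 2 * f ^ 2 = 1 := by rw [← pow_add, hf]
  have hzu : f ^ 2 * u * (f ^ 2 * u) = 1 := by
    rw [mul_assoc, ← mul_assoc u, ← (hc.pow_left 2).eq, mul_assoc, hu2, mul_one, hz]
  rw [← deg_eq, iv_inv χ hu2] at e1
  rw [h1, h2] at e2
  rw [iv_inv χ hz, iv_inv χ hzu] at e3
  have e4 := congrArg Complex.im e2
  simp at e4
  have e5 : b = d := by exact_mod_cast sub_eq_zero.1 e4
  have e6 : (deg χ : ℤ) + iv χ u = 2 * (a + b + c + d : ℕ) := by exact_mod_cast e1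
  have e7 : iv χ (f ^ 2) + iv χ (f ^ 2 * u) = 2 * (a + c - b - d) := by exact_mod_cast e3
  omega

theorem eight_dvd {θ : G → ℂ} (hθ : IsCharacter G θ) {f : G} (hf : f ^ 8 = 1)
    (h1 : θ (f ^ 5) = θ f) (h2 : θ (f ^ 6) = θ (f ^ 2)) (h3 : θ (f ^ 7) = θ (f ^ 3)) :
    ∃ m : ℕ, θ 1 - θ (f ^ 4) = 8 * m := by
  obtain ⟨ζ, hζ⟩ := IsAlgClosed.exists_pow_nat_eq (-1 : ℂ) (n := 4) (by norm_num)
  obtain ⟨m, hm⟩ := sum_pow_nat hθ hf (ζ := ζ) (by rw [show 8 = 4 * 2 from rfl, pow_mul, hζ]; ring)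
  refine ⟨m, ?_⟩
  simp only [Finset.sum_range_succ, Finset.sum_range_zero, h1, h2, h3, pow_zero, pow_one] at hm
  push_cast at hm
  linear_combination hm - (θ (f ^ 4) + θ f * ζ + θ (f ^ 2) * ζ ^ 2 + θ (f ^ 3) * ζ ^ 3) * hζ

/-- An element of order `p`, conjugate to all its nontrivial powers, with centraliser
`⟨w⟩ × ⟨u⟩` of order `2 p`. -/
structure C2 (p : ℕ) [Fact p.Prime] (w u : G) : Prop where
  d1 : D1 p w
  p2 : p ≠ 2
  card : Nat.card (centralizer ({w} : Set G)) = 2 * p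
  ord : orderOf u = 2
  comm : Commute w u

theorem exists_C2 {w : G} (h : D1 p w) (p2 : p ≠ 2)
    (hc : Nat.card (centralizer ({w} : Set G)) = 2 * p) : ∃ u, C2 p w u := by
  obtain ⟨u, hu, huw⟩ := exists_commute_of_dvd (x := w) (q := 2) (by rw [hc]; simp)
  exact ⟨u, h, p2, hc, hu, huw⟩

namespace C2

variable {w u : G} (h : C2 p w u)
include h

theorem uu : u * u = 1 := mul_self_of_two h.ord

theorem reg {z : G} (hz : z * z = 1) : ¬ p ∣ orderOf z := fun e =>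
  h.p2 ((Nat.prime_dvd_prime_iff_eq hp.out Nat.prime_two).1
    (e.trans (orderOf_dvd_of_pow_eq_one (by rw [sq, hz]))))

theorem comm_xp (i : ZMod p) : Commute (xp w i) u := h.comm.pow_left _

theorem mem {g : G} (hg : g ∈ centralizer ({w} : Set G)) :
    ∃ i : ZMod p, g = xp w i ∨ g = xp w i * u := by
  have hle : zpowers w ≤ centralizer ({w} : Set G) :=
    zpowers_le.2 (mem_centralizer_singleton_iff.2 rfl)
  have h1 : ((zpowers w).subgroupOf (centralizer {w})).index = 2 :=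
    index_eq_of_card (a := p) (by rw [Nat.card_congr (subgroupOfEquivOfLe hle).toEquiv,
      Nat.card_zpowers, h.d1.ord]) (by rw [h.card, mul_comm])
  by_cases e : g ∈ zpowers w
  · obtain ⟨i, rfl⟩ := exists_xp_of_mem h.d1.ord e
    exact ⟨i, Or.inl rfl⟩
  have hu : u ∉ zpowers w := fun e' => by
    obtain ⟨i, hi⟩ := exists_xp_of_mem h.d1.ord e'
    by_cases e0 : i = 0
    · exact ne_one_of_orderOf h.ord (by rw [← hi, e0, xp_zero])
    · exact h.reg h.uu (by rw [← hi, orderOf_xp h.d1.ord e0])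
  have h2 := (mul_mem_iff_of_index_two h1 (a := ⟨g, hg⟩)
    (b := ⟨u, mem_centralizer_singleton_iff.2 h.comm.symm⟩)).2 (iff_of_false e hu)
  obtain ⟨i, hi⟩ := exists_xp_of_mem h.d1.ord (mem_subgroupOf.1 h2)
  exact ⟨i, Or.inr (by rw [hi]; simp [mul_assoc, h.uu])⟩

theorem eq_of_inv {g : G} (hg : g ∈ centralizer ({w} : Set G)) (h2 : g * g = 1) :
    g = 1 ∨ g = u := by
  have key : ∀ i : ZMod p, xp w i * xp w i = 1 → i = 0 := fun i e => by
    by_contra e0
    exact h.reg e (by rw [orderOf_xp h.d1.ord e0])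
  obtain ⟨i, rfl | rfl⟩ := h.mem hg
  · exact Or.inl (by rw [key i h2, xp_zero])
  · rw [mul_assoc, ← mul_assoc u, ← (h.comm_xp i).eq, mul_assoc, h.uu, mul_one] at h2
    exact Or.inr (by rw [key i h2, xp_zero, one_mul])

theorem pow_p {g : G} (hg : g ∈ centralizer ({w} : Set G)) : g ^ p = 1 ∨ g ^ p = u := by
  refine h.eq_of_inv (pow_mem hg _) ?_
  rw [← pow_add, ← two_mul, ← h.card]
  exact congrArg Subtype.val (pow_card_eq_one' (x := (⟨g, hg⟩ : centralizer ({w} : Set G))))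

theorem comm_norm {g : G} (hg : g ∈ normalizer (zpowers w : Set G)) : Commute g u := by
  obtain ⟨i, hi⟩ := exists_xp_of_mem h.d1.ord (mem_normalizer_zpowers_iff.1 (inv_mem hg))
  have h1 : g * u * g⁻¹ ∈ centralizer ({w} : Set G) := by
    have e := (h.comm_xp i).eq
    rw [hi, inv_inv] at e
    rw [mem_centralizer_singleton_iff]
    calc g * u * g⁻¹ * w = g * (u * (g⁻¹ * w * g)) * g⁻¹ := by group
      _ = _ := by rw [← e]; group
  rcases h.eq_of_inv h1 (by rw [conj_mul, h.uu]; simp) with e | e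
  · exact absurd (by simpa using e) (ne_one_of_orderOf h.ord)
  · exact mul_inv_eq_iff_eq_mul.1 e

theorem dvd_ord {i : ZMod p} (hi : i ≠ 0) : p ∣ orderOf (xp w i * u) := by
  rw [(h.comm_xp i).eq]
  exact dvd_orderOf_mul (h.comm_xp i).symm (h.reg h.uu) (orderOf_xp h.d1.ord hi).symm.dvd

theorem not_isConj : ¬ IsConj w (w * u) := fun e => by
  have h1 := pow_orderOf_eq_one (w * u)
  rw [← orderOf_eq_of_isConj e, h.comm.mul_pow, pow_orderOf_eq_one, one_mul, h.d1.ord] at h1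
  have := orderOf_dvd_of_pow_eq_one h1
  rw [h.ord] at this
  exact h.p2 ((Nat.prime_dvd_prime_iff_eq Nat.prime_two hp.out).1 this).symm

theorem card_wu : Nat.card (centralizer ({w * u} : Set G)) = 2 * p := by
  rw [← h.card]
  congr 2
  ext g
  simp only [mem_centralizer_singleton_iff]
  have h1 : (w * u) ^ (p + 1) = w := by
    obtain ⟨k, hk⟩ := (hp.out.odd_of_ne_two h.p2).add_one
    rw [h.comm.mul_pow, pow_succ w, ← h.d1.ord, pow_orderOf_eq_one, one_mul, h.d1.ord, hk, ← two_mul,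
      pow_mul, sq, h.uu, one_pow, mul_one]
  refine ⟨fun e => ?_, fun e => ?_⟩
  · rw [← h1]; exact (show Commute g (w * u) from e).pow_right _
  · exact (show Commute g w from e).mul_right (h.comm_norm (centralizer_le_normalizer_zpowers w
      (mem_centralizer_singleton_iff.2 e)))

variable (ht : Aut h.d1.ord = ⊤)
include ht

theorem isConj_mul {i : ZMod p} (hi : i ≠ 0) : IsConj (w * u) (xp w i * u) := by
  obtain ⟨g, hg⟩ := isConj_iff.1 (isConj_xp_of_top h.d1.ord ht hi)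
  refine isConj_iff.2 ⟨g, ?_⟩
  rw [← hg, mul_assoc _ g⁻¹, (h.comm_norm (mem_norm_of_eq hg)).inv_left.eq]
  group

theorem val_w (χ : Irr G) {i : ZMod p} (hi : i ≠ 0) : χ.1 (xp w i) = iv χ w := by
  obtain ⟨c, hc⟩ := exists_int_of_top h.d1.ord ht χ.2.isCharacter
  rw [hc i hi, iv_of_eq (n := c) (by rw [← hc 1 one_ne_zero, xp_one])]

theorem val_w' (χ : Irr G) : χ.1 w = iv χ w := by
  simpa using h.val_w ht χ (i := 1) one_ne_zero

theorem val_wu' (χ : Irr G) : χ.1 (w * u) = iv χ (w * u) := by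
  refine iv_eq (χ.2.isGen.exists_int_of_pow (n := 2 * p) (by simpa using hp.out.ne_zero) ?_
    fun m hm => ?_)
  · rw [← h.card_wu]
    exact congrArg Subtype.val (pow_card_eq_one' (x := (⟨w * u,
      mem_centralizer_singleton_iff.2 rfl⟩ : centralizer ({w * u} : Set G))))
  · obtain ⟨k, rfl⟩ := Nat.coprime_two_right.1 (Nat.Coprime.coprime_mul_right_right hm)
    rw [h.comm.mul_pow, pow_succ u, pow_mul u, sq, h.uu, one_pow, one_mul, ← xp_natCast h.d1.ord]
    refine (χ.2.classFun.apply_of_isConj (h.isConj_mul ht fun e => ?_)).symm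
    exact (hp.out.coprime_iff_not_dvd.1 (Nat.Coprime.coprime_mul_left_right hm).symm)
      ((ZMod.natCast_eq_zero_iff _ _).1 e)

theorem val_wu (χ : Irr G) {i : ZMod p} (hi : i ≠ 0) : χ.1 (xp w i * u) = iv χ (w * u) := by
  rw [← h.val_wu' ht, χ.2.classFun.apply_of_isConj (h.isConj_mul ht hi)]

theorem mult_w (χ : Irr G) : (p : ℤ) * mult w χ.1 (0 : ZMod p) = deg χ + (p - 1) * iv χ w :=
  mult_of_const h.d1.ord χ.2.isCharacter (deg_eq χ).symm fun _ hi => h.val_w ht χ hi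

theorem dvd_u (χ : Irr G) : (p : ℤ) ∣ iv χ u - iv χ (w * u) :=
  dvd_sub_of_const χ.2.isCharacter h.d1.ord h.comm.symm (iv_inv χ h.uu) fun i hi => by
    rw [← (h.comm_xp i).eq, h.val_wu ht χ hi]

open Classical in
/-- The two blocks of defect one. -/
theorem blocks : (Bf G p).card = p ∧
    (∀ χ ∈ Bf G p, (iv χ w = 1 ∨ iv χ w = -1) ∧ iv χ (w * u) = iv χ w) ∧
    (∀ χ ∉ Bf G p, iv χ (w * u) = -iv χ w) ∧ ∑ χ ∈ (Bf G p)ᶜ, iv χ w ^ 2 = p ∧
    (∀ g, ¬ p ∣ orderOf g → ∑ χ ∈ Bf G p, (iv χ w : ℂ) * χ.1 g = 0 ∧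
      ∑ χ ∈ (Bf G p)ᶜ, (iv χ w : ℂ) * χ.1 g = 0) := by
  obtain ⟨k, k1, -, k3, k4⟩ := D1.top h.d1 ht
  have hw : p ∣ orderOf w := h.d1.ord.symm.dvd
  have hwu : p ∣ orderOf (w * u) := by simpa using h.dvd_ord (i := 1) one_ne_zero
  have a1 : ∀ χ ∈ Bf G p, iv χ w = k χ := fun χ hχ => iv_of_eq ((k3 χ hχ).2.2 w hw)
  have a2 : ∀ χ ∈ Bf G p, iv χ (w * u) = k χ := fun χ hχ => iv_of_eq ((k3 χ hχ).2.2 _ hwu)
  have a3 : ∀ χ ∈ Bf G p, k χ ^ 2 = 1 := fun χ hχ => sq_eq_one_iff.2 (k3 χ hχ).1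
  have b1 := column_orth_of_isConj (IsConj.refl w)
  have b2 := column_orth_of_isConj (IsConj.refl (w * u))
  have b3 := column_orth_of_not_isConj h.not_isConj
  simp only [h.val_w' ht, h.val_wu' ht, map_intCast, h.card, h.card_wu] at b1 b2 b3
  have c1 : ∑ χ : Irr G, iv χ w * iv χ w = 2 * p := by exact_mod_cast b1
  have c2 : ∑ χ : Irr G, iv χ (w * u) * iv χ (w * u) = 2 * p := by exact_mod_cast b2
  have c3 : ∑ χ : Irr G, iv χ w * iv χ (w * u) = 0 := by exact_mod_cast b3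
  have c4 : ∑ χ : Irr G, (iv χ w + iv χ (w * u)) ^ 2 = 4 * p := by
    simp only [add_sq]
    simp only [Finset.sum_add_distrib, sq, mul_assoc, ← Finset.mul_sum, c1, c2, c3]
    ring
  rw [← Finset.sum_add_sum_compl (Bf G p), Finset.sum_congr rfl (g := fun _ => 4) fun χ hχ => by
    rw [a1 χ hχ, a2 χ hχ]; linear_combination 4 * a3 χ hχ] at c4
  rw [← Finset.sum_add_sum_compl (Bf G p), Finset.sum_congr rfl (g := fun _ => 1) fun χ hχ => by
    rw [a1 χ hχ, ← sq, a3 χ hχ]] at c1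
  simp only [Finset.sum_const, k1, nsmul_eq_mul] at c1 c4
  have c5 := (Finset.sum_eq_zero_iff_of_nonneg fun χ _ => sq_nonneg _).1
    (show ∑ χ ∈ (Bf G p)ᶜ, (iv χ w + iv χ (w * u)) ^ 2 = 0 by linarith)
  refine ⟨k1, fun χ hχ => ⟨a1 χ hχ ▸ (k3 χ hχ).1, by rw [a1 χ hχ, a2 χ hχ]⟩, fun χ hχ => ?_,
    by simp only [sq]; linarith, fun g hg => ?_⟩
  · have := pow_eq_zero_iff two_ne_zero |>.1 (c5 χ (Finset.mem_compl.2 hχ))
    linarith
  · have d1 : ∑ χ ∈ Bf G p, (iv χ w : ℂ) * χ.1 g = 0 := by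
      rw [← k4 g hg]
      exact Finset.sum_congr rfl fun χ hχ => by rw [a1 χ hχ]
    have d2 := column_orth_of_not_isConj (g := g) (h := w) fun e =>
      hg (by rw [orderOf_eq_of_isConj e]; exact hw)
    simp only [h.val_w' ht, map_intCast, mul_comm (_ : ℂ) ((iv _ w : ℤ) : ℂ)] at d2
    rw [← Finset.sum_add_sum_compl (Bf G p), d1, zero_add] at d2
    exact ⟨d1, d2⟩

end C2

end H21
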