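import Mathlib
import Cfsg.Agent.H21.Mat12b
import Cfsg.Agent.H21.Mat7

/-! Simple groups of order 95040: involutions and the normaliser of an element of order five. -/

set_option autoImplicit false
set_option linter.unusedSectionVars false
set_option synthInstance.maxSize 4000

open Cfsg H4 H17 H18 Subgroup Module
open scoped ComplexConjugate

namespace H21

variable {G : Type*} [Group G] [Finite G] [IsSimpleGroup G]

namespace S12

variable (S : S12 G)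

include S in
theorem nc : ¬ IsMulCommutative G := not_comm_of_not_prime (by rw [S.hc]; norm_num)
include S in
theorem perf : commutator G = ⊤ := commutator_eq_top_of_simple S.nc
theorem d0 : deg (S.E.χ 0) = 120 := by rw [S.E.deg_χ, S.s0]; rfl
theorem d1 : deg (S.E.χ 1) = 54 := by rw [S.E.deg_χ, S.s1]; rfl
theorem d2 : deg (S.E.χ 2) = 45 := by rw [S.E.deg_χ, S.s2]; rfl
theorem d3 : deg (S.E.χ 3) = 144 := by rw [S.E.deg_χ, S.s3]; rfl
theorem dμ : deg S.E.μ = 16 := by rw [S.E.deg_μ, S.st]; rfl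
theorem dν : deg S.E.ν = 16 := by rw [S.E.deg_ν, S.st]; rfl
theorem s_eq : S.E.s = ![-120, -54, 45, 144] :=
  funext fun i => by fin_cases i; exacts [S.s0, S.s1, S.s2, S.s3]

theorem χ_int (i : Fin 4) (g : G) : (S.E.χ i).1 g = iv (S.E.χ i) g :=
  S.E.χ_int (by rw [S.s_eq]; revert i; decide) (by rw [S.s_eq, S.st]; revert i; decide)
    (by rw [S.s_eq]; revert i; decide) g

theorem μ_gal {g : G} (hg : ¬ 11 ∣ orderOf g) {m : ℕ} (hm : m.Coprime 95040) :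
    S.E.μ.1 (g ^ m) = S.E.μ.1 g :=
  S.E.μ_gal (by rw [S.st]; decide) (by rw [S.s_eq, S.st]; decide) hg (deg_galP _ (S.hc ▸ hm))

theorem μ_int {g : G} (hg : ¬ 11 ∣ orderOf g) : S.E.μ.1 g = iv S.E.μ g :=
  S.E.μ_int (by rw [S.st]; decide) (by rw [S.s_eq, S.st]; decide) hg

theorem top : Aut S.hw.ord = ⊤ := aut_eq_top _ S.aw

/-- Involutions with centraliser of order 192. -/
def TB (z : G) : Prop := Nat.card (centralizer ({z} : Set G)) = 192 ∧ iv (S.E.χ 0) z = -8 ∧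
  iv (S.E.χ 1) z = 6 ∧ iv (S.E.χ 2) z = -3 ∧ iv (S.E.χ 3) z = 0 ∧ iv S.E.μ z = 0

/-- The other involutions. -/
def TA (z : G) (ε : ℤ) : Prop := Nat.card (centralizer ({z} : Set G)) ∣ 240 ∧ iv (S.E.χ 0) z = 0 ∧
  iv (S.E.χ 1) z = 6 ∧ iv (S.E.χ 2) z = 5 ∧ iv (S.E.χ 3) z = ε ∧ iv S.E.μ z = ε

theorem types {z : G} (hz : orderOf z = 2) :
    S.TB z ∨ S.TA z 4 ∨ S.TA z (-4) ∨ iv S.E.μ z = -8 := by
  have h := S.E.inv_chk S.nc hz S.hc (mem_divs [63, 26, 4] (m12_cent S.hc S.E.sc hz))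
    (P := fun C a b c d n => decide ((C = 192 ∧ a = -8 ∧ b = 6 ∧ c = -3 ∧ d = 0 ∧ n = 0) ∨
      (C ∣ 240 ∧ a = 0 ∧ b = 6 ∧ c = 5 ∧ d = 4 ∧ n = 4) ∨
      (C ∣ 240 ∧ a = 0 ∧ b = 6 ∧ c = 5 ∧ d = -4 ∧ n = -4) ∨ n = -8))
    (by rw [S.s0, S.s1, S.s2, S.s3, S.st]; decide +kernel)
  have h1 := of_decide_eq_true h
  exact h1

theorem not_both {y z : G} (hy : y * y = 1) (hz : z * z = 1) (h1 : S.TA y 4) (h2 : S.TA z (-4)) :
    False := by
  have h := S.E.quad hy hz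
  obtain ⟨-, a0, a1, a2, a3, a4⟩ := h1
  obtain ⟨-, b0, b1, b2, b3, b4⟩ := h2
  rw [Fin.sum_univ_four, a0, a1, a2, a3, a4, b0, b1, b2, b3, b4, S.s0, S.s1, S.s2, S.s3, S.st,
    S.hc] at h
  exact absurd h (by decide)

theorem w_notMem : S.w ∉ centralizer ({S.x} : Set G) := by
  rw [mem_cent_iff S.E.sc.ord S.hxw]; decide

theorem mult_μ : mult S.x S.E.μ.1 (0 : ZMod 11) = 1 := by
  have := S.E.mult_μ
  rw [S.st, show Int.sign (-16) = -1 from rfl] at this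
  omega

theorem reg_w : ¬ 11 ∣ orderOf S.w := by rw [S.hw.ord]; decide

variable {u : G} (hu : C2 5 S.w u)
include hu

theorem μ_w : iv S.E.μ S.w = 1 := by
  have h1 := abs_le_mult S.E.μ.2.isCharacter S.E.sc.ord (mem_norm_of_eq S.hxw) S.w_notMem
    (hu.val_w' S.top _)
  have h2 := hu.mult_w S.top S.E.μ
  rw [S.mult_μ, abs_le] at h1
  rw [S.dμ] at h2
  omega

theorem mult_w_μ : mult S.w S.E.μ.1 (0 : ZMod 5) = 4 := by
  have h2 := hu.mult_w S.top S.E.μ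
  rw [S.dμ, S.μ_w hu] at h2
  omega

theorem type_u : S.TA u 4 ∧ S.E.μ ∉ Bf G 5 ∨ S.TA u (-4) := by
  obtain ⟨-, h1, h2, -⟩ := hu.blocks S.top
  have h3 := hu.dvd_u S.top S.E.μ
  have h4 := S.μ_w hu
  by_cases e : S.E.μ ∈ Bf G 5
  · have := (h1 _ e).2
    rcases S.types hu.ord with h | h | h | h
    · have := h.2.2.2.2.2; omega
    · have := h.2.2.2.2.2; omega
    · exact Or.inr h
    · omega
  · have := h2 _ e
    rcases S.types hu.ord with h | h | h | h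
    · have := h.2.2.2.2.2; omega
    · exact Or.inl ⟨h, e⟩
    · exact Or.inr h
    · omega

theorem exists_f : ∃ f : G, f * S.w * f⁻¹ = xp S.w (2 : ZMod 5) ∧ f ^ 4 = 1 := by
  obtain ⟨g, -, hg⟩ := exists_act S.hw.ord (a := u2) (by rw [S.aw]; decide)
  have h1 : g ^ 5 * S.w * (g ^ 5)⁻¹ = xp S.w (2 : ZMod 5) := by
    rw [pow_conj_xp S.hw.ord hg]; rfl
  refine ⟨g ^ 5, h1, ?_⟩
  rw [← pow_mul, mul_comm, pow_mul]
  refine (hu.pow_p ((mem_cent_iff S.hw.ord (pow_conj_xp S.hw.ord hg 4)).2 (by decide))).resolve_right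
    fun e => ?_
  rw [← pow_mul, mul_comm, pow_mul] at e
  generalize g ^ 5 = f at e
  have h8 : f ^ 8 = 1 := by rw [show 8 = 4 + 4 from rfl, pow_add, e, hu.uu]
  have hr : ∀ k, ¬ 11 ∣ orderOf (f ^ k) := fun k e' =>
    absurd (e'.trans ((orderOf_pow_dvd k).trans (orderOf_dvd_of_pow_eq_one h8))) (by decide)
  obtain ⟨m, hm⟩ := eight_dvd S.E.μ.2.isCharacter h8
    (by rw [← S.μ_gal (g := f) (by simpa using hr 1) (m := 13) (by norm_num),
      show 13 = 8 + 5 from rfl, pow_add, h8, one_mul])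
    (by rw [← S.μ_gal (hr 2) (m := 7) (by norm_num), ← pow_mul, show 2 * 7 = 8 + 6 from rfl,
      pow_add, h8, one_mul])
    (by rw [← S.μ_gal (hr 3) (m := 13) (by norm_num), ← pow_mul, show 3 * 13 = 8 * 4 + 7 from rfl,
      pow_add, pow_mul, h8, one_pow, one_mul])
  rw [e, iv_inv _ hu.uu, ← deg_eq, S.dμ] at hm
  have h9 : (16 : ℤ) - iv S.E.μ u = 8 * m := by exact_mod_cast hm
  rcases S.type_u hu with ⟨h, -⟩ | h <;> have := h.2.2.2.2.2 <;> omega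

theorem inv_type {t : G} (ht : t * t = 1) (hi : t * S.w * t⁻¹ = xp S.w (-1 : ZMod 5)) :
    orderOf t = 2 ∧ (S.TB t ∨ S.TA t 4) := by
  have h1 : t ∉ centralizer ({S.w} : Set G) := by rw [mem_cent_iff S.hw.ord hi]; decide
  have h2 : orderOf t = 2 := two_of_mul_self ht fun e => h1 (e ▸ one_mem _)
  have h3 := abs_le_mult S.E.μ.2.isCharacter S.hw.ord (mem_norm_of_eq hi) h1 (iv_inv _ ht)
  have h4 := D1.not_neg (χ := S.E.μ) S.E.sc.d1 (by rw [S.mult_μ]; decide) (a := u3) S.hxw (by decide)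
    (by rw [S.E.he, orderOf_u3]) S.E.sc (by rw [hu.val_w' S.top, S.μ_w hu, S.mult_μ]; simp)
    S.hw.ord (mem_norm_of_eq hi) h1
  rw [S.mult_w_μ hu, abs_le] at h3
  rw [S.mult_w_μ hu, iv_inv _ ht] at h4
  refine ⟨h2, ?_⟩
  rcases S.types h2 with h | h | h | h
  · exact Or.inl h
  · exact Or.inr h
  · exact absurd (by rw [h.2.2.2.2.2]; norm_num) h4
  · omega

variable {f : G} (hf : f * S.w * f⁻¹ = xp S.w (2 : ZMod 5)) (hf4 : f ^ 4 = 1)
include hf hf4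

omit hu in
theorem z_inv : f ^ 2 * f ^ 2 = 1 ∧ f ^ 2 * S.w * (f ^ 2)⁻¹ = xp S.w (-1 : ZMod 5) :=
  ⟨by rw [← pow_add, hf4], by rw [pow_conj_xp S.hw.ord hf]; rfl⟩

omit hf4 in
theorem fu_comm : Commute f u := hu.comm_norm (mem_norm_of_eq hf)

omit hf4 in
theorem fu_act : f * u * S.w * (f * u)⁻¹ = xp S.w (2 : ZMod 5) := by
  rw [← hf, mul_assoc f, ← hu.comm.eq]; group

theorem fu_pow : (f * u) ^ 2 = f ^ 2 ∧ (f * u) ^ 4 = 1 := by
  have h1 : (f * u) ^ 2 = f ^ 2 := by rw [(S.fu_comm hu hf).mul_pow, sq u, hu.uu, mul_one]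
  exact ⟨h1, by rw [show 4 = 2 * 2 from rfl, pow_mul, h1, ← pow_mul, hf4]⟩

theorem zu_inv : f ^ 2 * u * (f ^ 2 * u) = 1 ∧
    f ^ 2 * u * S.w * (f ^ 2 * u)⁻¹ = xp S.w (-1 : ZMod 5) := by
  obtain ⟨h1, h2⟩ := S.z_inv hf hf4
  refine ⟨?_, by rw [← h2, mul_assoc (f ^ 2), ← hu.comm.eq]; group⟩
  rw [mul_assoc, ← mul_assoc u, ← ((S.fu_comm hu hf).pow_left 2).eq, mul_assoc, hu.uu, mul_one, h1]

omit hu hf in
theorem reg_f : ¬ 11 ∣ orderOf f := fun e =>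
  absurd (e.trans (orderOf_dvd_of_pow_eq_one hf4)) (by decide)

theorem types_z : S.TA u 4 ∧ S.E.μ ∉ Bf G 5 ∧
    (S.TB (f ^ 2) ∧ S.TA (f ^ 2 * u) 4 ∨ S.TA (f ^ 2) 4 ∧ S.TB (f ^ 2 * u)) := by
  obtain ⟨a1, a2⟩ := S.z_inv hf hf4
  obtain ⟨b1, b2⟩ := S.zu_inv hu hf hf4
  have h1 := half_four S.E.μ hu.ord (S.fu_comm hu hf) hf4 (S.μ_int (reg_f hf4))
    (S.μ_int (reg_f (S.fu_pow hu hf hf4).2))
  rw [S.dμ] at h1
  rcases S.type_u hu with ⟨h, h'⟩ | h <;> rcases (S.inv_type hu a1 a2).2 with c | c <;>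
    rcases (S.inv_type hu b1 b2).2 with d | d <;> have := h.2.2.2.2.2 <;> have := c.2.2.2.2.2 <;>
    have := d.2.2.2.2.2 <;> first
    | omega
    | exact ⟨h, h', Or.inl ⟨c, d⟩⟩
    | exact ⟨h, h', Or.inr ⟨c, d⟩⟩
    | exact (S.not_both a1 hu.uu c h).elim
    | exact (S.not_both b1 hu.uu d h).elim

end S12

end H21
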