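import Mathlib
import Cfsg.Agent.H21.Mat12c

/-! Simple groups of order 95040: the characters of degree eleven. -/

set_option autoImplicit false
set_option linter.unusedSectionVars false
set_option synthInstance.maxSize 4000

open Cfsg H4 H17 H18 Subgroup Module
open scoped ComplexConjugate

namespace H21

variable {G : Type*} [Group G] [Finite G] [IsSimpleGroup G]

theorem C2.zero_rel {p : ℕ} [hp : Fact p.Prime] {w u : G} (h : C2 p w u) {s : G} (hs : s * s = 1)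
    (hi : s * w * s⁻¹ = xp w (-1 : ZMod p)) (hn : ¬ IsConj s (s * u)) :
    ∑ χ : Irr G, conj (χ.1 (w * u)) * (χ.1 s * χ.1 s / χ.1 1) = 0 := by
  have h0 := card_triple s s (w * u)
  have hx := h.d1.ord
  have hsu := h.comm_norm (mem_norm_of_eq hi)
  have hi' : s * u * w * (s * u)⁻¹ = xp w (-1 : ZMod p) := by
    rw [← hi, mul_assoc s, ← h.comm.eq]; group
  have h1 : (-1 : ZMod p) ≠ 1 := fun e => h.p2 ((Nat.prime_dvd_prime_iff_eq hp.out Nat.prime_two).1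
    ((ZMod.natCast_eq_zero_iff 2 p).1 (by push_cast; linear_combination -e)))
  have key := isConj_xp_mul hx (mem_norm_of_eq hi') (by rwa [mem_cent_iff hx hi'])
  have : IsEmpty {gh : G × G // gh.1 * s * gh.1⁻¹ * (gh.2 * s * gh.2⁻¹) = w * u} := ⟨fun ⟨⟨g, k⟩, e⟩ => by
    have ca : IsConj s (g * s * g⁻¹) := isConj_iff.2 ⟨g, rfl⟩
    have cb : IsConj s (k * s * k⁻¹) := isConj_iff.2 ⟨k, rfl⟩
    have ha : g * s * g⁻¹ * (g * s * g⁻¹) = 1 := by rw [conj_mul, hs]; simp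
    have hb : k * s * k⁻¹ * (k * s * k⁻¹) = 1 := by rw [conj_mul, hs]; simp
    simp only at e
    generalize g * s * g⁻¹ = a at *
    generalize k * s * k⁻¹ = b at *
    have e1 : a * (w * u) * a⁻¹ = (w * u)⁻¹ := by
      rw [← e, mul_inv_rev, ← mul_assoc, ha, one_mul, inv_eq_of_mul_eq_one_right hb]
    have e2 : (w * u) ^ (p + 1) = w := by
      obtain ⟨k, hk⟩ := (hp.out.odd_of_ne_two h.p2).add_one
      rw [h.comm.mul_pow, pow_succ w, ← hx, pow_orderOf_eq_one, one_mul, hx, hk, ← two_mul,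
        pow_mul, sq, h.uu, one_pow, mul_one]
    have e3 : a * w * a⁻¹ = w⁻¹ := by
      conv_lhs => rw [← e2, ← conj_pow, e1, inv_pow, e2]
    rw [xp_neg hx, xp_one] at hi
    have e4 : a * s ∈ centralizer ({w} : Set G) := by
      rw [mem_centralizer_singleton_iff, ← mul_inv_eq_iff_eq_mul]
      calc a * s * w * (a * s)⁻¹ = a * (s * w * s⁻¹) * a⁻¹ := by group
        _ = w := by rw [hi, ← conj_inv, e3, inv_inv]
    obtain ⟨i, e5 | e5⟩ := h.mem e4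
    · have e6 : b = xp w (i - 1) * (s * u) := by
        rw [eq_inv_mul_iff_mul_eq.2 e, inv_eq_of_mul_eq_one_right ha, eq_mul_inv_iff_mul_eq.2 e5,
          inv_eq_of_mul_eq_one_right hs, sub_eq_add_neg, xp_add hx, xp_neg hx, xp_one, ← hi]
        group
      exact hn (cb.trans (e6 ▸ key _).symm)
    · have e6 : a = xp w i * (s * u) := by
        rw [eq_mul_inv_iff_mul_eq.2 e5, inv_eq_of_mul_eq_one_right hs, hsu.eq, mul_assoc]
      exact hn (ca.trans (e6 ▸ key _).symm)⟩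
  rw [Nat.card_of_isEmpty, Nat.cast_zero] at h0
  exact (mul_eq_zero.1 h0.symm).resolve_left (card_ne_zero G)

theorem m12_key2 : ∀ a ∈ [11, -44, 66, -99, 176, -264], ∀ b ∈ [11, -44, 66, -99, 176, -264],
    ∀ c ∈ [11, -44, 66, -99, 176, -264], a + b + c = (143 : ℤ) →
    ∀ d ∈ [11, -44, 66, -99, 176, -264], ∀ e ∈ [11, -44, 66, -99, 176, -264], d + e = (22 : ℤ) →
    ∀ x ∈ vals a 192 0, ∀ y ∈ vals b 192 0, ∀ z ∈ vals c 192 0,
    1 + a.sign * x + b.sign * y + c.sign * z = 0 → ∀ v ∈ vals d 192 0, ∀ v' ∈ vals e 192 0,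
    d.sign * v + e.sign * v' = 6 → 110 + x ^ 2 + y ^ 2 + z ^ 2 + v ^ 2 + v' ^ 2 ≤ 192 →
    95040 + x * x * (95040 / a) + y * y * (95040 / b) + z * z * (95040 / c) + 63360 =
      v * v * (95040 / d) + v' * v' * (95040 / e) → d = 11 ∧ e = 11 ∧ v = 3 ∧ v' = 3 := by
  decide +kernel

theorem okv_zero {d : ℤ} {C N : ℕ} {v : ℤ} (h : okv d C N v = true) : v ∈ vals d C 0 := by
  refine mem_vals ?_
  simp only [okv, Bool.and_eq_true] at h ⊢
  exact ⟨h.1, by simp⟩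

namespace S12

variable (S : S12 G) {u : G} (hu : C2 5 S.w u)
include hu

theorem sdeg {ψ : Irr G} (h1 : ψ ∉ Bf G 11) (h2 : iv ψ S.w = 1 ∨ iv ψ S.w = -1) :
    iv ψ S.w * deg ψ ∈ [11, -44, 66, -99, 176, -264] := by
  have h3 := hu.mult_w S.top ψ
  have h4 := S.E.dvd_deg h1
  have h5 : ∀ d ∈ divs [63, 26, 4, 10], d ≤ 308 → 11 ∣ d → (d % 5 = 1 → (d : ℤ) ∈
      [11, -44, 66, -99, 176, -264]) ∧ (d % 5 = 4 → -(d : ℤ) ∈ [11, -44, 66, -99, 176, -264]) := by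
    decide +kernel
  have h6 := h5 _ (mem_divs _ ((deg_dvd_card ψ).trans (by rw [S.hc]; decide)))
    (le_of_sq_le (deg_sq_le ψ) (by rw [S.hc]; norm_num)) h4
  rcases h2 with e | e <;> rw [e] at h3 ⊢
  · simpa using h6.1 (by omega)
  · simpa using h6.2 (by omega)

theorem exists_theta (hμ : S.E.μ ∉ Bf G 5) {s : G} (hs : s * s = 1)
    (hi : s * S.w * s⁻¹ = xp S.w (-1 : ZMod 5)) (hB : S.TB s) (hA : S.TA (s * u) 4) :
    ∃ θ θ' : Irr G, θ ≠ θ' ∧ (∀ ψ, ψ = θ ∨ ψ = θ' →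
      deg ψ = 11 ∧ ψ ∉ Bf G 11 ∧ ψ ∉ Bf G 5 ∧ iv ψ S.w = 1 ∧ iv ψ s = 3) ∧
      (∀ ψ ∉ Bf G 11, ψ ≠ θ → ψ ≠ θ' → iv ψ (S.w * u) = iv ψ S.w) ∧ iv (S.E.χ 1) S.w = -1 ∧
      ∀ g, ¬ 5 ∣ orderOf g → ¬ 11 ∣ orderOf g →
        θ.1 g + θ'.1 g + 2 * S.E.μ.1 g = (S.E.χ 1).1 g := by
  classical
  obtain ⟨k1, k2, k3, k4, k5⟩ := hu.blocks S.top
  obtain ⟨b3, -, bν⟩ := S.b2.resolve_right fun e => hμ e.2
  have b1 := S.b1
  have hw5 : 5 ∣ orderOf S.w := S.hw.ord.symm.dvd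
  have b0 : S.E.χ 0 ∉ Bf G 5 := fun e => not_dvd_deg_of_mem_B0 S.hw (mem_Bf.1 e) (by rw [S.d0]; decide)
  have b2 : S.E.χ 2 ∉ Bf G 5 := fun e => not_dvd_deg_of_mem_B0 S.hw (mem_Bf.1 e) (by rw [S.d2]; decide)
  have b : irrOne G ∈ Bf G 5 := mem_Bf.2 one_mem_B0
  have v0 : iv (S.E.χ 0) S.w = 0 := iv_of_eq (by rw [vanish1 S.hw (by rw [S.d0]; decide) hw5]; simp)
  have v2 : iv (S.E.χ 2) S.w = 0 := iv_of_eq (by rw [vanish1 S.hw (by rw [S.d2]; decide) hw5]; simp)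
  have vμ := S.μ_w hu
  have vν : iv S.E.ν S.w = 1 := by rw [← vμ, iv, S.E.ν_reg S.reg_w, iv]
  have v3 : iv (S.E.χ 3) S.w = -1 := by
    have := hu.mult_w S.top (S.E.χ 3)
    have := (k2 _ b3).1
    rw [S.d3] at *
    omega
  have sp1 : ∀ {M : Type} [AddCommMonoid M] (F : Irr G → M), ∑ ψ ∈ Bf G 5, F ψ =
      F (irrOne G) + F (S.E.χ 3) + ∑ ψ ∈ Bf G 5 \ Bf G 11, F ψ := fun F => by
    rw [S.E.split, Fin.sum_univ_four]
    simp only [b, b0, b1, b2, b3, hμ, bν, if_true, if_false, zero_add, add_zero]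
  have sp2 : ∀ {M : Type} [AddCommMonoid M] (F : Irr G → M), ∑ ψ ∈ (Bf G 5)ᶜ, F ψ =
      F (S.E.χ 0) + F (S.E.χ 1) + F (S.E.χ 2) + (F S.E.μ + F S.E.ν) +
        ∑ ψ ∈ (Bf G 5)ᶜ \ Bf G 11, F ψ := fun F => by
    rw [S.E.split, Fin.sum_univ_four]
    simp only [Finset.mem_compl, b, b0, b1, b2, b3, hμ, bν, not_true, not_false_iff, if_true,
      if_false, zero_add, add_zero]
  rw [sp2, v0, v2, vμ, vν] at k4
  have n0 : 0 ≤ ∑ ψ ∈ (Bf G 5)ᶜ \ Bf G 11, iv ψ S.w ^ 2 := Finset.sum_nonneg fun _ _ => sq_nonneg _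
  have v1 : iv (S.E.χ 1) S.w = -1 := by
    have := hu.mult_w S.top (S.E.χ 1)
    rw [S.d1] at this
    have : -2 < iv (S.E.χ 1) S.w ∧ iv (S.E.χ 1) S.w < 2 := by
      push_cast at k4
      constructor <;> nlinarith
    omega
  obtain ⟨θ, θ', hne, hF, c1, c2⟩ := two_of_sum_sq
    (((Bf G 5)ᶜ \ Bf G 11).filter fun ψ => iv ψ S.w ≠ 0) (iv · S.w)
    (fun _ h => (Finset.mem_filter.1 h).2) (by
      rw [Finset.sum_filter_of_ne (p := fun ψ => iv ψ S.w ≠ 0) fun _ _ h e => h (by rw [e]; rfl)]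
      rw [v1] at k4
      push_cast at k4
      linarith)
  simp only [Finset.mem_filter, Finset.mem_sdiff, Finset.mem_compl] at hF
  have m1 := ((hF θ).2 (Or.inl rfl)).1
  have m2 := ((hF θ').2 (Or.inr rfl)).1
  have sp3 : ∀ F : Irr G → ℂ, ∑ ψ ∈ (Bf G 5)ᶜ, (iv ψ S.w : ℂ) * F ψ = -F (S.E.χ 1) +
      (F S.E.μ + F S.E.ν) + (iv θ S.w * F θ + iv θ' S.w * F θ') := fun F => by
    rw [sp2, v0, v1, v2, vμ, vν, ← Finset.sum_pair (f := fun ψ => (iv ψ S.w : ℂ) * F ψ) hne,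
      Finset.sum_subset (s₁ := {θ, θ'}) (s₂ := (Bf G 5)ᶜ \ Bf G 11)]
    · simp
    · simp [Finset.insert_subset_iff, m1, m2]
    · intro ψ h1 h2
      simp only [Finset.mem_sdiff, Finset.mem_compl, Finset.mem_insert, Finset.mem_singleton] at h1 h2
      rw [not_not.1 fun e => h2 ((hF ψ).1 ⟨h1, e⟩)]
      simp
  obtain ⟨α, -, hα, -, -, hαs⟩ := exists_sorted (Bf G 5 \ Bf G 11) (m := 3) (by
    have := sp1 fun _ => 1
    simp only [← Finset.card_eq_sum_ones, k1] at this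
    omega) fun _ => 0
  simp only [Finset.mem_sdiff] at hα
  have hs2 := (S.inv_type hu hs hi).1
  have hr5 := hu.reg hs
  have hr11 : ¬ 11 ∣ orderOf s := by rw [hs2]; decide
  obtain ⟨t0, t1, t2, t3, t4, t5⟩ := hB
  have t6 : iv S.E.ν s = 0 := by rw [← t5, iv, S.E.ν_reg hr11, iv]
  have r1 := (k5 1 reg_one).1
  have r2 := (k5 1 reg_one).2
  have r3 := (k5 s hr5).1
  have r4 := (k5 s hr5).2
  have r5 := congrArg (((95040 : ℕ) : ℂ) * ·) (hu.zero_rel hs hi fun e => by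
    have := S.E.μ.2.classFun.apply_of_isConj e
    rw [iv_inv _ hs, S.μ_int (by rw [← orderOf_eq_of_isConj e]; exact hr11), t5, hA.2.2.2.2.2] at this
    norm_num at this)
  simp only [hu.val_wu' S.top, map_intCast] at r5
  rw [← Finset.sum_add_sum_compl (Bf G 5), Finset.sum_congr rfl fun ψ h => by rw [(k2 ψ h).2],
    Finset.sum_congr (s₁ := (Bf G 5)ᶜ) rfl fun ψ h => by
      rw [k3 ψ (Finset.mem_compl.1 h), Int.cast_neg, neg_mul], Finset.sum_neg_distrib] at r5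
  rw [sp1, hαs, Fin.sum_univ_three] at r1 r3 r5
  rw [sp3] at r2 r4 r5
  have r6 := S.E.norm_le hr11 (fun i => iv_inv _ hs) (iv_inv _ hs) (Bf G 5 \ Bf G 11 ∪ {θ, θ'}) (by
    simp only [Finset.mem_union, Finset.mem_sdiff, Finset.mem_insert, Finset.mem_singleton]
    rintro ψ (h | rfl | rfl)
    exacts [h.2, m1.2, m2.2])
  rw [Finset.sum_union (by simp [m1, m2]), hαs, Fin.sum_univ_three, Finset.sum_pair hne,
    Fin.sum_univ_four, t0, t1, t2, t3, t4, t5] at r6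
  simp only [norm_sq_int (iv_inv _ hs)] at r6
  have q : ∀ ψ : Irr G, (iv ψ S.w = 1 ∨ iv ψ S.w = -1) → ((95040 : ℕ) : ℂ) * ((iv ψ S.w : ℂ) *
      (ψ.1 s * ψ.1 s / ψ.1 1)) = (iv ψ s * iv ψ s * (95040 / (iv ψ S.w * deg ψ)) : ℤ) := fun ψ h => by
    rw [iv_inv ψ hs, ← deg_eq, quad_term h (deg_ne_zero _) (S.hc ▸ deg_dvd_card ψ)]
    rfl
  have ca := fun i => (k2 _ (hα i).1).1
  simp only [mul_add, mul_neg, q _ (ca _), q _ c1, q _ c2, mul_zero] at r5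
  simp only [← deg_eq, iv_inv _ hs, iv_one, irrOne_apply, t1, t2, t3, t4, t5, t6, v3, S.d1, S.d3,
    S.dμ, S.dν, H17.deg_irrOne] at r1 r2 r3 r4 r5
  have sg : ∀ ψ : Irr G, (iv ψ S.w = 1 ∨ iv ψ S.w = -1) → (iv ψ S.w * deg ψ).sign = iv ψ S.w ∧
      deg ψ = (iv ψ S.w * deg ψ).natAbs := fun ψ h =>
    ⟨(eq_of_sdeg h (deg_ne_zero _) rfl).2.symm, (eq_of_sdeg h (deg_ne_zero _) rfl).1⟩
  have ov : ∀ ψ ∉ Bf G 11, (iv ψ S.w = 1 ∨ iv ψ S.w = -1) →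
      iv ψ s ∈ vals (iv ψ S.w * deg ψ) 192 0 := fun ψ h1 h => t0 ▸ okv_zero
    (okv_iv S.nc (χ := ψ) (fun e => h1 (e ▸ mem_Bf.2 one_mem_B0)) (sg ψ h).2 hs2)
  obtain ⟨e1, e2, e3, e4⟩ := m12_key2 _ (S.sdeg hu (hα 0).2 (ca 0)) _ (S.sdeg hu (hα 1).2 (ca 1)) _
    (S.sdeg hu (hα 2).2 (ca 2)) (by
      apply Int.cast_injective (α := ℂ); push_cast at r1 ⊢; linear_combination r1)
    _ (S.sdeg hu m1.2 c1) _ (S.sdeg hu m2.2 c2) (by
      apply Int.cast_injective (α := ℂ); push_cast at r2 ⊢; linear_combination r2)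
    _ (ov _ (hα 0).2 (ca 0)) _ (ov _ (hα 1).2 (ca 1)) _ (ov _ (hα 2).2 (ca 2)) (by
      rw [(sg _ (ca 0)).1, (sg _ (ca 1)).1, (sg _ (ca 2)).1]
      apply Int.cast_injective (α := ℂ); push_cast at r3 ⊢; linear_combination r3)
    _ (ov _ m1.2 c1) _ (ov _ m2.2 c2) (by
      rw [(sg _ c1).1, (sg _ c2).1]
      apply Int.cast_injective (α := ℂ); push_cast at r4 ⊢; linear_combination r4)
    (by apply Int.cast_le (R := ℝ) |>.1; push_cast at r6 ⊢; linarith) (by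
      apply Int.cast_injective (α := ℂ)
      simp only [Int.cast_add]
      push_cast at r5 ⊢
      linear_combination r5)
  obtain ⟨f1, f2⟩ := eq_of_sdeg c1 (deg_ne_zero _) e1
  obtain ⟨f3, f4⟩ := eq_of_sdeg c2 (deg_ne_zero _) e2
  refine ⟨θ, θ', hne, ?_, fun ψ h1 h2 h3 => ?_, v1, fun g g5 g11 => ?_⟩
  · rintro ψ (rfl | rfl)
    exacts [⟨f1, m1.2, m1.1, f2, e3⟩, ⟨f3, m2.2, m2.1, f4, e4⟩]
  · by_cases e : ψ ∈ Bf G 5
    · exact (k2 ψ e).2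
    · have : iv ψ S.w = 0 := not_not.1 fun e' => ((hF ψ).1 ⟨⟨e, h1⟩, e'⟩).elim h2 h3
      rw [k3 ψ e, this, neg_zero]
  · have := (k5 g g5).2
    rw [sp3, S.E.ν_reg g11, f2, f4] at this
    simp only [show Int.sign 11 = 1 from rfl] at this
    linear_combination this

end S12

end H21
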