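import Mathlib
import Cfsg.Agent.H21.Mat12d

/-! Simple groups of order 95040: an element of order four with three fixed dimensions. -/

set_option autoImplicit false
set_option linter.unusedSectionVars false
set_option synthInstance.maxSize 4000

open Cfsg H4 H17 H18 Subgroup Module
open scoped ComplexConjugate

namespace H21

variable {G : Type*} [Group G] [Finite G]

theorem fix_four {p : ℕ} [Fact p.Prime] {θ : G → ℂ} (hθ : IsCharacter G θ) {w f : G}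
    (hw : orderOf w = p) (hf : f ∈ normalizer (zpowers w : Set G)) (h4 : f ^ 4 = 1)
    (h2 : f ^ 2 ∉ centralizer ({w} : Set G)) : ∃ a b c d : ℕ, mult w θ (0 : ZMod p) = a + b + c + d ∧
      θ f = ((a : ℂ) - c) + ((b : ℂ) - d) * Complex.I ∧ θ (f ^ 2) = (a : ℂ) + c - b - d := by
  obtain ⟨a, b, c, d, h1, h3, h5⟩ := four_char (isCharacter_fix' hθ hw) (f := ⟨f, hf⟩) (Subtype.ext h4)
  simp only [OneMemClass.coe_one, SubgroupClass.coe_pow, one_mul] at h1 h3 h5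
  rw [sum_xp_eq hw hθ, inv_mul_cancel_left₀ p_ne_zero'] at h1
  rw [sum_mul_xp hw hθ.classFun hf fun e => h2 (pow_mem e 2), inv_mul_cancel_left₀ p_ne_zero'] at h3
  rw [sum_mul_xp hw hθ.classFun (pow_mem hf 2) h2, inv_mul_cancel_left₀ p_ne_zero'] at h5
  exact ⟨a, b, c, d, by exact_mod_cast h1, h3, h5⟩

theorem C2.fix_half {p : ℕ} [hp : Fact p.Prime] {σ : G → ℂ} (hσ : IsCharacter G σ) {w u f : G}
    (h : C2 p w u) (hf : f ∈ normalizer (zpowers w : Set G)) (h4 : f ^ 4 = 1)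
    (h2 : f ^ 2 ∉ centralizer ({w} : Set G)) (h0 : ∀ i : ZMod p, i ≠ 0 → σ (xp w i) = 0)
    (h0' : ∀ i : ZMod p, i ≠ 0 → σ (xp w i * u) = 0) : ∃ a b c d : ℕ,
      σ 1 + σ u = p * (2 * (a + b + c + d : ℕ)) ∧
      σ f + σ (f * u) = 2 * (((a : ℂ) - c) + ((b : ℂ) - d) * Complex.I) ∧
      σ (f ^ 2) + σ (f ^ 2 * u) = 2 * ((a : ℂ) + c - b - d) := by
  have hw := h.d1.ord
  have huC : u ∈ centralizer ({w} : Set G) := mem_centralizer_singleton_iff.2 h.comm.symm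
  have huN := centralizer_le_normalizer_zpowers w huC
  obtain ⟨a, b, c, d, h1, h3, h5⟩ := half_char (isCharacter_fix' hσ hw) (u := ⟨u, huN⟩) (f := ⟨f, hf⟩)
    (by rw [Subgroup.orderOf_mk, h.ord]) (Subtype.ext (h.comm_norm hf)) (Subtype.ext h4)
  have h6 : f ∉ centralizer ({w} : Set G) := fun e => h2 (pow_mem e 2)
  simp only [OneMemClass.coe_one, SubgroupClass.coe_pow, one_mul, coe_mul] at h1 h3 h5
  rw [sum_mul_xp hw hσ.classFun hf h6, sum_mul_xp hw hσ.classFun (mul_mem hf huN)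
    (by rwa [Subgroup.mul_mem_cancel_right _ huC]), inv_mul_cancel_left₀ p_ne_zero',
    inv_mul_cancel_left₀ p_ne_zero'] at h3
  rw [sum_mul_xp hw hσ.classFun (pow_mem hf 2) h2, sum_mul_xp hw hσ.classFun
    (mul_mem (pow_mem hf 2) huN) (by rwa [Subgroup.mul_mem_cancel_right _ huC]),
    inv_mul_cancel_left₀ p_ne_zero', inv_mul_cancel_left₀ p_ne_zero'] at h5
  rw [sum_eq_add_sum_units, sum_eq_add_sum_units, Finset.sum_eq_zero fun (i : (ZMod p)ˣ) _ =>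
    h0 i i.ne_zero, Finset.sum_eq_zero fun (i : (ZMod p)ˣ) _ => by
      rw [← (h.comm_xp _).eq, h0' i i.ne_zero], xp_zero, mul_one, add_zero, add_zero] at h1
  exact ⟨a, b, c, d, by rw [← h1, ← mul_add, mul_inv_cancel_left₀ p_ne_zero'], h3, h5⟩

theorem norm_sq_gauss {z : ℂ} {a b c d : ℕ} (h : z = ((a : ℂ) - c) + ((b : ℂ) - d) * Complex.I) :
    ‖z‖ ^ 2 = ((((a : ℤ) - c) ^ 2 + ((b : ℤ) - d) ^ 2 : ℤ) : ℝ) := by
  rw [h, ← Complex.normSq_eq_norm_sq, Complex.normSq_apply]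
  simp [sq]

theorem mem_four_of_sq {v : ℤ} (h : v ^ 2 ≤ 24) : v ∈ [-4, -3, -2, -1, 0, 1, 2, 3, 4] := by
  have : -5 < v ∧ v < 5 := by constructor <;> nlinarith
  simp only [List.mem_cons, List.not_mem_nil, or_false]
  omega

theorem m12_key3 {v0 v1 v2 v3 m A B A' B' : ℤ} (h0 : v0 % 4 = 0) (h1 : v1 % 4 = 2) (h2 : v2 % 4 = 1)
    (h3 : v3 % 4 = 2) (h4 : m % 4 = 2) (h5 : 1 - v0 - v1 + v2 + v3 - m = 0) (h6 : B % 2 = 0)
    (h7 : (A + B) % 4 = 1) (h8 : B' % 2 = 0) (h9 : (A' + B') % 4 = 1) (h10 : A + A' + 2 * m = v1)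
    (h : 1 + v0 ^ 2 + v1 ^ 2 + v2 ^ 2 + v3 ^ 2 + 2 * m ^ 2 + (A ^ 2 + B ^ 2) + (A' ^ 2 + B' ^ 2) ≤ 24) :
    False := by
  have key : ∀ v0 ∈ [-4, -3, -2, -1, 0, 1, 2, 3, 4], v0 % 4 = (0 : ℤ) →
      ∀ v1 ∈ [-4, -3, -2, -1, 0, 1, 2, 3, 4], v1 % 4 = 2 →
      ∀ v2 ∈ [-4, -3, -2, -1, 0, 1, 2, 3, 4], v2 % 4 = 1 →
      ∀ v3 ∈ [-4, -3, -2, -1, 0, 1, 2, 3, 4], v3 % 4 = 2 →
      ∀ m ∈ [-4, -3, -2, -1, 0, 1, 2, 3, 4], m % 4 = 2 → 1 - v0 - v1 + v2 + v3 - m = 0 →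
      ∀ B ∈ [-4, -3, -2, -1, 0, 1, 2, 3, 4], B % 2 = 0 →
      ∀ A ∈ [-4, -3, -2, -1, 0, 1, 2, 3, 4], (A + B) % 4 = 1 →
      ∀ B' ∈ [-4, -3, -2, -1, 0, 1, 2, 3, 4], B' % 2 = 0 →
      ∀ A' ∈ [-4, -3, -2, -1, 0, 1, 2, 3, 4], (A' + B') % 4 = 1 → A + A' + 2 * m = v1 →
      24 < 1 + v0 ^ 2 + v1 ^ 2 + v2 ^ 2 + v3 ^ 2 + 2 * m ^ 2 + (A ^ 2 + B ^ 2) + (A' ^ 2 + B' ^ 2) := by
    decide +kernel
  have := sq_nonneg v0; have := sq_nonneg v1; have := sq_nonneg v2; have := sq_nonneg v3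
  have := sq_nonneg m; have := sq_nonneg A; have := sq_nonneg B; have := sq_nonneg A'
  have := sq_nonneg B'
  exact absurd h (not_le.2 (key _ (mem_four_of_sq (by linarith)) h0 _ (mem_four_of_sq (by linarith)) h1
    _ (mem_four_of_sq (by linarith)) h2 _ (mem_four_of_sq (by linarith)) h3 _
    (mem_four_of_sq (by linarith)) h4 h5 _ (mem_four_of_sq (by linarith)) h6 _
    (mem_four_of_sq (by linarith)) h7 _ (mem_four_of_sq (by linarith)) h8 _
    (mem_four_of_sq (by linarith)) h9 h10))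

variable [IsSimpleGroup G]

namespace S12

variable (S : S12 G) {u : G} (hu : C2 5 S.w u)
  {f : G} (hf : f * S.w * f⁻¹ = xp S.w (2 : ZMod 5)) (hf4 : f ^ 4 = 1)
include hu

theorem mult_θ {θ : Irr G} (h1 : deg θ = 11) (h2 : iv θ S.w = 1) :
    mult S.w θ.1 (0 : ZMod 5) = 3 := by
  have := hu.mult_w S.top θ
  omega

/-- The values at an involution of the second type. -/
theorem θ_A {θ θ' : Irr G} (h1 : deg θ = 11) (h2 : iv θ S.w = 1) (h1' : deg θ' = 11)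
    (h2' : iv θ' S.w = 1) (hr : ∀ g, ¬ 5 ∣ orderOf g → ¬ 11 ∣ orderOf g →
      θ.1 g + θ'.1 g + 2 * S.E.μ.1 g = (S.E.χ 1).1 g) {t : G} (ht : t * t = 1)
    (hi : t * S.w * t⁻¹ = xp S.w (-1 : ZMod 5)) (hA : S.TA t 4) : iv θ t = -1 ∧ iv θ' t = -1 := by
  have h3 := (S.inv_type hu ht hi).1
  have h4 : t ∉ centralizer ({S.w} : Set G) := by rw [mem_cent_iff S.hw.ord hi]; decide
  have a1 := abs_le_mult θ.2.isCharacter S.hw.ord (mem_norm_of_eq hi) h4 (iv_inv _ ht)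
  have a2 := abs_le_mult θ'.2.isCharacter S.hw.ord (mem_norm_of_eq hi) h4 (iv_inv _ ht)
  have a3 := four_dvd_inv S.perf θ h3 (iv_inv _ ht)
  have a4 := four_dvd_inv S.perf θ' h3 (iv_inv _ ht)
  have a5 := hr t (hu.reg ht) (by rw [h3]; decide)
  simp only [iv_inv _ ht, hA.2.2.1, hA.2.2.2.2.2] at a5
  have a6 : iv θ t + iv θ' t + 2 * 4 = 6 := by exact_mod_cast a5
  rw [S.mult_θ hu h1 h2, abs_le] at a1
  rw [S.mult_θ hu h1' h2', abs_le] at a2
  omega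

include hf hf4

theorem not_TA : ¬ S.TA (f ^ 2) 4 := fun hA => by
  classical
  obtain ⟨-, hμ, h⟩ := S.types_z hu hf hf4
  obtain ⟨a1, a2⟩ := S.z_inv hf hf4
  obtain ⟨b1, b2⟩ := S.zu_inv hu hf hf4
  have hB : S.TB (f ^ 2 * u) := by
    rcases h with ⟨h, -⟩ | ⟨-, h⟩
    · have := h.2.2.2.2.2; have := hA.2.2.2.2.2; omega
    · exact h
  obtain ⟨θ, θ', hne, hθ, -, -, hr⟩ := S.exists_theta hu hμ b1 b2 hB
    (by rwa [mul_assoc, hu.uu, mul_one])
  obtain ⟨c1, c2, -, c3, -⟩ := hθ θ (Or.inl rfl)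
  obtain ⟨c1', c2', -, c3', -⟩ := hθ θ' (Or.inr rfl)
  obtain ⟨c4, c4'⟩ := S.θ_A hu c1 c3 c1' c3' hr a1 a2 hA
  obtain ⟨a, b, c, d, e1, e2, e3, e4⟩ := four_char_det S.perf θ.2.isCharacter hf4
  obtain ⟨a', b', c', d', e1', e2', e3', e4'⟩ := four_char_det S.perf θ'.2.isCharacter hf4
  rw [← deg_eq, c1, Nat.cast_inj] at e1
  rw [← deg_eq, c1', Nat.cast_inj] at e1'
  rw [iv_inv _ a1, c4] at e3
  rw [iv_inv _ a1, c4'] at e3'
  have e5 : (-1 : ℤ) = a + c - b - d := by exact_mod_cast e3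
  have e5' : (-1 : ℤ) = a' + c' - b' - d' := by exact_mod_cast e3'
  have r11 := reg_f hf4
  have r5 : ¬ 5 ∣ orderOf f := fun e => absurd (e.trans (orderOf_dvd_of_pow_eq_one hf4)) (by decide)
  have iμ := S.μ_int r11
  have g := fun i => four_int S.perf (S.E.χ i) hf4 (S.χ_int i f) (iv_inv _ a1)
  have g0 := g 0; have g1 := g 1; have g2 := g 2; have g3 := g 3
  have g4 := four_int S.perf S.E.μ hf4 iμ (iv_inv _ a1)
  obtain ⟨t0, t1, t2, t3, t4, t5⟩ := hA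
  rw [S.d0, t1] at g0; rw [S.d1, t2] at g1; rw [S.d2, t3] at g2; rw [S.d3, t4] at g3
  rw [S.dμ, t5] at g4
  have g5 := S.E.rel_int r11 (fun i => S.χ_int i f) iμ
  rw [Fin.sum_univ_four, S.s0, S.s1, S.s2, S.s3, S.st] at g5
  simp only [show Int.sign (-120) = -1 from rfl, show Int.sign (-54) = -1 from rfl,
    show Int.sign 45 = 1 from rfl, show Int.sign 144 = 1 from rfl,
    show Int.sign (-16) = -1 from rfl] at g5
  have g6 := congrArg Complex.re (hr f r5 r11)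
  rw [e2, e2', iμ, S.χ_int] at g6
  simp at g6
  have g7 : (a : ℤ) - c + (a' - c') + 2 * iv S.E.μ f = iv (S.E.χ 1) f := by
    apply Int.cast_injective (α := ℝ); push_cast; linarith
  have g8 := S.E.norm_le r11 (fun i => S.χ_int i f) iμ {θ, θ'} (by simp [c2, c2'])
  rw [Finset.sum_pair hne, norm_sq_gauss e2, norm_sq_gauss e2', Fin.sum_univ_four] at g8
  have g9 : Nat.card (centralizer ({f} : Set G)) ≤ 24 := by
    have k1 : Nat.card (centralizer ({f} : Set G)) ∣ 240 := (card_dvd_of_le fun g hg =>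
      mem_centralizer_singleton_iff.2 ((show Commute g f from
        mem_centralizer_singleton_iff.1 hg).pow_right 2)).trans t0
    have k2 : ¬ 5 ∣ Nat.card (centralizer ({f} : Set G)) := fun e => by
      obtain ⟨y, hy, hc⟩ := exists_commute_of_dvd e
      have k3 := orderOf_dvd_natCard _ (mem_centralizer_singleton_iff.2 hc)
      rw [D1.card_centralizer_eq S.hw hy, S.cw, orderOf_eq_prime_pow (p := 2) (n := 1)
        (ne_one_of_orderOf (S.inv_type hu a1 a2).1) hf4] at k3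
      exact absurd k3 (by decide)
    have k3 := central_dvd _ iμ
    rw [S.dμ, S.hc] at k3
    have k4 : ∀ C ∈ divs [15, 2, 4], ¬ 5 ∣ C → C ≤ 24 ∨ (95040 / C) % 8 = 4 := by decide +kernel
    refine (k4 _ (mem_divs _ k1) k2).resolve_right fun e => ?_
    generalize 95040 / Nat.card (centralizer ({f} : Set G)) = k at e k3
    obtain ⟨k, rfl⟩ : ∃ j, k = 8 * j + 4 := ⟨k / 8, by omega⟩
    obtain ⟨m, hm⟩ : ∃ j, iv S.E.μ f = 4 * j + 2 := ⟨iv S.E.μ f / 4, by omega⟩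
    rw [hm, show ((8 * k + 4 : ℕ) : ℤ) * (4 * m + 2) = 16 * (2 * k * m + k + m) + 8 by
      push_cast; ring] at k3
    omega
  refine m12_key3 (v0 := iv (S.E.χ 0) f) (v1 := iv (S.E.χ 1) f) (v2 := iv (S.E.χ 2) f)
    (v3 := iv (S.E.χ 3) f) (m := iv S.E.μ f) (A := a - c) (B := b - d) (A' := a' - c')
    (B' := b' - d') (by omega) (by omega) (by omega) (by omega) (by omega) (by omega) (by omega)
    (by omega) (by omega) (by omega) g7 ?_
  have : (Nat.card (centralizer ({f} : Set G)) : ℝ) ≤ 24 := by exact_mod_cast g9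
  apply Int.cast_le (R := ℝ) |>.1
  push_cast at g8 ⊢
  linarith

theorem θ_f (hB : S.TB (f ^ 2)) {θ : Irr G} (h1 : deg θ = 11) (h2 : iv θ S.w = 1)
    (h3 : iv θ (f ^ 2) = 3) : (θ.1 f = 3 ∨ θ.1 f = -1) ∧ S.E.μ.1 f = 0 := by
  obtain ⟨a1, a2⟩ := S.z_inv hf hf4
  have h4 : f ^ 2 ∉ centralizer ({S.w} : Set G) := by rw [mem_cent_iff S.hw.ord a2]; decide
  constructor
  · obtain ⟨a, b, c, d, e1, e2, e3⟩ := fix_four θ.2.isCharacter S.hw.ord (mem_norm_of_eq hf) hf4 h4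
    rw [iv_inv _ a1, h3] at e3
    rw [S.mult_θ hu h1 h2] at e1
    have e4 : (3 : ℤ) = a + c - b - d := by exact_mod_cast e3
    obtain rfl : b = d := by omega
    have e5 : θ.1 f = (a - c : ℤ) := by rw [e2]; simp
    have e6 := four_int S.perf θ hf4 e5 (iv_inv _ a1)
    rw [e5]
    have : (a - c : ℤ) = 3 ∨ (a - c : ℤ) = -1 := by omega
    rcases this with e | e <;> rw [e] <;> simp
  · obtain ⟨a, b, c, d, e1, e2, e3⟩ := fix_four S.E.μ.2.isCharacter S.hw.ord (mem_norm_of_eq hf) hf4 h4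
    have iμ := S.μ_int (reg_f hf4)
    have e6 := four_int S.perf _ hf4 iμ (iv_inv _ a1)
    rw [iv_inv _ a1] at e3
    rw [hB.2.2.2.2.2] at e3 e6
    rw [S.mult_w_μ hu] at e1
    rw [iμ] at e2 ⊢
    rw [S.dμ] at e6
    have e4 : (0 : ℤ) = a + c - b - d := by exact_mod_cast e3
    have := re_im_int e2
    have : iv S.E.μ f = 0 := by omega
    rw [this, Int.cast_zero]

end S12

end H21
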