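import Mathlib
import Cfsg.Agent.H21.Mat12e

/-! Simple groups of order 95040: a subgroup of index twelve. -/

set_option autoImplicit false
set_option linter.unusedSectionVars false
set_option synthInstance.maxSize 4000

open Cfsg H4 H17 H18 Subgroup Module
open scoped ComplexConjugate

namespace H21

variable {G : Type*} [Group G] [Finite G]

theorem exists_norm_sq (θ : Irr G) : ∃ n : Irr G → ℕ, n (irrOne G) = 1 ∧
    ∀ g, θ.1 g * conj (θ.1 g) = ∑ ψ, (n ψ : ℂ) * ψ.1 g := by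
  have := Fintype.ofFinite G
  obtain ⟨n, hn⟩ := (θ.2.isCharacter.mul θ.2.isCharacter.conj).exists_eq_sum_nat
  refine ⟨n, ?_, fun g => by simpa using congrFun hn g⟩
  have h1 := classInner_sum_smul_irr (fun ψ => (n ψ : ℂ)) (irrOne G)
  rw [← hn, classInner_mul_left] at h1
  have h2 : ((irrOne G).1 * fun g => conj (conj (θ.1 g))) = θ.1 := by ext g; simp
  rw [h2, θ.2.inner_self] at h1
  exact_mod_cast h1.symm

open Classical in
theorem EH.decomp {p m : ℕ} [Fact p.Prime] {x : G} (E : EH p m x) {θ : Irr G} (hθ : θ ∉ Bf G p) :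
    ∃ n : Irr G → ℕ, 1 + ∑ i, (E.s i).sign * n (E.χ i) + E.t.sign * n E.μ = 0 ∧ n E.ν = n E.μ ∧
      ∀ g, θ.1 g * conj (θ.1 g) = 1 + ∑ i, (n (E.χ i) : ℂ) * (E.χ i).1 g +
        (n E.μ * E.μ.1 g + n E.ν * E.ν.1 g) + ∑ ψ ∈ (Bf G p)ᶜ, (n ψ : ℂ) * ψ.1 g := by
  classical
  obtain ⟨n, h1, h2⟩ := exists_norm_sq θ
  obtain ⟨h3, h4⟩ := E.proj (n := n) fun g hg => by
    rw [← h2, SC.apply_eq_zero E.sc (mem_Bf.not.1 hθ) hg, zero_mul]
  rw [h1] at h3 h4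
  refine ⟨n, h3, ?_, fun g => ?_⟩
  · have h5 : E.t.sign * n E.ν = E.t.sign * n E.μ := by linarith
    rw [← E.δ_eq] at h5
    rcases E.D.δ_sq with e | e <;> rw [e] at h5 <;> omega
  · rw [h2, ← Finset.sum_add_sum_compl (Bf G p), E.sum_Bf, h1]
    simp

variable [IsSimpleGroup G]

namespace S12

variable (S : S12 G) {u : G} (hu : C2 5 S.w u)
  {f : G} (hf : f * S.w * f⁻¹ = xp S.w (2 : ZMod 5)) (hf4 : f ^ 4 = 1)
include hu hf hf4

theorem exists_three : ∃ (θ : Irr G) (g : G), deg θ = 11 ∧ θ ∉ Bf G 11 ∧ iv θ S.w = 1 ∧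
    g * S.w * g⁻¹ = xp S.w (2 : ZMod 5) ∧ g ^ 4 = 1 ∧ θ.1 g = 3 := by
  classical
  obtain ⟨hA, hμ, h⟩ := S.types_z hu hf hf4
  obtain ⟨hB, hA'⟩ := h.resolve_right fun e => S.not_TA hu hf hf4 e.1
  obtain ⟨a1, a2⟩ := S.z_inv hf hf4
  obtain ⟨b1, b2⟩ := S.zu_inv hu hf hf4
  obtain ⟨c1, c2⟩ := S.fu_pow hu hf hf4
  have c3 := S.fu_act hu hf
  obtain ⟨θ, θ', hne, hθ, hR, v1, hr⟩ := S.exists_theta hu hμ a1 a2 hB hA'
  obtain ⟨d1, d2, d3, d4, d5⟩ := hθ θ (Or.inl rfl)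
  obtain ⟨d1', d2', d3', d4', d5'⟩ := hθ θ' (Or.inr rfl)
  by_contra hc
  push Not at hc
  obtain ⟨e1, m1⟩ := S.θ_f hu hf hf4 hB d1 d4 d5
  have e2 := (S.θ_f hu hf hf4 hB d1' d4' d5').1
  obtain ⟨e3, m2⟩ := S.θ_f hu c3 c2 (c1 ▸ hB) d1 d4 (c1 ▸ d5)
  have e4 := (S.θ_f hu c3 c2 (c1 ▸ hB) d1' d4' (c1 ▸ d5')).1
  replace e1 := e1.resolve_left (hc θ f d1 d2 d4 hf hf4)
  replace e2 := e2.resolve_left (hc θ' f d1' d2' d4' hf hf4)
  replace e3 := e3.resolve_left (hc θ _ d1 d2 d4 c3 c2)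
  replace e4 := e4.resolve_left (hc θ' _ d1' d2' d4' c3 c2)
  have r5 : ∀ g : G, g ^ 4 = 1 → ¬ 5 ∣ orderOf g := fun g hg e =>
    absurd (e.trans (orderOf_dvd_of_pow_eq_one hg)) (by decide)
  have x1 := hr f (r5 f hf4) (reg_f hf4)
  have x2 := hr _ (r5 _ c2) (reg_f c2)
  rw [e1, e2, m1] at x1
  rw [e3, e4, m2] at x2
  obtain ⟨t1, t2⟩ := S.θ_A hu d1 d4 d1' d4' hr b1 b2 hA'
  obtain ⟨-, -, k3, -⟩ := hu.blocks S.top
  have hθu : ∀ ψ : Irr G, deg ψ = 11 → iv ψ S.w = 1 → ψ ∉ Bf G 5 → iv ψ u = -1 := fun ψ h1 h2 h3 => by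
    have := hu.dvd_u S.top ψ
    have := four_dvd_inv S.perf ψ hu.ord (iv_inv _ hu.uu)
    have := abs_iv_lt S.nc (χ := ψ) (fun e => by rw [e, H17.deg_irrOne] at h1; omega)
      (ne_one_of_orderOf hu.ord) (iv_inv _ hu.uu)
    rw [k3 ψ h3] at *
    rw [abs_lt] at this
    omega
  obtain ⟨n, n1, n2, n3⟩ := S.E.decomp d2
  set R := (Bf G 11)ᶜ \ {θ, θ'} with hRd
  set σ : G → ℂ := ∑ ψ ∈ R, (n ψ : ℂ) • ψ.1 with hσd
  have hσ : IsCharacter G σ := isCharacter_sum _ _ fun ψ _ => ψ.2.isCharacter.natCast_smul _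
  have hσ' : ∀ g, σ g = ∑ ψ ∈ R, (n ψ : ℂ) * ψ.1 g := fun g => by simp [σ]
  have n4 : ∀ g, ¬ 11 ∣ orderOf g → σ g = θ.1 g * conj (θ.1 g) - (1 + n (S.E.χ 0) * (S.E.χ 0).1 g +
      n (S.E.χ 1) * (S.E.χ 1).1 g + n (S.E.χ 2) * (S.E.χ 2).1 g + n (S.E.χ 3) * (S.E.χ 3).1 g +
      2 * n S.E.μ * S.E.μ.1 g + n θ * θ.1 g + n θ' * θ'.1 g) := fun g hg => by
    rw [n3, Fin.sum_univ_four, S.E.ν_reg hg, n2, ← Finset.sum_sdiff (s₁ := {θ, θ'})
      (by simp [Finset.insert_subset_iff, d2, d2']), Finset.sum_pair hne, hσ']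
    ring
  have hRw : ∀ i : ZMod 5, i ≠ 0 → σ (xp S.w i) = σ S.w ∧ σ (xp S.w i * u) = σ S.w := fun i hi => by
    simp only [hσ', hu.val_w S.top _ hi, hu.val_wu S.top _ hi, hu.val_w' S.top, true_and]
    refine Finset.sum_congr rfl fun ψ h => ?_
    simp only [hRd, Finset.mem_sdiff, Finset.mem_compl, Finset.mem_insert, Finset.mem_singleton,
      not_or] at h
    rw [hR ψ h.1 h.2.1 h.2.2]
  have hw5 : 5 ∣ orderOf S.w := S.hw.ord.symm.dvd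
  have hwu : 5 ∣ orderOf (S.w * u) := by simpa using hu.dvd_ord (i := 1) one_ne_zero
  have hwu' : ¬ 11 ∣ orderOf (S.w * u) := fun e =>
    S.E.not_dvd_orderOf (q := 5) (by decide) (by decide) _ e hwu
  obtain ⟨D, hD⟩ := hσ.exists_nat_apply_one
  have y1 := n4 1 reg_one
  have y2 := n4 _ S.reg_w
  have y3 := n4 _ hwu'
  have y4 := n4 _ (show ¬ 11 ∣ orderOf (f ^ 2) by rw [(S.inv_type hu a1 a2).1]; decide)
  rw [Fin.sum_univ_four, S.s0, S.s1, S.s2, S.s3, S.st] at n1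
  simp only [show Int.sign (-120) = -1 from rfl, show Int.sign (-54) = -1 from rfl,
    show Int.sign 45 = 1 from rfl, show Int.sign 144 = 1 from rfl,
    show Int.sign (-16) = -1 from rfl] at n1
  simp only [← deg_eq, hD, d1, d1', S.d0, S.d1, S.d2, S.d3, S.dμ, map_natCast] at y1
  have z1 : (D : ℤ) = 121 - (1 + n (S.E.χ 0) * 120 + n (S.E.χ 1) * 54 + n (S.E.χ 2) * 45 +
      n (S.E.χ 3) * 144 + 2 * n S.E.μ * 16 + n θ * 11 + n θ' * 11) := by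
    apply Int.cast_injective (α := ℂ); push_cast at y1 ⊢; linear_combination y1
  have z2 : n (S.E.χ 3) = 0 := by omega
  have v0 := fun g => vanish1 S.hw (χ := S.E.χ 0) (g := g) (by rw [S.d0]; decide)
  have v2 := fun g => vanish1 S.hw (χ := S.E.χ 2) (g := g) (by rw [S.d2]; decide)
  rw [← xp_one S.w (p := 5), (hRw 1 one_ne_zero).2, xp_one, v0 _ hwu, v2 _ hwu] at y3
  rw [v0 _ hw5, v2 _ hw5] at y2
  simp only [hu.val_w' S.top, hu.val_wu' S.top, k3 _ d3, k3 _ d3', k3 _ hμ, k3 _ S.b1, d4, d4', v1,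
    S.μ_w hu, z2, map_intCast] at y2 y3
  have z3 : (n (S.E.χ 1) : ℤ) = 2 * n S.E.μ + n θ + n θ' := by
    apply Int.cast_injective (α := ℂ); push_cast at y2 y3 ⊢; linear_combination (y3 - y2) / 2
  simp only [iv_inv _ a1, hB.2.1, hB.2.2.1, hB.2.2.2.1, hB.2.2.2.2.1, hB.2.2.2.2.2, d5, d5',
    map_intCast] at y4
  have z4 : n (S.E.χ 0) = 0 := by
    by_contra e
    have e0 : D = 0 ∧ n (S.E.χ 0) = 1 ∧ n (S.E.χ 1) = 0 ∧ n (S.E.χ 2) = 0 ∧ n θ = 0 ∧ n θ' = 0 := by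
      omega
    rw [hσ.eq_zero_of_apply_one (by rw [hD, e0.1, Nat.cast_zero])] at y4
    simp only [e0] at y4
    norm_num at y4
  have z5 : D = 55 ∧ n (S.E.χ 1) = 1 ∧ n (S.E.χ 2) = 0 ∧ n S.E.μ = 0 ∧ n θ + n θ' = 1 := by omega
  obtain ⟨rfl, z6, z7, z8, z9⟩ := z5
  have z10 : (n θ : ℂ) + n θ' = 1 := by exact_mod_cast z9
  have y5 := n4 u (by rw [hu.ord]; decide)
  have y6 := n4 _ (show ¬ 11 ∣ orderOf (f ^ 2 * u) by rw [(S.inv_type hu b1 b2).1]; decide)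
  have y7 := n4 f (reg_f hf4)
  have y8 := n4 _ (reg_f c2)
  simp only [iv_inv _ hu.uu, iv_inv _ b1, t1, t2, hθu _ d1 d4 d3, hθu _ d1' d4' d3', hA.2.2.1,
    hA'.2.2.1, map_intCast, e1, e2, e3, e4, ← x1, ← x2] at y5 y6 y7 y8
  simp only [z2, z4, z6, z7, z8] at y2 y4 y5 y6 y7 y8
  have y9 : σ S.w = 0 := by push_cast at y2; linear_combination y2 - z10
  obtain ⟨a, b, c, d, w1, w2, w3⟩ := hu.fix_half hσ (mem_norm_of_eq hf) hf4
    (by rw [mem_cent_iff S.hw.ord a2]; decide) (fun i hi => by rw [(hRw i hi).1, y9])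
    (fun i hi => by rw [(hRw i hi).2, y9])
  have w4 : ((3 : ℤ) : ℂ) = ((a : ℂ) - c) + ((b : ℂ) - d) * Complex.I := by
    simp only [map_neg, map_one] at y7 y8
    push_cast at y7 y8 ⊢
    linear_combination (w2 - y7 - y8 - 2 * z10) / 2
  have w5 : (5 : ℤ) = a + b + c + d := by
    apply Int.cast_injective (α := ℂ); push_cast at w1 hD y5 ⊢
    linear_combination (w1 - hD - y5 - z10) / 10
  have w6 : (-3 : ℤ) = a + c - b - d := by
    apply Int.cast_injective (α := ℂ); push_cast at w3 y4 y6 ⊢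
    linear_combination (w3 - y4 - y6 + 2 * z10) / 2
  have := re_im_int w4
  omega

end S12

end H21
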