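import Mathlib
import Cfsg.Agent.H21.Mat12f
import Cfsg.Agent.H21.Mat11b

/-! Simple groups of order 95040: identification on twelve points. -/

set_option autoImplicit false
set_option linter.unusedSectionVars false
set_option synthInstance.maxSize 4000

open Cfsg H4 H17 H18 Subgroup Module

namespace H21

def s12 : Equiv.Perm Ω11 := tblP [0, 1, 6, 9, 5, 3, 10, 2, 8, 4, 7, 11]
  [0, 1, 7, 5, 9, 4, 2, 10, 8, 3, 6, 11] (by decide +kernel)

def t12 : Equiv.Perm Ω11 := tblP [11, 8, 3, 2, 10, 7, 9, 5, 1, 6, 4, 0]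
  [11, 8, 3, 2, 10, 7, 9, 5, 1, 6, 4, 0] (by decide +kernel)

/-- The Mathieu group on twelve points. -/
def X12 : Subgroup (Equiv.Perm Ω11) := closure {shP, mlP u3, s12, t12}

def certs12 : List (List ℕ × Ω11 × ℕ) := [([0, 0, 0, 2, 0, 2], some 1, 7), ([0, 0, 1, 2], some 0, 7),
  ([0, 0, 1, 2], some 1, 7), ([0, 0, 2], some 0, 7), ([0, 0, 2], some 1, 7),
  ([0, 0, 2, 0, 2], some 1, 7), ([0, 0, 2, 1], some 0, 7), ([0, 0, 2, 1], some 1, 7),
  ([0, 0, 2, 1, 1], some 0, 7), ([0, 1, 0, 2, 0, 2], some 0, 7), ([0, 1, 2], some 0, 7),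
  ([0, 1, 2], some 2, 7), ([0, 1, 2, 0, 2], some 0, 7), ([0, 1, 2, 0, 2], some 1, 7),
  ([0, 1, 2, 1], some 0, 7), ([0, 2], some 0, 7), ([0, 2], some 2, 7), ([0, 2], some 4, 7),
  ([0, 2, 1], some 0, 7), ([0, 2, 1], some 2, 7), ([0, 2, 1], some 4, 7),
  ([0, 2, 1, 1], some 0, 7), ([0, 2, 2, 2], some 0, 7)]

theorem chk12 : ∀ B ∈ [none, some 0], ∀ C ∈ pts11, ∀ D ∈ pts11,
    (pts11.map (cand (mlF 9) lg11 rp11 [none, B, C, D] none)).Nodup →
    (certs12.any (Bad [shF, mlF 3, cand (mlF 9) lg11 rp11 [none, B, C, D] none] none 7920 95040) ||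
      goodF s12 (cand (mlF 9) lg11 rp11 [none, B, C, D] none)) = true := by
  decide +kernel

theorem chk12' : ∀ B ∈ [none, some 0], ∀ C ∈ pts11, ∀ D ∈ pts11,
    (pts11.map (cand (mlF 3) lg11 rp11 [some 0, B, C, D] (some 0))).Nodup →
    (∀ y ∈ pts11, cand (mlF 3) lg11 rp11 [some 0, B, C, D] (some 0) (s12 y) =
      s12 (cand (mlF 3) lg11 rp11 [some 0, B, C, D] (some 0) y)) →
    (Bad [shF, mlF 3, s12, cand (mlF 3) lg11 rp11 [some 0, B, C, D] (some 0)] none 7920 95040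
      ([0, 2, 1, 3], some 0, 7) ||
      eqF (cand (mlF 3) lg11 rp11 [some 0, B, C, D] (some 0)) t12) = true := by
  decide +kernel

variable {G : Type*} [Group G] [Finite G] [IsSimpleGroup G]

theorem S12.sub (S : S12 G) {u : G} (hu : C2 5 S.w u) {g : G}
    (hg : g * S.w * g⁻¹ = xp S.w (2 : ZMod 5)) (hg4 : g ^ 4 = 1) {Y : Subgroup G} (hx : S.x ∈ Y)
    (hw : S.w ∈ Y) (hgY : g ∈ Y) : Nat.card Y = 7920 ∧ u ∉ Y ∨ Y = ⊤ := by
  obtain ⟨n, e1, e2⟩ := D1.card_sub' S.E.sc.d1 (normalizer_le S.E.sc.ord (a := u3) S.hxw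
    (by rw [S.E.he, orderOf_u3]) (by rw [S.E.sc.cent]; exact zpowers_le.2 hx) hw)
  obtain ⟨m, e3, e4⟩ := D1.card_sub S.hw hw
  have e5 := card_subgroup_dvd_card Y
  have hN : Nat.card (normalizer (zpowers S.w : Set G)) = 40 := by
    rw [card_normalizer_zpowers S.hw.ord, S.cw, S.aw]
  rw [S.E.sc.card_normalizer, S.E.he] at e2
  have e6 := card_dvd_of_le (inf_le_left : normalizer (zpowers S.w : Set G) ⊓ Y ≤ _)
  have e7 := orderOf_dvd_natCard (normalizer (zpowers S.w : Set G) ⊓ Y) ⟨le_normalizer (mem_zpowers _), hw⟩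
  have e8 := orderOf_dvd_natCard (normalizer (zpowers S.w : Set G) ⊓ Y) ⟨mem_norm_of_eq hg, hgY⟩
  rw [orderOf_eq_prime_pow (p := 2) (n := 1) (ne_one_of_orderOf
    (S.inv_type hu (S.z_inv hg hg4).1 (S.z_inv hg hg4).2).1) hg4] at e8
  rw [S.hw.ord] at e7
  rw [hN] at e6
  have e9 : u ∈ Y → Nat.card (normalizer (zpowers S.w : Set G) ⊓ Y : Subgroup G) = 40 := fun h => by
    rw [inf_eq_left.2 (normalizer_le S.hw.ord (a := u2) hg (by rw [S.aw, orderOf_u2]) (fun y hy => by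
      obtain ⟨i, rfl | rfl⟩ := hu.mem hy
      exacts [pow_mem hw _, mul_mem (pow_mem hw _) h]) hgY), hN]
  generalize Nat.card (normalizer (zpowers S.w : Set G) ⊓ Y : Subgroup G) = c at e4 e6 e7 e8 e9
  have e10 : c = 20 ∨ c = 40 := by
    have := Nat.le_of_dvd (by norm_num) e6
    interval_cases c <;> simp_all
  rw [S.hc, e2] at e5
  have e11 : ∀ n ∈ divs [63, 26], n % 11 = 1 → n = 1 ∨ n = 12 ∨ n = 144 ∨ n = 1728 := by
    decide +kernel
  rcases e11 n (mem_divs _ (Nat.dvd_of_mul_dvd_mul_left (k := 55) (by norm_num) e5)) e1 with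
    rfl | rfl | rfl | rfl
  · rcases e10 with rfl | rfl <;> omega
  · rcases e10 with rfl | rfl <;> omega
  · exact Or.inl ⟨e2, fun h => by rw [e9 h] at e4; omega⟩
  · exact Or.inr (eq_top_of_card_eq _ (by rw [e2, S.hc]))

theorem m12_iso (hc : Nat.card G = 95040) : Nonempty (G ≃* X12) := by
  obtain ⟨S⟩ := nonempty_S12 hc
  obtain ⟨u, hu⟩ := exists_C2 S.hw (by decide) S.cw
  obtain ⟨f, hf, hf4⟩ := S.exists_f hu
  obtain ⟨θ, g, d1, d2, d3, hg, hg4, d4⟩ := S.exists_three hu hf hf4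
  have hx := S.E.sc.ord
  have hm : mult S.x θ.1 (0 : ZMod 11) = 1 := by
    have := mult_of_const' hx θ (c := 0) fun g hg => by
      rw [SC.apply_eq_zero S.E.sc (mem_Bf.not.1 d2) hg, Int.cast_zero]
    rw [d1] at this
    omega
  obtain ⟨K, hK, hxK, hKs⟩ := exists_stab' (χ := θ) (fun e => by
    rw [e, H17.deg_irrOne] at d1; omega) hx (by rw [hm]; decide)
  have hwK : S.w ∈ K := hKs 11 _ _ hx hxK (mem_norm_of_eq S.hxw) S.w_notMem
    (by rw [hm, hu.val_w' S.top, d3]; norm_num)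
  have hgK : g ∈ K := hKs 5 _ _ S.hw.ord hwK (mem_norm_of_eq hg)
    (by rw [mem_cent_iff S.hw.ord hg]; decide) (by rw [S.mult_θ hu d1 d3, d4]; norm_num)
  obtain ⟨hKc, huK⟩ := (S.sub hu hg hg4 hxK hwK hgK).resolve_right hK
  obtain ⟨φ, hφ, h0, h1, h2⟩ := exists_label (p := 11)
    (index_eq_of_card hKc (b := 12) (by rw [hc])) hx hxK hwK (by decide) S.hxw
  have hφx := eq_shP ((h0 _).2 hxK) h1
  have hφw : φ S.w = mlP u3 := eq_mlP ((h0 _).2 hwK) h2
  have hb : ∀ ψ : G →* Equiv.Perm Ω11, (∀ g, ψ g none = none ↔ g ∈ K) → ∀ fs : List (Ω11 → Ω11),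
      (∀ F ∈ fs, ∃ g ∈ ψ.range, (g : Ω11 → Ω11) = F) → ∀ c, Bad fs none 7920 95040 c ≠ true :=
    fun ψ hψ fs hfs c => by
      refine not_bad hfs ?_ ?_ c
      · rintro _ ⟨g, rfl⟩ hg
        exact hKc ▸ pow_card_of_hom ψ ((hψ g).1 hg)
      · rintro _ ⟨g, rfl⟩
        rw [← map_pow, ← hc, pow_card_eq_one', map_one]
  obtain ⟨A, -, B, hB, C, hC, D, hD, hA, h3, h4⟩ := cand_of S.hw.ord hφw hg (k := 9) (by decide)
    (by decide)
  obtain rfl : none = A := ((h0 _).2 hgK).symm.trans hA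
  have h5 := chk12 B hB C hC D hD h4
  rw [Bool.or_eq_true, List.any_eq_true, ← h3] at h5
  rcases h5 with ⟨c, -, h5⟩ | h5
  · exact absurd h5 (hb φ h0 _ (mem_range3 hφx hφw rfl) c)
  obtain ⟨ψ, hψ, h9, h6, h7, j, h8⟩ := iso_of_goodF hφ hφx hφw h5
  have h10 : ∀ g, ψ g none = none ↔ g ∈ K := fun g => (h9 g).trans (h0 g)
  have hs : ψ (g * (S.w ^ j)⁻¹) = s12 := by
    rw [map_mul, map_inv, map_pow, h8, h7, mul_inv_cancel_right]
  obtain ⟨A, hA, B, hB, C, hC, D, hD, hA', h3, h4⟩ := cand_of S.hw.ord h7 (f := u) (j := 1)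
    (by rw [xp_one, ← hu.comm.eq, mul_inv_cancel_right]) (k := 3) (by decide) (by decide)
  obtain rfl : some 0 = A := by
    simp only [List.mem_cons, List.not_mem_nil, or_false] at hA
    exact (hA.resolve_left fun e => huK ((h10 u).1 (hA'.trans e))).symm
  have h11 := chk12' B hB C hC D hD h4 fun y _ => by
    rw [← h3, ← hs, ← Equiv.Perm.mul_apply, ← Equiv.Perm.mul_apply, ← map_mul, ← map_mul,
      ((S.fu_comm hu hg).mul_left (hu.comm.pow_left j).inv_left).eq]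
  have hsh : shP ∈ ψ.range := by rcases h6 with e | e <;> exact ⟨_, e⟩
  rw [Bool.or_eq_true, ← h3] at h11
  rcases h11 with h11 | h11
  · refine absurd h11 (hb ψ h10 _ ?_ _)
    simp only [List.mem_cons, List.not_mem_nil, or_false]
    rintro F (rfl | rfl | rfl | rfl)
    exacts [⟨_, hsh, rfl⟩, ⟨_, ⟨_, h7⟩, rfl⟩, ⟨_, ⟨_, hs⟩, rfl⟩, ⟨_, ⟨u, rfl⟩, rfl⟩]
  have ht : ψ u = t12 := DFunLike.coe_injective (eq_of_eqF h11)
  have hgen : closure {S.x, S.w, g, u} = ⊤ :=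
    (S.sub hu hg hg4 (subset_closure (by simp)) (subset_closure (by simp))
      (subset_closure (by simp))).resolve_left fun e => e.2 (subset_closure (by simp))
  have m1 : shP ∈ X12 := subset_closure (by simp)
  have m2 : mlP u3 ∈ X12 := subset_closure (by simp)
  have m3 : s12 ∈ X12 := subset_closure (by simp)
  have m4 : t12 ∈ X12 := subset_closure (by simp)
  refine iso_of_le_range hψ hgen ?_ ((closure_le _).2 ?_)
  · rintro _ ⟨y, rfl | rfl | rfl | rfl, rfl⟩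
    · rcases h6 with e | e
      · rwa [e]
      · rw [map_inv, inv_eq_iff_eq_inv] at e
        rw [e]; exact inv_mem m1
    · rwa [h7]
    · rw [h8]; exact mul_mem m3 (pow_mem m2 j)
    · rwa [ht]
  · rintro _ (rfl | rfl | rfl | rfl)
    exacts [hsh, ⟨_, h7⟩, ⟨_, hs⟩, ⟨_, ht⟩]

theorem m12_unique {G : Type*} [Group G] [Finite G] {H : Type*} [Group H] [Finite H] (hG : IsM12 G)
    (hH : IsM12 H) : Nonempty (G ≃* H) := by
  have := hG.1
  have := hH.1
  obtain ⟨e⟩ := m12_iso hG.2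
  obtain ⟨e'⟩ := m12_iso hH.2
  exact ⟨e.trans e'.symm⟩

end H21
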