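import Mathlib

/-! The Feit–Higman theorem: computations in the Hecke algebra of a dihedral group. -/

set_option autoImplicit false

namespace H21
namespace FH

open Finset

section Alg

variable {A : Type*} [Ring A] [Algebra ℂ A]

/-- The alternating products of two Hecke generators. -/
structure Hk (m : ℕ) (a b : ℂ) (t1 t2 : A) (X Y : ℕ → A) : Prop where
  zero : X 0 = Y 0
  top : X m = Y m
  up1 : ∀ k < m, t1 * Y k = X (k + 1)
  up2 : ∀ k < m, t2 * X k = Y (k + 1)
  dn1 : ∀ k < m, t1 * X (k + 1) = (a - 1) • X (k + 1) + a • Y k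
  dn2 : ∀ k < m, t2 * Y (k + 1) = (b - 1) • Y (k + 1) + b • X k
  unitX : ∀ k ≤ m, X 0 * X k = X k
  unitY : ∀ k ≤ m, Y 0 * Y k = Y k

/-- the candidate eigenvector -/
def El (m : ℕ) (c : ℕ → ℂ) (X Y : ℕ → A) : A := ∑ k ∈ range m, c (k + 1) • (Y k + X (k + 1))

variable {m : ℕ} {a b : ℂ} {t1 t2 : A} {X Y : ℕ → A}

theorem Hk.symm (h : Hk m a b t1 t2 X Y) : Hk m b a t2 t1 Y X :=
  ⟨h.zero.symm, h.top.symm, h.up2, h.up1, h.dn2, h.dn1, h.unitY, h.unitX⟩

theorem Hk.t1_El (h : Hk m a b t1 t2 X Y) (c : ℕ → ℂ) : t1 * El m c X Y = a • El m c X Y := by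
  rw [El, mul_sum, smul_sum]
  refine sum_congr rfl fun k hk => ?_
  rw [mul_smul_comm, mul_add, h.up1 k (mem_range.mp hk), h.dn1 k (mem_range.mp hk)]
  module

theorem Hk.unit_El (h : Hk m a b t1 t2 X Y) (c : ℕ → ℂ) : X 0 * El m c X Y = El m c X Y := by
  rw [El, mul_sum]
  refine sum_congr rfl fun k hk => ?_
  have := mem_range.mp hk
  rw [mul_smul_comm, mul_add, h.unitX _ (by omega), h.zero, h.unitY _ (by omega)]

theorem Hk.t2_El (h : Hk m a b t1 t2 X Y) {c d : ℕ → ℂ} {μ : ℂ} (h0 : c 0 = c 1)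
    (h1 : c (m + 1) = c m) (hd : ∀ k, μ * d (k + 1) = c k + b * c (k + 2)) :
    t2 * El m c X Y + El m c X Y = μ • El m d Y X := by
  have e1 : El m c X Y = ∑ k ∈ range m, (c k • X k + c (k + 2) • Y (k + 1)) := by
    have s1 := (sum_range_succ (fun k => c k • X k) m).symm.trans (sum_range_succ' _ m)
    have s2 := (sum_range_succ (fun k => c (k + 1) • Y k) m).symm.trans (sum_range_succ' _ m)
    simp only [El, smul_add, sum_add_distrib]
    rw [h1, ← h.top, zero_add, ← h0, ← h.zero] at s2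
    linear_combination (norm := module) s2 - s1
  rw [e1, El, mul_sum, smul_sum, ← sum_add_distrib]
  refine sum_congr rfl fun k hk => ?_
  rw [mul_add, mul_smul_comm, mul_smul_comm, h.up2 k (mem_range.mp hk), h.dn2 k (mem_range.mp hk),
    smul_smul μ, hd]
  module

theorem Hk.El_sq (h : Hk m a b t1 t2 X Y) {c d : ℕ → ℂ} {μ : ℂ} (hμ : μ ≠ 0) (c0 : c 0 = 1)
    (c1 : c 1 = 1) (cm : c (m + 1) = c m) (d0 : d 0 = d 1) (d2 : d 2 = d 1) (dm : d (m + 1) = d m)
    (hd : ∀ k, d (k + 1) = c k + b * c (k + 2)) (hc : ∀ k, μ * c (k + 1) = d k + a * d (k + 2)) :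
    El m c X Y * El m c X Y =
      ((a + 1) * ∑ k ∈ range m, a ^ (k / 2) * b ^ ((k + 1) / 2) * c (k + 1) ^ 2) • El m c X Y := by
  obtain ⟨E, hE⟩ : ∃ E, E = El m c X Y := ⟨_, rfl⟩
  obtain ⟨F, hF⟩ : ∃ F, F = El m d Y X := ⟨_, rfl⟩
  have e1 : t1 * E = a • E := hE ▸ h.t1_El c
  have e2 : t2 * F = b • F := hF ▸ h.symm.t1_El d
  have e3 : t2 * E + E = F := by
    rw [hE, hF, h.t2_El (μ := 1) (d := d) (c0.trans c1.symm) cm fun k => by rw [one_mul, hd], one_smul]
  have e4 : t1 * F + F = μ • E := by rw [hE, hF, h.symm.t2_El d0 dm hc]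
  have e5 : X 0 * E = E := hE ▸ h.unit_El c
  have e6 : μ = (a + 1) * d 1 := by
    have := hc 0
    rw [zero_add, zero_add, c1, d0, d2] at this
    linear_combination this
  have key : ∀ k < m,
      t1 * (Y k * E) + Y k * E = ((a + 1) * (a ^ (k / 2) * b ^ ((k + 1) / 2)) * c (k + 1)) • E ∧
      t1 * (X k * E) + X k * E = ((a + 1) * (a ^ ((k + 1) / 2) * b ^ (k / 2)) * c k) • E ∧
      t2 * (X k * E) + X k * E = ((a + 1) * (a ^ ((k + 1) / 2) * b ^ (k / 2)) * d (k + 1) / μ) • F ∧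
      t2 * (Y k * E) + Y k * E = ((a + 1) * (a ^ (k / 2) * b ^ ((k + 1) / 2)) * d k / μ) • F := by
    intro k
    induction k with
    | zero =>
      intro _
      have : (a + 1) * d 1 / μ = 1 := by rw [← e6, div_self hμ]
      simp only [← h.zero, e5, e1, e3, c0, c1, d0, zero_add, Nat.zero_div, Nat.reduceDiv, pow_zero,
        mul_one, this, one_smul, add_smul, and_self]
    | succ k ih =>
      intro hk
      obtain ⟨i1, i2, i3, i4⟩ := ih (by omega)
      have x1 : X (k + 1) * E =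
          ((a + 1) * (a ^ (k / 2) * b ^ ((k + 1) / 2)) * c (k + 1)) • E - Y k * E := by
        rw [← h.up1 k (by omega), mul_assoc, ← i1, add_sub_cancel_right]
      have y1 : Y (k + 1) * E =
          ((a + 1) * (a ^ ((k + 1) / 2) * b ^ (k / 2)) * d (k + 1) / μ) • F - X k * E := by
        rw [← h.up2 k (by omega), mul_assoc, ← i3, add_sub_cancel_right]
      have p : (k + 1 + 1) / 2 = k / 2 + 1 := by omega
      rw [x1, y1, p]
      simp only [mul_sub, mul_smul_comm, e1, e2]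
      rw [eq_sub_of_add_eq i1, eq_sub_of_add_eq i2, eq_sub_of_add_eq i3, eq_sub_of_add_eq i4,
        eq_sub_of_add_eq e3, eq_sub_of_add_eq e4]
      have f1 := hd k
      have f2 := hc k
      refine ⟨?_, ?_, ?_, ?_⟩
      · match_scalars
        · field_simp
          rw [f1]; ring
        all_goals ring
      · match_scalars <;> ring
      · match_scalars
        · field_simp
          linear_combination (a + 1) * a ^ (k / 2) * b ^ ((k + 1) / 2) * f2
        all_goals ring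
      · match_scalars <;> ring
  rw [← hE]
  nth_rewrite 1 [hE]
  rw [El, sum_mul, mul_sum, sum_smul]
  refine sum_congr rfl fun k hk => ?_
  rw [smul_mul_assoc, add_mul, ← h.up1 k (mem_range.mp hk), mul_assoc, add_comm (Y k * E),
    (key k (mem_range.mp hk)).1, smul_smul]
  congr 1
  ring

end Alg

theorem rat_of_sq {ι : Type*} [Fintype ι] [DecidableEq ι] {E : Matrix ι ι ℂ} {c : ℂ}
    (h : E * E = c • E) {r : ℚ} (hr : r ≠ 0) (ht : E.trace = r) : ∃ q : ℚ, c = q := by
  by_cases hc : c = 0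
  · exact ⟨0, by simp [hc]⟩
  have h1 : IsIdempotentElem (Matrix.toLin' (c⁻¹ • E)) := by
    rw [IsIdempotentElem, Module.End.mul_eq_comp, ← Matrix.toLin'_mul, smul_mul_assoc,
      mul_smul_comm, h, smul_smul c⁻¹ c, inv_mul_cancel₀ hc, one_smul]
  have h2 := (LinearMap.IsIdempotentElem.isProj_range _ h1).trace
  rw [Matrix.trace_toLin'_eq, Matrix.trace_smul, ht, smul_eq_mul] at h2
  obtain ⟨n, hn⟩ : ∃ n : ℕ, c⁻¹ * r = n := ⟨_, h2⟩
  have hn0 : (n : ℂ) ≠ 0 := by rw [← hn]; exact mul_ne_zero (inv_ne_zero hc) (by exact_mod_cast hr)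
  refine ⟨r / n, ?_⟩
  push_cast
  field_simp at hn ⊢
  linear_combination -hn

end FH
end H21
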