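import Mathlib
import Cfsg.Agent.H21.FeitHig1

/-! The Feit–Higman theorem: rationality of the multiplicities. -/

set_option autoImplicit false

namespace H21
namespace FH

open Finset

theorem sum_eta (α β ζ ξ : ℂ) (h : ζ * ξ = 1) (n : ℕ) :
    (ζ ^ 2 - 1) * ∑ k ∈ range n, (α * ζ ^ k + β * ξ ^ k) ^ 2 =
      α ^ 2 * (ζ ^ (2 * n) - 1) - β ^ 2 * ζ ^ 2 * (ξ ^ (2 * n) - 1) +
        2 * n * α * β * (ζ ^ 2 - 1) := by
  induction n with
  | zero => simp
  | succ n ih =>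
    have h1 : ζ ^ n * ξ ^ n = 1 := by rw [← mul_pow, h, one_pow]
    rw [sum_range_succ, mul_add, ih]
    push_cast
    linear_combination (2 * α * β * (ζ ^ 2 - 1)) * h1 + β ^ 2 * ξ ^ (2 * n) * (ζ * ξ + 1) * h

theorem sum_even (a b : ℂ) (u η : ℕ → ℂ) (h : ∀ k, η k = (a * b) ^ k * u k ^ 2) (n : ℕ) :
    a * ∑ k ∈ range (2 * n), a ^ (k / 2) * b ^ ((k + 1) / 2) * u ((k + 1) / 2) ^ 2 =
      (a + 1) * ∑ k ∈ range n, η k + η n - η 0 := by
  induction n with
  | zero => simp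
  | succ n ih =>
    rw [show 2 * (n + 1) = 2 * n + 1 + 1 by ring, sum_range_succ, sum_range_succ, mul_add, mul_add,
      ih, sum_range_succ, show 2 * n / 2 = n by omega, show (2 * n + 1) / 2 = n by omega,
      show (2 * n + 1 + 1) / 2 = n + 1 by omega, h n, h (n + 1)]
    ring

variable {ι : Type*} [Fintype ι] [DecidableEq ι] {m : ℕ} {a b : ℂ} {t1 t2 : Matrix ι ι ℂ}
  {X Y : ℕ → Matrix ι ι ℂ}

theorem Hk.rat (h : Hk m a b t1 t2 X Y) (hm : 0 < m) {r : ℚ} (hr : r ≠ 0) (tr0 : (X 0).trace = r)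
    (trX : ∀ k < m, (X (k + 1)).trace = 0) (trY : ∀ k < m, (Y (k + 1)).trace = 0)
    (ha : a ≠ 0) (ha1 : a + 1 ≠ 0) (hb : b ≠ 0) {σ ζ ξ : ℂ} (hσ : σ ^ 2 = a * b) (hξ : ζ * ξ = 1)
    (hζ : ζ ^ m = 1) (hζ2 : ζ ^ 2 ≠ 1) (hpar : Even m ∨ (b = a ∧ σ = a)) :
    ∃ q : ℚ, (a * b + 1 - σ * (ζ + ξ)) * (a + b + σ * (ζ + ξ)) =
      q * (4 * (a * b) - (σ * (ζ + ξ)) ^ 2) := by
  by_cases hμ : a + b + σ * (ζ + ξ) = 0
  · exact ⟨0, by simp [hμ]⟩
  have hσ0 : σ ≠ 0 := by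
    rintro rfl
    exact mul_ne_zero ha hb (by rw [← hσ]; simp)
  have hd : ζ - ξ ≠ 0 := fun h' => hζ2 (by linear_combination ζ * h' + hξ)
  have hz1 : ζ ^ 2 - 1 ≠ 0 := sub_ne_zero.mpr hζ2
  have hξm : ξ ^ m = 1 := by
    have : ζ ^ m * ξ ^ m = 1 := by rw [← mul_pow, hξ, one_pow]
    rwa [hζ, one_mul] at this
  obtain ⟨α, β, h1, h2⟩ : ∃ α β : ℂ, α + β = 1 ∧
      (a + 1) * b * (α * ζ + β * ξ) = σ * (σ * (ζ + ξ) + b - 1) := by
    refine ⟨(σ * (σ * (ζ + ξ) + b - 1) / ((a + 1) * b) - ξ) / (ζ - ξ),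
      (ζ - σ * (σ * (ζ + ξ) + b - 1) / ((a + 1) * b)) / (ζ - ξ), ?_, ?_⟩
    · field_simp; ring
    · field_simp; ring
  let u : ℕ → ℂ := fun k => (α * ζ ^ k + β * ξ ^ k) / σ ^ k
  let w : ℕ → ℂ := fun k => match k with
    | 0 => u 0 + b * u 1
    | k + 1 => u k + b * u (k + 1)
  have u0 : u 0 = 1 := by simp [u, h1]
  have u1 : (a + 1) * b * u 1 = σ * (ζ + ξ) + b - 1 := by
    simp only [u, pow_one]
    field_simp
    linear_combination h2
  have urec : ∀ k, σ * (ζ + ξ) * u (k + 1) = u k + a * b * u (k + 2) := fun k => by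
    simp only [u, ← hσ]
    field_simp
    linear_combination σ ^ 3 * σ ^ (k * 2) * (α * ζ ^ k + β * ξ ^ k) * hξ
  have hη : ∀ k, (α * ζ ^ k + β * ξ ^ k) ^ 2 = (a * b) ^ k * u k ^ 2 := fun k => by
    simp only [u, ← hσ]
    field_simp
    ring
  have hαβ : (a + 1) ^ 2 * (α * β) * (4 * (a * b) - (σ * (ζ + ξ)) ^ 2) =
      a * ((a * b + 1 - σ * (ζ + ξ)) * (a + b + σ * (ζ + ξ))) := by
    have e1 : α * β * (4 - (ζ + ξ) ^ 2) =
        (α * ζ + β * ξ) ^ 2 - (ζ + ξ) * (α * ζ + β * ξ) + 1 := by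
      have : β = 1 - α := by linear_combination h1
      subst this
      linear_combination (4 * α ^ 2 - 4 * α + 1) * hξ
    apply mul_left_cancel₀ (pow_ne_zero 2 hb)
    have e2 : b ^ 2 * ((a + 1) ^ 2 * (α * β) * (4 * (a * b) - (σ * (ζ + ξ)) ^ 2)) =
        σ ^ 2 * (((a + 1) * b * (α * ζ + β * ξ)) ^ 2 -
          (ζ + ξ) * ((a + 1) * b) * ((a + 1) * b * (α * ζ + β * ξ)) + ((a + 1) * b) ^ 2) := by
      linear_combination (σ ^ 2 * ((a + 1) * b) ^ 2) * e1 - 4 * b ^ 2 * (a + 1) ^ 2 * (α * β) * hσ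
    rw [e2, h2]
    linear_combination ((σ ^ 2 + a * b) * (σ * (ζ + ξ) + b - 1) ^ 2 -
      (σ * (ζ + ξ)) * ((a + 1) * b) * (σ * (ζ + ξ) + b - 1) + ((a + 1) * b) ^ 2) * hσ
  have hend : (u ((m + 1) / 2) = u (m / 2) ∧ w ((m + 1 + 1) / 2) = w ((m + 1) / 2)) ∧
      a * ∑ k ∈ range m, a ^ (k / 2) * b ^ ((k + 1) / 2) * u ((k + 1) / 2) ^ 2 =
        (a + 1) * (m * (α * β)) := by
    rcases Nat.even_or_odd' m with ⟨n, rfl | rfl⟩
    · have e1 : ζ ^ n = ξ ^ n := by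
        have : ζ ^ n * ξ ^ n = 1 := by rw [← mul_pow, hξ, one_pow]
        linear_combination (-ζ ^ n) * this + ξ ^ n * hζ
      refine ⟨⟨by rw [show (2 * n + 1) / 2 = 2 * n / 2 by omega], ?_⟩, ?_⟩
      · obtain ⟨n, rfl⟩ : ∃ k, n = k + 1 := ⟨n - 1, by omega⟩
        rw [show (2 * (n + 1) + 1 + 1) / 2 = n + 1 + 1 by omega,
          show (2 * (n + 1) + 1) / 2 = n + 1 by omega]
        have e2 : u (n + 1) = ζ ^ (n + 1) / σ ^ (n + 1) := by
          simp only [u, ← e1]; rw [← add_mul, h1, one_mul]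
        have e3 : u (n + 2) = ζ ^ (n + 1) / σ ^ (n + 1) * u 1 := by
          simp only [u, pow_succ _ (n + 1), ← e1]
          field_simp
        have e4 := urec n
        change u (n + 1) + b * u (n + 2) = u n + b * u (n + 1)
        rw [e2, e3] at e4 ⊢
        linear_combination e4 + ζ ^ (n + 1) / σ ^ (n + 1) * u1
      · rw [sum_even a b u _ hη]
        have e2 := sum_eta α β ζ ξ hξ n
        rw [hζ, hξm, sub_self, mul_zero, mul_zero, sub_zero, zero_add, mul_comm] at e2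
        rw [mul_right_cancel₀ hz1 e2, ← e1, ← add_mul, h1, one_mul, ← pow_mul, mul_comm n 2, hζ]
        simp only [pow_zero, mul_one, h1]
        push_cast
        ring
    · obtain ⟨rfl, rfl⟩ := hpar.resolve_left (by simp)
      have hz2 : ζ + 1 ≠ 0 := fun h' => hz1 (by linear_combination (ζ - 1) * h')
      have e0 : (σ + 1) * (α + β * ζ) = ζ + 1 := by
        apply mul_left_cancel₀ hσ0
        apply mul_left_cancel₀ hz2
        have : β = 1 - α := by linear_combination h1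
        subst this
        linear_combination (-ζ) * h2 + (σ * (σ + 1) * (1 - α) - σ ^ 2) * hξ
      refine ⟨⟨?_, by rw [show (2 * n + 1 + 1 + 1) / 2 = (2 * n + 1 + 1) / 2 by omega]⟩, ?_⟩
      · rw [show (2 * n + 1 + 1) / 2 = n + 1 by omega, show (2 * n + 1) / 2 = n by omega]
        have e1 : ξ ^ n = ζ ^ (n + 1) := by
          have : ζ ^ n * ξ ^ n = 1 := by rw [← mul_pow, hξ, one_pow]
          linear_combination (ζ ^ (n + 1)) * this - ξ ^ n * hζ
        simp only [u, pow_succ ξ n, e1]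
        field_simp
        have : β = 1 - α := by linear_combination h1
        subst this
        linear_combination σ ^ n * ((1 - α) * ζ ^ n * hξ - ζ ^ n * e0)
      · rw [sum_range_succ, mul_add, sum_even σ σ u _ hη, show 2 * n / 2 = n by omega,
          show (2 * n + 1) / 2 = n by omega, ← mul_pow, ← hη]
        have e2 := sum_eta α β ζ ξ hξ (n + 1)
        rw [sum_range_succ, show 2 * (n + 1) = 2 * n + 1 + 1 by ring, pow_succ ζ (2 * n + 1),
          pow_succ ξ (2 * n + 1), hζ, hξm] at e2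
        apply mul_left_cancel₀ hz1
        simp only [pow_zero, mul_one, h1]
        push_cast at e2 ⊢
        have : β = 1 - α := by linear_combination h1
        subst this
        linear_combination (σ + 1) * e2 + (ζ - 1) * e0 - (σ + 1) * (1 - α) ^ 2 * ζ * hξ
  have hE := h.El_sq (c := fun j => u (j / 2)) (d := fun j => w ((j + 1) / 2)) hμ u0 u0 hend.1.1 rfl
    rfl hend.1.2 (fun k => by
      simp only [show (k + 1 + 1) / 2 = k / 2 + 1 by omega, show (k + 2) / 2 = k / 2 + 1 by omega, w])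
    (fun k => by
      simp only [show (k + 2 + 1) / 2 = (k + 1) / 2 + 1 by omega]
      generalize (k + 1) / 2 = j
      rcases j with _ | j
      · simp only [w, u0, zero_add]
        linear_combination -u1
      · simp only [w]
        linear_combination urec j)
  obtain ⟨q, hq⟩ := rat_of_sq hE hr (by
    obtain ⟨m, rfl⟩ : ∃ k, m = k + 1 := ⟨m - 1, by omega⟩
    rw [El, Matrix.trace_sum, sum_range_succ', sum_eq_zero fun k hk => ?_]
    · simp only [zero_add, Nat.reduceDiv, u0, one_smul, Matrix.trace_add, ← h.zero, tr0]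
      rw [show X 1 = X (0 + 1) from rfl, trX 0 hm, add_zero]
    · have := mem_range.mp hk
      rw [Matrix.trace_smul, Matrix.trace_add, trX _ (by omega), trY _ (by omega), add_zero,
        smul_zero])
  refine ⟨q / m, ?_⟩
  have hm0 : (m : ℂ) ≠ 0 := by exact_mod_cast hm.ne'
  push_cast
  rw [← hq]
  apply mul_left_cancel₀ ha
  rw [← hαβ]
  field_simp
  linear_combination -(4 * (a * b) - (σ * (ζ + ξ)) ^ 2) * hend.2

theorem pow_eq_one_of_rat {ζ ξ : ℂ} (hξ : ζ * ξ = 1) {n : ℕ} (hn : n ≠ 0) (hζ : ζ ^ n = 1) {q : ℚ}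
    (h : ζ + ξ = q) : ζ ^ 4 = 1 ∨ ζ ^ 6 = 1 := by
  have hξn : ξ ^ n = 1 := by
    have : ζ ^ n * ξ ^ n = 1 := by rw [← mul_pow, hξ, one_pow]
    rwa [hζ, one_mul] at this
  have i1 : IsIntegral ℤ (ζ + ξ) :=
    (IsIntegral.of_pow (Nat.pos_of_ne_zero hn) (hζ ▸ isIntegral_one)).add
      (IsIntegral.of_pow (Nat.pos_of_ne_zero hn) (hξn ▸ isIntegral_one))
  obtain ⟨k, hk⟩ := i1.exists_int_iff_exists_rat.mp ⟨q, h⟩
  have h2 : ‖(k : ℂ)‖ ≤ 2 := by
    rw [← hk]
    refine (norm_add_le _ _).trans ?_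
    rw [Complex.norm_eq_one_of_pow_eq_one hζ hn, Complex.norm_eq_one_of_pow_eq_one hξn hn]
    norm_num
  rw [Complex.norm_intCast] at h2
  have h3 : |k| ≤ 2 := by exact_mod_cast h2
  have h4 : ζ ^ 2 - k * ζ + 1 = 0 := by linear_combination ζ * hk - hξ
  obtain ⟨h5, h6⟩ := abs_le.mp h3
  interval_cases k <;> push_cast at h4
  · have : ζ + 1 = 0 := pow_eq_zero_iff two_ne_zero |>.mp (by linear_combination h4)
    left; linear_combination (ζ ^ 3 - ζ ^ 2 + ζ - 1) * this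
  · right; linear_combination (ζ - 1) * (ζ ^ 3 + 1) * h4
  · left; linear_combination (ζ ^ 2 - 1) * h4
  · right; linear_combination (ζ + 1) * (ζ ^ 3 - 1) * h4
  · have : ζ - 1 = 0 := pow_eq_zero_iff two_ne_zero |>.mp (by linear_combination h4)
    left; linear_combination (ζ ^ 3 + ζ ^ 2 + ζ + 1) * this

end FH
end H21
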