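import Mathlib
import Cfsg.Agent.H21.FeitHig2
import Cfsg.Agent.H8.BNPair

/-! The Feit–Higman theorem for (B,N)-pairs of rank two. -/

set_option autoImplicit false

namespace H21
namespace FH

open Finset Cfsg H8 H8.BN

section Num

variable {ι : Type*} [Fintype ι] [DecidableEq ι] {m : ℕ} {t1 t2 : Matrix ι ι ℂ}
  {X Y : ℕ → Matrix ι ι ℂ}

theorem Hk.mem {a b : ℚ} (h : Hk m (a : ℂ) (b : ℂ) t1 t2 X Y) (hm : 2 ≤ m) {r : ℚ} (hr : r ≠ 0)
    (tr0 : (X 0).trace = r) (trX : ∀ k < m, (X (k + 1)).trace = 0)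
    (trY : ∀ k < m, (Y (k + 1)).trace = 0) (ha : 0 < a) (hb : 0 < b) (ha1 : a ≠ 1) (hb1 : b ≠ 1)
    (hodd : Odd m → b = a) : m = 2 ∨ m = 3 ∨ m = 4 ∨ m = 6 ∨ m = 8 := by
  by_cases hm2 : m = 2
  · exact Or.inl hm2
  have hm0 : m ≠ 0 := by omega
  have hp := Complex.isPrimitiveRoot_exp m hm0
  generalize Complex.exp (2 * Real.pi * Complex.I / m) = ζ at hp
  have hξ : ζ * ζ⁻¹ = 1 := mul_inv_cancel₀ (hp.ne_zero hm0)
  generalize ζ⁻¹ = ξ at hξ
  have hζ := hp.pow_eq_one
  have hζ2 : ζ ^ 2 ≠ 1 := fun h' => by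
    have := Nat.le_of_dvd two_pos (hp.dvd_of_pow_eq_one 2 h')
    omega
  have ha' : (a : ℂ) ≠ 0 := by exact_mod_cast ha.ne'
  have hb' : (b : ℂ) ≠ 0 := by exact_mod_cast hb.ne'
  have ha2 : (a : ℂ) + 1 ≠ 0 := by exact_mod_cast (by linarith : a + 1 ≠ 0)
  rcases Nat.even_or_odd m with he | ho
  · obtain ⟨σ, hσ⟩ := IsAlgClosed.exists_pow_nat_eq ((a : ℂ) * b) two_pos
    have key : ∀ ζ ξ : ℂ, ζ * ξ = 1 → ζ ^ m = 1 → ζ ^ 2 ≠ 1 → ∃ y : ℚ, σ * (ζ + ξ) = y := by
      intro ζ ξ hξ hζ hζ2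
      obtain ⟨q1, e1⟩ := h.rat (by omega) hr tr0 trX trY ha' ha2 hb' hσ hξ hζ hζ2 (Or.inl he)
      obtain ⟨q2, e2⟩ := h.rat (ζ := -ζ) (ξ := -ξ) (by omega) hr tr0 trX trY ha' ha2 hb' hσ
        (by rw [neg_mul_neg, hξ]) (by rw [he.neg_pow, hζ]) (by rwa [neg_sq]) (Or.inl he)
      rw [show σ * (-ζ + -ξ) = -(σ * (ζ + ξ)) by ring] at e2
      generalize σ * (ζ + ξ) = y at e1 e2
      have h1 : q1 + q2 - 2 ≠ 0 := fun h' => by
        have h2 : (q1 : ℂ) + q2 - 2 = 0 := by exact_mod_cast h'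
        have h3 : (a : ℂ) * (b - 1) ^ 2 + b * (a - 1) ^ 2 = 0 := by
          linear_combination (e1 + e2) / 2 + (4 * (a * b) - y ^ 2) / 2 * h2
        have h4 : a * (b - 1) ^ 2 + b * (a - 1) ^ 2 = 0 := by exact_mod_cast h3
        have h5 := mul_pos hb (pow_pos (abs_pos.mpr (sub_ne_zero.mpr ha1)) 2)
        rw [sq_abs] at h5
        nlinarith [mul_nonneg ha.le (sq_nonneg (b - 1))]
      have h1' : (q1 : ℂ) + q2 - 2 ≠ 0 := by exact_mod_cast h1
      have h2 : (a - 1 : ℂ) ≠ 0 := by exact_mod_cast sub_ne_zero.mpr ha1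
      have h3 : (b - 1 : ℂ) ≠ 0 := by exact_mod_cast sub_ne_zero.mpr hb1
      refine ⟨(q1 - q2) * (4 * (a * b) - (4 * (a * b) * (q1 + q2) - 2 * ((a * b + 1) * (a + b))) /
        (q1 + q2 - 2)) / (2 * ((a - 1) * (b - 1))), ?_⟩
      have h4 : y ^ 2 = (4 * (a * b) * (q1 + q2) - 2 * ((a * b + 1) * (a + b))) / (q1 + q2 - 2) := by
        field_simp
        linear_combination e1 + e2
      push_cast
      rw [← h4]
      field_simp
      linear_combination e1 - e2
    obtain ⟨y1, e1⟩ := key ζ ξ hξ hζ hζ2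
    have hξ2 : ζ ^ 2 * ξ ^ 2 = 1 := by rw [← mul_pow, hξ, one_pow]
    have hζ' : (ζ ^ 2) ^ m = 1 := by rw [← pow_mul, mul_comm, pow_mul, hζ, one_pow]
    have e2 : ζ ^ 2 + ξ ^ 2 = (y1 ^ 2 / (a * b) - 2 : ℚ) := by
      push_cast
      rw [← e1, mul_pow, hσ]
      field_simp
      linear_combination -2 * hξ
    have h8 := pow_eq_one_of_rat hξ2 hm0 hζ' e2
    rw [← pow_mul, ← pow_mul] at h8
    have h12 : m ≠ 12 := by
      rintro rfl
      obtain ⟨y2, e3⟩ := key _ _ hξ2 hζ' fun h' => by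
        rw [← pow_mul] at h'
        exact absurd (hp.dvd_of_pow_eq_one _ h') (by norm_num)
      obtain ⟨ρ, hρ⟩ : ∃ ρ : ℚ, ζ ^ 2 + ξ ^ 2 = ρ := ⟨_, e2⟩
      have hρ0 : (ρ : ℂ) ≠ 0 := fun h' => by
        have : ζ ^ 8 = 1 := by
          linear_combination (ζ ^ 4 - 1) * (ζ ^ 2 * (hρ.trans h') - hξ2)
        exact absurd (hp.dvd_of_pow_eq_one _ this) (by norm_num)
      have hσ0 : σ ≠ 0 := by
        rintro rfl
        exact mul_ne_zero ha' hb' (by rw [← hσ]; simp)
      have hy : (y2 : ℂ) ≠ 0 := by rw [← e3, hρ]; exact mul_ne_zero hσ0 hρ0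
      have e4 : ζ + ξ = (y1 * ρ / y2 : ℚ) := by
        push_cast
        rw [← e1, ← e3, hρ]
        field_simp
      rcases pow_eq_one_of_rat hξ hm0 hζ e4 with h' | h' <;>
        exact absurd (hp.dvd_of_pow_eq_one _ h') (by norm_num)
    obtain ⟨n, rfl⟩ := he
    rcases h8 with h' | h'
    · have h1 := hp.dvd_of_pow_eq_one _ h'
      have := Nat.le_of_dvd (by norm_num) h1
      have : n ≤ 4 := by omega
      interval_cases n <;> simp_all
    · have h1 := hp.dvd_of_pow_eq_one _ h'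
      have := Nat.le_of_dvd (by norm_num) h1
      have : n ≤ 6 := by omega
      interval_cases n <;> simp_all
  · obtain rfl := hodd ho
    obtain ⟨q, e1⟩ := h.rat (σ := b) (by omega) hr tr0 trX trY ha' ha2 hb' (sq _) hξ hζ hζ2
      (Or.inr ⟨rfl, rfl⟩)
    have h1 : ζ + ξ + 2 ≠ 0 := fun h' => by
      have : ζ + 1 = 0 := pow_eq_zero_iff two_ne_zero |>.mp (by linear_combination ζ * h' - hξ)
      exact hζ2 (by linear_combination (ζ - 1) * this)
    have e2 : (b : ℂ) * b + 1 - b * (ζ + ξ) = q * b * (2 - (ζ + ξ)) := by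
      apply mul_left_cancel₀ (mul_ne_zero ha' h1)
      linear_combination e1
    have h2 : (q : ℂ) - 1 ≠ 0 := fun h' => by
      have : (b : ℂ) - 1 = 0 := pow_eq_zero_iff two_ne_zero |>.mp (by
        linear_combination e2 + b * (2 - (ζ + ξ)) * h')
      exact ha1 (by exact_mod_cast sub_eq_zero.mp this)
    have e3 : ζ + ξ = ((2 * q * b - b * b - 1) / ((q - 1) * b) : ℚ) := by
      push_cast
      field_simp
      linear_combination e2
    obtain ⟨n, rfl⟩ := ho
    rcases pow_eq_one_of_rat hξ hm0 hζ e3 with h' | h'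
    · have h1 := hp.dvd_of_pow_eq_one _ h'
      have := Nat.le_of_dvd (by norm_num) h1
      omega
    · have h1 := hp.dvd_of_pow_eq_one _ h'
      have := Nat.le_of_dvd (by norm_num) h1
      have : n ≤ 2 := by omega
      interval_cases n <;> simp_all

end Num

section Dih

variable {I W : Type*} [Group W] {D : GenSys I W}

/-- the elements of a dihedral group, indexed by the integers -/
def zz (D : GenSys I W) (i j : I) (k : ℤ) : W :=
  (D.σ i * D.σ j) ^ (k / 2) * if k % 2 = 0 then 1 else D.σ i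

theorem σ_mul_zpow (i j : I) (n : ℤ) :
    D.σ i * (D.σ i * D.σ j) ^ n = (D.σ i * D.σ j) ^ (-n) * D.σ i := by
  have : D.σ i * (D.σ i * D.σ j) * (D.σ i)⁻¹ = (D.σ i * D.σ j)⁻¹ := by
    rw [D.σ_σ_mul, mul_inv_rev, D.σ_inv j]
  rw [zpow_neg, ← inv_zpow, ← this, conj_zpow, inv_mul_cancel_right]

theorem zz_left (i j : I) (k : ℤ) : D.σ i * zz D i j k = zz D i j (1 - k) := by
  rw [zz, zz, ← mul_assoc, σ_mul_zpow, mul_assoc]
  rcases Int.emod_two_eq_zero_or_one k with h | h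
  · rw [if_pos h, if_neg (by omega), mul_one, show (1 - k) / 2 = -(k / 2) by omega]
  · rw [if_neg (by omega), if_pos (by omega), D.sq, show (1 - k) / 2 = -(k / 2) by omega]

theorem zz_right (i j : I) (k : ℤ) : D.σ j * zz D i j k = zz D i j (-1 - k) := by
  have : D.σ j = (D.σ i * D.σ j) ^ (-1 : ℤ) * D.σ i := by
    rw [zpow_neg, zpow_one, mul_inv_rev, D.σ_inv, D.σ_inv, D.mul_σ_σ]
  nth_rewrite 1 [this]
  rw [mul_assoc, zz_left, zz, zz, ← mul_assoc, ← zpow_add,
    show -1 + (1 - k) / 2 = (-1 - k) / 2 by omega, show (1 - k) % 2 = (-1 - k) % 2 by omega]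

theorem zz_zero (i j : I) : zz D i j 0 = 1 := by simp [zz]

theorem zz_eq_iff (hD : D.Exchange) (i j : I) {k l : ℤ} :
    zz D i j k = zz D i j l ↔ (2 * orderOf (D.σ i * D.σ j) : ℤ) ∣ l - k := by
  constructor
  · intro h
    obtain ⟨φ, hφ⟩ := hD.exists_lift (fun _ => (-1 : ℤˣ)) (by simp) (by simp)
    have h1 := congrArg φ h
    simp only [zz, map_mul, map_zpow, hφ, neg_mul_neg, one_mul, one_zpow, apply_ite φ,
      map_one] at h1
    have h2 : k % 2 = l % 2 := by
      split_ifs at h1 with c1 c2 c3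
      · omega
      · exact absurd h1 (by decide)
      · exact absurd h1 (by decide)
      · omega
    rw [zz, zz, h2, mul_left_inj, zpow_eq_zpow_iff_modEq] at h
    obtain ⟨c, hc⟩ := h.dvd
    exact ⟨c, by rw [mul_assoc, ← hc]; omega⟩
  · rintro ⟨c, hc⟩
    rw [mul_assoc] at hc
    rw [zz, zz, show l % 2 = k % 2 by omega, mul_left_inj, zpow_eq_zpow_iff_modEq]
    exact Int.modEq_iff_dvd.mpr ⟨c, by omega⟩

theorem exists_zz {i j : I} (hI : ∀ x, x = i ∨ x = j) (l : List I) :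
    ∃ k : ℤ, |k| ≤ l.length ∧ D.π l = zz D i j k := by
  induction l with
  | nil => exact ⟨0, by simp, (zz_zero i j).symm⟩
  | cons x l ih =>
    obtain ⟨k, h1, h2⟩ := ih
    rw [abs_le] at h1
    rcases hI x with rfl | rfl
    · refine ⟨1 - k, ?_, by rw [D.π_cons, h2, zz_left]⟩
      rw [abs_le, List.length_cons]; push_cast; omega
    · refine ⟨-1 - k, ?_, by rw [D.π_cons, h2, zz_right]⟩
      rw [abs_le, List.length_cons]; push_cast; omega

theorem len_zz_le (i j : I) (n : ℕ) :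
    D.len (zz D i j n) ≤ n ∧ D.len (zz D i j (-n)) ≤ n := by
  induction n with
  | zero => simp [zz_zero]
  | succ n ih =>
    constructor
    · rw [show ((n + 1 : ℕ) : ℤ) = 1 - -n by push_cast; ring, ← zz_left]
      exact (D.len_σ_mul_le _ _).trans (by omega)
    · rw [show (-((n + 1 : ℕ) : ℤ)) = -1 - n by push_cast; ring, ← zz_right]
      exact (D.len_σ_mul_le _ _).trans (by omega)

theorem len_zz (hD : D.Exchange) {i j : I} (hI : ∀ x, x = i ∨ x = j) {k : ℤ} {n : ℕ}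
    (hk : k = n ∨ k = -n) (hn : n ≤ orderOf (D.σ i * D.σ j)) : D.len (zz D i j k) = n := by
  refine le_antisymm (by rcases hk with rfl | rfl; exacts [(len_zz_le i j n).1, (len_zz_le i j n).2])
    ?_
  obtain ⟨l, h1, h2⟩ := D.exists_reduced (zz D i j k)
  obtain ⟨k', h3, h4⟩ := exists_zz (D := D) hI l
  rw [h1, zz_eq_iff hD] at h4
  rw [← h2]
  by_contra hlt
  rw [abs_le] at h3
  have := Int.eq_zero_of_abs_lt_dvd h4 (by rw [abs_lt]; omega)
  omega

theorem card_eq [Finite W] (hD : D.Exchange) {i j : I} (hI : ∀ x, x = i ∨ x = j) :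
    Nat.card W = 2 * orderOf (D.σ i * D.σ j) := by
  have hpos : 0 < orderOf (D.σ i * D.σ j) := orderOf_pos _
  rw [← Nat.card_fin (2 * _)]
  refine (Nat.card_congr (Equiv.ofBijective (fun k : Fin _ => zz D i j (k : ℕ)) ⟨?_, ?_⟩)).symm
  · intro k l h
    have h1 := k.2
    have h2 := l.2
    have := Int.eq_zero_of_abs_lt_dvd ((zz_eq_iff hD i j).mp h) (by rw [abs_lt]; omega)
    exact Fin.ext (by omega)
  · intro w
    obtain ⟨l, rfl⟩ := D.gen w
    obtain ⟨k, -, hk⟩ := exists_zz (D := D) hI l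
    have h1 := Int.emod_nonneg k (show (2 * orderOf (D.σ i * D.σ j) : ℤ) ≠ 0 by omega)
    have h2 := Int.emod_lt_of_pos k (show (0 : ℤ) < 2 * orderOf (D.σ i * D.σ j) by omega)
    refine ⟨⟨(k % (2 * orderOf (D.σ i * D.σ j))).toNat, by omega⟩, ?_⟩
    rw [show (l.map D.σ).prod = _ from hk, zz_eq_iff hD, Int.toNat_of_nonneg h1]
    exact Int.dvd_self_sub_emod

end Dih

section BN

open Classical

variable {G : Type*} [Group G] [Fintype G] (P : BNPair G)

/-- the Hecke operators -/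
noncomputable def TT (w : W P) : Matrix G G ℂ :=
  fun g h => if δ P (g⁻¹ * h) = w then (Nat.card P.B : ℂ)⁻¹ else 0

/-- the size of a cell -/
noncomputable def cs (w : W P) : ℕ := #{y : G | δ P y = w}

variable {P}

theorem cardB_ne : (Nat.card P.B : ℂ) ≠ 0 := by exact_mod_cast Nat.card_pos.ne'

theorem TT_mul (v w : W P) (g h : G) : (TT P v * TT P w) g h =
    (#{y : G | δ P y = v ∧ δ P (y⁻¹ * (g⁻¹ * h)) = w} : ℂ) * ((Nat.card P.B : ℂ)⁻¹) ^ 2 := by
  rw [Matrix.mul_apply, ← sum_boole, sum_mul]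
  refine (Fintype.sum_equiv (Equiv.mulLeft g) _ _ fun y => ?_).symm
  simp only [TT, Equiv.coe_mulLeft, inv_mul_cancel_left, mul_inv_rev, mul_assoc]
  by_cases h1 : δ P y = v <;> by_cases h2 : δ P (y⁻¹ * (g⁻¹ * h)) = w <;> simp [h1, h2, sq]

theorem card_coset (y0 : G) : #{y : G | y0⁻¹ * y ∈ P.B} = Nat.card P.B := by
  rw [Nat.card_eq_fintype_card, Fintype.card_subtype]
  exact card_bijective _ (Equiv.mulLeft y0⁻¹).bijective (by simp)

theorem TT_one_mul (w : W P) : TT P 1 * TT P w = TT P w := by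
  ext g h
  rw [TT_mul, TT]
  split_ifs with c
  · rw [filter_congr (q := fun y => (1 : G)⁻¹ * y ∈ P.B) fun y _ => by
      rw [inv_one, one_mul, δ_eq_one_iff]
      exact ⟨fun h => h.1, fun h => ⟨h, by rw [δ_mul_left (P.B.inv_mem h), c]⟩⟩, card_coset]
    field_simp [cardB_ne]
  · rw [filter_false_of_mem fun y _ h => c (by
      rw [← h.2, δ_mul_left (P.B.inv_mem (δ_eq_one_iff.mp h.1))])]
    simp

omit [Fintype G] in
theorem δ_mul_ss {s : P.S} {x y : G} (hx : δ P x = (gens P).σ s) (hy : δ P y = (gens P).σ s) :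
    δ P (x * y) = 1 ∨ δ P (x * y) = (gens P).σ s := by
  obtain ⟨b₁, h1, b₂, h2, rfl⟩ := δ_eq_δ_iff.mp (hx.trans (δ_simple s).symm)
  rw [mul_assoc, mul_assoc, δ_mul_left h1]
  have := δ_simple_mul s (b₂ * y)
  rwa [δ_mul_left h2, hy, GenSys.sq] at this

theorem TT_up {s : P.S} {w : W P} (hw : (gens P).len ((gens P).σ s * w) = (gens P).len w + 1) :
    TT P ((gens P).σ s) * TT P w = TT P ((gens P).σ s * w) := by
  have hmul : ∀ x y : G, δ P x = (gens P).σ s → δ P y = w → δ P (x * y) = (gens P).σ s * w := by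
    intro x y hx hy
    rw [δ_mul_of_len_add x y (by rw [hx, hy, hw, (exchange P).len_σ, add_comm]), hx, hy]
  ext g h
  rw [TT_mul, TT]
  generalize g⁻¹ * h = k
  split_ifs with c
  · obtain ⟨b₁, h1, n, hn, b₂, h2, rfl, e⟩ := exists_decomp P k
    have e1 : δ P (b₁ * s) = (gens P).σ s := by rw [δ_mul_left h1, δ_simple]
    have e2 : δ P ((b₁ * s)⁻¹ * (b₁ * n * b₂)) = w := by
      rw [show (b₁ * s)⁻¹ * (b₁ * n * b₂) = (s : G)⁻¹ * n * b₂ by group, δ_mul_right _ h2,
        δ_simple_inv_mul, δ_mul_of_mem (P.subset s.2) hn, δ_simple, e, c, GenSys.σ_σ_mul]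
    generalize b₁ * n * b₂ = k at e2
    generalize b₁ * s = y0 at e1 e2
    rw [filter_congr (q := fun y => y0⁻¹ * y ∈ P.B) fun y _ => ?_, card_coset]
    · field_simp [cardB_ne]
    constructor
    · rintro ⟨h3, h4⟩
      rcases δ_mul_ss (x := y0⁻¹) (by rw [δ_inv, e1, GenSys.σ_inv]) h3 with h5 | h5
      · exact δ_eq_one_iff.mp h5
      · have := hmul _ _ h5 h4
        rw [mul_assoc, mul_inv_cancel_left, e2] at this
        rw [← this] at hw
        omega
    · intro h3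
      obtain ⟨b, hb, rfl⟩ : ∃ b ∈ P.B, y = y0 * b := ⟨_, h3, by simp⟩
      exact ⟨by rw [δ_mul_right _ hb, e1], by
        rw [mul_inv_rev, mul_assoc, δ_mul_left (P.B.inv_mem hb), e2]⟩
  · rw [filter_false_of_mem fun y _ h => c (by
      rw [← hmul _ _ h.1 h.2, mul_inv_cancel_left])]
    simp

theorem card_ss {s : P.S} {k : G} (hk : δ P k = (gens P).σ s) :
    #{y : G | δ P y = (gens P).σ s ∧ δ P (y⁻¹ * k) = (gens P).σ s} + Nat.card P.B =
      cs P ((gens P).σ s) := by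
  rw [← card_coset k, cs, ← card_union_of_disjoint]
  · congr 1
    ext y
    simp only [mem_union, mem_filter, mem_univ, true_and]
    constructor
    · rintro (h | h)
      · exact h.1
      · rw [← hk, ← δ_mul_right k h, mul_inv_cancel_left]
    · intro h
      rcases δ_mul_ss (x := y⁻¹) (by rw [δ_inv, h, GenSys.σ_inv]) hk with h5 | h5
      · right
        simpa using P.B.inv_mem (δ_eq_one_iff.mp h5)
      · exact Or.inl ⟨h, h5⟩
  · rw [disjoint_filter]
    intro y _ h1 h2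
    have := δ_eq_one_iff.mpr (P.B.inv_mem h2)
    rw [mul_inv_rev, inv_inv, h1.2] at this
    exact σ_ne_one P s this

theorem card_lt_cs (s : P.S) : Nat.card P.B < cs P ((gens P).σ s) := by
  obtain ⟨b, hb, h⟩ := exists_δ_conj s
  rw [← card_ss h, lt_add_iff_pos_left, card_pos]
  refine ⟨s, mem_filter.mpr ⟨mem_univ _, δ_simple s, ?_⟩⟩
  rw [mul_assoc, inv_mul_cancel_left, δ_mul_left hb, δ_simple]

theorem TT_sq (s : P.S) : TT P ((gens P).σ s) * TT P ((gens P).σ s) =
    (((cs P ((gens P).σ s) / Nat.card P.B : ℚ) : ℂ) - 1) • TT P ((gens P).σ s) +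
      ((cs P ((gens P).σ s) / Nat.card P.B : ℚ) : ℂ) • TT P 1 := by
  ext g h
  have hB := cardB_ne (P := P)
  rw [TT_mul, Matrix.add_apply, Matrix.smul_apply, Matrix.smul_apply, TT, TT]
  generalize g⁻¹ * h = k
  push_cast
  by_cases c1 : δ P k = (gens P).σ s
  · rw [if_pos c1, if_neg (c1 ▸ σ_ne_one P s), ← card_ss c1]
    simp only [smul_eq_mul]
    push_cast
    field_simp
    ring
  rw [if_neg c1]
  split_ifs with c2
  · rw [filter_congr (q := fun y => δ P y = (gens P).σ s) fun y _ => by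
      rw [δ_mul_right _ (δ_eq_one_iff.mp c2), δ_inv]
      exact ⟨fun h => h.1, fun h => ⟨h, by rw [h, GenSys.σ_inv]⟩⟩, cs]
    simp only [smul_eq_mul]
    field_simp
    ring
  · rw [filter_false_of_mem fun y _ h => by
      have := δ_mul_ss h.1 h.2
      rw [mul_inv_cancel_left] at this
      exact this.elim c2 c1]
    simp

theorem trace_TT (w : W P) :
    (TT P w).trace = if w = 1 then ((Nat.card G / Nat.card P.B : ℚ) : ℂ) else 0 := by
  simp only [Matrix.trace, Matrix.diag, TT, inv_mul_cancel, δ_eq_one_iff.mpr P.B.one_mem, sum_const,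
    card_univ, nsmul_eq_mul, eq_comm (a := w), Nat.card_eq_fintype_card (α := G)]
  split_ifs
  · push_cast; rfl
  · simp

theorem TT_mulVec (w : W P) :
    (TT P w).mulVec 1 = ((cs P w / Nat.card P.B : ℚ) : ℂ) • (1 : G → ℂ) := by
  ext g
  simp only [Matrix.mulVec, dotProduct, Pi.one_apply, mul_one, Pi.smul_apply, smul_eq_mul, TT]
  push_cast
  rw [cs, ← sum_boole, div_eq_mul_inv, sum_mul]
  refine (Fintype.sum_equiv (Equiv.mulLeft g) _ _ fun y => ?_).symm
  simp only [Equiv.coe_mulLeft, inv_mul_cancel_left]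
  split_ifs <;> simp

end BN

theorem s1142 {G : Type*} [Group G] [Finite G] (P : BNPair G) (h2 : P.rank = 2) :
    ((P.B ⊓ P.N).subgroupOf P.N).index ∈ ({4, 6, 8, 12, 16} : Set ℕ) := by
  classical
  letI := Fintype.ofFinite G
  obtain ⟨i, j, hij, hI⟩ := Nat.card_eq_two_iff.mp h2
  have hI' : ∀ x, x = i ∨ x = j := fun x => by simpa using hI.ge (Set.mem_univ x)
  have hD := exchange P
  obtain ⟨m, hm⟩ : ∃ m, m = orderOf ((gens P).σ i * (gens P).σ j) := ⟨_, rfl⟩
  have hm2 : 2 ≤ m := by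
    have h1 : 0 < m := hm ▸ orderOf_pos _
    have h3 : m ≠ 1 := fun h => hij (σ_injective P (by
      rw [hm, orderOf_eq_one_iff, mul_eq_one_iff_eq_inv, GenSys.σ_inv] at h
      exact h))
    omega
  have hcard : ((P.B ⊓ P.N).subgroupOf P.N).index = 2 * m := hm ▸ card_eq hD hI'
  have lx : ∀ k ≤ m, (gens P).len (zz (gens P) i j (k : ℕ)) = k := fun k hk =>
    len_zz hD hI' (Or.inl rfl) (hm ▸ hk)
  have ly : ∀ k ≤ m, (gens P).len (zz (gens P) i j (-(k : ℕ))) = k := fun k hk =>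
    len_zz hD hI' (Or.inr rfl) (hm ▸ hk)
  have ex : ∀ k : ℕ, (gens P).σ i * zz (gens P) i j (-k) = zz (gens P) i j (k + 1 : ℕ) := fun k => by
    rw [zz_left]; congr 1; push_cast; ring
  have ey : ∀ k : ℕ, (gens P).σ j * zz (gens P) i j k = zz (gens P) i j (-(k + 1 : ℕ)) := fun k => by
    rw [zz_right]; congr 1; push_cast; ring
  have up1 : ∀ k < m, TT P ((gens P).σ i) * TT P (zz (gens P) i j (-(k : ℕ))) =
      TT P (zz (gens P) i j (k + 1 : ℕ)) := fun k hk => by
    rw [TT_up (by rw [ex, lx _ hk, ly _ hk.le]), ex]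
  have up2 : ∀ k < m, TT P ((gens P).σ j) * TT P (zz (gens P) i j (k : ℕ)) =
      TT P (zz (gens P) i j (-(k + 1 : ℕ))) := fun k hk => by
    rw [TT_up (by rw [ey, ly _ hk, lx _ hk.le]), ey]
  obtain ⟨a, ha⟩ : ∃ a : ℚ, a = cs P ((gens P).σ i) / Nat.card P.B := ⟨_, rfl⟩
  obtain ⟨b, hb⟩ : ∃ b : ℚ, b = cs P ((gens P).σ j) / Nat.card P.B := ⟨_, rfl⟩
  have hB : (0 : ℚ) < Nat.card P.B := by exact_mod_cast Nat.card_pos
  have ha1 : 1 < a := by rw [ha, one_lt_div hB]; exact_mod_cast card_lt_cs i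
  have hb1 : 1 < b := by rw [hb, one_lt_div hB]; exact_mod_cast card_lt_cs j
  have H : Hk m (a : ℂ) (b : ℂ) (TT P ((gens P).σ i)) (TT P ((gens P).σ j))
      (fun k => TT P (zz (gens P) i j k)) fun k => TT P (zz (gens P) i j (-k)) := by
    refine ⟨by simp, congrArg (TT P) ((zz_eq_iff hD i j).mpr ⟨-1, by rw [← hm]; ring⟩), up1, up2,
      fun k hk => ?_, fun k hk => ?_, fun k _ => ?_, fun k _ => ?_⟩
    · rw [← up1 k hk, ← mul_assoc, TT_sq, ← ha, add_mul, smul_mul_assoc, smul_mul_assoc, TT_one_mul]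
    · rw [← up2 k hk, ← mul_assoc, TT_sq, ← hb, add_mul, smul_mul_assoc, smul_mul_assoc, TT_one_mul]
    · simp only [Nat.cast_zero, zz_zero, TT_one_mul]
    · simp only [Nat.cast_zero, neg_zero, zz_zero, TT_one_mul]
  have mass : ∀ k ≤ m,
      (TT P (zz (gens P) i j (k : ℕ))).mulVec 1 =
        ((a ^ ((k + 1) / 2) * b ^ (k / 2) : ℚ) : ℂ) • (1 : G → ℂ) ∧
      (TT P (zz (gens P) i j (-(k : ℕ)))).mulVec 1 =
        ((a ^ (k / 2) * b ^ ((k + 1) / 2) : ℚ) : ℂ) • (1 : G → ℂ) := by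
    intro k
    induction k with
    | zero =>
      intro _
      have : cs P 1 = Nat.card P.B := by
        rw [← card_coset 1, cs]
        simp only [δ_eq_one_iff, inv_one, one_mul]
      simp only [Nat.cast_zero, neg_zero, zz_zero, TT_mulVec, this, div_self hB.ne']
      simp
    | succ k ih =>
      intro hk
      obtain ⟨i1, i2⟩ := ih (by omega)
      rw [← up1 k hk, ← up2 k hk, ← Matrix.mulVec_mulVec, ← Matrix.mulVec_mulVec, i1, i2,
        Matrix.mulVec_smul, Matrix.mulVec_smul, TT_mulVec, TT_mulVec, ← ha, ← hb, smul_smul,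
        smul_smul, show (k + 1 + 1) / 2 = k / 2 + 1 by omega]
      push_cast
      constructor <;> congr 1 <;> ring
  have := H.mem hm2 (r := Nat.card G / Nat.card P.B)
    (div_ne_zero (by exact_mod_cast Nat.card_pos.ne') hB.ne')
    (by simp only [Nat.cast_zero, zz_zero, trace_TT, if_true])
    (fun k hk => by
      rw [trace_TT, if_neg fun h => ?_]
      have := lx _ hk
      rw [h, GenSys.len_one] at this
      omega)
    (fun k hk => by
      rw [trace_TT, if_neg fun h => ?_]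
      have := ly _ hk
      rw [h, GenSys.len_one] at this
      omega) (by linarith) (by linarith) ha1.ne' hb1.ne' (by
      rintro ⟨n, hn⟩
      obtain ⟨e1, e2⟩ := mass m le_rfl
      rw [show TT P (zz (gens P) i j (m : ℕ)) = _ from H.top, e2] at e1
      have e3 := congrFun e1 1
      simp only [Pi.smul_apply, Pi.one_apply, smul_eq_mul, mul_one, Rat.cast_inj] at e3
      rw [show m / 2 = n by omega, show (m + 1) / 2 = n + 1 by omega] at e3
      have h3 : a ^ n * b ^ n ≠ 0 := by positivity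
      apply mul_left_cancel₀ h3
      linear_combination e3)
  rw [hcard]
  rcases this with rfl | rfl | rfl | rfl | rfl <;> simp

end FH
end H21
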