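import Mathlib

/-!
# Modules for `SL(2, 2^n)` on which the elements of order three act without fixed points
-/

set_option autoImplicit false
set_option linter.unusedSectionVars false
set_option linter.unusedVariables false

namespace H21.K3H

open Matrix Subgroup
open scoped MatrixGroups

variable {F : Type} [Field F] [CharP F 2]

theorem two0 : (2 : F) = 0 := CharTwo.two_eq_zero

/-- a matrix of determinant one -/
def mm (a b c d : F) (h : a * d - b * c = 1) : SL(2, F) := ⟨!![a, b; c, d], by simp [det_fin_two, h]⟩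

/-- upper unitriangular -/
def uu (b : F) : SL(2, F) := mm 1 b 0 1 (by ring)

/-- diagonal -/
def hh (a : Fˣ) : SL(2, F) := mm a 0 0 (a⁻¹ : Fˣ) (by simp)

theorem sl_ext {A B : SL(2, F)} (h00 : A.1 0 0 = B.1 0 0) (h01 : A.1 0 1 = B.1 0 1)
    (h10 : A.1 1 0 = B.1 1 0) (h11 : A.1 1 1 = B.1 1 1) : A = B := by
  ext i j
  fin_cases i <;> fin_cases j <;> assumption

theorem mul_ent (A B : SL(2, F)) (i j : Fin 2) :
    (A * B).1 i j = A.1 i 0 * B.1 0 j + A.1 i 1 * B.1 1 j := by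
  simp [Matrix.mul_apply, Fin.sum_univ_two]

theorem inv_ent (A : SL(2, F)) : (A⁻¹).1 0 0 = A.1 1 1 ∧ (A⁻¹).1 0 1 = - A.1 0 1 ∧
    (A⁻¹).1 1 0 = - A.1 1 0 ∧ (A⁻¹).1 1 1 = A.1 0 0 := by
  rw [SpecialLinearGroup.SL2_inv_expl]
  simp

theorem det_ent (A : SL(2, F)) : A.1 0 0 * A.1 1 1 - A.1 0 1 * A.1 1 0 = 1 := by
  have := A.2
  rwa [det_fin_two] at this

theorem one_ent : (1 : SL(2, F)).1 0 0 = 1 ∧ (1 : SL(2, F)).1 0 1 = 0 ∧
    (1 : SL(2, F)).1 1 0 = 0 ∧ (1 : SL(2, F)).1 1 1 = 1 := by simp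

@[simp] theorem mm00 (a b c d : F) (h) : (mm a b c d h).1 0 0 = a := rfl
@[simp] theorem mm01 (a b c d : F) (h) : (mm a b c d h).1 0 1 = b := rfl
@[simp] theorem mm10 (a b c d : F) (h) : (mm a b c d h).1 1 0 = c := rfl
@[simp] theorem mm11 (a b c d : F) (h) : (mm a b c d h).1 1 1 = d := rfl

theorem uu_add (a b : F) : uu (a + b) = uu a * uu b := by
  apply sl_ext <;> simp only [mul_ent, uu, mm00, mm01, mm10, mm11] <;> ring

theorem uu_zero : uu (0 : F) = 1 := by
  apply sl_ext <;> simp [uu]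

theorem uu_inj {a b : F} (h : uu a = uu b) : a = b := congrArg (fun A : SL(2, F) => A.1 0 1) h

theorem uu_sq (a : F) : uu a * uu a = 1 := by rw [← uu_add, CharTwo.add_self_eq_zero, uu_zero]

theorem hh_mul (a b : Fˣ) : hh (a * b) = hh a * hh b := by
  apply sl_ext <;> simp only [mul_ent, hh, mm00, mm01, mm10, mm11] <;> simp [mul_comm]

theorem hh_one : hh (1 : Fˣ) = 1 := by
  apply sl_ext <;> simp [hh]

theorem hh_uu (a : Fˣ) (b : F) : hh a * uu b = uu (a * a * b) * hh a := by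
  apply sl_ext <;> simp only [mul_ent, hh, uu, mm00, mm01, mm10, mm11] <;> simp
  field_simp

/-- trace one -/
def T1 (A : SL(2, F)) : Prop := A.1 0 0 + A.1 1 1 = 1

theorem T1.cube {A : SL(2, F)} (h : T1 A) : A ^ 3 = 1 := by
  have hd := det_ent A
  have h2 := two0 (F := F)
  unfold T1 at h
  have e : A.1 1 1 = 1 - A.1 0 0 := by linear_combination h
  rw [pow_three]
  apply sl_ext <;> simp only [mul_ent, one_ent] <;> rw [e] at hd ⊢
  · linear_combination (-1 - A.1 0 0) * hd - h2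
  · linear_combination (-A.1 0 1) * hd
  · linear_combination (-A.1 1 0) * hd
  · linear_combination (A.1 0 0 - 2) * hd - h2

theorem T1.ne {A : SL(2, F)} (h : T1 A) : A ≠ 1 := by
  rintro rfl
  unfold T1 at h
  simp only [one_ent] at h
  exact one_ne_zero (α := F) (by linear_combination h)

theorem center_bot : center SL(2, F) = ⊥ := by
  refine eq_bot_iff.2 fun a h => ?_
  obtain ⟨r, hr, e⟩ := Matrix.SpecialLinearGroup.mem_center_iff.1 h
  rw [Fintype.card_fin] at hr
  have : r = 1 := sub_eq_zero.1 (pow_eq_zero_iff two_ne_zero |>.1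
    (by linear_combination hr + (1 - r) * two0 (F := F) : (r - 1) ^ 2 = 0))
  exact Subtype.ext (by rw [← e, this]; simp)

/-- `PSL = SL` -/
noncomputable def pslEquiv : PSL(2, F) ≃* SL(2, F) :=
  (QuotientGroup.quotientMulEquivOfEq center_bot).trans QuotientGroup.quotientBot

theorem simple [Fintype F] (h4 : 4 ≤ Fintype.card F) : IsSimpleGroup SL(2, F) := by
  have : IsSimpleGroup PSL(2, F) :=
    Matrix.ProjectiveSpecialLinearGroup.rank_two_simple (by rw [Nat.card_eq_fintype_card]; omega)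
  exact pslEquiv.symm.isSimpleGroup

theorem exists_a [Fintype F] (h4 : 4 ≤ Fintype.card F) : ∃ a : F, a ≠ 0 ∧ a ≠ 1 := by
  classical
  by_contra hn
  push Not at hn
  have : (Finset.univ : Finset F) ⊆ {0, 1} := fun a _ => by
    by_cases h : a = 0
    · simp [h]
    · simp [hn a h]
  have h1 := Finset.card_le_card this
  have h2 : ({0, 1} : Finset F).card ≤ 2 := Finset.card_le_two
  rw [Finset.card_univ] at h1
  omega

section Ring

variable {R : Type*} [Ring R] (ρ : SL(2, F) →* R)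

theorem line (hρ : ∀ y, T1 y → 1 + ρ y + ρ y * ρ y = 0) (A B C : SL(2, F))
    (h00 : A.1 0 0 + B.1 0 0 + C.1 0 0 = 0) (h01 : A.1 0 1 + B.1 0 1 + C.1 0 1 = 0)
    (h10 : A.1 1 0 + B.1 1 0 + C.1 1 0 = 0) (h11 : A.1 1 1 + B.1 1 1 + C.1 1 1 = 0) :
    ρ A + ρ B + ρ C = 0 := by
  have h2 := two0 (F := F)
  have dA := det_ent A
  have dB := det_ent B
  have dC := det_ent C
  obtain ⟨i1, i2, i3, i4⟩ := inv_ent A
  have c00 : C.1 0 0 = -(A.1 0 0 + B.1 0 0) := by linear_combination h00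
  have c01 : C.1 0 1 = -(A.1 0 1 + B.1 0 1) := by linear_combination h01
  have c10 : C.1 1 0 = -(A.1 1 0 + B.1 1 0) := by linear_combination h10
  have c11 : C.1 1 1 = -(A.1 1 1 + B.1 1 1) := by linear_combination h11
  rw [c00, c01, c10, c11] at dC
  have tr : A.1 1 1 * B.1 0 0 - A.1 0 1 * B.1 1 0 - A.1 1 0 * B.1 0 1 + A.1 0 0 * B.1 1 1 = 1 := by
    linear_combination dC - dA - dB - h2
  have ht : T1 (A⁻¹ * B) := by
    unfold T1
    simp only [mul_ent, i1, i2, i3, i4]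
    linear_combination tr
  have hC : B * (A⁻¹ * B) = C := by
    apply sl_ext <;> simp only [mul_ent, i1, i2, i3, i4, c00, c01, c10, c11]
    · linear_combination B.1 0 0 * tr - A.1 0 0 * dB + B.1 0 0 * h2
    · linear_combination B.1 0 1 * tr - A.1 0 1 * dB + B.1 0 1 * h2
    · linear_combination B.1 1 0 * tr - A.1 1 0 * dB + B.1 1 0 * h2
    · linear_combination B.1 1 1 * tr - A.1 1 1 * dB + B.1 1 1 * h2
  have e := congrArg (fun r => ρ A * r) (hρ _ ht)
  simp only [mul_add, mul_one, mul_zero, ← map_mul, ← mul_assoc, mul_inv_cancel, one_mul] at e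
  rw [mul_assoc, hC] at e
  exact e

theorem four_lines (hρ : ∀ y, T1 y → 1 + ρ y + ρ y * ρ y = 0) (a : Fˣ) (ha : (a : F) ≠ 1)
    {l : F} (hl : l ≠ 0) (β : F) :
    1 + ρ (uu (a * l)) = ρ (hh a) * (ρ (uu β) + ρ (uu (β + l))) := by
  have h2 := two0 (F := F)
  obtain ⟨i, hi⟩ : ∃ i : F, i = (a⁻¹ : Fˣ) := ⟨_, rfl⟩
  have ai : (a : F) * i = 1 := by rw [hi]; simp
  have hd : (a : F) + i ≠ 0 := fun h => ha (sub_eq_zero.1 (pow_eq_zero_iff two_ne_zero |>.1
    (by linear_combination (a : F) * h - ai - (a : F) * h2 : ((a : F) - 1) ^ 2 = 0)))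
  have hm : (a : F) * l ≠ 0 := mul_ne_zero a.ne_zero hl
  obtain ⟨c, hc⟩ : ∃ c : F, c * (a * l) = a + i := ⟨(a + i) / (a * l), div_mul_cancel₀ _ hm⟩
  have c0 : c ≠ 0 := fun h => hd (by rw [← hc, h, zero_mul])
  obtain ⟨p, hp⟩ : ∃ p : F, p * (a + i) = 1 + a + c * (a * β) :=
    ⟨_ / (a + i), div_mul_cancel₀ _ hd⟩
  obtain ⟨q, hq⟩ : ∃ q : F, q * c = p * (p + 1) - 1 := ⟨_ / c, div_mul_cancel₀ _ c0⟩
  let g1 : SL(2, F) := mm p q c (p + 1) (by linear_combination -hq)
  let g2 : SL(2, F) := mm (p + 1) q c p (by linear_combination -hq)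
  let g3 : SL(2, F) := mm (p + a) (q + a * β) c (p + 1 + i)
    (by linear_combination -hq + hp + ai + (a + 1) * h2)
  let g4 : SL(2, F) := mm (p + a + 1) (q + a * β + a * l) c (p + i)
    (by linear_combination -hq + hp + ai - hc + h2)
  have e5 : hh a * uu β = mm (a : F) (a * β) 0 i (by linear_combination ai) := by
    apply sl_ext <;> simp only [mul_ent, hh, uu, mm00, mm01, mm10, mm11, hi] <;> ring
  have e6 : hh a * uu (β + l) = mm (a : F) (a * β + a * l) 0 i (by linear_combination ai) := by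
    apply sl_ext <;> simp only [mul_ent, hh, uu, mm00, mm01, mm10, mm11, hi] <;> ring
  have l1 := line ρ hρ 1 g1 g2 (by simp only [one_ent, g1, g2, mm00]; linear_combination (p + 1) * h2)
    (by simp only [one_ent, g1, g2, mm01]; linear_combination q * h2)
    (by simp only [one_ent, g1, g2, mm10]; linear_combination c * h2)
    (by simp only [one_ent, g1, g2, mm11]; linear_combination (p + 1) * h2)
  have l2 := line ρ hρ (uu (a * l)) g3 g4
    (by simp only [uu, g3, g4, mm00]; linear_combination (p + a + 1) * h2)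
    (by simp only [uu, g3, g4, mm01]; linear_combination (q + a * β + a * l) * h2)
    (by simp only [uu, g3, g4, mm10]; linear_combination c * h2)
    (by simp only [uu, g3, g4, mm11]; linear_combination (p + 1 + i) * h2)
  have l3 := line ρ hρ g1 g3 (hh a * uu β)
    (by simp only [e5, g1, g3, mm00]; linear_combination (p + a) * h2)
    (by simp only [e5, g1, g3, mm01]; linear_combination (q + a * β) * h2)
    (by simp only [e5, g1, g3, mm10]; linear_combination c * h2)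
    (by simp only [e5, g1, g3, mm11]; linear_combination (p + 1 + i) * h2)
  have l4 := line ρ hρ g2 g4 (hh a * uu (β + l))
    (by simp only [e6, g2, g4, mm00]; linear_combination (p + a + 1) * h2)
    (by simp only [e6, g2, g4, mm01]; linear_combination (q + a * β + a * l) * h2)
    (by simp only [e6, g2, g4, mm10]; linear_combination c * h2)
    (by simp only [e6, g2, g4, mm11]; linear_combination (p + i) * h2)
  rw [mul_add, ← map_mul, ← map_mul]
  rw [map_one] at l1
  rw [← sub_eq_zero]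
  calc _ = (1 + ρ g1 + ρ g2) + (ρ (uu (a * l)) + ρ g3 + ρ g4) - (ρ g1 + ρ g3 + ρ (hh a * uu β)) -
        (ρ g2 + ρ g4 + ρ (hh a * uu (β + l))) := by abel
    _ = 0 := by rw [l1, l2, l3, l4]; simp

theorem quad [Fintype F] (h4 : 4 ≤ Fintype.card F) (hρ : ∀ y, T1 y → 1 + ρ y + ρ y * ρ y = 0)
    {l : F} (hl : l ≠ 0) (β : F) : ρ (uu β) * (1 + ρ (uu l)) = 1 + ρ (uu l) := by
  obtain ⟨a, a0, a1⟩ := exists_a h4
  have e1 := four_lines ρ hρ (Units.mk0 a a0) a1 hl β
  have e2 := four_lines ρ hρ (Units.mk0 a a0) a1 hl 0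
  rw [e1] at e2
  have e3 := congrArg (fun r => ρ (hh (Units.mk0 a a0))⁻¹ * r) e2
  simp only [← mul_assoc, ← map_mul, inv_mul_cancel, map_one, one_mul, uu_zero, zero_add] at e3
  rw [mul_add, mul_one, ← map_mul, ← uu_add, e3]

/-- an element of trace one -/
def y0 (a : Fˣ) : SL(2, F) := mm 0 a (a⁻¹ : Fˣ) 1 (by simp [CharTwo.neg_eq])

theorem y0_T1 (a : Fˣ) : T1 (y0 a) := by simp [T1, y0]

theorem six [Fintype F] (h4 : 4 ≤ Fintype.card F) (hρ : ∀ y, T1 y → 1 + ρ y + ρ y * ρ y = 0) :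
    (6 : R) = 0 := by
  have := simple h4
  obtain ⟨a, a0, a1⟩ := exists_a h4
  let K : Subgroup SL(2, F) :=
    { carrier := {g | 2 * ρ g = 2}
      one_mem' := by simp
      mul_mem' := fun {g h} hg hh => by
        simp only [Set.mem_setOf_eq, map_mul] at *
        rw [← mul_assoc, hg, hh]
      inv_mem' := fun {g} hg => by
        simp only [Set.mem_setOf_eq] at *
        calc 2 * ρ g⁻¹ = 2 * ρ g * ρ g⁻¹ := by rw [hg]
          _ = 2 := by rw [mul_assoc, ← map_mul, mul_inv_cancel, map_one, mul_one] }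
  have hK : K.Normal := ⟨fun n hn g => by
    change 2 * ρ n = 2 at hn
    change 2 * ρ (g * n * g⁻¹) = 2
    rw [map_mul, map_mul]
    calc 2 * (ρ g * ρ n * ρ g⁻¹) = ρ g * (2 * ρ n) * ρ g⁻¹ := by noncomm_ring
      _ = 2 * (ρ g * ρ g⁻¹) := by rw [hn]; noncomm_ring
      _ = 2 := by rw [← map_mul, mul_inv_cancel, map_one, mul_one]⟩
  have q1 := quad ρ h4 hρ a0 1
  have q2 := quad ρ h4 hρ one_ne_zero a
  rw [mul_add, mul_one, ← map_mul, ← uu_add] at q1 q2
  rw [add_comm a 1] at q2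
  have e1 : 2 * ρ (uu 1) = 2 * ρ (uu a) := by
    rw [← sub_eq_zero]
    calc _ = (ρ (uu 1) + ρ (uu (1 + a)) - (1 + ρ (uu a))) -
          (ρ (uu a) + ρ (uu (1 + a)) - (1 + ρ (uu 1))) := by noncomm_ring
      _ = 0 := by rw [q1, q2]; simp
  have hm : uu (1 + a) ∈ K := by
    change 2 * ρ (uu (1 + a)) = 2
    rw [uu_add, map_mul, ← mul_assoc, e1, mul_assoc, ← map_mul, uu_sq, map_one, mul_one]
  rcases hK.eq_bot_or_eq_top with h | h
  · rw [h, mem_bot, ← uu_zero] at hm
    exact absurd (by linear_combination uu_inj hm : a = -1)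
      (by rw [CharTwo.neg_eq]; exact a1)
  · have hy : 2 * ρ (y0 1) = 2 := (h ▸ mem_top _ : y0 1 ∈ K)
    have e := hρ _ (y0_T1 1)
    calc (6 : R) = 2 + 2 + 2 := by norm_num
      _ = 2 + 2 * ρ (y0 1) + 2 * ρ (y0 1) * ρ (y0 1) := by rw [hy, hy]
      _ = 2 * (1 + ρ (y0 1) + ρ (y0 1) * ρ (y0 1)) := by rw [mul_add, mul_add, mul_one, mul_assoc]
      _ = 0 := by rw [e, mul_zero]

/-- an involution outside the Borel subgroup -/
def nn (a : Fˣ) : SL(2, F) := mm 0 a (a⁻¹ : Fˣ) 0 (by simp [CharTwo.neg_eq])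

theorem nn_sq (a : Fˣ) : nn a * nn a = 1 := by
  apply sl_ext <;> simp [mul_ent, nn]

theorem anti (hρ : ∀ y, T1 y → 1 + ρ y + ρ y * ρ y = 0) (a : Fˣ) :
    ρ (uu a) * ρ (nn a) + ρ (nn a) * ρ (uu a) + 1 = 0 := by
  have h2 := two0 (F := F)
  rw [← map_mul, ← map_mul, ← map_one ρ]
  refine line ρ hρ _ _ _ ?_ ?_ ?_ ?_ <;>
    simp only [mul_ent, one_ent, uu, nn, mm00, mm01, mm10, mm11] <;> simp
  · linear_combination h2
  · linear_combination (a : F) * h2
  · linear_combination (a : F)⁻¹ * h2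
  · linear_combination h2

end Ring

end H21.K3H
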