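import Mathlib
import Cfsg.Agent.H21.K3H0
import Cfsg.Agent.H20.GoldR1
import Cfsg.Agent.H23.T1

/-!
# Higman's theorem: the normal `2`-subgroup is elementary abelian and quadratic
-/

set_option autoImplicit false
set_option linter.unusedSectionVars false
set_option linter.unusedVariables false

namespace H21.K3H

open Cfsg H24 H26 H26.Gold Matrix Subgroup
open scoped MatrixGroups commutatorElement

universe u

variable {F : Type} [Field F] [CharP F 2] [Fintype F]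

section Mod

variable {A : Type u} [CommGroup A] (α : SL(2, F) →* MulAut A)

/-- the additive form of the action -/
def rho : SL(2, F) →* AddMonoid.End (Additive A) where
  toFun g := MonoidHom.toAdditive (α g).toMonoidHom
  map_one' := by rw [map_one]; rfl
  map_mul' g h := by rw [map_mul]; rfl

theorem rho_ap (g : SL(2, F)) (a : A) : rho α g (Additive.ofMul a) = Additive.ofMul (α g a) := rfl

theorem rho_hyp (hα : ∀ y, T1 y → ∀ a, a * α y a * α y (α y a) = 1) (y : SL(2, F)) (hy : T1 y) :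
    1 + rho α y + rho α y * rho α y = 0 := by
  ext a
  exact hα y hy a.toMul

theorem mod_sq (h4 : 4 ≤ Fintype.card F) (hα : ∀ y, T1 y → ∀ a, a * α y a * α y (α y a) = 1)
    {k : ℕ} (hk : ∀ a : A, a ^ 2 ^ k = 1) (a : A) : a * a = 1 := by
  have e := DFunLike.congr_fun (six (rho α) h4 (rho_hyp α hα)) (Additive.ofMul a)
  have e6 : a ^ 6 = 1 := by
    have : ((6 : ℕ) : AddMonoid.End (Additive A)) (Additive.ofMul a) = 0 := e
    rw [AddMonoid.End.natCast_apply] at this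
    exact this
  have h1 : orderOf (a * a) ∣ 3 := orderOf_dvd_of_pow_eq_one (by rw [← e6, ← pow_two, ← pow_mul])
  have h2 : orderOf (a * a) ∣ 2 ^ k := orderOf_dvd_of_pow_eq_one (hk _)
  have h3 : Nat.Coprime 3 (2 ^ k) := Nat.Coprime.pow_right k (by norm_num)
  exact orderOf_eq_one_iff.1 (Nat.eq_one_of_dvd_coprimes h3 h1 h2)

theorem mod_quad (h4 : 4 ≤ Fintype.card F) (hα : ∀ y, T1 y → ∀ a, a * α y a * α y (α y a) = 1)
    {l : F} (hl : l ≠ 0) (β : F) (a : A) : α (uu β) (a * α (uu l) a) = a * α (uu l) a :=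
  DFunLike.congr_fun (quad (rho α) h4 (rho_hyp α hα) hl β) (Additive.ofMul a)

theorem mod_anti (hα : ∀ y, T1 y → ∀ a, a * α y a * α y (α y a) = 1) (l : Fˣ) (a : A) :
    α (uu l) (α (nn l) a) * α (nn l) (α (uu l) a) * a = 1 :=
  DFunLike.congr_fun (anti (rho α) (rho_hyp α hα) l) (Additive.ofMul a)

theorem mod_free (hα : ∀ y, T1 y → ∀ a, a * α y a * α y (α y a) = 1) (h2 : ∀ a : A, a * a = 1)
    (l : Fˣ) (a : A) (h : α (uu l) a = a) : a = α (nn l) a * α (uu l) (α (nn l) a) := by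
  have e := mod_anti α hα l a
  rw [h] at e
  calc a = (α (uu l) (α (nn l) a) * α (nn l) a * a) * a := by rw [e, one_mul]
    _ = _ := by rw [mul_assoc, h2, mul_one, mul_comm]

theorem mod_card [Finite A] (hα : ∀ y, T1 y → ∀ a, a * α y a * α y (α y a) = 1)
    (h2 : ∀ a : A, a * a = 1) (l : Fˣ) :
    Nat.card A = Nat.card {a : A // α (uu l) a = a} * Nat.card {a : A // α (uu l) a = a} := by
  rw [← Nat.card_prod]
  symm
  have ss : ∀ a, α (uu l) (α (uu l) a) = a := fun a => by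
    rw [← MulAut.mul_apply, ← map_mul, uu_sq, map_one, MulAut.one_apply]
  refine Nat.card_eq_of_bijective (fun p => p.1.1 * α (nn l) p.2.1) ⟨?_, fun a => ?_⟩
  · rintro ⟨⟨a, ha⟩, ⟨b, hb⟩⟩ ⟨⟨c, hc⟩, ⟨d, hd⟩⟩ e
    simp only at e
    have e1 : α (nn l) (b * d⁻¹) = a⁻¹ * c := by
      rw [map_mul, map_inv, eq_inv_mul_iff_mul_eq, ← mul_assoc, e, mul_inv_cancel_right]
    have f1 : α (uu l) (b * d⁻¹) = b * d⁻¹ := by rw [map_mul, map_inv, hb, hd]
    have e2 := mod_free α hα h2 l _ f1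
    rw [e1, map_mul, map_inv, ha, hc, h2] at e2
    have e3 : b = d := mul_inv_eq_one.1 e2
    subst e3
    have e4 : a = c := mul_right_cancel e
    subst e4
    rfl
  · refine ⟨⟨⟨α (nn l) a * α (uu l) (α (nn l) a), by rw [map_mul, ss, mul_comm]⟩,
      ⟨a * α (uu l) a, by rw [map_mul, ss, mul_comm]⟩⟩, ?_⟩
    have e := mod_anti α hα l a
    simp only [map_mul]
    have e' : α (uu l) (α (nn l) a) * α (nn l) (α (uu l) a) = a := by
      rw [eq_inv_of_mul_eq_one_left e, inv_eq_of_mul_eq_one_left (h2 a)]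
    rw [mul_mul_mul_comm, h2, one_mul, e']

end Mod

section Cls

variable {Y : Type u} [Group Y] {S : Subgroup Y} {y z a b : Y}

/-- the identity satisfied by a fixed point free automorphism of order three -/
def Id3 (S : Subgroup Y) (y : Y) : Prop :=
  ∀ a ∈ S, a * (y * a * y⁻¹) * (y * (y * a * y⁻¹) * y⁻¹) = 1

theorem Id3.comm (h : Id3 S y) (ha : a ∈ S) : ⁅a, y * a * y⁻¹⁆ = 1 := by
  have h1 := h a ha
  have h2 := h a⁻¹ (inv_mem ha)
  have h4 : (y * (y * a * y⁻¹) * y⁻¹) * ((y * a * y⁻¹) * a) = 1 := by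
    rw [← inv_eq_one, ← h2]; group
  rw [commutatorElement_eq_one_iff_mul_comm, eq_inv_of_mul_eq_one_left h1,
    eq_inv_of_mul_eq_one_right h4]

theorem cl (hc : ∀ a ∈ S, ∀ b ∈ S, ∀ g ∈ S, g * ⁅a, b⁆ = ⁅a, b⁆ * g) {c : Y} (ha : a ∈ S)
    (hb : b ∈ S) (hc' : c ∈ S) : ⁅a * b, c⁆ = ⁅a, c⁆ * ⁅b, c⁆ := by
  calc ⁅a * b, c⁆ = a * ⁅b, c⁆ * (c * a⁻¹ * c⁻¹) := by simp only [commutatorElement_def]; group
    _ = ⁅b, c⁆ * ⁅a, c⁆ := by rw [hc b hb c hc' a ha]; simp only [commutatorElement_def]; group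
    _ = _ := hc a ha c hc' _ (commutatorElement_def b c ▸
        mul_mem (mul_mem (mul_mem hb hc') (inv_mem hb)) (inv_mem hc'))

theorem cr (hc : ∀ a ∈ S, ∀ b ∈ S, ∀ g ∈ S, g * ⁅a, b⁆ = ⁅a, b⁆ * g) {c : Y} (ha : a ∈ S)
    (hb : b ∈ S) (hc' : c ∈ S) : ⁅a, b * c⁆ = ⁅a, b⁆ * ⁅a, c⁆ := by
  calc ⁅a, b * c⁆ = ⁅a, b⁆ * (b * ⁅a, c⁆) * b⁻¹ := by simp only [commutatorElement_def]; group
    _ = _ := by rw [hc a ha c hc' b hb]; group

theorem adj [hS : S.Normal] (hc : ∀ a ∈ S, ∀ b ∈ S, ∀ g ∈ S, g * ⁅a, b⁆ = ⁅a, b⁆ * g)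
    (h : Id3 S y) (ha : a ∈ S) (hb : b ∈ S) : ⁅a, y * b * y⁻¹⁆ = ⁅y * a * y⁻¹, b⁆ := by
  have ha' := hS.conj_mem a ha y
  have hb' := hS.conj_mem b hb y
  have e := h.comm (mul_mem ha hb)
  rw [show y * (a * b) * y⁻¹ = y * a * y⁻¹ * (y * b * y⁻¹) by group, cl hc ha hb (mul_mem ha' hb'), cr hc ha ha' hb', cr hc hb ha' hb',
    h.comm ha, h.comm hb, one_mul, mul_one] at e
  rw [eq_inv_of_mul_eq_one_left e, commutatorElement_inv]

theorem conj_cm (y a b : Y) : y * ⁅a, b⁆ * y⁻¹ = ⁅y * a * y⁻¹, y * b * y⁻¹⁆ := by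
  simp only [commutatorElement_def]; group

theorem act_comm [hS : S.Normal] (hc : ∀ a ∈ S, ∀ b ∈ S, ∀ g ∈ S, g * ⁅a, b⁆ = ⁅a, b⁆ * g)
    (h : Id3 S y) (h' : Id3 S z) (ha : a ∈ S) (hb : b ∈ S) :
    y * (z * ⁅a, b⁆ * z⁻¹) * y⁻¹ = z * (y * ⁅a, b⁆ * y⁻¹) * z⁻¹ := by
  have r : ∀ {w a b : Y}, Id3 S w → a ∈ S → b ∈ S →
      w * ⁅a, b⁆ * w⁻¹ = ⁅a, w * (w * b * w⁻¹) * w⁻¹⁆ := fun {w a b} h ha hb => by
    rw [conj_cm, adj hc h ha (hS.conj_mem b hb w)]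
  have l : ∀ {w a b : Y}, Id3 S w → a ∈ S → b ∈ S →
      w * ⁅a, b⁆ * w⁻¹ = ⁅w * (w * a * w⁻¹) * w⁻¹, b⁆ := fun {w a b} h ha hb => by
    rw [conj_cm, adj hc h (hS.conj_mem a ha w) hb]
  rw [r h' ha hb, l h ha (hS.conj_mem _ (hS.conj_mem b hb z) z), l h ha hb,
    r h' (hS.conj_mem _ (hS.conj_mem a ha y) y) hb]

end Cls

section Grp

variable {X : Type u} [Group X] [Finite X] (ψ : X →* SL(2, F))

theorem id3 (hψ : Function.Surjective ψ) (hQ : IsPi {2} ψ.ker)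
    (hy : ∀ y, orderOf y = 3 → ψ.ker ⊓ C{y} = ⊥) {g : X} (hg : T1 (ψ g)) : Id3 ψ.ker g := by
  obtain ⟨k, hk⟩ := hQ.card_eq_pow Nat.prime_two
  have hN : ∀ x : X, x ∈ N[ψ.ker] := fun x => by rw [normalizer_eq_top]; trivial
  have g3 : g ^ 3 ∈ ψ.ker := by rw [MonoidHom.mem_ker, map_pow, hg.cube]
  have e1 : (g ^ 3) ^ 2 ^ k = 1 := by
    rw [← hk]; exact orderOf_dvd_iff_pow_eq_one.1 (orderOf_dvd_card' g3)
  obtain ⟨m, hm⟩ : ∃ m, 2 ^ k * 2 ^ k = 3 * m + 1 := by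
    refine ⟨4 ^ k / 3, ?_⟩
    have : 4 ^ k % 3 = 1 := by rw [Nat.pow_mod]; simp
    rw [← mul_pow, show 2 * 2 = 4 from rfl]; omega
  have y3 : (g ^ (2 ^ k * 2 ^ k)) ^ 3 = 1 := by
    rw [← pow_mul, mul_comm, ← mul_assoc, pow_mul, pow_mul, e1, one_pow]
  have ye : ψ (g ^ (2 ^ k * 2 ^ k)) = ψ g := by
    rw [map_pow, hm, pow_succ, pow_mul, hg.cube, one_pow, one_mul]
  generalize g ^ (2 ^ k * 2 ^ k) = y at y3 ye
  have := Fact.mk Nat.prime_three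
  have o3 : orderOf y = 3 := orderOf_eq_prime y3 fun h => hg.ne (by rw [← ye, h, map_one])
  have hx : g * y⁻¹ ∈ ψ.ker := by rw [MonoidHom.mem_ker, map_mul, map_inv, ye, mul_inv_cancel]
  obtain ⟨w, hw, e⟩ := exists_conj_of_fpf (hN y) (hy y o3) hx
  rw [inv_mul_cancel_right] at e
  have og : orderOf g = 3 := by rw [← e, orderOf_conj, o3]
  intro a ha
  exact H20.GR.fpf3 (hN g) (hy g og) (by rw [← og, pow_orderOf_eq_one]; exact one_mem _) ha

theorem eq_top (h4 : 4 ≤ Fintype.card F) (hψ : Function.Surjective ψ) (K : Subgroup X) [K.Normal]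
    (hK : ψ.ker ≤ K) {g : X} (hg : g ∈ K) (h1 : ψ g ≠ 1) : K = ⊤ := by
  have := simple h4
  have hn : (K.map ψ).Normal := Normal.map inferInstance ψ hψ
  rcases hn.eq_bot_or_eq_top with h | h
  · exact absurd (mem_bot.1 (h ▸ mem_map_of_mem ψ hg)) h1
  · rw [← comap_map_eq_self hK, h, comap_top]

theorem abl (h4 : 4 ≤ Fintype.card F) (hψ : Function.Surjective ψ) (hQ : IsPi {2} ψ.ker)
    (hy : ∀ y, orderOf y = 3 → ψ.ker ⊓ C{y} = ⊥) : ⁅ψ.ker, ψ.ker⁆ = ⊥ := by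
  refine (hQ.nil Nat.prime_two).eq_bot_of_le_comm (der1_le _) le_rfl ?_
  set N := ⁅⁅ψ.ker, ψ.ker⁆, ψ.ker⁆ with hN
  let π := QuotientGroup.mk' N
  have hπ : Function.Surjective π := QuotientGroup.mk'_surjective N
  have hS : (ψ.ker.map π).Normal := Normal.map inferInstance π hπ
  have hD : (⁅ψ.ker, ψ.ker⁆.map π).Normal := Normal.map inferInstance π hπ
  have hc0 : ψ.ker.map π ≤ C[⁅ψ.ker, ψ.ker⁆.map π] := by
    rw [← comm_eq_bot', ← map_commutator, Subgroup.map_eq_bot_iff, QuotientGroup.ker_mk']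
  have hc : ∀ a ∈ ψ.ker.map π, ∀ b ∈ ψ.ker.map π, ∀ g ∈ ψ.ker.map π, g * ⁅a, b⁆ = ⁅a, b⁆ * g :=
    fun a ha b hb g hg => comm_of_cent hc0 hg (by
      rw [map_commutator]; exact commutator_mem_commutator ha hb)
  have hi : ∀ g, T1 (ψ g) → Id3 (ψ.ker.map π) (π g) := by
    rintro g hg _ ⟨a, ha, rfl⟩
    simp only [← map_inv, ← map_mul]
    rw [id3 ψ hψ hQ hy hg a ha, map_one]
  obtain ⟨a, a0, a1⟩ := exists_a h4
  obtain ⟨g1, e1⟩ := hψ (y0 1)
  obtain ⟨g2, e2⟩ := hψ (y0 (Units.mk0 a a0))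
  have i1 := hi g1 (e1 ▸ y0_T1 _)
  have i2 := hi g2 (e2 ▸ y0_T1 _)
  have hK : (C[⁅ψ.ker, ψ.ker⁆.map π]).comap π = ⊤ := by
    refine eq_top ψ h4 hψ _ (map_le_iff_le_comap.1 hc0) (g := (g2 * g1)⁻¹ * (g1 * g2)) ?_ ?_
    · rw [mem_comap, mem_C_iff_le_C1, map_commutator, commutator_le]
      intro a ha b hb
      rw [mem_C1_comm, mem_C1_iff_conj]
      have e := act_comm hc i1 i2 ha hb
      simp only [map_mul, map_inv]
      calc _ = (π g2 * π g1)⁻¹ * (π g1 * (π g2 * ⁅a, b⁆ * (π g2)⁻¹) * (π g1)⁻¹) * (π g2 * π g1) := by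
            group
        _ = _ := by rw [e]; group
    · rw [map_mul, map_inv, Ne, inv_mul_eq_one, map_mul, map_mul, e1, e2]
      intro h
      have := congrArg (fun A : SL(2, F) => A.1 0 1) h
      simp only [mul_ent, y0, mm00, mm01, mm10, mm11] at this
      exact a1 (by simpa using this)
  intro c hc'
  have hcQ : c ∈ ψ.ker := der1_le _ hc'
  have e := i1 (π c) (mem_map_of_mem π hcQ)
  have hg : π g1 ∈ C[⁅ψ.ker, ψ.ker⁆.map π] := mem_comap.1 (hK ▸ mem_top g1)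
  rw [conj_eq_of_mem_C hg (mem_map_of_mem π hc'), conj_eq_of_mem_C hg (mem_map_of_mem π hc')] at e
  obtain ⟨k, hk⟩ := hQ.card_eq_pow Nat.prime_two
  have h1 : orderOf (π c) ∣ 3 := orderOf_dvd_of_pow_eq_one (by rw [pow_three, ← mul_assoc, e])
  have h2 : orderOf (π c) ∣ 2 ^ k := (orderOf_map_dvd π c).trans (hk ▸ orderOf_dvd_card' hcQ)
  have h3 : Nat.Coprime 3 (2 ^ k) := Nat.Coprime.pow_right k (by norm_num)
  exact (QuotientGroup.eq_one_iff c).1 (orderOf_eq_one_iff.1 (Nat.eq_one_of_dvd_coprimes h3 h1 h2))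

/-- the elementwise form of Higman's theorem -/
theorem core (h4 : 4 ≤ Fintype.card F) (hψ : Function.Surjective ψ) (hQ : IsPi {2} ψ.ker)
    (hy : ∀ y, orderOf y = 3 → ψ.ker ⊓ C{y} = ⊥) :
    (∀ q ∈ ψ.ker, q * q = 1) ∧ ∀ s l, ψ s = uu l → l ≠ 0 →
      (∀ s' β, ψ s' = uu β → ∀ q ∈ ψ.ker,
        s' * (q * (s * q * s⁻¹)) * s'⁻¹ = q * (s * q * s⁻¹)) ∧
      (∀ q ∈ ψ.ker, s * q * s⁻¹ = q → ∃ b ∈ ψ.ker, q = b * (s * b * s⁻¹)) ∧
      ♯ψ.ker = ♯(ψ.ker ⊓ C{s} : Subgroup X) * ♯(ψ.ker ⊓ C{s} : Subgroup X) := by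
  have hab : Abl ψ.ker := der1_eq_bot.1 (abl ψ h4 hψ hQ hy)
  letI : CommGroup ψ.ker :=
    { (inferInstance : Group ψ.ker) with
      mul_comm := fun a b => Subtype.ext (hab.comm a.2 b.2) }
  have hk : ψ.ker ≤ (MulAut.conjNormal : X →* MulAut ψ.ker).ker := fun g hg => by
    rw [MonoidHom.mem_ker]
    ext a
    simp only [MulAut.conjNormal_apply, MulAut.one_apply]
    exact conj_eq_of_mem_C (hab.le_C hg) a.2
  let α : SL(2, F) →* MulAut ψ.ker := ψ.liftOfSurjective hψ ⟨_, hk⟩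
  have hα0 : ∀ (g : X) (a : ψ.ker), (α (ψ g) a : X) = g * a * g⁻¹ := fun g a => by
    have : α (ψ g) = MulAut.conjNormal g := MonoidHom.liftOfRightInverse_comp_apply _ _ _ _ _
    rw [this, MulAut.conjNormal_apply]
  have hα : ∀ y, T1 y → ∀ a, a * α y a * α y (α y a) = 1 := fun y hy' a => by
    obtain ⟨g, rfl⟩ := hψ y
    apply Subtype.ext
    simp only [coe_mul, hα0, coe_one]
    exact id3 ψ hψ hQ hy hy' a a.2
  obtain ⟨k, hk⟩ := hQ.card_eq_pow Nat.prime_two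
  have h2 : ∀ a : ψ.ker, a * a = 1 := mod_sq α h4 hα (k := k) fun a => by
    rw [← hk]; exact pow_card_eq_one'
  refine ⟨fun q hq => congrArg Subtype.val (h2 ⟨q, hq⟩), fun s l hs l0 => ⟨?_, ?_, ?_⟩⟩
  · intro s' β hs' q hq
    have e := congrArg Subtype.val (mod_quad α h4 hα l0 β ⟨q, hq⟩)
    rw [← hs, ← hs'] at e
    simpa only [coe_mul, hα0] using e
  · intro q hq e
    have e1 := mod_free α hα h2 (Units.mk0 l l0) ⟨q, hq⟩ (Subtype.ext (by
      rw [Units.val_mk0, ← hs, hα0]; exact e))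
    refine ⟨_, (α (nn (Units.mk0 l l0)) ⟨q, hq⟩).2, ?_⟩
    have e2 := congrArg Subtype.val e1
    rw [Units.val_mk0, ← hs] at e2
    simpa only [coe_mul, hα0] using e2
  · have e := mod_card α hα h2 (Units.mk0 l l0)
    have e1 : Nat.card {a : ψ.ker // α (uu (Units.mk0 l l0 : Fˣ)) a = a} =
        ♯(ψ.ker ⊓ C{s} : Subgroup X) := by
      refine Nat.card_eq_of_bijective (fun a => ⟨a.1.1, a.1.2, mem_C1_comm.1 (mem_C1_iff_conj.2 ?_)⟩)
        ⟨fun a b h => Subtype.ext (Subtype.ext (Subtype.mk.inj h)), fun a => ?_⟩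
      · exact (hα0 s a.1).symm.trans (by rw [hs]; exact congrArg Subtype.val a.2)
      · refine ⟨⟨⟨a.1, a.2.1⟩, Subtype.ext ?_⟩, rfl⟩
        rw [Units.val_mk0, ← hs, hα0]
        exact mem_C1_iff_conj.1 (mem_C1_comm.1 a.2.2)
    rw [e1] at e
    exact e

end Grp

end H21.K3H
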