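import Mathlib
import Cfsg.Agent.H21.K3H1
import Cfsg.Agent.S0252

/-!
# Higman's theorem on extensions of `2`-groups by `SL(2, 2^n)`
-/

set_option autoImplicit false
set_option linter.unusedSectionVars false
set_option linter.unusedVariables false

namespace H21.K3H

open Cfsg H24 H26 H26.Gold Matrix Subgroup
open scoped MatrixGroups commutatorElement

universe u

variable {F : Type} [Field F] [CharP F 2] [Fintype F]

/-- the upper unitriangular matrices -/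
def uh : Multiplicative F →* SL(2, F) where
  toFun b := uu b.toAdd
  map_one' := uu_zero
  map_mul' a b := uu_add _ _

/-- the diagonal matrices -/
def dh : Fˣ →* SL(2, F) where
  toFun := hh
  map_one' := hh_one
  map_mul' := hh_mul

theorem uh_inj : Function.Injective (uh : Multiplicative F →* SL(2, F)) :=
  fun _ _ h => Multiplicative.toAdd.injective (uu_inj h)

theorem dh_inj : Function.Injective (dh : Fˣ →* SL(2, F)) :=
  fun _ _ h => Units.ext (congrArg (fun A : SL(2, F) => A.1 0 0) h)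

theorem pow_ent {A : SL(2, F)} (h : A.1 1 0 = 0) (n : ℕ) :
    (A ^ n).1 1 0 = 0 ∧ (A ^ n).1 0 0 = A.1 0 0 ^ n := by
  induction n with
  | zero => simp
  | succ n ih => rw [pow_succ, mul_ent, mul_ent, ih.1, ih.2, h, pow_succ]; simp

theorem mem_of_norm {A : SL(2, F)} {k : ℕ} {b : F} (h1 : A ^ 2 ^ k = 1)
    (h2 : A * uu 1 = uu b * A) : ∃ c, A = uu c := by
  have e1 := congrArg (fun A : SL(2, F) => A.1 1 1) h2
  simp only [mul_ent, uu, mm00, mm01, mm10, mm11] at e1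
  have c0 : A.1 1 0 = 0 := by linear_combination e1
  have e2 := (pow_ent c0 (2 ^ k)).2
  rw [h1, one_ent.1] at e2
  have a1 : A.1 0 0 = 1 := by
    have : (A.1 0 0 - 1) ^ 2 ^ k = 0 := by rw [sub_pow_char_pow, ← e2, one_pow, sub_self]
    exact sub_eq_zero.1 (pow_eq_zero_iff (by positivity) |>.1 this)
  have hd := det_ent A
  rw [c0, a1] at hd
  refine ⟨A.1 0 1, sl_ext a1 rfl c0 ?_⟩
  simp only [uu, mm11]
  linear_combination hd

section Grp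

variable {X : Type u} [Group X] [Finite X] (ψ : X →* SL(2, F))

/-- the preimage of the unitriangular group -/
def TT : Subgroup X := (uh (F := F)).range.comap ψ

theorem mem_TT {g : X} : g ∈ TT ψ ↔ ∃ b, ψ g = uu b :=
  ⟨fun ⟨b, h⟩ => ⟨b.toAdd, h.symm⟩, fun ⟨b, h⟩ => ⟨Multiplicative.ofAdd b, h.symm⟩⟩

theorem ker_le_TT : ψ.ker ≤ TT ψ := fun g hg => (mem_TT ψ).2 ⟨0, by rw [uu_zero]; exact hg⟩

theorem card_TT (hψ : Function.Surjective ψ) : ♯(TT ψ) = ♯ψ.ker * Fintype.card F := by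
  rw [← card_mul_relIndex (ker_le_TT ψ), relIndex_ker, TT, map_comap_eq_self_of_surjective hψ,
    ← Nat.card_congr (MonoidHom.ofInjective uh_inj).toEquiv, Nat.card_eq_fintype_card (α := Multiplicative F),
    Fintype.card_multiplicative]

theorem two_TT (hψ : Function.Surjective ψ) (hQ : IsPi {2} ψ.ker) : IsPi {2} (TT ψ) := by
  obtain ⟨k, hk⟩ := hQ.card_eq_pow Nat.prime_two
  obtain ⟨n, -, hn⟩ := FiniteField.card F 2
  exact isPi_of_card (n := k + n) Nat.prime_two (by rw [card_TT ψ hψ, hk, hn, pow_add])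

theorem syl_TT (hψ : Function.Surjective ψ) (hQ : IsPi {2} ψ.ker) : Syl 2 ⊤ (TT ψ) := by
  refine syl_of_max Nat.prime_two (two_TT ψ hψ hQ) le_top fun P hP hle _ => ?_
  by_contra hn
  obtain ⟨y, hy, hN, hT⟩ := H23.TC.exists_norm_lt hP hle hn
  obtain ⟨s, hs⟩ := hψ (uu 1)
  obtain ⟨b, hb⟩ := (mem_TT ψ).1 (H24.conj_mem hN ((mem_TT ψ).2 ⟨1, hs⟩))
  obtain ⟨k, hk⟩ := hP.card_eq_pow Nat.prime_two
  refine hT ((mem_TT ψ).2 (mem_of_norm (k := k) (b := b) ?_ ?_))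
  · rw [← map_pow, ← hk, orderOf_dvd_iff_pow_eq_one.1 (orderOf_dvd_card' hy), map_one]
  · rw [← hb, ← hs, map_mul, map_mul, map_inv, inv_mul_cancel_right]

/-- the conclusion for a Sylow subgroup -/
def Co (Q L T : Subgroup X) (q : ℕ) : Prop :=
  Q ≤ T ∧ ♯T = ♯Q * q ∧ ♯Q = ♯(Q ⊓ C[T] : Subgroup X) * ♯(Q ⊓ C[T] : Subgroup X) ∧
    ⁅T, T⁆ ≤ Q ⊓ C[T] ∧ (∀ s ∈ T, s * s ∈ Q ⊓ C[T] ∧ (s ∉ Q → Q ⊓ C{s} = Q ⊓ C[T] ∧
      ∀ z ∈ Q ⊓ C[T], ∃ q ∈ Q, z = q⁻¹ * (s * q * s⁻¹))) ∧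
    ∃ x ∈ L, x ∈ N[T] ∧ orderOf x = q - 1

theorem co_TT (h4 : 4 ≤ Fintype.card F) (hψ : Function.Surjective ψ) (hQ : IsPi {2} ψ.ker)
    (hy : ∀ y, orderOf y = 3 → ψ.ker ⊓ C{y} = ⊥) : Co ψ.ker ⊤ (TT ψ) (Fintype.card F) := by
  obtain ⟨h2, hc⟩ := core ψ h4 hψ hQ hy
  have hea : EA ψ.ker := ea_of_sq h2
  have hZ : ∀ s ∈ TT ψ, s ∉ ψ.ker → ψ.ker ⊓ C{s} = ψ.ker ⊓ C[TT ψ] ∧
      (∀ z ∈ ψ.ker ⊓ C[TT ψ], ∃ q ∈ ψ.ker, z = q⁻¹ * (s * q * s⁻¹)) ∧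
      ♯ψ.ker = ♯(ψ.ker ⊓ C{s} : Subgroup X) * ♯(ψ.ker ⊓ C{s} : Subgroup X) := fun s hs hn => by
    obtain ⟨l, hl⟩ := (mem_TT ψ).1 hs
    have l0 : l ≠ 0 := fun h => hn (by rw [MonoidHom.mem_ker, hl, h, uu_zero])
    obtain ⟨c1, c2, c3⟩ := hc s l hl l0
    refine ⟨le_antisymm ?_ (inf_le_inf_left _ (C_le_C1 hs)), ?_, c3⟩
    · intro q hq
      refine ⟨hq.1, mem_C.2 fun s' hs' => ?_⟩
      obtain ⟨b, hb, rfl⟩ := c2 q hq.1 (mem_C1_iff_conj.1 (mem_C1_comm.1 hq.2))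
      obtain ⟨β, hβ⟩ := (mem_TT ψ).1 hs'
      exact H23.TC.comm_of_conj (c1 s' β hβ b hb)
    · intro z hz
      obtain ⟨b, hb, e⟩ := c2 z hz.1 (H23.TC.conj_of_comm (mem_C.1 hz.2 s hs))
      exact ⟨b, hb, by rw [hea.inv hb]; exact e⟩
  have hsq : ∀ s ∈ TT ψ, s * s ∈ ψ.ker ⊓ C[TT ψ] := fun s hs => by
    by_cases hn : s ∈ ψ.ker
    · rw [h2 s hn]; exact one_mem _
    · obtain ⟨l, hl⟩ := (mem_TT ψ).1 hs
      rw [← (hZ s hs hn).1]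
      exact ⟨MonoidHom.mem_ker.2 (by rw [map_mul, hl, uu_sq]), mem_C1.2 (mul_assoc _ _ _)⟩
  refine ⟨ker_le_TT ψ, card_TT ψ hψ, ?_, ?_,
    fun s hs => ⟨hsq s hs, fun hn => ⟨(hZ s hs hn).1, (hZ s hs hn).2.1⟩⟩, ?_⟩
  · obtain ⟨s, hs⟩ := hψ (uu 1)
    have h1 : s ∈ TT ψ := (mem_TT ψ).2 ⟨1, hs⟩
    have hn : s ∉ ψ.ker := fun h => one_ne_zero (α := F)
      (uu_inj (by rw [← hs, uu_zero]; exact h))
    rw [← (hZ s h1 hn).1]
    exact (hZ s h1 hn).2.2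
  · rw [commutator_le]
    intro a ha b hb
    have e : ⁅a, b⁆ = a * a * (a⁻¹ * b * (a⁻¹ * b)) * (b⁻¹ * b⁻¹) := by
      rw [commutatorElement_def]; group
    rw [e]
    exact mul_mem (mul_mem (hsq a ha) (hsq _ (mul_mem (inv_mem ha) hb))) (hsq _ (inv_mem hb))
  · obtain ⟨a, ha⟩ := IsCyclic.exists_ofOrder_eq_natCard (α := Fˣ)
    rw [Nat.card_units, Nat.card_eq_fintype_card] at ha
    obtain ⟨x, hx⟩ := hψ (dh a)
    obtain ⟨k, hk⟩ := hQ.card_eq_pow Nat.prime_two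
    have oa : orderOf (dh a) = Fintype.card F - 1 := by rw [orderOf_injective dh dh_inj, ha]
    have hco : Nat.Coprime (Fintype.card F - 1) (2 ^ k) := by
      obtain ⟨n, -, hn⟩ := FiniteField.card F 2
      refine Nat.Coprime.pow_right k ((Nat.coprime_two_right).2 ?_)
      refine Nat.Even.sub_odd (by omega) ?_ odd_one
      rw [hn]; exact (Nat.even_pow' n.ne_zero).2 even_two
    refine ⟨x ^ 2 ^ k, mem_top _, pow_mem (mem_N_of_finite fun s hs => ?_) _, ?_⟩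
    · obtain ⟨l, hl⟩ := (mem_TT ψ).1 hs
      refine (mem_TT ψ).2 ⟨a * a * l, ?_⟩
      rw [map_mul, map_mul, map_inv, hx, hl, mul_inv_eq_iff_eq_mul]
      exact hh_uu a l
    · refine Nat.dvd_antisymm (orderOf_dvd_of_pow_eq_one ?_) ?_
      · have : x ^ (Fintype.card F - 1) ∈ ψ.ker := by
          rw [MonoidHom.mem_ker, map_pow, hx, ← oa, pow_orderOf_eq_one]
        rw [← pow_mul, mul_comm, pow_mul, ← hk]
        exact orderOf_dvd_iff_pow_eq_one.1 (orderOf_dvd_card' this)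
      · have := orderOf_map_dvd ψ (x ^ 2 ^ k)
        rwa [map_pow, hx, Nat.Coprime.orderOf_pow (by rw [oa]; exact hco), oa] at this

theorem co_top (h4 : 4 ≤ Fintype.card F) (hψ : Function.Surjective ψ) (hQ : IsPi {2} ψ.ker)
    (hy : ∀ y, orderOf y = 3 → ψ.ker ⊓ C{y} = ⊥) {T : Subgroup X} (hT : Syl 2 ⊤ T) :
    Co ψ.ker ⊤ T (Fintype.card F) := by
  obtain ⟨g, -, rfl⟩ := Sylow_trans Nat.prime_two (syl_TT ψ hψ hQ) hT
  let ψ' : X →* SL(2, F) := ψ.comp (MulAut.conj g⁻¹).toMonoidHom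
  have e0 : ∀ x, ψ' x = ψ (g⁻¹ * x * g) := fun x => by simp [ψ']
  have e1 : ψ'.ker = ψ.ker := by
    ext x
    rw [MonoidHom.mem_ker, e0, ← MonoidHom.mem_ker]
    exact Normal.mem_comm_iff inferInstance |>.trans (by rw [mul_inv_cancel_left])
  have e2 : TT ψ' = cj g (TT ψ) := by
    ext x
    rw [mem_cj, mem_TT, mem_TT, e0]
  have := co_TT ψ' h4 (hψ.comp (MulAut.conj g⁻¹).surjective) (e1 ▸ hQ) (e1 ▸ hy)
  rwa [e1, e2] at this

end Grp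

variable {G : Type u} [Group G] [Finite G] {Q L : Subgroup G}

theorem higman_sl (h4 : 4 ≤ Fintype.card F) (hn : Q ⊴ L) (hQ : IsPi {2} Q) (ψ : L →* SL(2, F))
    (hψ : Function.Surjective ψ) (hk : ψ.ker = Q.subgroupOf L)
    (hy : ∀ y ∈ L, orderOf y = 3 → Q ⊓ C{y} = ⊥) :
    IsElementaryAbelian 2 Q ∧ ∀ T, Syl 2 L T → Co Q L T (Fintype.card F) := by
  have hi : Function.Injective L.subtype := subtype_injective L
  have hQ' : IsPi {2} ψ.ker := hk ▸ isPi_subgroupOf hQ L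
  have hy' : ∀ y : L, orderOf y = 3 → ψ.ker ⊓ C{y} = ⊥ := fun y ho => by
    rw [eq_bot_iff]
    intro q hq
    have : (q : G) ∈ Q ⊓ C{(y : G)} :=
      ⟨mem_subgroupOf.1 (hk ▸ hq.1), mem_C1.2 (congrArg Subtype.val (mem_C1.1 hq.2))⟩
    rw [hy y y.2 (by rw [orderOf_coe, ho]), mem_bot] at this
    exact mem_bot.2 (Subtype.ext this)
  have mQ : ψ.ker.map L.subtype = Q := by rw [hk, subgroupOf_map_subtype, inf_eq_left.2 hn.1]
  refine ⟨ea_of_sq fun q hq => ?_, fun T hT => ?_⟩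
  · exact congrArg Subtype.val ((core ψ h4 hψ hQ' hy').1 ⟨q, hn.1 hq⟩ (hk ▸ mem_subgroupOf.2 hq))
  have hT' : Syl 2 ⊤ (T.subgroupOf L) := by
    have := hT.subgroupOf le_rfl
    rwa [subgroupOf_self] at this
  have mT : (T.subgroupOf L).map L.subtype = T := by
    rw [subgroupOf_map_subtype, inf_eq_left.2 hT.le]
  obtain ⟨c1, c2, c3, c4, c5, x, -, c6, c7⟩ := co_top ψ h4 hψ hQ' hy' hT'
  generalize T.subgroupOf L = T' at *
  subst mT mQ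
  have cm : ∀ A : Subgroup L, ♯(A.map L.subtype) = ♯A := fun A => card_map_of_injective hi
  refine ⟨map_mono c1, by rw [cm, cm, c2], by rw [← map_inf_C hi, cm, cm]; exact c3,
    by rw [← map_inf_C hi, ← map_commutator]; exact map_mono c4, ?_,
    x, x.2, norm_map (zpowers_le.2 c6) L.subtype (mem_map_of_mem _ (mem_zpowers x)),
    by rw [orderOf_coe, c7]⟩
  rintro _ ⟨s, hs, rfl⟩
  obtain ⟨d1, d2⟩ := c5 s hs
  rw [← map_inf_C hi]
  refine ⟨by rw [← map_mul]; exact mem_map_of_mem _ d1, fun hn' => ?_⟩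
  obtain ⟨d3, d4⟩ := d2 fun h => hn' (mem_map_of_mem _ h)
  refine ⟨?_, ?_⟩
  · rw [← d3, ← C_zpowers, ← C_zpowers, map_inf_C hi, MonoidHom.map_zpowers]
  · rintro _ ⟨z, hz, rfl⟩
    obtain ⟨q, hq, rfl⟩ := d4 z hz
    exact ⟨q, mem_map_of_mem _ hq, rfl⟩

end H21.K3H

namespace H21.K3H

open Cfsg H24 Subgroup

universe u

theorem higman {G : Type u} [Group G] [Finite G] {F : Type} [Field F] [Fintype F] [CharP F 2]
    (h4 : 4 ≤ Fintype.card F) {Q L : Subgroup G} (hn : Q ⊴ L) (hQ : IsPi {2} Q)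
    (φ : L →* Matrix.ProjectiveSpecialLinearGroup (Fin 2) F) (hφ : Function.Surjective φ)
    (hk : φ.ker = Q.subgroupOf L) (hy : ∀ y ∈ L, orderOf y = 3 → Q ⊓ C{y} = ⊥) :
    IsElementaryAbelian 2 Q ∧ ∀ T, Syl 2 L T → Q ≤ T ∧ ♯T = ♯Q * Fintype.card F ∧
      ♯Q = ♯(Q ⊓ C[T] : Subgroup G) * ♯(Q ⊓ C[T] : Subgroup G) ∧ ⁅T, T⁆ ≤ Q ⊓ C[T] ∧
      (∀ s ∈ T, s * s ∈ Q ⊓ C[T] ∧ (s ∉ Q → Q ⊓ C{s} = Q ⊓ C[T] ∧
        ∀ z ∈ Q ⊓ C[T], ∃ q ∈ Q, z = q⁻¹ * (s * q * s⁻¹))) ∧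
      ∃ x ∈ L, x ∈ N[T] ∧ orderOf x = Fintype.card F - 1 :=
  higman_sl h4 hn hQ (pslEquiv.toMonoidHom.comp φ) (pslEquiv.surjective.comp hφ)
    (by rw [← hk]; ext x; simp [MonoidHom.mem_ker]) hy

theorem higman5 {G : Type u} [Group G] [Finite G] {Q L : Subgroup G} (hn : Q ⊴ L)
    (hQ : IsPi {2} Q) (φ : L →* alternatingGroup (Fin 5)) (hφ : Function.Surjective φ)
    (hk : φ.ker = Q.subgroupOf L) (hy : ∀ y ∈ L, orderOf y = 3 → Q ⊓ C{y} = ⊥) :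
    IsElementaryAbelian 2 Q ∧ ∀ T, Syl 2 L T → Q ≤ T ∧ ♯T = ♯Q * 4 ∧
      ♯Q = ♯(Q ⊓ C[T] : Subgroup G) * ♯(Q ⊓ C[T] : Subgroup G) ∧ ⁅T, T⁆ ≤ Q ⊓ C[T] ∧
      (∀ s ∈ T, s * s ∈ Q ⊓ C[T] ∧ (s ∉ Q → Q ⊓ C{s} = Q ⊓ C[T] ∧
        ∀ z ∈ Q ⊓ C[T], ∃ q ∈ Q, z = q⁻¹ * (s * q * s⁻¹))) ∧
      ∃ x ∈ L, x ∈ N[T] ∧ orderOf x = 3 := by
  have := Fact.mk Nat.prime_two
  have := Fintype.ofFinite (GaloisField 2 2)
  have hF : Fintype.card (GaloisField 2 2) = 4 := by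
    rw [← Nat.card_eq_fintype_card, GaloisField.card 2 2 two_ne_zero]; rfl
  obtain ⟨e⟩ := Cfsg.Agent.S0252.result hF
  have := higman hF.ge hn hQ (e.symm.toMonoidHom.comp φ) (e.symm.surjective.comp hφ)
    (by rw [← hk]; ext x; simp [MonoidHom.mem_ker]) hy
  rwa [hF] at this

end H21.K3H
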