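import Mathlib

/-! A verified search over principal blocks of defect one and values at involutions:
the computational part. -/

set_option autoImplicit false

namespace H21.Eng

/-- A prime `p`, the automiser order `e` and `c = |C(x)| / p`. -/
structure Pr where
  p : ℕ
  e : ℕ
  c : ℕ

/-- A degree with the block coefficients. -/
abbrev Rec := ℕ × List ℤ

abbrev Cell := Pr × ℤ × ℤ

def Pr.t (P : Pr) : ℕ := (P.p - 1) / P.e

def wt (P : Pr) (d : ℕ) : ℤ :=
  if d % P.p = 1 then P.t else if d % P.p = P.p - 1 then -P.t else if d % P.p = P.e then -1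
    else if d % P.p = P.p - P.e then 1 else 0

def cfs (N : ℕ) (P : Pr) (d : ℕ) : List ℤ :=
  (if P.c ≠ 1 ∨ d % P.p = 0 then [0] else []) ++
    if wt P d ≠ 0 ∧ N / (P.p * P.c) % d = 0 ∧ (P.c = 1 ∨ 2 * P.p ≤ d) then [wt P d] else []

def recs (N d : ℕ) : List Pr → List (List ℤ)
  | [] => [[]]
  | P :: Ps => (cfs N P d).flatMap fun a => (recs N d Ps).map (a :: ·)

/-! Forcing of values, to keep kernel terms small. -/

def fN (n : ℕ) (k : ℕ → Bool) : Bool := Nat.casesOn n (k 0) fun m => k m.succ

def fZ (z : ℤ) (k : ℤ → Bool) : Bool :=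
  match z with
  | .ofNat n => fN n fun n => k (.ofNat n)
  | .negSucc n => fN n fun n => k (.negSucc n)

def fL {α : Type} (f : α → (α → Bool) → Bool) : List α → (List α → Bool) → Bool
  | [], k => k []
  | a :: l, k => f a fun a => fL f l fun l => k (a :: l)

def fR (r : Rec) (k : Rec → Bool) : Bool := fN r.1 fun d => fL fZ r.2 fun f => k (d, f)

def fC (c : Cell) (k : Cell → Bool) : Bool := fZ c.2.1 fun l => fZ c.2.2 fun q => k (c.1, l, q)

@[simp] theorem fN_eq (n : ℕ) (k : ℕ → Bool) : fN n k = k n := by cases n <;> rfl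
@[simp] theorem fZ_eq (z : ℤ) (k : ℤ → Bool) : fZ z k = k z := by cases z <;> simp [fZ]
theorem fL_eq {α : Type} {f : α → (α → Bool) → Bool} (hf : ∀ a k, f a k = k a) (l : List α)
    (k : List α → Bool) : fL f l k = k l := by
  induction l generalizing k with
  | nil => rfl
  | cons a l ih => rw [fL, hf, ih]
@[simp] theorem fLZ_eq (l : List ℤ) (k : List ℤ → Bool) : fL fZ l k = k l := fL_eq fZ_eq l k
@[simp] theorem fR_eq (r : Rec) (k : Rec → Bool) : fR r k = k r := by simp [fR]
@[simp] theorem fC_eq (r : Cell) (k : Cell → Bool) : fC r k = k r := by simp [fC]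
@[simp] theorem fLR_eq (l : List Rec) (k : List Rec → Bool) : fL fR l k = k l := fL_eq fR_eq l k
@[simp] theorem fLC_eq (l : List Cell) (k : List Cell → Bool) : fL fC l k = k l := fL_eq fC_eq l k

/-! Columns of involutions. -/

def sqok (P : Pr) (C : ℕ) (q : ℤ) : Bool :=
  if P.e % 2 = 1 then q == 0 else decide (0 ≤ q) &&
    fN (P.p * P.c * q.toNat) fun T => fN (P.t * (C * P.p) ^ 2) fun W =>
      T % W == 0 && fN (T / W).sqrt fun j => j * j * W == T && decide (j ≤ P.c)

def cong (C d : ℕ) (v : ℤ) : List Pr → List ℤ → Bool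
  | P :: Ps, a :: f => (a == 0 || C % P.p != 0 || (d - v) % P.p == 0) && cong C d v Ps f
  | _, _ => true

def okv (N C : ℕ) (Ps : List Pr) (r : Rec) (v : ℤ) : Bool :=
  (r.1 - v) % 4 == 0 && v % (r.1 / r.1.gcd (N / C) : ℕ) == 0 && decide (v.natAbs < r.1) &&
    cong C r.1 v Ps r.2

def vals (N C : ℕ) (Ps : List Pr) (r : Rec) : List ℤ :=
  let s := r.1 / r.1.gcd (N / C)
  let K := C.sqrt / s
  ((List.range (2 * K + 1)).map fun k : ℕ => (s : ℤ) * (k - K)).filter (okv N C Ps r)

def exc : List Pr → List ℤ → Bool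
  | P :: Ps, a :: f => (a != 0 && a.natAbs != P.t) || exc Ps f
  | _, _ => false

def zs (k : ℕ) : List Rec → List Bool
  | [] => List.replicate k true
  | r :: R => List.zipWith (fun a b => a == 0 && b) r.2 (zs k R)

def upd (N d : ℕ) (v : ℤ) (st : List Cell) (f : List ℤ) : List Cell :=
  List.zipWith (fun c a => (c.1, c.2.1 + a * v, c.2.2 + a * (v * v * (N / d : ℕ)))) st f

def bad (C : ℕ) : List Cell → List ℤ → List Bool → Bool
  | c :: st, a :: f, b :: fl => (b && a != 0 && (c.2.1 != 0 || !sqok c.1 C c.2.2)) || bad C st f fl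
  | _, _, _ => false

def frc : List Cell → List ℤ → List Bool → Option ℤ
  | c :: st, a :: f, b :: fl => if b && a != 0 then some (-c.2.1 / a) else frc st f fl
  | _, _, _ => none

def opts (N C : ℕ) (Ps : List Pr) (r : Rec) (fl : List Bool) (pr : Rec) (pv : ℤ)
    (st : List Cell) : List ℤ :=
  if r.1 == pr.1 && exc Ps r.2 && r.2 == pr.2 then [pv] else
    match frc st r.2 fl with
    | some v => if okv N C Ps r v then [v] else []
    | none => vals N C Ps r

def colGo (N C : ℕ) (Ps : List Pr) (Q : List ℤ → Bool) :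
    List Rec → Rec → ℤ → List Cell → ℕ → List ℤ → Bool
  | [], _, _, _, _, acc => Q acc
  | r :: R, pr, pv, st, nrm, acc => (opts N C Ps r (zs Ps.length R) pr pv st).all fun v =>
      fZ v fun v => fN (nrm + v.natAbs * v.natAbs) fun nrm => decide (C < nrm) ||
        fL fC (upd N r.1 v st r.2) fun st => bad C st r.2 (zs Ps.length R) ||
          colGo N C Ps Q R r v st nrm (v :: acc)

def okA (a C : ℕ) (P : Pr) : Bool :=
  C % (P.p * a) == 0 && (List.range (P.c * P.e / a + 1)).any fun i =>
    P.c * P.e % (a * i) == 0 && C % (P.p * (a * i)) == 0 && C / (P.p * (a * i)) % P.p == 1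

def okC (C : ℕ) (P : Pr) : Bool := C % P.p != 0 || (P.c % 2 == 0 && okA 2 C P)

/-- All columns with centraliser order in `Cs`, using the first `j` primes, satisfy `Q`
(values are listed in reverse order). -/
def colAll (N : ℕ) (Ps : List Pr) (j : ℕ) (Cs : List ℕ) (U : List Rec)
    (Q : ℕ → List ℤ → Bool) : Bool :=
  Cs.all fun C => !Ps.all (okC C) ||
    colGo N C Ps (Q C) U (0, []) 0 ((Ps.take j).map fun P => (P, P.t, P.t * N)) 1 []

/-! Enumeration of blocks. -/

def cf (j : ℕ) (r : Rec) : ℤ := r.2.getD j 0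

def val (j : ℕ) (r : Rec) : ℤ := cf j r * r.1

/-- All sorted lists of `k` members of `L` with `val`-sum `T`. -/
def allMs (j : ℕ) (M : ℤ) (K : List Rec → Bool) : List Rec → ℕ → ℤ → ℕ → List Rec → Bool
  | [] => fun k T _ acc => k != 0 || T != 0 || K acc
  | r :: L => fun k => Nat.rec (fun T _ acc => T != 0 || K acc) (fun k ih T S acc =>
      decide (T < (k + 1 : ℕ) * val j r) || decide ((k + 1 : ℕ) * M < T) ||
        ((decide (S < r.1 * r.1) || fZ (T - val j r) fun T => fN (S - r.1 * r.1) fun S =>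
          ih T S (r :: acc)) && allMs j M K L (k + 1) T S acc)) k

def crossOk (Ps : List Pr) (j : ℕ) (U : List Rec) : Bool :=
  (List.range Ps.length).all fun i => i == j ||
    ((Ps.getD i ⟨0, 0, 0⟩).t * (Ps.getD j ⟨0, 0, 0⟩).t : ℕ) + (U.map fun r => cf i r * cf j r).sum == 0

def normOk (Ps : List Pr) (j : ℕ) (U : List Rec) : Bool :=
  (List.range (j + 1)).all fun i => U.all fun r => r.1 % (Ps.getD i ⟨0, 0, 0⟩).p != 0 ||
    U.any fun s => decide (cf i s < 0) &&
      decide ((Ps.getD i ⟨0, 0, 0⟩).t * s.1 < (cf i s).natAbs * (r.1 * r.1))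

def sorted (j : ℕ) : List Rec → Bool
  | a :: b :: l => decide (val j a ≤ val j b) && sorted j (b :: l)
  | _ => true

def ext (N j : ℕ) (P : Pr) (A U : List Rec) (K : List Rec → Bool) : Bool :=
  fL fR (A.filter fun r => cf j r != 0 && (List.range j).all fun i => cf i r == 0) fun A =>
  fL fR (((A.filter fun r => cf j r == -P.t).reverse ++ A.filter fun r => cf j r == P.t)) fun L =>
  fZ (val j (L.getLastD (0, []))) fun M => sorted j L &&
  fN (U.countP fun r => (cf j r).natAbs == P.t) fun a =>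
  fN (U.countP fun r => cf j r != 0 && (cf j r).natAbs != P.t) fun b =>
  fZ (-P.t - (U.map (val j)).sum) fun T => fN (N - 1 - (U.map fun r => r.1 * r.1).sum) fun S =>
  if P.t = 1 then decide (P.e < a) || allMs j M (fun l => K (U ++ l)) L (P.e - a) T S []
  else decide (P.e - 1 < a) || if b = 0 then
    (A.filter fun r => (cf j r).natAbs != P.t).all fun r => decide (S < P.t * (r.1 * r.1)) ||
      allMs j M (fun l => K (U ++ (List.replicate P.t r ++ l))) L (P.e - 1 - a)
        (T - P.t * val j r) (S - P.t * (r.1 * r.1)) []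
  else b != P.t || allMs j M (fun l => K (U ++ l)) L (P.e - 1 - a) T S []

def run (N : ℕ) (Ps : List Pr) (A : List Rec) (F : List Rec → Bool) :
    List Pr → List (List (List ℕ)) → ℕ → List Rec → Bool
  | P :: S, sp :: sps, j, U => ext N j P A U fun U => fL fR U fun U => !crossOk Ps j U || !normOk Ps j U ||
      (sp.any fun Cs => colAll N Ps (j + 1) Cs U fun _ _ => false) || run N Ps A F S sps (j + 1) U
  | _, _, _, U => F U

def eng (N : ℕ) (Ps : List Pr) (Ds : List ℕ) (sps : List (List (List ℕ))) (F : List Rec → Bool) :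
    Bool :=
  fL fR ((Ds.filter fun d => decide (1 < d) && decide (d * d < N)).flatMap fun d =>
    (recs N d Ps).map (d, ·)) fun A => run N Ps A F Ps sps 0 []

def cz (N : ℕ) (Ds : List ℕ) : List ℕ := Ds.filter fun C => C % N.gcd 1024 == 0 && C != N

def cy (N : ℕ) (Ds : List ℕ) (P : Pr) : List ℕ := Ds.filter fun C => okA (P.c.gcd 1024) C P && C != N

def spec (N : ℕ) (Ds : List ℕ) (Ps : List Pr) : List (List ℕ) :=
  (Ps.filter (·.c % 2 == 0)).map (cy N Ds) ++ [cz N Ds]

/-- The search over the first `k` blocks with the standard columns. -/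
def engk (N : ℕ) (Ds : List ℕ) (Ps : List Pr) (k : ℕ) (F : List Rec → Bool) : Bool :=
  eng N Ps Ds ((List.range k).map fun j => spec N Ds (Ps.take (j + 1))) F

def optsP (N : ℕ) (Ds : List ℕ) (p : ℕ) : List Pr := (List.range p).flatMap fun e =>
  if 2 ≤ e ∧ (p - 1) % e = 0 then (Ds.filter fun c => N % (p * e * c) == 0 &&
    N / (p * e * c) % p == 1 && N != p * e * c).map (⟨p, e, ·⟩) else []

end H21.Eng
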