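import Mathlib
import Cfsg.Agent.H21.Eng1

/-! Soundness of the search, on abstract data. -/

set_option autoImplicit false

namespace H21.Eng

theorem zs_spec {k j : ℕ} {R : List Rec} (h : (zs k R)[j]? = some true) :
    ∀ r ∈ R, cf j r = 0 := by
  induction R with
  | nil => simp
  | cons r R ih =>
    simp only [zs, List.getElem?_zipWith] at h
    cases h1 : r.2[j]? with
    | none => simp [h1] at h
    | some a =>
      cases h2 : (zs k R)[j]? with
      | none => simp [h1, h2] at h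
      | some b =>
        simp only [h1, h2, Option.some.injEq, Bool.and_eq_true, beq_iff_eq] at h
        obtain ⟨rfl, rfl⟩ := h
        simp only [List.mem_cons, forall_eq_or_imp]
        exact ⟨by simp [cf, List.getD_eq_getElem?_getD, h1], ih h2⟩

theorem bad_spec {C : ℕ} {st : List Cell} {f : List ℤ} {fl : List Bool}
    (h : bad C st f fl = true) : ∃ (j : ℕ) (c : Cell), st[j]? = some c ∧ fl[j]? = some true ∧
      (c.2.1 ≠ 0 ∨ sqok c.1 C c.2.2 ≠ true) := by
  induction st generalizing f fl with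
  | nil => simp [bad] at h
  | cons c st ih =>
    rcases f with _ | ⟨a, f⟩
    · simp [bad] at h
    rcases fl with _ | ⟨b, fl⟩
    · simp [bad] at h
    rw [bad, Bool.or_eq_true] at h
    rcases h with h | h
    · simp only [Bool.and_eq_true, Bool.or_eq_true, bne_iff_ne, Bool.not_eq_true'] at h
      exact ⟨0, c, rfl, by simp [h.1.1], h.2.imp id fun e => by simp [e]⟩
    · obtain ⟨j, c', h1⟩ := ih h
      exact ⟨j + 1, c', h1⟩

theorem frc_spec {st : List Cell} {f : List ℤ} {fl : List Bool} {v : ℤ}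
    (h : frc st f fl = some v) : ∃ (j : ℕ) (c : Cell), st[j]? = some c ∧ fl[j]? = some true ∧
      f.getD j 0 ≠ 0 ∧ v = -c.2.1 / f.getD j 0 := by
  induction st generalizing f fl with
  | nil => simp [frc] at h
  | cons c st ih =>
    rcases f with _ | ⟨a, f⟩
    · simp [frc] at h
    rcases fl with _ | ⟨b, fl⟩
    · simp [frc] at h
    rw [frc] at h
    split_ifs at h with h1
    · simp only [Bool.and_eq_true, bne_iff_ne] at h1
      exact ⟨0, c, rfl, by simp [h1.1], h1.2, (Option.some.inj h).symm⟩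
    · obtain ⟨j, c', h1⟩ := ih h
      exact ⟨j + 1, c', h1⟩

theorem mem_vals {N C : ℕ} {Ps : List Pr} {r : Rec} {v : ℤ} (h : okv N C Ps r v = true)
    (hv : v.natAbs * v.natAbs ≤ C) : v ∈ vals N C Ps r := by
  refine List.mem_filter.2 ⟨?_, h⟩
  simp only [okv, Bool.and_eq_true, beq_iff_eq, decide_eq_true_eq] at h
  obtain ⟨⟨⟨-, h2⟩, h3⟩, -⟩ := h
  have h4 : 0 < r.1 / r.1.gcd (N / C) :=
    Nat.div_pos (Nat.gcd_le_left _ (by omega)) (Nat.gcd_pos_of_pos_left _ (by omega))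
  generalize r.1 / r.1.gcd (N / C) = s at *
  obtain ⟨k, rfl⟩ := Int.dvd_of_emod_eq_zero h2
  have h5 : k.natAbs ≤ C.sqrt / s := by
    rw [Nat.le_div_iff_mul_le h4, Nat.le_sqrt]
    rwa [Int.natAbs_mul, Int.natAbs_natCast, mul_comm s] at hv
  generalize C.sqrt / s = K at *
  refine List.mem_map.2 ⟨(k + K).toNat, List.mem_range.2 (by omega), ?_⟩
  rw [Int.toNat_of_nonneg (by omega)]
  ring

variable {ι : Type*} {ρ : ι → Rec} {v : ι → ℤ}

theorem colGo_sound {N C : ℕ} {Ps : List Pr} {Q : List ℤ → Bool} (cs : List ι) (pr : Rec) (pv : ℤ)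
    (st : List Cell) (nrm : ℕ) (acc : List ℤ)
    (h1 : ∀ (j : ℕ) (c : Cell), st[j]? = some c → c.2.1 + (cs.map fun ψ => cf j (ρ ψ) * v ψ).sum = 0 ∧
      sqok c.1 C (c.2.2 + (cs.map fun ψ => cf j (ρ ψ) * (v ψ * v ψ * (N / (ρ ψ).1 : ℕ))).sum) = true)
    (h2 : nrm + (cs.map fun ψ => (v ψ).natAbs * (v ψ).natAbs).sum ≤ C)
    (h3 : ∀ ψ ∈ cs, okv N C Ps (ρ ψ) (v ψ) = true)
    (h4 : ∀ ψ ∈ cs, ρ ψ = pr → exc Ps pr.2 = true → v ψ = pv)
    (h5 : ∀ ψ ψ', ρ ψ = ρ ψ' → exc Ps (ρ ψ').2 = true → v ψ = v ψ')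
    (h : colGo N C Ps Q (cs.map ρ) pr pv st nrm acc = true) :
    Q ((cs.map v).reverse ++ acc) = true := by
  induction cs generalizing pr pv st nrm acc with
  | nil => exact h
  | cons ψ cs ih =>
    simp only [List.map_cons, List.sum_cons] at h1 h2
    have hz : ∀ j, (zs Ps.length (cs.map ρ))[j]? = some true → ∀ g : ι → ℤ,
        (cs.map fun ψ => cf j (ρ ψ) * g ψ).sum = 0 := fun j hj g =>
      List.sum_eq_zero fun a ha => by
        obtain ⟨χ, hχ, rfl⟩ := List.mem_map.1 ha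
        rw [zs_spec hj _ (List.mem_map_of_mem hχ), zero_mul]
    have hm : v ψ ∈ opts N C Ps (ρ ψ) (zs Ps.length (cs.map ρ)) pr pv st := by
      rw [opts]
      split_ifs with e
      · simp only [Bool.and_eq_true, beq_iff_eq] at e
        rw [h4 ψ List.mem_cons_self (Prod.ext e.1.1 e.2) (e.2 ▸ e.1.2)]
        exact List.mem_singleton_self _
      split
      · rename_i u hu
        obtain ⟨j, c, e1, e2, e3, e4⟩ := frc_spec hu
        have e5 := (h1 j c e1).1
        rw [hz j e2, add_zero] at e5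
        obtain rfl : u = v ψ := by
          rw [e4, show -c.2.1 = (ρ ψ).2.getD j 0 * v ψ by rw [← cf]; linarith,
            Int.mul_ediv_cancel_left _ e3]
        simp [h3 ψ List.mem_cons_self]
      · exact mem_vals (h3 ψ List.mem_cons_self) (by omega)
    have h6 := List.all_eq_true.1 h _ hm
    simp only [fZ_eq, fN_eq, fLC_eq, Bool.or_eq_true, decide_eq_true_eq] at h6
    have h7 : ∀ (j : ℕ) (c : Cell), (upd N (ρ ψ).1 (v ψ) st (ρ ψ).2)[j]? = some c →
        c.2.1 + (cs.map fun ψ => cf j (ρ ψ) * v ψ).sum = 0 ∧ sqok c.1 C (c.2.2 +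
        (cs.map fun ψ => cf j (ρ ψ) * (v ψ * v ψ * (N / (ρ ψ).1 : ℕ))).sum) = true := fun j c hc => by
      rw [upd, List.getElem?_zipWith_eq_some] at hc
      obtain ⟨c', a, e1, e2, rfl⟩ := hc
      have e3 : cf j (ρ ψ) = a := by simp [cf, List.getD_eq_getElem?_getD, e2]
      have e4 := h1 j c' e1
      rw [e3] at e4
      simpa only [add_assoc] using e4
    rcases h6 with h6 | h6 | h6
    · omega
    · obtain ⟨j, c, e1, e2, e3⟩ := bad_spec h6
      have e4 := h7 j c e1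
      rw [hz j e2, hz j e2, add_zero, add_zero] at e4
      exact (e3.elim (· e4.1) (· e4.2)).elim
    · simpa using ih _ _ _ _ _ h7 (by omega) (fun χ hχ => h3 χ (List.mem_cons_of_mem _ hχ))
        (fun χ _ => h5 χ ψ) h6

theorem sorted_spec {j : ℕ} {L : List Rec} (h : sorted j L = true) :
    L.Pairwise (fun a b => val j a ≤ val j b) ∧ ∀ d, ∀ r ∈ L, val j r ≤ val j (L.getLastD d) := by
  induction L with
  | nil => simp
  | cons a L ih =>
    rcases L with _ | ⟨b, L⟩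
    · simp
    rw [sorted, Bool.and_eq_true, decide_eq_true_eq] at h
    obtain ⟨h1, h2⟩ := ih h.2
    refine ⟨List.Pairwise.cons (fun c hc => ?_) h1, fun d r hr => ?_⟩
    · rcases List.mem_cons.1 hc with rfl | hc
      exacts [h.1, h.1.trans (List.rel_of_pairwise_cons h1 hc)]
    · rw [List.getLastD_cons]
      rcases List.mem_cons.1 hr with rfl | hr
      exacts [h.1.trans (h2 _ b List.mem_cons_self), h2 _ r hr]

theorem allMs_sound {j : ℕ} {M : ℤ} {K : List Rec → Bool} (L : List Rec)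
    (hL : L.Pairwise fun a b => val j a ≤ val j b) (hM : ∀ r ∈ L, val j r ≤ M) (k : ℕ) (T : ℤ)
    (S : ℕ) (acc : List Rec) (l : List ι) (h1 : l.length = k) (h2 : ∀ ψ ∈ l, ρ ψ ∈ L)
    (h3 : (l.map fun ψ => val j (ρ ψ)).sum = T) (h4 : (l.map fun ψ => (ρ ψ).1 * (ρ ψ).1).sum ≤ S)
    (h : allMs j M K L k T S acc = true) : ∃ l' : List ι, l'.Perm l ∧ K (l'.map ρ ++ acc) = true := by
  classical
  induction L generalizing k T S acc l with
  | nil =>
    obtain rfl : l = [] := List.eq_nil_iff_forall_not_mem.2 fun ψ hψ => by simpa using h2 ψ hψ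
    subst h1 h3
    exact ⟨[], .refl _, by simpa [allMs] using h⟩
  | cons r L ih =>
    induction k generalizing T S acc l with
    | zero =>
      obtain rfl := List.length_eq_zero_iff.1 h1
      subst h3
      exact ⟨[], .refl _, by simpa [allMs] using h⟩
    | succ k ihk =>
      replace h : (decide (T < (k + 1 : ℕ) * val j r) || decide ((k + 1 : ℕ) * M < T) ||
        ((decide (S < r.1 * r.1) || fZ (T - val j r) fun T => fN (S - r.1 * r.1) fun S =>
          allMs j M K (r :: L) k T S (r :: acc)) && allMs j M K L (k + 1) T S acc)) = true := h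
      simp only [fZ_eq, fN_eq, Bool.or_eq_true, Bool.and_eq_true, decide_eq_true_eq] at h
      have a1 := List.card_nsmul_le_sum (l.map fun ψ => val j (ρ ψ)) (val j r) fun a ha => by
        obtain ⟨ψ, hψ, rfl⟩ := List.mem_map.1 ha
        rcases List.mem_cons.1 (h2 ψ hψ) with e | e
        exacts [e ▸ le_rfl, List.rel_of_pairwise_cons hL e]
      have a2 := List.sum_le_card_nsmul (l.map fun ψ => val j (ρ ψ)) M fun a ha => by
        obtain ⟨ψ, hψ, rfl⟩ := List.mem_map.1 ha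
        exact hM _ (h2 ψ hψ)
      rw [List.length_map, h1, h3, nsmul_eq_mul] at a1 a2
      rcases h with (h | h) | ⟨h, h'⟩
      · exact absurd a1 h.not_ge
      · exact absurd a2 h.not_ge
      by_cases e : ∃ ψ ∈ l, ρ ψ = r
      · obtain ⟨ψ, hψ, rfl⟩ := e
        have p := List.perm_cons_erase hψ
        rw [(p.map _).sum_eq, List.map_cons, List.sum_cons] at h3 h4
        obtain ⟨l', p', h5⟩ := ihk _ _ _ (l.erase ψ) (by rw [List.length_erase_of_mem hψ, h1]; rfl)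
          (fun χ hχ => h2 χ (List.mem_of_mem_erase hχ)) (by rw [← h3]; ring) (by omega)
          (h.resolve_left (by omega))
        exact ⟨l' ++ [ψ], (List.perm_append_singleton _ _).trans ((p'.cons ψ).trans p.symm),
          by simpa using h5⟩
      · exact ih hL.of_cons (fun r hr => hM r (List.mem_cons_of_mem _ hr)) _ _ _ _ l h1
          (fun ψ hψ => (List.mem_cons.1 (h2 ψ hψ)).resolve_left fun e' => e ⟨ψ, hψ, e'⟩) h3 h4 h'

/-- The constraints on the records of the non-trivial characters `s`. -/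
structure Hyp (N : ℕ) (Ps : List Pr) (A : List Rec) (ρ : ι → Rec) (s : Finset ι) : Prop where
  mem : ∀ ψ ∈ s, ρ ψ ∈ A
  sq : 1 + ∑ ψ ∈ s, (ρ ψ).1 * (ρ ψ).1 ≤ N
  tpos : ∀ P ∈ Ps, P.t ≠ 0
  deg : ∀ j P, Ps[j]? = some P → P.t + ∑ ψ ∈ s, val j (ρ ψ) = 0
  cnt : ∀ j P, Ps[j]? = some P →
    (s.filter fun ψ => (cf j (ρ ψ)).natAbs = P.t).card = if P.t = 1 then P.e else P.e - 1
  cnt' : ∀ j P, Ps[j]? = some P →
    (s.filter fun ψ => cf j (ρ ψ) ≠ 0 ∧ (cf j (ρ ψ)).natAbs ≠ P.t).card = if P.t = 1 then 0 else P.t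
  same : ∀ j P, Ps[j]? = some P → ∀ ψ χ, cf j (ρ ψ) ≠ 0 → (cf j (ρ ψ)).natAbs ≠ P.t →
    cf j (ρ χ) ≠ 0 → (cf j (ρ χ)).natAbs ≠ P.t → ρ ψ = ρ χ
  cross : ∀ i j P Q, i ≠ j → Ps[i]? = some P → Ps[j]? = some Q →
    (P.t * Q.t : ℕ) + ∑ ψ ∈ s, cf i (ρ ψ) * cf j (ρ ψ) = 0
  norm : ∀ j P, Ps[j]? = some P → ∀ ψ ∈ s, (ρ ψ).1 % P.p = 0 → ∃ χ ∈ s, cf j (ρ χ) < 0 ∧
    P.t * (ρ χ).1 < (cf j (ρ χ)).natAbs * ((ρ ψ).1 * (ρ ψ).1)

/-- The constraints on the column of an involution. -/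
structure ColHyp (N : ℕ) (Ps : List Pr) (ρ : ι → Rec) (s : Finset ι) (C : ℕ) (v : ι → ℤ) :
    Prop where
  okc : Ps.all (okC C) = true
  ok : ∀ ψ ∈ s, okv N C Ps (ρ ψ) (v ψ) = true
  nrm : 1 + ∑ ψ ∈ s, (v ψ).natAbs * (v ψ).natAbs ≤ C
  lin : ∀ j P, Ps[j]? = some P → P.t + ∑ ψ ∈ s, cf j (ρ ψ) * v ψ = 0
  sq : ∀ j P, Ps[j]? = some P →
    sqok P C (P.t * N + ∑ ψ ∈ s, cf j (ρ ψ) * (v ψ * v ψ * (N / (ρ ψ).1 : ℕ))) = true
  same : ∀ ψ ψ', ρ ψ = ρ ψ' → exc Ps (ρ ψ').2 = true → v ψ = v ψ'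

/-- `cs` lists the non-trivial members of the first `j` blocks. -/
structure Cov (ρ : ι → Rec) (s : Finset ι) (j : ℕ) (cs : List ι) : Prop where
  nodup : cs.Nodup
  mem : ∀ ψ ∈ cs, ψ ∈ s ∧ ∃ i < j, cf i (ρ ψ) ≠ 0
  all : ∀ ψ ∈ s, ∀ i < j, cf i (ρ ψ) ≠ 0 → ψ ∈ cs

variable {s : Finset ι} {N : ℕ} {Ps : List Pr} {A : List Rec} {j : ℕ} {cs : List ι}

theorem Cov.sum (h : Cov ρ s j cs) {i : ℕ} (hi : i < j) {M : Type*} [AddCommMonoid M] (g : ι → M)
    (hg : ∀ ψ, cf i (ρ ψ) = 0 → g ψ = 0) : (cs.map g).sum = ∑ ψ ∈ s, g ψ := by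
  classical
  rw [← List.sum_toFinset _ h.nodup]
  exact Finset.sum_subset (fun ψ hψ => (h.mem ψ (List.mem_toFinset.1 hψ)).1) fun ψ h1 h2 =>
    hg ψ (not_not.1 fun e => h2 (List.mem_toFinset.2 (h.all ψ h1 i hi e)))

theorem Cov.sum_le (h : Cov ρ s j cs) (g : ι → ℕ) : (cs.map g).sum ≤ ∑ ψ ∈ s, g ψ := by
  classical
  rw [← List.sum_toFinset _ h.nodup]
  exact Finset.sum_le_sum_of_subset fun ψ hψ => (h.mem ψ (List.mem_toFinset.1 hψ)).1

theorem Cov.count (h : Cov ρ s j cs) {i : ℕ} (hi : i < j) (p : ι → Prop) [DecidablePred p]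
    (hp : ∀ ψ, p ψ → cf i (ρ ψ) ≠ 0) : cs.countP (p ·) = (s.filter p).card := by
  rw [Finset.card_filter, ← h.sum hi _ fun ψ e => if_neg fun e' => hp ψ e' e]
  clear h
  induction cs with
  | nil => rfl
  | cons a l ih => simp [List.countP_cons, ih, add_comm]

theorem colAll_sound (h : Cov ρ s j cs) {C : ℕ} (hc : ColHyp N Ps ρ s C v) {Cs : List ℕ}
    (hC : C ∈ Cs) {Q : ℕ → List ℤ → Bool} (H : colAll N Ps j Cs (cs.map ρ) Q = true) :
    Q C (cs.map v).reverse = true := by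
  have h1 := List.all_eq_true.1 H C hC
  rw [hc.okc, Bool.not_true, Bool.false_or] at h1
  rw [← List.append_nil (cs.map v).reverse]
  refine colGo_sound cs _ _ _ _ _ (fun i c hi => ?_) ((Nat.add_le_add_left (h.sum_le _) 1).trans hc.nrm)
    (fun ψ hψ => hc.ok ψ (h.mem ψ hψ).1) (fun ψ _ _ e => by cases Ps <;> simp [exc] at e) hc.same h1
  rw [List.getElem?_map, Option.map_eq_some_iff] at hi
  obtain ⟨P, hP, rfl⟩ := hi
  rw [List.getElem?_take] at hP
  split_ifs at hP with hi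
  rw [h.sum hi _ fun ψ e => by rw [e, zero_mul], h.sum hi _ fun ψ e => by rw [e, zero_mul]]
  exact ⟨hc.lin i P hP, hc.sq i P hP⟩

theorem ext_sound (H : Hyp N Ps A ρ s) (h : Cov ρ s j cs) {P : Pr} (hP : Ps[j]? = some P)
    {K : List Rec → Bool} (hK : ext N j P A (cs.map ρ) K = true) :
    ∃ cs', Cov ρ s (j + 1) cs' ∧ K (cs'.map ρ) = true := by
  classical
  have ht := H.tpos P (List.mem_of_getElem? hP)
  obtain ⟨l1, n1, m1⟩ : ∃ l : List ι, l.Nodup ∧ ∀ ψ, ψ ∈ l ↔ ψ ∈ s ∧ ψ ∉ cs ∧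
    (cf j (ρ ψ)).natAbs = P.t := ⟨(s.filter fun ψ => ψ ∉ cs ∧ (cf j (ρ ψ)).natAbs = P.t).toList,
      Finset.nodup_toList _, fun ψ => by rw [Finset.mem_toList, Finset.mem_filter]⟩
  obtain ⟨l2, n2, m2⟩ : ∃ l : List ι, l.Nodup ∧ ∀ ψ, ψ ∈ l ↔ ψ ∈ s ∧ ψ ∉ cs ∧ cf j (ρ ψ) ≠ 0 ∧
    (cf j (ρ ψ)).natAbs ≠ P.t := ⟨(s.filter fun ψ => ψ ∉ cs ∧ cf j (ρ ψ) ≠ 0 ∧
      (cf j (ρ ψ)).natAbs ≠ P.t).toList, Finset.nodup_toList _, fun ψ => by
      rw [Finset.mem_toList, Finset.mem_filter]⟩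
  have hc : ∀ l : List ι, l.Perm l1 → Cov ρ s (j + 1) (cs ++ (l2 ++ l)) := fun l p => by
    refine ⟨?_, fun ψ hψ => ?_, fun ψ hψ i hi e => ?_⟩
    · refine h.nodup.append (n2.append (p.nodup_iff.2 n1) fun ψ a b => ?_) fun ψ a b => ?_
      · exact ((m2 ψ).1 a).2.2.2 ((m1 ψ).1 (p.mem_iff.1 b)).2.2
      · rcases List.mem_append.1 b with b | b
        exacts [((m2 ψ).1 b).2.1 a, ((m1 ψ).1 (p.mem_iff.1 b)).2.1 a]
    · simp only [List.mem_append, p.mem_iff, m1, m2] at hψ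
      rcases hψ with a | a | a
      · obtain ⟨b, i, hi, c⟩ := h.mem ψ a
        exact ⟨b, i, by omega, c⟩
      · exact ⟨a.1, j, by omega, a.2.2.1⟩
      · exact ⟨a.1, j, by omega, by have := a.2.2; omega⟩
    · simp only [List.mem_append, p.mem_iff, m1, m2]
      by_cases a : ψ ∈ cs
      · exact Or.inl a
      obtain rfl : i = j := le_antisymm (by omega) (not_lt.1 fun b => a (h.all ψ hψ i b e))
      tauto
  have c0 := hc l1 (.refl _)
  have a1 := c0.count j.lt_succ_self (fun ψ => (cf j (ρ ψ)).natAbs = P.t) fun ψ e => by omega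
  have a2 := c0.count j.lt_succ_self (fun ψ => cf j (ρ ψ) ≠ 0 ∧ (cf j (ρ ψ)).natAbs ≠ P.t)
    fun ψ e => e.1
  have a3 := c0.sum j.lt_succ_self (fun ψ => val j (ρ ψ)) fun ψ e => by rw [val, e, zero_mul]
  have a4 := (Nat.add_le_add_left (c0.sum_le fun ψ => (ρ ψ).1 * (ρ ψ).1) 1).trans H.sq
  have a5 := H.deg j P hP
  rw [H.cnt j P hP, List.countP_append, List.countP_append,
    List.countP_eq_zero (l := l2).2 fun ψ hψ => by simpa using ((m2 ψ).1 hψ).2.2.2,
    List.countP_eq_length (l := l1).2 fun ψ hψ => by simpa using ((m1 ψ).1 hψ).2.2] at a1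
  rw [H.cnt' j P hP, List.countP_append, List.countP_append,
    List.countP_eq_zero (l := l1).2 fun ψ hψ => by simp [((m1 ψ).1 hψ).2.2],
    List.countP_eq_length (l := l2).2 fun ψ hψ => by simpa using ((m2 ψ).1 hψ).2.2] at a2
  simp only [List.map_append, List.sum_append] at a3 a4
  have hA : ∀ ψ ∈ s, ψ ∉ cs → cf j (ρ ψ) ≠ 0 →
      ρ ψ ∈ A.filter fun r => cf j r != 0 && (List.range j).all fun i => cf i r == 0 :=
    fun ψ b1 b2 b3 => List.mem_filter.2 ⟨H.mem ψ b1, by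
      simp only [Bool.and_eq_true, bne_iff_ne, List.all_eq_true, List.mem_range, beq_iff_eq]
      exact ⟨b3, fun i hi => not_not.1 fun e => b2 (h.all ψ b1 i hi e)⟩⟩
  simp only [ext, fLR_eq, fZ_eq, fN_eq, List.countP_map, List.map_map, Function.comp_def] at hK
  generalize A.filter _ = A' at hK hA
  rw [Bool.and_eq_true] at hK
  obtain ⟨s1, s2⟩ := sorted_spec hK.1
  have key := fun K T S => allMs_sound (ρ := ρ) (K := K) _ s1 (s2 (0, [])) _ T S [] l1 rfl
    fun ψ hψ => by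
      obtain ⟨b1, b2, b3⟩ := (m1 ψ).1 hψ
      have := hA ψ b1 b2 (by omega)
      simp only [List.mem_append, List.mem_reverse, List.mem_filter, beq_iff_eq, this, true_and]
      omega
  have e1 : cs.countP (fun ψ => (cf j (ρ ψ)).natAbs == P.t) =
    cs.countP (fun ψ => (cf j (ρ ψ)).natAbs = P.t) := rfl
  have e2 : cs.countP (fun ψ => cf j (ρ ψ) != 0 && (cf j (ρ ψ)).natAbs != P.t) =
      cs.countP (fun ψ => cf j (ρ ψ) ≠ 0 ∧ (cf j (ρ ψ)).natAbs ≠ P.t) :=
    List.countP_congr fun ψ _ => by simp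
  have fin : l2 = [] → ∀ k, k = l1.length → allMs j (val j (((A'.filter fun r => cf j r == -P.t).reverse ++
      A'.filter fun r => cf j r == P.t).getLastD (0, []))) (fun l => K (cs.map ρ ++ l))
      ((A'.filter fun r => cf j r == -P.t).reverse ++ A'.filter fun r => cf j r == P.t) k
      (-P.t - (cs.map fun ψ => val j (ρ ψ)).sum) (N - 1 - (cs.map fun ψ => (ρ ψ).1 * (ρ ψ).1).sum) []
        = true → ∃ cs', Cov ρ s (j + 1) cs' ∧ K (cs'.map ρ) = true := by
    rintro rfl _ rfl b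
    obtain ⟨l, p, b⟩ := key _ _ _ (by simp at a3; linarith) (by omega) b
    exact ⟨_, hc l p, by simpa using b⟩
  replace hK := hK.2
  rw [e1, e2] at hK
  split_ifs at hK a1 a2 with b1 b2
  · rw [Bool.or_eq_true, decide_eq_true_eq] at hK
    exact fin (List.length_eq_zero_iff.1 (by omega)) _ (by omega) (hK.resolve_left (by omega))
  · rw [Bool.or_eq_true, decide_eq_true_eq] at hK
    obtain ⟨ψ, hψ⟩ := List.exists_mem_of_length_pos (l := l2) (by omega)
    obtain ⟨b3, b4, b5, b6⟩ := (m2 ψ).1 hψ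
    have b7 : l2.map ρ = List.replicate P.t (ρ ψ) := List.eq_replicate_iff.2 ⟨by simp; omega,
      fun r hr => by
        obtain ⟨χ, hχ, rfl⟩ := List.mem_map.1 hr
        exact H.same j P hP _ _ ((m2 χ).1 hχ).2.2.1 ((m2 χ).1 hχ).2.2.2 b5 b6⟩
    have b8 := congrArg (fun l => (l.map (val j)).sum) b7
    have b9 := congrArg (fun l => (l.map fun r => r.1 * r.1).sum) b7
    simp only [List.map_map, Function.comp_def, List.map_replicate, List.sum_replicate,
      nsmul_eq_mul, smul_eq_mul] at b8 b9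
    have b10 := List.all_eq_true.1 (hK.resolve_left (by omega)) (ρ ψ)
      (List.mem_filter.2 ⟨hA ψ b3 b4 b5, by simpa using b6⟩)
    rw [Bool.or_eq_true, decide_eq_true_eq, show P.e - 1 - _ = l1.length by omega] at b10
    obtain ⟨l, p, b⟩ := key _ _ _ (by linarith) (by omega) (b10.resolve_left (by omega))
    exact ⟨_, hc l p, by simpa [b7] using b⟩
  · obtain ⟨ψ, hψ, b3⟩ := List.countP_pos_iff.1 (Nat.pos_of_ne_zero b2)
    rw [decide_eq_true_eq] at b3
    obtain ⟨-, i, hi, b4⟩ := h.mem ψ hψ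
    have b5 : l2 = [] := List.eq_nil_iff_forall_not_mem.2 fun χ hχ => by
      obtain ⟨c1, c2, c3, c4⟩ := (m2 χ).1 hχ
      exact c2 (h.all χ c1 i hi (H.same j P hP _ _ c3 c4 b3.1 b3.2 ▸ b4))
    simp only [Bool.or_eq_true, decide_eq_true_eq, bne_iff_ne] at hK
    rw [b5] at a2
    exact fin b5 _ (by omega) ((hK.resolve_left (by omega)).resolve_left (by simpa using a2))

theorem run_sound (H : Hyp N Ps A ρ s) {F : List Rec → Bool} (S : List Pr)
    (sps : List (List (List ℕ))) (hS : Ps.drop j = S) (hl : sps.length ≤ S.length)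
    (hsp : ∀ sp ∈ sps, ∀ Cs ∈ sp, ∃ C ∈ Cs, ∃ v, ColHyp N Ps ρ s C v) (h : Cov ρ s j cs)
    (hr : run N Ps A F S sps j (cs.map ρ) = true) :
    ∃ cs', Cov ρ s (j + sps.length) cs' ∧ F (cs'.map ρ) = true := by
  induction sps generalizing S j cs with
  | nil => exact ⟨cs, h, by cases S <;> exact hr⟩
  | cons sp sps ih =>
    rcases S with _ | ⟨P, S⟩
    · simp at hl
    have hP : Ps[j]? = some P := by
      rw [← add_zero j, ← List.getElem?_drop, hS]; rfl
    obtain ⟨cs', h1, h2⟩ := ext_sound H h hP hr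
    simp only [fLR_eq, Bool.or_eq_true, Bool.not_eq_true', List.any_eq_true] at h2
    have hj := (List.getElem?_eq_some_iff.1 hP).1
    rcases h2 with ((h2 | h2) | ⟨Cs, h2, h3⟩) | h2
    · refine absurd h2 (Bool.eq_false_iff.not.2 (not_not.2 (List.all_eq_true.2 fun i hi => ?_)))
      rw [List.mem_range] at hi
      simp only [Bool.or_eq_true, beq_iff_eq, List.map_map, Function.comp_def]
      refine or_iff_not_imp_left.2 fun e => ?_
      rw [h1.sum j.lt_succ_self _ fun ψ e => by rw [e, mul_zero]]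
      exact H.cross i j _ _ e (by simp [hi]) (by simp [hj])
    · refine absurd h2 (Bool.eq_false_iff.not.2 (not_not.2 (List.all_eq_true.2 fun i hi =>
        List.all_eq_true.2 fun r hr => ?_)))
      rw [List.mem_range] at hi
      obtain ⟨ψ, hψ, rfl⟩ := List.mem_map.1 hr
      simp only [Bool.or_eq_true, bne_iff_ne, List.any_eq_true, Bool.and_eq_true, decide_eq_true_eq]
      refine or_iff_not_imp_left.2 fun e => ?_
      obtain ⟨χ, a1, a2⟩ := H.norm i _ (by simp [show i < Ps.length by omega]) ψ (h1.mem ψ hψ).1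
        (not_not.1 e)
      exact ⟨_, List.mem_map_of_mem (h1.all χ a1 i hi a2.1.ne), a2⟩
    · obtain ⟨C, hC, v, hv⟩ := hsp sp List.mem_cons_self Cs h2
      exact absurd (colAll_sound h1 hv hC h3) (by simp)
    · rw [List.length_cons, ← add_assoc, add_right_comm]
      exact ih S (by rw [← List.drop_drop, hS]; rfl) (by simpa using hl)
        (fun sp h => hsp sp (List.mem_cons_of_mem _ h)) h1 h2

end H21.Eng
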