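import Mathlib
import Cfsg.Agent.H21.Eng2

/-! The search over principal blocks with closure under triples and general columns:
the computational part and the columns. -/

set_option autoImplicit false

namespace H21.Eng

/-- A linear relation between values: coefficients and positions. -/
abbrev Rel := List (ℤ × ℕ)

def rco (L : Rel) (i : ℕ) : ℤ := (L.map fun a => if a.2 = i then a.1 else 0).sum

def reval (L : Rel) (vs : List ℤ) : ℤ := (L.map fun a => a.1 * vs.getD a.2 0).sum

abbrev Item := Rec × List ℤ × Bool × List Bool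

def fB (b : Bool) (k : Bool → Bool) : Bool := Bool.casesOn b (k false) (k true)

@[simp] theorem fB_eq (b : Bool) (k : Bool → Bool) : fB b k = k b := by cases b <;> rfl

def fI (a : Item) (k : Item → Bool) : Bool := fR a.1 fun r => fL fZ a.2.1 fun w =>
  fB a.2.2.1 fun b => fL fB a.2.2.2 fun l => k (r, w, b, l)

@[simp] theorem fLI_eq (l : List Item) (k : List Item → Bool) : fL fI l k = k l :=
  fL_eq (fun a k => by simp [fI, fL_eq fB_eq]) l k

def bad2 (qc : Pr → ℤ → Bool) : List Cell → List ℤ → List Bool → Bool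
  | c :: st, a :: f, b :: fl => (b && a != 0 && (c.2.1 != 0 || !qc c.1 c.2.2)) || bad2 qc st f fl
  | _, _, _ => false

def opts2 (it : Item) (pv : ℤ) (st : List Cell) : List ℤ :=
  if it.2.2.1 then [pv] else match frc st it.1.2 it.2.2.2 with
    | some v => if it.2.1.contains v then [v] else []
    | none => it.2.1

def colGo2 (N C : ℕ) (qc : Pr → ℤ → Bool) (Q : List ℤ → Bool) :
    List Item → ℤ → List Cell → ℕ → List ℤ → Bool
  | [], _, _, _, acc => Q acc
  | it :: R, pv, st, nrm, acc => (opts2 it pv st).all fun v =>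
      fZ v fun v => fN (nrm + v.natAbs * v.natAbs) fun nrm => decide (C < nrm) ||
        fL fC (upd N it.1.1 v st it.1.2) fun st => bad2 qc st it.1.2 it.2.2.2 ||
          colGo2 N C qc Q R v st nrm (v :: acc)

def mkI (k : ℕ) : List (Rec × List ℤ × Bool) → List Item
  | [] => []
  | a :: l => (a.1, a.2.1, a.2.2, zs k (l.map (·.1))) :: mkI k l

/-- Every column with values in `W`, norm at most `C`, orthogonal to the blocks `js` and
satisfying the relations `Ls` satisfies `Q` (values are listed in reverse order). -/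
def col2 (N C : ℕ) (Ps : List Pr) (js : List ℕ) (qc : Pr → ℤ → Bool) (W : Rec → List ℤ)
    (ex : Rec → Bool) (Q : List ℤ → Bool) (U : List Rec) (Ls : List Rel) : Bool :=
  (U.any fun r => (W r).isEmpty) ||
  fL fI (mkI (js.length + Ls.length) ((List.range U.length).map fun i =>
    (((U.getD i (0, [])).1, js.map (cf · (U.getD i (0, []))) ++ Ls.map (rco · i)),
      W (U.getD i (0, [])),
      i != 0 && U.getD (i - 1) (0, []) == U.getD i (0, []) && ex (U.getD i (0, []))))) fun its =>
    colGo2 N C qc Q its 0 ((js.map fun j => (Ps.getD j ⟨0, 0, 0⟩, ((Ps.getD j ⟨0, 0, 0⟩).t : ℤ),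
      ((Ps.getD j ⟨0, 0, 0⟩).t * N : ℤ))) ++ Ls.map fun _ => (⟨0, 0, 0⟩, 0, 0)) 1 []

/-! Closure under triples. -/

abbrev Opt := ℕ × Rec × Rec

abbrev Tab := List (Rec × List Opt)

def fO (a : Opt) (k : Opt → Bool) : Bool :=
  fN a.1 fun n => fR a.2.1 fun x => fR a.2.2 fun y => k (n, x, y)

def fT (a : Rec × List Opt) (k : Rec × List Opt → Bool) : Bool :=
  fR a.1 fun r => fL fO a.2 fun l => k (r, l)

@[simp] theorem fLT_eq (l : Tab) (k : Tab → Bool) : fL fT l k = k l :=
  fL_eq (fun a k => by simp [fT, fL_eq (f := fO) fun a k => by simp [fO]]) l k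

def fRel (a : Rel) (k : Rel → Bool) : Bool :=
  fL (fun a k => fZ a.1 fun z => fN a.2 fun n => k (z, n)) a k

@[simp] theorem fLRel_eq (l : List Rel) (k : List Rel → Bool) : fL fRel l k = k l :=
  fL_eq (fun a k => fL_eq (fun a k => by simp) a k) l k

@[simp] theorem fLN_eq (l : List ℕ) (k : List ℕ → Bool) : fL fN l k = k l := fL_eq fN_eq l k

def look : Tab → Rec → List Opt
  | [], _ => []
  | a :: T, r => if a.1 == r then a.2 else look T r

def zer (j : ℕ) (x : Rec) : Bool := (List.range j).all fun i => cf i x == 0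

def pick (j : ℕ) (U : List Rec) (fr : List ℕ) (x : Rec) (K : List Rec → List ℕ → ℕ → Bool) : Bool :=
  (fr.all fun p => U.getD p (0, []) != x || K U (fr.erase p) p) &&
    (!zer j x || K (U ++ [x]) fr U.length)

def rels (k i p q : ℕ) : List Rel :=
  if k = 0 then [[(1, i), (1, p), (-1, q)]] else if k = 1 then [[(1, p), (1, q), (-1, i)]]
  else [[(1, i), (-1, p)], [(1, i), (-1, q)]]

def isEx (j : ℕ) (P : Pr) (r : Rec) : Bool := cf j r != 0 && (cf j r).natAbs != P.t

def sok (N : ℕ) (Ps : List Pr) (U : List Rec) : Bool :=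
  decide (1 + (U.map fun r => r.1 * r.1).sum ≤ N) && (List.range Ps.length).all fun j =>
    decide (U.countP (fun r => (cf j r).natAbs == (Ps.getD j ⟨0, 0, 0⟩).t) ≤
      if (Ps.getD j ⟨0, 0, 0⟩).t = 1 then (Ps.getD j ⟨0, 0, 0⟩).e else (Ps.getD j ⟨0, 0, 0⟩).e - 1) &&
    fL fR (U.filter (isEx j (Ps.getD j ⟨0, 0, 0⟩))) fun X =>
      decide (X.length ≤ (Ps.getD j ⟨0, 0, 0⟩).t) && X.all (· == X.headD (0, []))

def clo (j : ℕ) (ok : List Rec → Bool) (T : Tab) (K : List Rec → List Rel → Bool) :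
    ℕ → List Rec → List Rel → List ℕ → Bool
  | 0 => fun U Ls fr => fr.isEmpty && K U Ls
  | n + 1 => fun U Ls fr => match fr with
    | [] => K U Ls
    | i :: fr => (look T (U.getD i (0, []))).all fun o => pick j U fr o.2.1 fun U fr p =>
        pick j U fr o.2.2 fun U fr q => fL fR U fun U => !ok U || fL fN fr fun fr =>
          fL fRel (rels o.1 i p q ++ Ls) fun Ls => clo j ok T K n U Ls fr

def nfree (nn : Rec → Bool) (a : ℕ) (U : List Rec) : List ℕ :=
  (List.range U.length).filter fun i => decide (a ≤ i) && nn (U.getD i (0, []))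

def ext2 (N j : ℕ) (P : Pr) (A U : List Rec) (K : List Rec → Bool) : Bool :=
  fL fR (A.filter fun r => cf j r != 0 && zer j r) fun A =>
  fL fR (((A.filter fun r => cf j r == -P.t).reverse ++ A.filter fun r => cf j r == P.t)) fun L =>
  fZ (val j (L.getLastD (0, []))) fun M => sorted j L &&
  fN (U.countP fun r => (cf j r).natAbs == P.t) fun a =>
  fN (U.countP (isEx j P)) fun b =>
  fZ (-P.t - (U.map (val j)).sum) fun T => fN (N - 1 - (U.map fun r => r.1 * r.1).sum) fun S =>
  if P.t = 1 then decide (P.e < a) || allMs j M (fun l => K (U ++ l)) L (P.e - a) T S []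
  else decide (P.e - 1 < a) || decide (P.t < b) ||
    (if b = 0 then A.filter (isEx j P) else (U.find? (isEx j P)).toList).all fun r =>
      (P.t - b != 0 && !zer j r) || decide (S < (P.t - b) * (r.1 * r.1)) ||
      allMs j M (fun l => K (U ++ (List.replicate (P.t - b) r ++ l))) L (P.e - 1 - a)
        (T - (P.t - b : ℕ) * val j r) (S - (P.t - b) * (r.1 * r.1)) []

def run2 (N : ℕ) (Ps : List Pr) (A : List Rec) (nn : Rec → Bool) (T : Tab)
    (post : ℕ → List Rec → List Rel → Bool) (F : List Rec → List Rel → Bool) :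
    List Pr → ℕ → List Rec → List Rel → Bool
  | P :: S, j, U, Ls => ext2 N j P A U fun V => fL fR V fun V => !crossOk Ps j V || !normOk Ps j V ||
      fL fN (nfree nn U.length V) fun fr => clo (j + 1) (sok N Ps) T
        (fun W Ls => post (j + 1) W Ls || run2 N Ps A nn T post F S (j + 1) W Ls) V.length V Ls fr
  | [], _, U, Ls => F U Ls

/-- The search over the first `k` blocks from each of the starts `st`. -/
def eng2 (N : ℕ) (Ps : List Pr) (A : List Rec) (nn : Rec → Bool) (O : List Rec → Rec → List Opt)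
    (k : ℕ) (post : ℕ → List Rec → List Rel → Bool) (F : List Rec → List Rel → Bool)
    (st : List Rec → List (List Rec × List Rel)) : Bool :=
  fL fR A fun A => fL fR (A.filter nn) fun T9 => fL fT (T9.map fun r => (r, O T9 r)) fun T =>
    fL fR (A.filter fun r => !nn r || !(look T r).isEmpty) fun A => (st A).all fun x =>
      fL fR x.1 fun U => !sok N Ps U || fL fN (nfree nn 0 U) fun fr => clo 0 (sok N Ps) T
        (run2 N Ps A nn T post F (Ps.take k) 0) U.length U x.2 fr

/-! Soundness of the columns. -/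

theorem bad2_spec {qc : Pr → ℤ → Bool} {st : List Cell} {f : List ℤ} {fl : List Bool}
    (h : bad2 qc st f fl = true) : ∃ (j : ℕ) (c : Cell), st[j]? = some c ∧ fl[j]? = some true ∧
      (c.2.1 ≠ 0 ∨ qc c.1 c.2.2 ≠ true) := by
  induction st generalizing f fl with
  | nil => simp [bad2] at h
  | cons c st ih =>
    rcases f with _ | ⟨a, f⟩
    · simp [bad2] at h
    rcases fl with _ | ⟨b, fl⟩
    · simp [bad2] at h
    rw [bad2, Bool.or_eq_true] at h
    rcases h with h | h
    · refine ⟨0, c, rfl, ?_⟩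
      simp only [Bool.and_eq_true, Bool.or_eq_true, bne_iff_ne, Bool.not_eq_true'] at h
      exact ⟨by simp [h.1.1], h.2.imp id (by simp)⟩
    · obtain ⟨j, c, h⟩ := ih h
      exact ⟨j + 1, c, h⟩

variable {ι : Type*} {ρ : ι → Rec} {v : ι → ℤ}

theorem colGo2_sound {N C k : ℕ} {qc : Pr → ℤ → Bool} {Q : List ℤ → Bool} {W : ι → List ℤ}
    {b : ι → Bool} (cs : List ι) (pv : ℤ) (st : List Cell) (nrm : ℕ) (acc : List ℤ)
    (h1 : ∀ (j : ℕ) (c : Cell), st[j]? = some c → c.2.1 + (cs.map fun ψ => cf j (ρ ψ) * v ψ).sum = 0 ∧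
      qc c.1 (c.2.2 + (cs.map fun ψ => cf j (ρ ψ) * (v ψ * v ψ * (N / (ρ ψ).1 : ℕ))).sum) = true)
    (h2 : nrm + (cs.map fun ψ => (v ψ).natAbs * (v ψ).natAbs).sum ≤ C)
    (h3 : ∀ ψ ∈ cs, v ψ ∈ W ψ) (h4 : ∀ ψ ∈ cs.head?, b ψ = true → v ψ = pv)
    (h5 : cs.IsChain fun x y => b y = true → v y = v x)
    (h : colGo2 N C qc Q (mkI k (cs.map fun ψ => (ρ ψ, W ψ, b ψ))) pv st nrm acc = true) :
    Q ((cs.map v).reverse ++ acc) = true := by
  induction cs generalizing pv st nrm acc with
  | nil => exact h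
  | cons ψ cs ih =>
    simp only [List.map_cons, List.sum_cons] at h1 h2
    rw [List.map_cons, mkI, List.map_map, colGo2] at h
    have hz : ∀ j, (zs k (cs.map ρ))[j]? = some true → ∀ g : ι → ℤ,
        (cs.map fun ψ => cf j (ρ ψ) * g ψ).sum = 0 := fun j hj g =>
      List.sum_eq_zero fun a ha => by
        obtain ⟨χ, hχ, rfl⟩ := List.mem_map.1 ha
        rw [zs_spec hj _ (List.mem_map_of_mem hχ), zero_mul]
    have hm : v ψ ∈ opts2 (ρ ψ, W ψ, b ψ, zs k (cs.map ρ)) pv st := by
      rw [opts2]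
      split_ifs with e
      · rw [h4 ψ rfl e]
        exact List.mem_singleton_self _
      split
      · rename_i u hu
        obtain ⟨j, c, e1, e2, e3, e4⟩ := frc_spec hu
        have e5 := (h1 j c e1).1
        rw [hz j e2, add_zero] at e5
        obtain rfl : u = v ψ := by
          rw [e4, show -c.2.1 = (ρ ψ).2.getD j 0 * v ψ by rw [← cf]; linarith,
            Int.mul_ediv_cancel_left _ e3]
        simp [h3 ψ List.mem_cons_self]
      · exact h3 ψ List.mem_cons_self
    have h6 := List.all_eq_true.1 h _ hm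
    simp only [fZ_eq, fN_eq, fLC_eq, Bool.or_eq_true, decide_eq_true_eq] at h6
    have h7 : ∀ (j : ℕ) (c : Cell), (upd N (ρ ψ).1 (v ψ) st (ρ ψ).2)[j]? = some c →
        c.2.1 + (cs.map fun ψ => cf j (ρ ψ) * v ψ).sum = 0 ∧ qc c.1 (c.2.2 +
        (cs.map fun ψ => cf j (ρ ψ) * (v ψ * v ψ * (N / (ρ ψ).1 : ℕ))).sum) = true := fun j c hc => by
      rw [upd, List.getElem?_zipWith_eq_some] at hc
      obtain ⟨c', a, e1, e2, rfl⟩ := hc
      have e3 : cf j (ρ ψ) = a := by simp [cf, List.getD_eq_getElem?_getD, e2]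
      have e4 := h1 j c' e1
      rw [e3] at e4
      simpa only [add_assoc] using e4
    rcases h6 with h6 | h6 | h6
    · omega
    · obtain ⟨j, c, e1, e2, e3⟩ := bad2_spec h6
      have e4 := h7 j c e1
      rw [hz j e2, hz j e2, add_zero, add_zero] at e4
      exact (e3.elim (· e4.1) (· e4.2)).elim
    · rw [List.isChain_cons] at h5
      simpa using ih _ _ _ _ h7 (by omega) (fun χ hχ => h3 χ (List.mem_cons_of_mem _ hχ))
        h5.1 h5.2 h6

theorem sum_rco (L : Rel) (vs : List ℤ) :
    ((List.range vs.length).map fun i => rco L i * vs.getD i 0).sum = reval L vs := by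
  change ∑ i ∈ Finset.range vs.length, rco L i * vs.getD i 0 = _
  induction L with
  | nil => simp [rco, reval]
  | cons a L ih =>
    simp only [rco, reval, List.map_cons, List.sum_cons, add_mul, Finset.sum_add_distrib] at ih ⊢
    rw [ih]
    congr 1
    simp only [ite_mul, zero_mul, Finset.sum_ite_eq, Finset.mem_range]
    split_ifs with h
    · rfl
    · rw [List.getD_eq_default _ _ (not_lt.1 h), mul_zero]

theorem map_range_getD {α : Type*} (cs : List ι) (g : Rec → ℤ → α) :
    ((List.range cs.length).map fun i => g ((cs.map ρ).getD i (0, [])) ((cs.map v).getD i 0)) =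
      cs.map fun ψ => g (ρ ψ) (v ψ) := by
  refine List.ext_getElem (by simp) fun i h1 h2 => ?_
  have : i < cs.length := by simpa using h2
  simp [List.getD_eq_getElem?_getD, this]

/-- `cs` lists non-trivial characters, among them all members of the first `j` blocks. -/
structure Cov2 (ρ : ι → Rec) (s : Finset ι) (j : ℕ) (cs : List ι) : Prop where
  nodup : cs.Nodup
  mem : ∀ ψ ∈ cs, ψ ∈ s
  all : ∀ ψ ∈ s, ∀ i < j, cf i (ρ ψ) ≠ 0 → ψ ∈ cs

variable {s : Finset ι} {N : ℕ} {Ps : List Pr} {A : List Rec} {j : ℕ} {cs : List ι}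

theorem Cov2.sum (h : Cov2 ρ s j cs) {i : ℕ} (hi : i < j) {M : Type*} [AddCommMonoid M] (g : ι → M)
    (hg : ∀ ψ, cf i (ρ ψ) = 0 → g ψ = 0) : (cs.map g).sum = ∑ ψ ∈ s, g ψ := by
  classical
  rw [← List.sum_toFinset _ h.nodup]
  exact Finset.sum_subset (fun ψ hψ => h.mem ψ (List.mem_toFinset.1 hψ)) fun ψ h1 h2 =>
    hg ψ (not_not.1 fun e => h2 (List.mem_toFinset.2 (h.all ψ h1 i hi e)))

theorem Cov2.sum_le (h : Cov2 ρ s j cs) (g : ι → ℕ) : (cs.map g).sum ≤ ∑ ψ ∈ s, g ψ := by
  classical
  rw [← List.sum_toFinset _ h.nodup]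
  exact Finset.sum_le_sum_of_subset fun ψ hψ => h.mem ψ (List.mem_toFinset.1 hψ)

theorem countP_eq_sum (p : ι → Prop) [DecidablePred p] (cs : List ι) :
    cs.countP (p ·) = (cs.map fun ψ => if p ψ then 1 else 0).sum := by
  induction cs with
  | nil => rfl
  | cons a l ih => simp [List.countP_cons, ih, add_comm]

theorem Cov2.count (h : Cov2 ρ s j cs) {i : ℕ} (hi : i < j) (p : ι → Prop) [DecidablePred p]
    (hp : ∀ ψ, p ψ → cf i (ρ ψ) ≠ 0) : cs.countP (p ·) = (s.filter p).card := by
  rw [Finset.card_filter, ← h.sum hi _ fun ψ e => if_neg fun e' => hp ψ e' e, countP_eq_sum]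

theorem Cov2.count_le (h : Cov2 ρ s j cs) (p : ι → Prop) [DecidablePred p] :
    cs.countP (p ·) ≤ (s.filter p).card := by
  rw [Finset.card_filter, countP_eq_sum]
  exact h.sum_le _

theorem col2_sound (h : Cov2 ρ s j cs) {C : ℕ} {js : List ℕ} (hjs : ∀ i ∈ js, i < j)
    {qc : Pr → ℤ → Bool} (hq : ∀ z, qc ⟨0, 0, 0⟩ z = true) {W : Rec → List ℤ} {ex : Rec → Bool}
    {Q : List ℤ → Bool} {Ls : List Rel} (hW : ∀ ψ ∈ s, v ψ ∈ W (ρ ψ))
    (hn : 1 + ∑ ψ ∈ s, (v ψ).natAbs * (v ψ).natAbs ≤ C)
    (hl : ∀ i ∈ js, (Ps.getD i ⟨0, 0, 0⟩).t + ∑ ψ ∈ s, cf i (ρ ψ) * v ψ = 0)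
    (hs : ∀ i ∈ js, qc (Ps.getD i ⟨0, 0, 0⟩) ((Ps.getD i ⟨0, 0, 0⟩).t * N +
      ∑ ψ ∈ s, cf i (ρ ψ) * (v ψ * v ψ * (N / (ρ ψ).1 : ℕ))) = true)
    (he : ∀ ψ ψ', ρ ψ = ρ ψ' → ex (ρ ψ') = true → v ψ = v ψ')
    (hL : ∀ L ∈ Ls, reval L (cs.map v) = 0)
    (H : col2 N C Ps js qc W ex Q (cs.map ρ) Ls = true) : Q (cs.map v).reverse = true := by
  rw [col2, Bool.or_eq_true, fLI_eq, List.length_map] at H
  rcases H with H | H
  · obtain ⟨r, hr, e⟩ := List.any_eq_true.1 H
    obtain ⟨ψ, hψ, rfl⟩ := List.mem_map.1 hr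
    have := hW ψ (h.mem ψ hψ)
    rw [List.isEmpty_iff.1 e] at this
    cases this
  have key := colGo2_sound (v := fun i => (cs.map v).getD i 0) (List.range cs.length) _ _ _ _
    (fun i c hi => ?_) ?_ (fun i hi => ?_) (fun i hi e => ?_) ?_ H
  · rwa [map_range_getD (ρ := ρ) cs fun _ z => z, List.append_nil] at key
  · by_cases e : i < js.length
    · rw [List.getElem?_append_left (by simpa using e), List.getElem?_map,
        List.getElem?_eq_getElem e, Option.map_some, Option.some.injEq] at hi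
      subst hi
      have e1 : ∀ (d : ℕ) (r : Rec) (l : List ℤ), cf i (d, js.map (cf · r) ++ l) = cf js[i] r :=
        fun d r l => by
        simp [cf, List.getD_eq_getElem?_getD, List.getElem?_append_left, e]
      simp only [e1]
      have e2 := hjs _ (List.getElem_mem e)
      rw [map_range_getD cs fun r z => cf js[i] r * z,
        map_range_getD cs fun r z => cf js[i] r * (z * z * (N / r.1 : ℕ)),
        h.sum e2 _ fun ψ e => by rw [e, zero_mul], h.sum e2 _ fun ψ e => by rw [e, zero_mul]]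
      exact ⟨hl _ (List.getElem_mem e), hs _ (List.getElem_mem e)⟩
    · rw [List.getElem?_append_right (by simpa using e), List.getElem?_map, List.length_map,
        Option.map_eq_some_iff] at hi
      obtain ⟨L, hi, rfl⟩ := hi
      have e1 : ∀ (d k : ℕ) (r : Rec), cf i (d, js.map (cf · r) ++ Ls.map (rco · k)) = rco L k :=
        fun d k r => by
        simp [cf, List.getD_eq_getElem?_getD, List.getElem?_append_right, not_lt.1 e, hi]
      simp only [e1, zero_add, hq, and_true]
      have := sum_rco L (cs.map v)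
      rw [List.length_map] at this
      rw [this]
      exact hL L (List.mem_of_getElem? hi)
  · rw [map_range_getD (ρ := ρ) cs fun _ z => z.natAbs * z.natAbs]
    exact (Nat.add_le_add_left (h.sum_le _) 1).trans hn
  · rw [List.mem_range] at hi
    simpa [List.getD_eq_getElem?_getD, hi] using hW _ (h.mem _ (List.getElem_mem hi))
  · rw [List.head?_range] at hi
    split_ifs at hi
    · cases hi
    · cases hi
      simp at e
  · rw [List.isChain_range]
    intro m hm e
    have h1 : m < cs.length := by omega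
    have h2 : m + 1 < cs.length := by omega
    simp only [Nat.succ_eq_add_one, List.getD_eq_getElem?_getD, List.getElem?_map,
      List.getElem?_eq_getElem h1, List.getElem?_eq_getElem h2, Option.map_some, Option.getD_some,
      Nat.add_sub_cancel, Bool.and_eq_true, beq_iff_eq] at e ⊢
    exact (he _ _ e.1.2 e.2).symm

end H21.Eng
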