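import Mathlib
import Cfsg.Agent.H21.Eng7

/-! The search over principal blocks with closure under triples: soundness. -/

set_option autoImplicit false

namespace H21.Eng

variable {ι : Type*} {ρ : ι → Rec} {s : Finset ι} {N : ℕ} {Ps : List Pr} {A : List Rec} {j : ℕ}
  {cs : List ι} {V : (ι → ℤ) → Prop} {nn : Rec → Bool} {E : ι → ι → Prop}

/-- The relations `Ls` hold for all columns in `V`. -/
def ROk (V : (ι → ℤ) → Prop) (cs : List ι) (Ls : List Rel) : Prop :=
  ∀ L ∈ Ls, (∀ a ∈ L, a.2 < cs.length) ∧ ∀ v, V v → reval L (cs.map v) = 0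

theorem ROk.append {Ls : List Rel} (h : ROk V cs Ls) (l : List ι) : ROk V (cs ++ l) Ls :=
  fun L hL => ⟨fun a ha => by have := (h L hL).1 a ha; simp; omega, fun v hv => by
    rw [← (h L hL).2 v hv, reval, reval]
    congr 1
    refine List.map_congr_left fun a ha => ?_
    rw [List.map_append, List.getD_append _ _ _ _ (by simpa using (h L hL).1 a ha)]⟩

/-- The characters with `nn` fall into triples (classes of `E`) with records listed by `O`. -/
def TriHyp (E : ι → ι → Prop) (V : (ι → ℤ) → Prop) (nn : Rec → Bool) (O : Rec → List Opt)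
    (ρ : ι → Rec) (s : Finset ι) : Prop :=
  ∀ ψ ∈ s, nn (ρ ψ) = true → ∃ a ∈ s, ∃ b ∈ s, ∃ k, ψ ≠ a ∧ ψ ≠ b ∧ a ≠ b ∧
    (∀ m, m = ψ ∨ m = a ∨ m = b → ∀ χ, E m χ ↔ χ = ψ ∨ χ = a ∨ χ = b) ∧
    nn (ρ a) = true ∧ nn (ρ b) = true ∧ (k, ρ a, ρ b) ∈ O (ρ ψ) ∧ ∀ v, V v →
      (k = 0 → v ψ + v a = v b) ∧ (k = 1 → v a + v b = v ψ) ∧ (k ≠ 0 → k ≠ 1 → v ψ = v a ∧ v ψ = v b)

/-- The characters at positions outside `fr` have their partners at positions outside `fr`. -/
structure Fr (E : ι → ι → Prop) (nn : Rec → Bool) (ρ : ι → Rec) (cs : List ι) (fr : List ℕ) :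
    Prop where
  nodup : fr.Nodup
  mem : ∀ p ∈ fr, ∃ ψ, cs[p]? = some ψ ∧ nn (ρ ψ) = true
  cl : ∀ p ψ, cs[p]? = some ψ → p ∉ fr → nn (ρ ψ) = true → ∀ χ, E ψ χ →
    ∃ q, cs[q]? = some χ ∧ q ∉ fr

theorem getD_of {p : ℕ} {ψ : ι} (h : cs[p]? = some ψ) : (cs.map ρ).getD p (0, []) = ρ ψ := by
  simp [List.getD_eq_getElem?_getD, h]

theorem zer_of (h : Cov2 ρ s j cs) {χ : ι} (hχ : χ ∈ s) (e : χ ∉ cs) : zer j (ρ χ) = true := by
  simp only [zer, List.all_eq_true, List.mem_range, beq_iff_eq]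
  exact fun i hi => not_not.1 fun e' => e (h.all χ hχ i hi e')

theorem pick_sound (h : Cov2 ρ s j cs) {fr : List ℕ} (hl : ∀ p ∈ fr, p < cs.length) {χ : ι}
    (hχ : χ ∈ s) (hp : ∀ p, cs[p]? = some χ → p ∈ fr) {K : List Rec → List ℕ → ℕ → Bool}
    (H : pick j (cs.map ρ) fr (ρ χ) K = true) : ∃ l p, Cov2 ρ s j (cs ++ l) ∧
      (cs ++ l)[p]? = some χ ∧ (∀ ψ ∈ l, ψ = χ) ∧ K ((cs ++ l).map ρ) (fr.erase p) p = true := by
  rw [pick, Bool.and_eq_true] at H
  by_cases e : χ ∈ cs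
  · obtain ⟨p, e⟩ := List.getElem?_of_mem e
    have := List.all_eq_true.1 H.1 p (hp p e)
    rw [getD_of e] at this
    exact ⟨[], p, by simpa using h, by simpa using e, by simp, by simpa using this⟩
  · have h2 := H.2
    rw [zer_of h hχ e, List.length_map] at h2
    refine ⟨[χ], cs.length, ⟨h.nodup.append (by simp) (by simpa using e), fun ψ hψ => ?_,
      fun ψ a i b c => List.mem_append_left _ (h.all ψ a i b c)⟩, by simp, by simp, ?_⟩
    · rcases List.mem_append.1 hψ with a | a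
      exacts [h.mem ψ a, List.mem_singleton.1 a ▸ hχ]
    · rw [List.erase_of_not_mem fun a => (hl _ a).false]
      simpa using h2

theorem idx_eq (h : cs.Nodup) {p q : ℕ} {ψ : ι} (hp : cs[p]? = some ψ) (hq : cs[q]? = some ψ) :
    p = q := (List.getElem?_inj (List.getElem?_eq_some_iff.1 hp).1 h).1 (hp.trans hq.symm)

theorem get_app {l : List ι} {p : ℕ} {ψ : ι} (h : cs[p]? = some ψ) : (cs ++ l)[p]? = some ψ := by
  rw [List.getElem?_append_left (List.getElem?_eq_some_iff.1 h).1, h]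

theorem clo_sound {ok : List Rec → Bool} (hok : ∀ cs, Cov2 ρ s j cs → ok (cs.map ρ) = true) {T : Tab}
    (hT : TriHyp E V nn (look T) ρ s) {K : List Rec → List Rel → Bool} (n : ℕ) {Ls : List Rel}
    {fr : List ℕ} (h : Cov2 ρ s j cs) (hL : ROk V cs Ls) (hf : Fr E nn ρ cs fr)
    (H : clo j ok T K n (cs.map ρ) Ls fr = true) : ∃ cs' Ls', Cov2 ρ s j cs' ∧ ROk V cs' Ls' ∧
      Fr E nn ρ cs' [] ∧ K (cs'.map ρ) Ls' = true := by
  induction n generalizing cs Ls fr with
  | zero =>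
    simp only [clo, Bool.and_eq_true, List.isEmpty_iff] at H
    obtain ⟨rfl, H⟩ := H
    exact ⟨cs, Ls, h, hL, hf, H⟩
  | succ n ih =>
    rcases fr with _ | ⟨i, fr⟩
    · exact ⟨cs, Ls, h, hL, hf, H⟩
    obtain ⟨ψ, hi, hψ⟩ := hf.mem i List.mem_cons_self
    obtain ⟨a, ha, b, hb, k, n1, n2, n3, hE, na, nb, ho, hv⟩ :=
      hT ψ (h.mem ψ (List.mem_of_getElem? hi)) hψ
    simp only [clo, getD_of hi] at H
    replace H := List.all_eq_true.1 H _ ho
    have hin : ∀ m p, m = a ∨ m = b → cs[p]? = some m → p ∈ fr := fun m p hm hp => by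
      by_contra e
      have e1 : p ≠ i := by
        rintro rfl
        rw [hi, Option.some.injEq] at hp
        rcases hm with rfl | rfl
        exacts [n1 hp, n2 hp]
      obtain ⟨q, e2, e3⟩ := hf.cl p m hp (by simp [e, e1]) (by rcases hm with rfl | rfl; exacts [na, nb])
        ψ ((hE m (Or.inr hm) ψ).2 (Or.inl rfl))
      exact e3 (idx_eq h.nodup e2 hi ▸ List.mem_cons_self)
    have hlt : ∀ p ∈ fr, p < cs.length := fun p hp => by
      obtain ⟨_, e, -⟩ := hf.mem p (List.mem_cons_of_mem _ hp)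
      exact (List.getElem?_eq_some_iff.1 e).1
    obtain ⟨l1, p, c1, hp, m1, H⟩ := pick_sound h hlt ha (fun p => hin a p (Or.inl rfl)) H
    obtain ⟨l2, q, c2, hq, m2, H⟩ := pick_sound c1
      (fun p hp => by have := hlt p (List.mem_of_mem_erase hp); simp; omega) hb (fun q hq => by
        have e1 : q ≠ p := by
          rintro rfl
          exact n3 (Option.some.inj (hp.symm.trans hq))
        refine (List.mem_erase_of_ne e1).2 (hin b q (Or.inr rfl) ?_)
        by_cases e : q < cs.length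
        · rwa [List.getElem?_append_left e] at hq
        · rw [List.getElem?_append_right (not_lt.1 e)] at hq
          exact absurd (m1 b (List.mem_of_getElem? hq)).symm n3) H
    simp only [fLR_eq, hok _ c2, Bool.not_true, Bool.false_or, fLN_eq, fLRel_eq] at H
    have hi' : (cs ++ l1 ++ l2)[i]? = some ψ := get_app (get_app hi)
    have hp' : (cs ++ l1 ++ l2)[p]? = some a := get_app hp
    obtain ⟨nd1, nd2⟩ := List.nodup_cons.1 hf.nodup
    have hsub : ∀ x, x ∈ (fr.erase p).erase q ↔ x ≠ q ∧ x ≠ p ∧ x ∈ fr := fun x => by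
      rw [(nd2.erase p).mem_erase_iff, nd2.mem_erase_iff]
    refine ih c2 (fun L hL' => ?_) ⟨(nd2.erase p).erase q, fun x hx => ?_,
      fun x φ hx hx' hφ χ hχ => ?_⟩ H
    · rcases List.mem_append.1 hL' with e | e
      swap
      · exact (hL.append l1).append l2 L e
      have l1 := (List.getElem?_eq_some_iff.1 hi').1
      have l2 := (List.getElem?_eq_some_iff.1 hp').1
      have l3 := (List.getElem?_eq_some_iff.1 hq).1
      rw [rels] at e
      split_ifs at e with k0 k1 <;> simp only [List.mem_cons, List.not_mem_nil, or_false] at e <;>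
        rcases e with rfl | rfl <;> refine ⟨by simp [l1, l2, l3, -List.length_append, -List.append_assoc], fun v hv' => ?_⟩ <;>
        simp only [reval, List.map_cons, List.map_nil, List.sum_cons, List.sum_nil,
          List.getD_eq_getElem?_getD, List.getElem?_map, hi', hp', hq, Option.map_some,
          Option.getD_some] <;> have := hv v hv'
      · linarith [this.1 k0]
      · linarith [this.2.1 k1]
      · linarith [(this.2.2 k0 k1).1]
      · linarith [(this.2.2 k0 k1).2]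
    · obtain ⟨φ, e1, e2⟩ := hf.mem x (List.mem_cons_of_mem _ ((hsub x).1 hx).2.2)
      exact ⟨φ, get_app (get_app e1), e2⟩
    · by_cases e : φ = ψ ∨ φ = a ∨ φ = b
      · rcases (hE φ e χ).1 hχ with rfl | rfl | rfl
        · exact ⟨i, hi', fun e => nd1 ((hsub i).1 e).2.2⟩
        · exact ⟨p, hp', fun e => ((hsub p).1 e).2.1 rfl⟩
        · exact ⟨q, hq, fun e => ((hsub q).1 e).1 rfl⟩
      have e1 : cs[x]? = some φ := by
        by_cases e2 : x < cs.length
        · rwa [List.append_assoc, List.getElem?_append_left e2] at hx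
        · rw [List.append_assoc, List.getElem?_append_right (not_lt.1 e2)] at hx
          rcases List.mem_append.1 (List.mem_of_getElem? hx) with e3 | e3
          exacts [absurd (Or.inr (Or.inl (m1 φ e3))) e, absurd (Or.inr (Or.inr (m2 φ e3))) e]
      have e2 : x ∉ i :: fr := fun e2 => by
        rcases List.mem_cons.1 e2 with rfl | e2
        · exact e (Or.inl (Option.some.inj (hx.symm.trans hi')))
        refine hx' ((hsub x).2 ⟨?_, ?_, e2⟩) <;> rintro rfl
        · exact e (Or.inr (Or.inr (Option.some.inj (hx.symm.trans hq))))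
        · exact e (Or.inr (Or.inl (Option.some.inj (hx.symm.trans hp'))))
      obtain ⟨y, e3, e4⟩ := hf.cl x φ e1 e2 hφ χ hχ
      exact ⟨y, get_app (get_app e3), fun e5 => e4 (List.mem_cons_of_mem _ ((hsub y).1 e5).2.2)⟩

theorem sok_of (H : Hyp N Ps A ρ s) (h : Cov2 ρ s j cs) : sok N Ps (cs.map ρ) = true := by
  classical
  simp only [sok, Bool.and_eq_true, decide_eq_true_eq, List.all_eq_true, List.mem_range, fLR_eq,
    List.map_map, Function.comp_def, beq_iff_eq, List.countP_map]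
  refine ⟨(Nat.add_le_add_left (h.sum_le _) 1).trans H.sq, fun i hi => ?_⟩
  have hP : Ps[i]? = some (Ps.getD i ⟨0, 0, 0⟩) := by simp [hi]
  generalize Ps.getD i ⟨0, 0, 0⟩ = P at hP
  refine ⟨H.cnt i P hP ▸ h.count_le fun ψ => (cf i (ρ ψ)).natAbs = P.t, ?_, fun r hr => ?_⟩
  · have := h.count_le fun ψ => cf i (ρ ψ) ≠ 0 ∧ (cf i (ρ ψ)).natAbs ≠ P.t
    rw [H.cnt' i P hP] at this
    rw [← List.countP_eq_length_filter, List.countP_map]
    refine ((List.countP_congr fun ψ _ => by simp [isEx]).le.trans this).trans ?_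
    split_ifs <;> omega
  · have h1 := List.head_mem (List.ne_nil_of_mem hr)
    rw [List.headD_eq_head?_getD, List.head?_eq_some_head (List.ne_nil_of_mem hr), Option.getD_some]
    generalize List.head _ _ = r' at h1
    simp only [List.mem_filter, List.mem_map, isEx, Bool.and_eq_true, bne_iff_ne] at hr h1
    obtain ⟨⟨ψ, -, rfl⟩, a1, a2⟩ := hr
    obtain ⟨⟨χ, -, rfl⟩, a3, a4⟩ := h1
    exact H.same i P hP _ _ a1 a2 a3 a4

theorem Fr.nfree (h : Fr E nn ρ cs []) (l : List ι) :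
    Fr E nn ρ (cs ++ l) (nfree nn cs.length ((cs ++ l).map ρ)) := by
  refine ⟨List.nodup_range.filter _, fun p hp => ?_, fun p ψ h1 h2 h3 χ h4 => ?_⟩
  · simp only [Eng.nfree, List.mem_filter, List.mem_range, List.length_map, Bool.and_eq_true] at hp
    have e := List.getElem?_eq_getElem hp.1
    exact ⟨_, e, getD_of (ρ := ρ) e ▸ hp.2.2⟩
  · simp only [Eng.nfree, List.mem_filter, List.mem_range, List.length_map, Bool.and_eq_true,
      getD_of h1, h3, (List.getElem?_eq_some_iff.1 h1).1, decide_eq_true_eq, true_and, and_true,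
      not_le] at h2
    rw [List.getElem?_append_left h2] at h1
    obtain ⟨q, e, -⟩ := h.cl p ψ h1 (by simp) h3 χ h4
    refine ⟨q, get_app e, fun e' => ?_⟩
    simp only [Eng.nfree, List.mem_filter, Bool.and_eq_true, decide_eq_true_eq] at e'
    exact (List.getElem?_eq_some_iff.1 e).1.not_ge e'.2.1

theorem ext2_sound (H : Hyp N Ps A ρ s) (h : Cov2 ρ s j cs) {P : Pr} (hP : Ps[j]? = some P)
    {K : List Rec → Bool} (hK : ext2 N j P A (cs.map ρ) K = true) :
    ∃ l, Cov2 ρ s (j + 1) (cs ++ l) ∧ K ((cs ++ l).map ρ) = true := by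
  classical
  have ht := H.tpos P (List.mem_of_getElem? hP)
  obtain ⟨l1, n1, m1⟩ : ∃ l : List ι, l.Nodup ∧ ∀ ψ, ψ ∈ l ↔ ψ ∈ s ∧ ψ ∉ cs ∧
    (cf j (ρ ψ)).natAbs = P.t := ⟨(s.filter fun ψ => ψ ∉ cs ∧ (cf j (ρ ψ)).natAbs = P.t).toList,
      Finset.nodup_toList _, fun ψ => by rw [Finset.mem_toList, Finset.mem_filter]⟩
  obtain ⟨l2, n2, m2⟩ : ∃ l : List ι, l.Nodup ∧ ∀ ψ, ψ ∈ l ↔ ψ ∈ s ∧ ψ ∉ cs ∧ cf j (ρ ψ) ≠ 0 ∧
    (cf j (ρ ψ)).natAbs ≠ P.t := ⟨(s.filter fun ψ => ψ ∉ cs ∧ cf j (ρ ψ) ≠ 0 ∧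
      (cf j (ρ ψ)).natAbs ≠ P.t).toList, Finset.nodup_toList _, fun ψ => by
      rw [Finset.mem_toList, Finset.mem_filter]⟩
  have hc : ∀ l : List ι, l.Perm l1 → Cov2 ρ s (j + 1) (cs ++ (l2 ++ l)) := fun l p => by
    refine ⟨?_, fun ψ hψ => ?_, fun ψ hψ i hi e => ?_⟩
    · refine h.nodup.append (n2.append (p.nodup_iff.2 n1) fun ψ a b => ?_) fun ψ a b => ?_
      · exact ((m2 ψ).1 a).2.2.2 ((m1 ψ).1 (p.mem_iff.1 b)).2.2
      · rcases List.mem_append.1 b with b | b
        exacts [((m2 ψ).1 b).2.1 a, ((m1 ψ).1 (p.mem_iff.1 b)).2.1 a]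
    · simp only [List.mem_append, p.mem_iff, m1, m2] at hψ
      rcases hψ with a | a | a
      exacts [h.mem ψ a, a.1, a.1]
    · simp only [List.mem_append, p.mem_iff, m1, m2]
      by_cases a : ψ ∈ cs
      · exact Or.inl a
      obtain rfl : i = j := le_antisymm (by omega) (not_lt.1 fun b => a (h.all ψ hψ i b e))
      tauto
  have c0 := hc l1 (.refl _)
  have a1 := c0.count j.lt_succ_self (fun ψ => (cf j (ρ ψ)).natAbs = P.t) fun ψ e => by omega
  have a2 := c0.count j.lt_succ_self (fun ψ => cf j (ρ ψ) ≠ 0 ∧ (cf j (ρ ψ)).natAbs ≠ P.t)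
    fun ψ e => e.1
  have a3 := c0.sum j.lt_succ_self (fun ψ => val j (ρ ψ)) fun ψ e => by rw [val, e, zero_mul]
  have a4 := (Nat.add_le_add_left (c0.sum_le fun ψ => (ρ ψ).1 * (ρ ψ).1) 1).trans H.sq
  have a5 := H.deg j P hP
  rw [H.cnt j P hP, List.countP_append, List.countP_append,
    List.countP_eq_zero (l := l2).2 fun ψ hψ => by simpa using ((m2 ψ).1 hψ).2.2.2,
    List.countP_eq_length (l := l1).2 fun ψ hψ => by simpa using ((m1 ψ).1 hψ).2.2] at a1
  rw [H.cnt' j P hP, List.countP_append, List.countP_append,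
    List.countP_eq_zero (l := l1).2 fun ψ hψ => by simp [((m1 ψ).1 hψ).2.2],
    List.countP_eq_length (l := l2).2 fun ψ hψ => by simpa using ((m2 ψ).1 hψ).2.2] at a2
  simp only [List.map_append, List.sum_append] at a3 a4
  have hA : ∀ ψ ∈ s, ψ ∉ cs → cf j (ρ ψ) ≠ 0 → ρ ψ ∈ A.filter fun r => cf j r != 0 && zer j r :=
    fun ψ b1 b2 b3 => List.mem_filter.2 ⟨H.mem ψ b1, by simp [b3, zer_of h b1 b2]⟩
  simp only [ext2, fLR_eq, fZ_eq, fN_eq, List.countP_map, List.map_map, Function.comp_def] at hK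
  generalize A.filter _ = A' at hK hA
  rw [Bool.and_eq_true] at hK
  obtain ⟨s1, s2⟩ := sorted_spec hK.1
  have key := fun K T S => allMs_sound (ρ := ρ) (K := K) _ s1 (s2 (0, [])) _ T S [] l1 rfl
    fun ψ hψ => by
      obtain ⟨b1, b2, b3⟩ := (m1 ψ).1 hψ
      have := hA ψ b1 b2 (by omega)
      simp only [List.mem_append, List.mem_reverse, List.mem_filter, beq_iff_eq, this, true_and]
      omega
  have e1 : cs.countP (fun ψ => (cf j (ρ ψ)).natAbs == P.t) =
    cs.countP (fun ψ => (cf j (ρ ψ)).natAbs = P.t) := rfl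
  have e2 : cs.countP (fun ψ => isEx j P (ρ ψ)) =
      cs.countP (fun ψ => cf j (ρ ψ) ≠ 0 ∧ (cf j (ρ ψ)).natAbs ≠ P.t) :=
    List.countP_congr fun ψ _ => by simp [isEx]
  replace hK := hK.2
  rw [e1, e2] at hK
  by_cases b1 : P.t = 1
  · rw [if_pos b1] at hK a1 a2
    rw [Bool.or_eq_true, decide_eq_true_eq] at hK
    obtain rfl : l2 = [] := List.length_eq_zero_iff.1 (by omega)
    rw [show P.e - _ = l1.length by omega] at hK
    obtain ⟨l, p, b⟩ := key _ _ _ (by simp at a3; linarith) (by omega) (hK.resolve_left (by omega))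
    exact ⟨_, hc l p, by simpa using b⟩
  rw [if_neg b1] at hK a1 a2
  simp only [Bool.or_eq_true, decide_eq_true_eq] at hK
  replace hK := hK.resolve_left (by omega)
  obtain ⟨ψ, b5, b6, b7, b8⟩ : ∃ ψ, cf j (ρ ψ) ≠ 0 ∧ (cf j (ρ ψ)).natAbs ≠ P.t ∧
      (l2 = [] ∨ zer j (ρ ψ) = true) ∧ ρ ψ ∈ if cs.countP (fun ψ => cf j (ρ ψ) ≠ 0 ∧
        (cf j (ρ ψ)).natAbs ≠ P.t) = 0 then A'.filter (isEx j P) else
        ((cs.map ρ).find? (isEx j P)).toList := by
    split_ifs with b2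
    · obtain ⟨ψ, hψ⟩ := List.exists_mem_of_length_pos (l := l2) (by omega)
      obtain ⟨b3, b4, b5, b6⟩ := (m2 ψ).1 hψ
      exact ⟨ψ, b5, b6, Or.inr (zer_of h b3 b4),
        List.mem_filter.2 ⟨hA ψ b3 b4 b5, by simp [isEx, b5, b6]⟩⟩
    · obtain ⟨ψ, hψ, b3⟩ := List.countP_pos_iff.1 (Nat.pos_of_ne_zero b2)
      obtain ⟨r, hr⟩ := Option.isSome_iff_exists.1 ((List.find?_isSome (p := isEx j P)).2
        ⟨_, List.mem_map_of_mem (f := ρ) hψ, by simpa [isEx] using b3⟩)
      obtain ⟨χ, -, rfl⟩ := List.mem_map.1 (List.mem_of_find?_eq_some hr)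
      have b4 := List.find?_some hr
      simp only [isEx, Bool.and_eq_true, bne_iff_ne] at b4
      refine ⟨χ, b4.1, b4.2, or_iff_not_imp_left.2 fun e => ?_, by simp [hr]⟩
      obtain ⟨φ, hφ⟩ := List.exists_mem_of_ne_nil _ e
      obtain ⟨c1, c2, c3, c4⟩ := (m2 φ).1 hφ
      exact H.same j P hP _ _ c3 c4 b4.1 b4.2 ▸ zer_of h c1 c2
  have b9 := List.all_eq_true.1 hK _ b8
  rw [show P.t - _ = l2.length by omega, show P.e - 1 - _ = l1.length by omega] at b9
  have c7 : l2.map ρ = List.replicate l2.length (ρ ψ) := List.eq_replicate_iff.2 ⟨by simp,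
    fun r hr => by
      obtain ⟨χ, hχ, rfl⟩ := List.mem_map.1 hr
      exact H.same j P hP _ _ ((m2 χ).1 hχ).2.2.1 ((m2 χ).1 hχ).2.2.2 b5 b6⟩
  have c8 := congrArg (fun l => (l.map (val j)).sum) c7
  have c9 := congrArg (fun l => (l.map fun r => r.1 * r.1).sum) c7
  simp only [List.map_map, Function.comp_def, List.map_replicate, List.sum_replicate,
    nsmul_eq_mul, smul_eq_mul] at c8 c9
  simp only [Bool.or_eq_true, decide_eq_true_eq] at b9
  obtain ⟨l, p, b⟩ := key _ _ _ (by linarith) (by omega) (b9.resolve_left (by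
    rintro (e | e)
    · rcases b7 with rfl | b7
      · simp at e
      · simp [b7] at e
    · omega))
  exact ⟨_, hc l p, by simpa [← c7] using b⟩

theorem run2_sound (H : Hyp N Ps A ρ s) {T : Tab} (hT : TriHyp E V nn (look T) ρ s)
    {post : ℕ → List Rec → List Rel → Bool} {F : List Rec → List Rel → Bool}
    (hpost : ∀ j cs Ls, Cov2 ρ s j cs → ROk V cs Ls → post j (cs.map ρ) Ls ≠ true) (S : List Pr)
    (hS : S <+: Ps.drop j) {Ls : List Rel} (h : Cov2 ρ s j cs) (hL : ROk V cs Ls)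
    (hf : Fr E nn ρ cs []) (hr : run2 N Ps A nn T post F S j (cs.map ρ) Ls = true) :
    ∃ cs' Ls', Cov2 ρ s (j + S.length) cs' ∧ ROk V cs' Ls' ∧ F (cs'.map ρ) Ls' = true := by
  induction S generalizing j cs Ls with
  | nil => exact ⟨cs, Ls, h, hL, hr⟩
  | cons P S ih =>
    obtain ⟨R, hR⟩ := hS
    have hP : Ps[j]? = some P := by
      rw [← add_zero j, ← List.getElem?_drop, ← hR]; rfl
    obtain ⟨l, h1, h2⟩ := ext2_sound H h hP hr
    simp only [fLR_eq, fLN_eq, Bool.or_eq_true, Bool.not_eq_true'] at h2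
    have hj := (List.getElem?_eq_some_iff.1 hP).1
    rcases h2 with (h2 | h2) | h2
    · refine absurd h2 (Bool.eq_false_iff.not.2 (not_not.2 (List.all_eq_true.2 fun i hi => ?_)))
      rw [List.mem_range] at hi
      simp only [Bool.or_eq_true, beq_iff_eq, List.map_map, Function.comp_def]
      refine or_iff_not_imp_left.2 fun e => ?_
      rw [h1.sum j.lt_succ_self _ fun ψ e => by rw [e, mul_zero]]
      exact H.cross i j _ _ e (by simp [hi]) (by simp [hj])
    · refine absurd h2 (Bool.eq_false_iff.not.2 (not_not.2 (List.all_eq_true.2 fun i hi =>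
        List.all_eq_true.2 fun r hr => ?_)))
      rw [List.mem_range] at hi
      obtain ⟨ψ, hψ, rfl⟩ := List.mem_map.1 hr
      simp only [Bool.or_eq_true, bne_iff_ne, List.any_eq_true, Bool.and_eq_true, decide_eq_true_eq]
      refine or_iff_not_imp_left.2 fun e => ?_
      obtain ⟨χ, a1, a2⟩ := H.norm i _ (by simp [show i < Ps.length by omega]) ψ (h1.mem ψ hψ)
        (not_not.1 e)
      exact ⟨_, List.mem_map_of_mem (h1.all χ a1 i hi a2.1.ne), a2⟩
    · rw [List.length_map (as := cs)] at h2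
      obtain ⟨cs', Ls', c1, c2, c3, c4⟩ := clo_sound (fun _ => sok_of H) hT _ h1 (hL.append l)
        (hf.nfree l) h2
      rw [List.length_cons, ← add_assoc, add_right_comm]
      exact ih ⟨R, by rw [← List.drop_drop, ← hR]; rfl⟩ c1 c2 c3
        ((Bool.or_eq_true _ _ ▸ c4).resolve_left (hpost _ _ _ c1 c2))

theorem look_map {O : Rec → List Opt} {L : List Rec} {r : Rec} (h : r ∈ L) :
    look (L.map fun r => (r, O r)) r = O r := by
  induction L with
  | nil => cases h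
  | cons a L ih =>
    rw [List.map_cons, look]
    split_ifs with e
    · exact congrArg O (beq_iff_eq.1 e)
    · exact ih ((List.mem_cons.1 h).resolve_left fun e' => e (by simp [e']))

theorem eng2_sound (H : Hyp N Ps A ρ s) {O : List Rec → Rec → List Opt}
    (hT : TriHyp E V nn (O (A.filter nn)) ρ s) {k : ℕ} (hk : k ≤ Ps.length)
    {post : ℕ → List Rec → List Rel → Bool} {F : List Rec → List Rel → Bool}
    (hpost : ∀ j cs Ls, Cov2 ρ s j cs → ROk V cs Ls → post j (cs.map ρ) Ls ≠ true)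
    {st : List Rec → List (List Rec × List Rel)} (h : cs.Nodup) (h' : ∀ ψ ∈ cs, ψ ∈ s)
    {Ls : List Rel} (hL : ROk V cs Ls) (hst : ∀ A', (∀ ψ ∈ s, ρ ψ ∈ A') → (cs.map ρ, Ls) ∈ st A')
    (hr : eng2 N Ps A nn O k post F st = true) :
    ∃ cs' Ls', Cov2 ρ s k cs' ∧ ROk V cs' Ls' ∧ F (cs'.map ρ) Ls' = true := by
  simp only [eng2, fLR_eq, fLT_eq, fLN_eq] at hr
  have hT' : TriHyp E V nn (look ((A.filter nn).map fun r => (r, O (A.filter nn) r))) ρ s :=
    fun ψ a b => by
    rw [look_map (List.mem_filter.2 ⟨H.mem ψ a, b⟩)]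
    exact hT ψ a b
  generalize (A.filter nn).map _ = T at hr hT'
  have hA : ∀ ψ ∈ s, ρ ψ ∈ A.filter fun r => !nn r || !(look T r).isEmpty := fun ψ a =>
    List.mem_filter.2 ⟨H.mem ψ a, by
      by_cases b : nn (ρ ψ) = true
      · obtain ⟨_, -, _, -, _, -, -, -, -, -, -, e, -⟩ := hT' ψ a b
        simp [List.ne_nil_of_mem e]
      · simp [b]⟩
  have H' : Hyp N Ps _ ρ s := ⟨hA, H.sq, H.tpos, H.deg, H.cnt, H.cnt', H.same, H.cross, H.norm⟩
  have c0 : Cov2 ρ s 0 cs := ⟨h, h', fun _ _ _ h => absurd h (Nat.not_lt_zero _)⟩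
  have h1 := List.all_eq_true.1 hr _ (hst _ hA)
  simp only [sok_of H c0, Bool.not_true, Bool.false_or] at h1
  have f0 : Fr E nn ρ ([] : List ι) [] := ⟨List.nodup_nil, by simp, by simp⟩
  obtain ⟨cs', Ls', c1, c2, c3, c4⟩ := clo_sound (fun _ => sok_of H) hT' _ c0 hL (f0.nfree cs) h1
  simpa [hk] using run2_sound H' hT' hpost _ (List.take_prefix _ _) c1 c2 c3 c4

end H21.Eng
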