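import Mathlib
import Cfsg.Agent.H21.Eng8

/-! Value lists for the columns and the table of triples. -/

set_option autoImplicit false

namespace H21.Eng

def gN {α : Type} (n : ℕ) (k : ℕ → α) : α := Nat.casesOn n (k 0) fun m => k m.succ

@[simp] theorem gN_eq {α : Type} (n : ℕ) (k : ℕ → α) : gN n k = k n := by cases n <;> rfl

/-- The integers `v ≡ d` modulo `M` with `|v| ≤ K` and `|v| < d`. -/
def prog (d M K : ℕ) : List ℤ := gN M fun M => gN K fun K => gN ((d - K + M - 1) / M) fun lo =>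
  ((List.range ((d + K) / M + 1 - lo)).map fun k => (d : ℤ) - (M * (lo + k) : ℕ)).filter
    fun v => decide (v.natAbs < d)

theorem mem_prog {d M K : ℕ} {v : ℤ} (hM : 0 < M) (h1 : (M : ℤ) ∣ d - v) (h2 : v.natAbs ≤ K)
    (h3 : v.natAbs < d) : v ∈ prog d M K := by
  simp only [prog, gN_eq]
  refine List.mem_filter.2 ⟨?_, by simpa using h3⟩
  obtain ⟨i, hi⟩ := h1
  obtain ⟨i, rfl⟩ := Int.eq_ofNat_of_zero_le (a := i) (by
    by_contra e
    have : (M : ℤ) * i ≤ 0 := mul_nonpos_of_nonneg_of_nonpos (by omega) (by omega)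
    omega)
  have e : ((M * i : ℕ) : ℤ) = d - v := by push_cast; exact hi.symm
  have a1 : (d - K + M - 1) / M ≤ i := by
    rw [← Nat.lt_succ_iff, Nat.div_lt_iff_lt_mul hM, Nat.succ_mul, mul_comm i]
    omega
  have a2 : i ≤ (d + K) / M := by
    rw [Nat.le_div_iff_mul_le hM, mul_comm i]
    omega
  refine List.mem_map.2 ⟨i - (d - K + M - 1) / M, List.mem_range.2 (by omega), ?_⟩
  rw [Nat.add_sub_cancel' a1, e]
  ring

def modl (C : ℕ) : List Pr → List ℤ → ℕ
  | P :: Ps, a :: f => if a == 0 || C % P.p != 0 then modl C Ps f else P.p.lcm (modl C Ps f)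
  | _, _ => 1

theorem modl_spec {C d : ℕ} {v : ℤ} (hC : C ≠ 0) {Ps : List Pr} {f : List ℤ}
    (h : cong C d v Ps f = true) : 0 < modl C Ps f ∧ (modl C Ps f : ℤ) ∣ d - v := by
  induction Ps generalizing f with
  | nil => simp [modl]
  | cons P Ps ih =>
    rcases f with _ | ⟨a, f⟩
    · simp [modl]
    rw [cong, Bool.and_eq_true, Bool.or_eq_true] at h
    obtain ⟨h1, h2⟩ := ih h.2
    rw [modl]
    split_ifs with e
    · exact ⟨h1, h2⟩
    have e1 : 0 < P.p := Nat.pos_of_ne_zero fun e' => e (by simp [e', hC])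
    exact ⟨Nat.lcm_pos e1 h1, Int.natCast_dvd.2 (Nat.lcm_dvd (Int.natCast_dvd.1
      (Int.dvd_of_emod_eq_zero (by simpa using h.1.resolve_left e))) (Int.natCast_dvd.1 h2))⟩

def vals2 (N C : ℕ) (Ps : List Pr) (r : Rec) : List ℤ :=
  prog r.1 (((4 : ℕ).lcm (r.1 / r.1.gcd (N / C))).lcm (modl C Ps r.2)) C.sqrt

theorem mem_vals2 {N C : ℕ} {Ps : List Pr} {r : Rec} {v : ℤ} (hC : C ≠ 0)
    (h : okv N C Ps r v = true) (hv : v.natAbs * v.natAbs ≤ C) : v ∈ vals2 N C Ps r := by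
  simp only [okv, Bool.and_eq_true, beq_iff_eq, decide_eq_true_eq] at h
  obtain ⟨⟨⟨h1, h2⟩, h3⟩, h4⟩ := h
  obtain ⟨h5, h6⟩ := modl_spec hC h4
  have h7 : 0 < r.1 / r.1.gcd (N / C) :=
    Nat.div_pos (Nat.gcd_le_left _ (by omega)) (Nat.gcd_pos_of_pos_left _ (by omega))
  refine mem_prog (Nat.lcm_pos (Nat.lcm_pos (by decide) h7) h5) (Int.natCast_dvd.2 (Nat.lcm_dvd
    (Nat.lcm_dvd (Int.natCast_dvd.1 (Int.dvd_of_emod_eq_zero h1)) (Int.natCast_dvd.1 ?_))
    (Int.natCast_dvd.1 h6))) (Nat.le_sqrt.2 hv) h3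
  exact (Int.natCast_dvd_natCast.2 (Nat.div_dvd_of_dvd (Nat.gcd_dvd_left _ _))).sub
    (Int.dvd_of_emod_eq_zero h2)

/-- Columns of involutions with centraliser order in `Cs` and values satisfying `B`. -/
def icol (N : ℕ) (Ps : List Pr) (js Cs : List ℕ) (B : Rec → ℤ → Bool) (Q : List ℤ → Bool)
    (U : List Rec) (Ls : List Rel) : Bool :=
  Cs.all fun C => !Ps.all (okC C) || col2 N C Ps js (fun P z => P.p == 0 || sqok P C z)
    (fun r => (vals2 N C Ps r).filter (B r)) (fun r => exc Ps r.2) Q U Ls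

variable {ι : Type*} {ρ : ι → Rec} {s : Finset ι} {N : ℕ} {Ps : List Pr} {j : ℕ} {cs : List ι}
  {v : ι → ℤ}

theorem icol_sound (h : Cov2 ρ s j cs) {C : ℕ} (hc : ColHyp N Ps ρ s C v) {js Cs : List ℕ}
    (hjs : ∀ i ∈ js, i < j ∧ i < Ps.length) (hC : C ∈ Cs) {B : Rec → ℤ → Bool}
    (hB : ∀ ψ ∈ s, B (ρ ψ) (v ψ) = true) {Q : List ℤ → Bool} {Ls : List Rel}
    (hL : ∀ L ∈ Ls, reval L (cs.map v) = 0) (H : icol N Ps js Cs B Q (cs.map ρ) Ls = true) :
    Q (cs.map v).reverse = true := by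
  have h1 := List.all_eq_true.1 H C hC
  rw [hc.okc, Bool.not_true, Bool.false_or] at h1
  have h2 := hc.nrm
  refine col2_sound h (fun i hi => (hjs i hi).1) (fun _ => rfl) (fun ψ hψ => List.mem_filter.2
    ⟨mem_vals2 (by omega) (hc.ok ψ hψ) ?_, hB ψ hψ⟩) h2
    (fun i hi => hc.lin i _ (by simp [(hjs i hi).2])) (fun i hi => ?_) hc.same hL h1
  · have := Finset.single_le_sum (f := fun ψ => (v ψ).natAbs * (v ψ).natAbs)
      (fun _ _ => Nat.zero_le _) hψ
    omega
  · rw [hc.sq i _ (by simp [(hjs i hi).2]), Bool.or_true]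

/-- The values on a rational element of prime order `p` with centraliser order `C`; `i` is the
position of `p` in the records. -/
def uvals (N C p i : ℕ) (r : Rec) : List ℤ :=
  if cf i r ≠ 0 then [cf i r] else if r.1 % p = 0 then [0] else
    (prog r.1 (p.lcm (r.1 / r.1.gcd (N / C))) C.sqrt).filter fun v => decide (0 ≤ r.1 + (p - 1) * v)

def key (r : Rec) : ℤ := r.2.foldl (fun k f => 11 * k + f + 5) r.1

/-- The partners of `r` in a triple. -/
def opt9 (N : ℕ) (tok : Bool → Rec → Rec → Rec → Bool) (T : List Rec) (r : Rec) : List Opt :=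
  T.flatMap fun x =>
    (if N % (r.1 + x.1) = 0 then (T.filter fun y => y.1 == r.1 + x.1 && tok true r x y).map (0, x, ·)
      else []) ++
    (if x.1 < r.1 ∧ N % (r.1 - x.1) = 0 then (T.filter fun y => x.1 + y.1 == r.1 &&
      decide (key x ≤ key y) && tok true x y r).map (1, x, ·) else []) ++
    (if x.1 = r.1 then (T.filter fun y => y.1 == r.1 && decide (key x ≤ key y) &&
      tok false r x y).map (2, x, ·) else [])

def nine (r : Rec) : Bool := r.1 % 9 == 0 && r.1 % 27 != 0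

theorem crossOk_of {A : List Rec} (H : Hyp N Ps A ρ s) (h : Cov2 ρ s (j + 1) cs) (hj : j < Ps.length) :
    crossOk Ps j (cs.map ρ) = true := List.all_eq_true.2 fun i hi => by
  rw [List.mem_range] at hi
  simp only [Bool.or_eq_true, beq_iff_eq, List.map_map, Function.comp_def]
  refine or_iff_not_imp_left.2 fun e => ?_
  rw [h.sum j.lt_succ_self _ fun ψ e => by rw [e, mul_zero]]
  exact H.cross i j _ _ e (by simp [hi]) (by simp [hj])

theorem Hyp.filter {A : List Rec} (H : Hyp N Ps A ρ s) {p : Rec → Bool}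
    (h : ∀ ψ ∈ s, p (ρ ψ) = true) : Hyp N Ps (A.filter p) ρ s :=
  ⟨fun ψ a => List.mem_filter.2 ⟨H.mem ψ a, h ψ a⟩, H.sq, H.tpos, H.deg, H.cnt, H.cnt', H.same,
    H.cross, H.norm⟩

end H21.Eng
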