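import Mathlib
import Cfsg.Agent.H21.Eng9

/-! Faster versions of the searches. -/

set_option autoImplicit false

namespace H21.Eng

/-! Columns. -/

def upd3 (v w : ℤ) (st : List Cell) (f : List ℤ) : List Cell :=
  List.zipWith (fun c a => if a = 0 then c else (c.1, c.2.1 + a * v, c.2.2 + a * w)) st f

theorem upd3_eq (N d : ℕ) (v : ℤ) (st : List Cell) (f : List ℤ) :
    upd3 v (v * v * (N / d : ℕ)) st f = upd N d v st f := by
  rw [upd3, upd]
  congr 1
  funext c a
  split_ifs with h <;> simp [h]

def colGo3 (N C : ℕ) (qc : Pr → ℤ → Bool) (Q : List ℤ → Bool) :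
    List Item → ℤ → List Cell → ℕ → List ℤ → Bool
  | [], _, _, _, acc => Q acc
  | it :: R, pv, st, nrm, acc => (opts2 it pv st).all fun v =>
      fZ v fun v => fN (nrm + v.natAbs * v.natAbs) fun nrm => decide (C < nrm) ||
        fZ (v * v * (N / it.1.1 : ℕ)) fun w => fL fC (upd3 v w st it.1.2) fun st =>
          bad2 qc st it.1.2 it.2.2.2 || colGo3 N C qc Q R v st nrm (v :: acc)

theorem colGo3_eq (N C : ℕ) (qc : Pr → ℤ → Bool) (Q : List ℤ → Bool) (l : List Item) (pv : ℤ)
    (st : List Cell) (nrm : ℕ) (acc : List ℤ) :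
    colGo3 N C qc Q l pv st nrm acc = colGo2 N C qc Q l pv st nrm acc := by
  induction l generalizing pv st nrm acc with
  | nil => rfl
  | cons a l ih => simp only [colGo3, colGo2, fZ_eq, upd3_eq, ih]

/-- The rows and flags, which do not depend on the values. -/
def mkB (k : ℕ) : List (Rec × Bool) → (List (Rec × Bool × List Bool) → List Bool → Bool) → Bool
  | [], K => K [] (List.replicate k true)
  | a :: l, K => fR a.1 fun r => fB a.2 fun b => mkB k l fun its z => fL fB z fun z =>
      K ((r, b, z) :: its) (List.zipWith (fun a b => a == 0 && b) r.2 z)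

def mkB' (k : ℕ) : List (Rec × Bool) → List (Rec × Bool × List Bool)
  | [] => []
  | a :: l => (a.1, a.2, zs k (l.map (·.1))) :: mkB' k l

theorem mkB_eq (k : ℕ) (l : List (Rec × Bool)) (K : List (Rec × Bool × List Bool) → List Bool → Bool) :
    mkB k l K = K (mkB' k l) (zs k (l.map (·.1))) := by
  induction l generalizing K with
  | nil => rfl
  | cons a l ih => simp only [mkB, fR_eq, fB_eq, ih, fL_eq fB_eq, mkB', List.map_cons, zs]

def fW (W : Rec → List ℤ) : List Rec → List (Rec × Bool × List Bool) → (List Item → Bool) → Bool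
  | r :: U, a :: l, K => fL fZ (W r) fun w => w.isEmpty || fW W U l fun its => K ((a.1, w, a.2) :: its)
  | _, _, K => K []

theorem fW_spec {α : Type} (W : Rec → List ℤ) (k : ℕ) (l : List α) (f g : α → Rec) (b : α → Bool)
    (K : List Item → Bool) (h : fW W (l.map f) (mkB' k (l.map fun a => (g a, b a))) K = true) :
    ((l.map f).any fun r => (W r).isEmpty) = true ∨
      K (mkI k (l.map fun a => (g a, W (f a), b a))) = true := by
  induction l generalizing K with
  | nil => exact Or.inr h
  | cons a l ih =>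
    simp only [List.map_cons, mkB', fW, fLZ_eq, Bool.or_eq_true, List.any_cons, mkI,
      List.map_map] at h ⊢
    rcases h with h | h
    · exact Or.inl (Or.inl h)
    · exact (ih _ h).imp Or.inr id

/-- `col2` for every `C` in `Cs`. -/
def col3 (N : ℕ) (Cs : List ℕ) (Ps : List Pr) (js : List ℕ) (qc : ℕ → Pr → ℤ → Bool)
    (W : ℕ → Rec → List ℤ) (ex : Rec → Bool) (Q : List ℤ → Bool) (U : List Rec) (Ls : List Rel) :
    Bool :=
  mkB (js.length + Ls.length) ((List.range U.length).map fun i =>
    (((U.getD i (0, [])).1, js.map (cf · (U.getD i (0, []))) ++ Ls.map (rco · i)),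
      i != 0 && U.getD (i - 1) (0, []) == U.getD i (0, []) && ex (U.getD i (0, [])))) fun B _ =>
    fL fC ((js.map fun j => (Ps.getD j ⟨0, 0, 0⟩, ((Ps.getD j ⟨0, 0, 0⟩).t : ℤ),
      ((Ps.getD j ⟨0, 0, 0⟩).t * N : ℤ))) ++ Ls.map fun _ => (⟨0, 0, 0⟩, 0, 0)) fun st =>
    Cs.all fun C => fW (W C) U B fun its => colGo3 N C (qc C) Q its 0 st 1 []

theorem col3_spec {N : ℕ} {Cs : List ℕ} {Ps : List Pr} {js : List ℕ} {qc : ℕ → Pr → ℤ → Bool}
    {W : ℕ → Rec → List ℤ} {ex : Rec → Bool} {Q : List ℤ → Bool} {U : List Rec} {Ls : List Rel}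
    (h : col3 N Cs Ps js qc W ex Q U Ls = true) {C : ℕ} (hC : C ∈ Cs) :
    col2 N C Ps js (qc C) (W C) ex Q U Ls = true := by
  simp only [col3, mkB_eq, fLC_eq, colGo3_eq] at h
  have e : (List.range U.length).map (U.getD · (0, [])) = U :=
    List.ext_getElem (by simp) fun i h1 h2 => by simp [List.getD_eq_getElem?_getD, h2]
  have h1 := List.all_eq_true.1 h C hC
  rw [col2, fLI_eq, Bool.or_eq_true]
  conv_lhs at h1 => enter [2]; rw [← e]
  have h2 := fW_spec _ _ _ _ _ _ _ h1
  rwa [e] at h2

def icol3 (N : ℕ) (Ps : List Pr) (js Cs : List ℕ) (B : Rec → ℤ → Bool) (Q : List ℤ → Bool)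
    (U : List Rec) (Ls : List Rel) : Bool :=
  col3 N Cs Ps js (fun C P z => P.p == 0 || sqok P C z)
    (fun C r => (vals2 N C Ps r).filter (B r)) (fun r => exc Ps r.2) Q U Ls

theorem icol3_spec {N : ℕ} {Ps : List Pr} {js Cs : List ℕ} {B : Rec → ℤ → Bool} {Q : List ℤ → Bool}
    {U : List Rec} {Ls : List Rel} (h : icol3 N Ps js Cs B Q U Ls = true) :
    icol N Ps js Cs B Q U Ls = true :=
  List.all_eq_true.2 fun _ hC => by rw [col3_spec h hC, Bool.or_true]

/-! Blocks. -/

def ext3 (N j : ℕ) (P : Pr) (X L : List Rec) (M : ℤ) (U : List Rec) (K : List Rec → Bool) : Bool :=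
  fN (U.countP fun r => (cf j r).natAbs == P.t) fun a =>
  fN (U.countP (isEx j P)) fun b =>
  fZ (-P.t - (U.map (val j)).sum) fun T => fN (N - 1 - (U.map fun r => r.1 * r.1).sum) fun S =>
  if P.t = 1 then decide (P.e < a) || allMs j M (fun l => K (U ++ l)) L (P.e - a) T S []
  else decide (P.e - 1 < a) || decide (P.t < b) ||
    (if b = 0 then X else (U.find? (isEx j P)).toList).all fun r =>
      (P.t - b != 0 && !zer j r) || decide (S < (P.t - b) * (r.1 * r.1)) ||
      allMs j M (fun l => K (U ++ (List.replicate (P.t - b) r ++ l))) L (P.e - 1 - a)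
        (T - (P.t - b : ℕ) * val j r) (S - (P.t - b) * (r.1 * r.1)) []

def run3 (N : ℕ) (Ps : List Pr) (A : List Rec) (nn : Rec → Bool) (T : Tab)
    (post : ℕ → List Rec → List Rel → Bool) (F : List Rec → List Rel → Bool) :
    List Pr → ℕ → ((List Rec → List Rel → Bool) → Bool) → Bool
  | P :: S, j, k => run3 N Ps A nn T post F S (j + 1) fun R =>
      fL fR (A.filter fun r => cf j r != 0 && zer j r) fun A => fL fR (A.filter (isEx j P)) fun X =>
      fL fR (((A.filter fun r => cf j r == -P.t).reverse ++ A.filter fun r => cf j r == P.t)) fun L =>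
      fZ (val j (L.getLastD (0, []))) fun M => sorted j L && k fun U Ls =>
        ext3 N j P X L M U fun V => fL fR V fun V => !crossOk Ps j V || !normOk Ps j V ||
          fL fN (nfree nn U.length V) fun fr => clo (j + 1) (sok N Ps) T
            (fun W Ls => post (j + 1) W Ls || R W Ls) V.length V Ls fr
  | [], _, k => k F

theorem run3_spec {N : ℕ} {Ps : List Pr} {A : List Rec} {nn : Rec → Bool} {T : Tab}
    {post : ℕ → List Rec → List Rel → Bool} {F : List Rec → List Rel → Bool} (S : List Pr) (j : ℕ)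
    {k : (List Rec → List Rel → Bool) → Bool} (h : run3 N Ps A nn T post F S j k = true) :
    k (run2 N Ps A nn T post F S j) = true := by
  induction S generalizing j k with
  | nil => exact h
  | cons P S ih =>
    have h1 := ih _ h
    simp only [fLR_eq, fZ_eq, Bool.and_eq_true] at h1
    convert h1.2 using 2
    funext U Ls
    simp only [run2, ext2, ext3, fLR_eq, fZ_eq, h1.1, Bool.true_and]

def eng3 (N : ℕ) (Ps : List Pr) (A : List Rec) (nn : Rec → Bool) (O : List Rec → Rec → List Opt)
    (k : ℕ) (post : ℕ → List Rec → List Rel → Bool) (F : List Rec → List Rel → Bool)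
    (st : List Rec → List (List Rec × List Rel)) : Bool :=
  fL fR A fun A => fL fR (A.filter nn) fun T9 => fL fT (T9.map fun r => (r, O T9 r)) fun T =>
    fL fR (A.filter fun r => !nn r || !(look T r).isEmpty) fun A =>
      run3 N Ps A nn T post F (Ps.take k) 0 fun R => (st A).all fun x =>
        fL fR x.1 fun U => !sok N Ps U || fL fN (nfree nn 0 U) fun fr => clo 0 (sok N Ps) T
          R U.length U x.2 fr

theorem eng3_spec {N : ℕ} {Ps : List Pr} {A : List Rec} {nn : Rec → Bool}
    {O : List Rec → Rec → List Opt} {k : ℕ} {post : ℕ → List Rec → List Rel → Bool}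
    {F : List Rec → List Rel → Bool} {st : List Rec → List (List Rec × List Rel)}
    (h : eng3 N Ps A nn O k post F st = true) : eng2 N Ps A nn O k post F st = true := by
  simp only [eng3, eng2, fLR_eq, fLT_eq] at h ⊢
  exact run3_spec _ _ h

end H21.Eng
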