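import Mathlib
import Cfsg.Agent.H21.Mat6

/-! Counting products of involutions with singular product. -/

set_option autoImplicit false
set_option linter.unusedSectionVars false

open Cfsg H4 H17 H18 Subgroup Module
open scoped ComplexConjugate

namespace H21.Eng

variable {G : Type*} [Group G] [Fintype G] {p : ℕ} [hp : Fact p.Prime] {x : G}

theorem mem_zpowers_of_commute (h : D1 p x) {u : G} (hu : PElt p u) (hc : Commute x u) :
    u ∈ zpowers x := by
  have h1 : IsPGroup p (zpowers x ⊔ zpowers u : Subgroup G) :=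
    IsPGroup.to_sup_of_normal_right' h.pElt.isPGroup_zpowers hu.isPGroup_zpowers
      (zpowers_le.2 (centralizer_le_normalizer_zpowers u (mem_centralizer_singleton_iff.2 hc)))
  exact h.sylIn.eq_of_le h1 le_sup_left le_top ▸ (le_sup_right : zpowers u ≤ _) (mem_zpowers u)

open Classical in
theorem card_conj_pp (h : D1 p x) (y : G) :
    ∑ k : G, (if pp p (k * y * k⁻¹) ∈ zpowers x ∧ pp p (k * y * k⁻¹) ≠ 1 then 1 else 0) =
      if p ∣ orderOf y then Nat.card (normalizer (zpowers x : Set G)) else 0 := by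
  simp only [pp_conj, ne_eq, conj_eq_one_iff, pp_eq_one_iff, not_not]
  split_ifs with hy
  · obtain ⟨i, hi⟩ := h.exists_isConj_pp hy
    obtain ⟨m, hm⟩ := isConj_iff.1 hi.symm
    have hz : zpowers (xp x (i : ZMod p)) = zpowers x := zpowers_eq_of_mem (p := p)
      (by rw [Nat.card_zpowers, h.ord]) (xp_mem x _) fun h1 => i.ne_zero ((xp_eq_one_iff h.ord).1 h1)
    rw [← Finset.card_filter, Nat.card_eq_fintype_card, Fintype.card_subtype]
    refine Finset.card_equiv (Equiv.mulRight m) fun k => ?_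
    simp only [Finset.mem_filter, Finset.mem_univ, true_and, hy, and_true, Equiv.coe_mulRight]
    rw [← hz, mem_normalizer_zpowers_iff, ← hm]
    simp only [mul_assoc, mul_inv_rev]
  · simp [hy]

theorem inv_of_pp (h : D1 p x) {a y : G} (ha : a * y * a⁻¹ = y⁻¹) {i : ZMod p} (hi : i ≠ 0)
    (hy : pp p y = xp x i) : a * x * a⁻¹ = x⁻¹ := by
  have h1 : a * xp x i * a⁻¹ = (xp x i)⁻¹ := by
    rw [← hy, ← pp_conj, ha]
    exact isPPart_iff.1 (IsPPart.inv (isPPart_pp y))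
  have h2 : x = xp (xp x i) i⁻¹ := by rw [← xp_mul h.ord, mul_inv_cancel₀ hi, xp_one]
  conv_lhs => rw [h2, conj_xp, h1]
  conv_rhs => rw [h2]
  simp [xp]

theorem commute_of_inv {a b : G} (ha : a * x * a⁻¹ = x⁻¹) (hb : b * x * b⁻¹ = x⁻¹) :
    Commute x (a * b) := by
  have : a * b * x * (a * b)⁻¹ = x := by
    calc a * b * x * (a * b)⁻¹ = a * (b * x * b⁻¹) * a⁻¹ := by group
      _ = x := by rw [hb, ← conj_inv, ha, inv_inv]
  exact (mul_inv_eq_iff_eq_mul.1 this).symm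

theorem inv_conj {u a : G} (hc : Commute x u) :
    u * a * u⁻¹ * x * (u * a * u⁻¹)⁻¹ = x⁻¹ ↔ a * x * a⁻¹ = x⁻¹ := by
  rw [show u * a * u⁻¹ * x * (u * a * u⁻¹)⁻¹ = u * (a * (u⁻¹ * (x * u)) * a⁻¹) * u⁻¹ by group, hc.eq,
    inv_mul_cancel_left, mul_inv_eq_iff_eq_mul, hc.inv_left.eq, mul_left_cancel_iff]

theorem pp_xp_mul (h : D1 p x) {y : G} (hc : Commute x y) (i : ZMod p) :
    pp p (xp x i * y) = xp x i * pp p y := by
  conv_lhs => rw [← pp_mul_pr (p := p) y, ← mul_assoc]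
  exact pp_mul ((PElt.of_mem h.pElt.isPGroup_zpowers (xp_mem x i)).mul (pElt_pp y)
    ((commute_pp hc).pow_left _)) (reg_pr y)
    (((commute_pr hc).pow_left _).mul_left (commute_pp_pr y))

open Classical in
/-- The number of conjugates inverting `x`. -/
noncomputable def J (x s : G) : ℕ := ∑ g : G, if g * s * g⁻¹ * x * (g * s * g⁻¹)⁻¹ = x⁻¹ then 1 else 0

open Classical in
theorem count_local (h : D1 p x) (p2 : p ≠ 2) {a b : G} (ha : a * a = 1) (hb : b * b = 1) :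
    p * ∑ z : G × G, (if pp p (z.1 * a * z.1⁻¹ * (z.2 * b * z.2⁻¹)) ∈ zpowers x ∧
      pp p (z.1 * a * z.1⁻¹ * (z.2 * b * z.2⁻¹)) ≠ 1 then 1 else 0) = (p - 1) * (J x a * J x b) := by
  let I : G → G → Prop := fun s g => g * s * g⁻¹ * x * (g * s * g⁻¹)⁻¹ = x⁻¹
  let F : ZMod p → ℕ := fun i => ∑ z : G × G, if I a z.1 ∧ I b z.2 ∧
    pp p (z.1 * a * z.1⁻¹ * (z.2 * b * z.2⁻¹)) = xp x i then 1 else 0
  have h2 : (2 : ZMod p) ≠ 0 := fun e => p2 ((Nat.prime_dvd_prime_iff_eq hp.out Nat.prime_two).1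
    ((ZMod.natCast_eq_zero_iff 2 p).1 e))
  have hF : ∀ i, F i = F 0 := fun i => by
    refine (Fintype.sum_equiv ((Equiv.mulLeft (xp x (i / 2))).prodCongr (Equiv.refl G)) _ _
      fun ⟨g, k⟩ => ?_).symm
    have hc : Commute x (xp x (i / 2)) := commute_xp x _
    have e0 : xp x (i / 2) * g * a * (xp x (i / 2) * g)⁻¹ =
      xp x (i / 2) * (g * a * g⁻¹) * (xp x (i / 2))⁻¹ := by group
    have e1 : I a (xp x (i / 2) * g) ↔ I a g := by simp only [I, e0, inv_conj hc]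
    simp only [Equiv.prodCongr_apply, Prod.map, Equiv.coe_mulLeft, Equiv.refl_apply, e1]
    refine if_congr (and_congr_right fun c1 => and_congr_right fun c2 => ?_) rfl rfl
    have e2 : xp x (i / 2) * g * a * (xp x (i / 2) * g)⁻¹ = xp x i * (g * a * g⁻¹) := by
      have e3 : g * a * g⁻¹ * (xp x (i / 2))⁻¹ * (g * a * g⁻¹)⁻¹ = xp x (i / 2) := by
        rw [← conj_inv, conj_xp, c1]; simp [xp]
      rw [e0, mul_assoc (xp x _), eq_mul_of_mul_inv_eq e3, ← mul_assoc, ← xp_add h.ord]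
      congr 2
      field_simp
      ring
    rw [e2, mul_assoc (xp x i), pp_xp_mul h (commute_of_inv c1 c2), xp_zero, mul_eq_left]
  have s1 : J x a * J x b = ∑ i, F i := by
    rw [J, J, Finset.sum_mul_sum, Finset.sum_comm (γ := ZMod p), ← Fintype.sum_prod_type']
    refine Fintype.sum_congr _ _ fun ⟨g, k⟩ => ?_
    by_cases c : I a g ∧ I b k
    · obtain ⟨i, hi⟩ := exists_xp_of_mem h.ord (mem_zpowers_of_commute h (pElt_pp _)
        (commute_pp (commute_of_inv c.1 c.2)))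
      rw [if_pos c.1, if_pos c.2]
      simp only [c.1, c.2, true_and, ← hi, (xp_injective h.ord).eq_iff]
      simp
    · rw [Finset.sum_eq_zero fun i _ => if_neg fun e => c ⟨e.1, e.2.1⟩, ite_zero_mul_ite_zero,
        if_neg c]
  have s2 : ∑ z : G × G, (if pp p (z.1 * a * z.1⁻¹ * (z.2 * b * z.2⁻¹)) ∈ zpowers x ∧
      pp p (z.1 * a * z.1⁻¹ * (z.2 * b * z.2⁻¹)) ≠ 1 then 1 else 0) =
      ∑ i ∈ Finset.univ.erase 0, F i := by
    rw [Finset.sum_comm (γ := ZMod p)]
    refine Fintype.sum_congr _ _ fun ⟨g, k⟩ => ?_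
    have ha' : g * a * g⁻¹ * (g * a * g⁻¹) = 1 := by rw [conj_mul, ha]; simp
    have hb' : k * b * k⁻¹ * (k * b * k⁻¹) = 1 := by rw [conj_mul, hb]; simp
    obtain ⟨a', ea⟩ : ∃ a', g * a * g⁻¹ = a' := ⟨_, rfl⟩
    obtain ⟨b', eb⟩ : ∃ b', k * b * k⁻¹ = b' := ⟨_, rfl⟩
    simp only [I, ea, eb] at ha' hb' ⊢
    split_ifs with c
    · obtain ⟨i, hi⟩ := exists_xp_of_mem h.ord c.1
      have i0 : i ≠ 0 := fun e => c.2 (by rw [← hi, e, xp_zero])
      have c1 := inv_of_pp h (a := a') (by rw [← mul_assoc, ha', one_mul, mul_inv_rev,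
        inv_eq_of_mul_eq_one_right hb']) i0 hi.symm
      have c2 := inv_of_pp h (a := b') (by rw [mul_assoc, mul_inv_cancel_right, mul_inv_rev,
        inv_eq_of_mul_eq_one_right hb', inv_eq_of_mul_eq_one_right ha']) i0 hi.symm
      simp only [c1, c2, true_and, ← hi, (xp_injective h.ord).eq_iff]
      simp [i0]
    · refine (Finset.sum_eq_zero fun i hi => if_neg ?_).symm
      rintro ⟨-, -, e⟩
      rw [e, ne_eq, xp_eq_one_iff h.ord] at c
      exact c ⟨xp_mem x i, Finset.ne_of_mem_erase hi⟩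
  rw [s1, s2]
  simp only [hF, Finset.sum_const, Finset.card_erase_of_mem (Finset.mem_univ _), Finset.card_univ,
    ZMod.card, smul_eq_mul]
  ring

open Classical in
theorem count_sing (h : D1 p x) (p2 : p ≠ 2) {a b : G} (ha : a * a = 1) (hb : b * b = 1) :
    p * (Nat.card (normalizer (zpowers x : Set G)) *
      ∑ z : G × G, if p ∣ orderOf (z.1 * a * z.1⁻¹ * (z.2 * b * z.2⁻¹)) then 1 else 0) =
      Nat.card G * ((p - 1) * (J x a * J x b)) := by
  rw [← count_local h p2 ha hb, mul_left_comm (Nat.card G), Finset.mul_sum]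
  simp only [mul_ite, mul_one, mul_zero, ← card_conj_pp h]
  rw [Finset.sum_comm, Nat.card_eq_fintype_card, ← Finset.card_univ, ← smul_eq_mul (Finset.card _),
    ← Finset.sum_const]
  refine congrArg _ (Fintype.sum_congr _ _ fun k => Fintype.sum_equiv
    ((Equiv.mulLeft k).prodCongr (Equiv.mulLeft k)) _ _ fun ⟨g, l⟩ => ?_)
  simp only [Equiv.prodCongr_apply, Prod.map, Equiv.coe_mulLeft]
  rw [show k * g * a * (k * g)⁻¹ * (k * l * b * (k * l)⁻¹) = k * (g * a * g⁻¹ * (l * b * l⁻¹)) * k⁻¹ by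
    group]

theorem J_eq (h : D1 p x) (p2 : p ≠ 2) (s : G) : ∃ j, J x s = Nat.card (centralizer ({s} : Set G)) *
    (p * j) ∧ p * j ≤ Nat.card (centralizer ({x} : Set G)) ∧ (j ≠ 0 → IsConj x x⁻¹) := by
  classical
  have h1 := card_conj_mem {a | a * x * a⁻¹ = x⁻¹} s
  have h2 : J x s = Nat.card {g : G // g⁻¹ * s * g ∈ {a | a * x * a⁻¹ = x⁻¹}} := by
    rw [J, ← Finset.card_filter, Nat.card_eq_fintype_card, Fintype.card_subtype]
    exact Finset.card_equiv (Equiv.inv G) fun g => by simp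
  let f : Function.End {g : G // IsConj s g ∧ g ∈ {a | a * x * a⁻¹ = x⁻¹}} := fun a =>
    ⟨x * a * x⁻¹, a.2.1.trans (isConj_iff.2 ⟨x, rfl⟩), by
      have := a.2.2
      simp only [Set.mem_setOf_eq] at this ⊢
      calc _ = x * (a * x * a.1⁻¹) * x⁻¹ := by group
        _ = _ := by rw [this]; group⟩
  have h3 : ∀ n a, ((f ^ n) a).1 = x ^ n * a * (x ^ n)⁻¹ := fun n a => by
    induction n with
    | zero => simp [Function.End.one_def]
    | succ n ih => 
      rw [pow_succ', pow_succ']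
      change x * ((f ^ n) a).1 * x⁻¹ = _
      rw [ih]; simp [mul_assoc]
  have h4 := Equiv.Perm.card_fixedPoints_modEq (f := f) (p := p) (n := 1) (funext fun a =>
    Subtype.ext (by rw [h3, pow_one, ← h.ord, pow_orderOf_eq_one]; simp [Function.End.one_def]))
  rw [Fintype.card_eq_zero_iff (α := f.fixedPoints).2 ⟨fun ⟨⟨a, ha⟩, e⟩ => by
    have e1 : x * a * x⁻¹ = a := congrArg Subtype.val e
    have e2 : a * x * a⁻¹ = x⁻¹ := ha.2
    rw [← mul_inv_eq_iff_eq_mul.1 e1, mul_inv_cancel_right, eq_inv_iff_mul_eq_one, ← sq] at e2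
    exact p2 ((Nat.prime_dvd_prime_iff_eq hp.out Nat.prime_two).1
      (h.ord ▸ orderOf_dvd_of_pow_eq_one e2))⟩, ← Nat.card_eq_fintype_card] at h4
  obtain ⟨j, hj⟩ := Nat.modEq_zero_iff_dvd.1 h4
  refine ⟨j, by rw [h2, h1, hj], ?_, fun e => ?_⟩
  · rw [← hj]
    rcases isEmpty_or_nonempty {g : G // IsConj s g ∧ g ∈ {a | a * x * a⁻¹ = x⁻¹}} with e | ⟨⟨a, ha⟩⟩
    · rw [Nat.card_of_isEmpty]; exact Nat.zero_le _
    · exact Nat.card_le_card_of_injective (fun b => ⟨a * b, mem_centralizer_singleton_iff.2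
        (commute_of_inv ha.2 b.2.2).symm⟩) fun b c e => Subtype.ext (by simpa using e)
  · obtain ⟨⟨a, ha⟩⟩ := (Nat.card_ne_zero.1 (hj ▸ mul_ne_zero hp.out.ne_zero e)).1
    exact isConj_iff.2 ⟨a, ha.2⟩

end H21.Eng
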