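import Mathlib
import Cfsg.Agent.H18.Sieve1
import Cfsg.Agent.H21.Eng2
import Cfsg.Agent.H21.Eng3
import Cfsg.Agent.H21.Mat7
import Cfsg.Agent.H21.Mat12f

/-! The coefficient function of a principal block of defect one. -/

set_option autoImplicit false
set_option linter.unusedSectionVars false

open Cfsg H4 H17 H18 Subgroup Module
open scoped ComplexConjugate

namespace H21.Eng

open Classical in
/-- `f` is the expansion of `p` times the indicator of the `p`-singular elements. -/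
structure IsBlk (G : Type*) [Group G] [Finite G] (P : Pr) (f : Irr G → ℤ) : Prop where
  reg1 : ¬ P.p ∣ orderOf (1 : G)
  tpos : P.t ≠ 0
  one : f (irrOne G) = P.t
  loc : ∀ ψ, ψ ≠ irrOne G → f ψ ∈ cfs (Nat.card G) P (deg ψ)
  sum : ∀ g, ∑ ψ, (f ψ : ℂ) * ψ.1 g = if P.p ∣ orderOf g then (P.p : ℂ) else 0
  cnt : ((Finset.univ.erase (irrOne G)).filter fun ψ => (f ψ).natAbs = P.t).card =
    if P.t = 1 then P.e else P.e - 1
  cnt' : ((Finset.univ.erase (irrOne G)).filter fun ψ => f ψ ≠ 0 ∧ (f ψ).natAbs ≠ P.t).card =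
    if P.t = 1 then 0 else P.t
  reg : ∀ ψ χ, f ψ ≠ 0 → (f ψ).natAbs ≠ P.t → f χ ≠ 0 → (f χ).natAbs ≠ P.t →
    ∀ g, ¬ P.p ∣ orderOf g → ψ.1 g = χ.1 g
  van : ∀ ψ : Irr G, P.p ∣ deg ψ → ∀ g, P.p ∣ orderOf g → ψ.1 g = 0
  val : ∀ ψ, (f ψ).natAbs = P.t → ∀ g, P.p ∣ orderOf g → P.t * ψ.1 g = f ψ
  odd : ∀ s : G, orderOf s = 2 → ¬ P.p ∣ orderOf s
  cong : ∀ s : G, orderOf s = 2 → P.p ∣ Nat.card (centralizer ({s} : Set G)) → ∀ ψ, f ψ ≠ 0 →
    (P.p : ℤ) ∣ deg ψ - iv ψ s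
  okc : ∀ s : G, orderOf s = 2 → okC (Nat.card (centralizer ({s} : Set G))) P = true
  sq : ∀ s : G, orderOf s = 2 → sqok P (Nat.card (centralizer ({s} : Set G)))
    (∑ ψ, f ψ * (iv ψ s * iv ψ s * (Nat.card G / deg ψ : ℕ))) = true
  ys : 2 ∣ P.c → ∃ s : G, orderOf s = 2 ∧
    okA (P.c.gcd 1024) (Nat.card (centralizer ({s} : Set G))) P = true
  nopq : ∀ q : ℕ, q.Prime → q ≠ P.p → ¬ q ∣ P.c → ∀ g : G, P.p ∣ orderOf g → ¬ q ∣ orderOf g
  pq : ∀ q : ℕ, q.Prime → q ≠ P.p → q ∣ P.c → ∃ g : G, P.p ∣ orderOf g ∧ q ∣ orderOf g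

variable {G : Type*} [Group G] [Finite G]

theorem mod_of_add {p d e : ℕ} (h : (d + e) % p = 0) (h0 : 0 < e) (h1 : e < p) : d % p = p - e := by
  have h2 := Nat.mod_lt d (show 0 < p by omega)
  rw [← Nat.mod_add_mod] at h
  obtain ⟨k, hk⟩ := Nat.dvd_of_mod_eq_zero h
  obtain rfl : k = 1 := by
    rcases k with _ | _ | k
    · omega
    · rfl
    · rw [mul_add, mul_add] at hk; omega
  omega

theorem sqok_of {P : Pr} {C j : ℕ} {q : ℤ} (h0 : P.t * (C * P.p) ^ 2 ≠ 0) (h1 : P.p * P.c ≠ 0)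
    (h : (P.p * P.c : ℕ) * q = (j * j * (P.t * (C * P.p) ^ 2) : ℕ)) (h2 : j ≤ P.c)
    (h3 : P.e % 2 = 1 → j = 0) : sqok P C q = true := by
  have h4 : 0 ≤ q := nonneg_of_mul_nonneg_right (h ▸ Nat.cast_nonneg _) (by positivity)
  obtain ⟨q, rfl⟩ := Int.eq_ofNat_of_zero_le h4
  have h5 : P.p * P.c * q = j * j * (P.t * (C * P.p) ^ 2) := by exact_mod_cast h
  rw [sqok]
  split_ifs with e
  · rw [h3 e] at h5
    simpa [mul_eq_zero.not.1 h1, mul_eq_zero, or_assoc, not_or.1 (mul_eq_zero.not.1 h1)] using h5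
  · simp [h5, Nat.mul_div_cancel _ (Nat.pos_of_ne_zero h0), h2]

variable {p : ℕ} [hp : Fact p.Prime] {x : G}

theorem okA_of (h : D1 p x) {e c : ℕ} (he : Nat.card (Aut h.ord) = e)
    (hc : Nat.card (centralizer ({x} : Set G)) = p * c) {y : G} (hy : orderOf y = p)
    {K : Subgroup G} (hK : y ∈ K) {a : ℕ} (ha : p.Coprime a)
    (h1 : a ∣ Nat.card (normalizer (zpowers y : Set G) ⊓ K : Subgroup G)) :
    okA a (Nat.card K) ⟨p, e, c⟩ = true := by
  simp only [okA, Bool.and_eq_true, beq_iff_eq, List.any_eq_true, List.mem_range]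
  have h' := h.of_orderOf hy
  have a2 : Nat.card (normalizer (zpowers y : Set G)) = p * (c * e) := by
    have := h.index_normalizer
    rw [← h'.index_normalizer] at this
    have b1 := card_mul_index (normalizer (zpowers y : Set G))
    rw [← card_mul_index (normalizer (zpowers x : Set G)), this, h.card_normalizer, hc, he] at b1
    rw [Nat.eq_of_mul_eq_mul_right (Nat.pos_of_ne_zero index_ne_zero_of_finite) b1, mul_assoc]
  obtain ⟨n, b1, b2⟩ := D1.card_sub h' hK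
  have b3 := card_dvd_of_le (inf_le_left : normalizer (zpowers y : Set G) ⊓ K ≤ _)
  obtain ⟨i, hi⟩ := ha.mul_dvd_of_dvd_of_dvd (hy ▸ orderOf_dvd_natCard
    (normalizer (zpowers y : Set G) ⊓ K) ⟨le_normalizer (mem_zpowers y), hK⟩) h1
  rw [hi, mul_assoc p] at b2 b3
  rw [a2] at b3
  have b4 := Nat.dvd_of_mul_dvd_mul_left hp.out.pos b3
  have b5 : 0 < c * e := Nat.pos_of_mul_pos_left (a2 ▸ Nat.card_pos)
  have b7 : 0 < p * (a * i) := Nat.pos_of_mul_pos_right (b2 ▸ Nat.card_pos)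
  refine ⟨by rw [b2, ← mul_assoc, mul_assoc (p * a), Nat.mul_mod_right], i, Nat.lt_succ_of_le
    ((Nat.le_div_iff_mul_le (Nat.pos_of_mul_pos_right (Nat.pos_of_mul_pos_left b7))).2
      (mul_comm a i ▸ Nat.le_of_dvd b5 b4)),
    ⟨Nat.mod_eq_zero_of_dvd b4, by rw [b2, Nat.mul_mod_right]⟩, by
      rw [b2, Nat.mul_div_cancel_left _ b7, b1]⟩

theorem okC_of (h : D1 p x) (p2 : p ≠ 2) {e c : ℕ} (he : Nat.card (Aut h.ord) = e)
    (hc : Nat.card (centralizer ({x} : Set G)) = p * c) {s : G} (hs : orderOf s = 2) :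
    okC (Nat.card (centralizer ({s} : Set G))) ⟨p, e, c⟩ = true := by
  simp only [okC, Bool.or_eq_true, bne_iff_ne, Bool.and_eq_true, beq_iff_eq]
  refine or_iff_not_imp_left.2 fun e1 => ?_
  obtain ⟨y, hy, hsy⟩ := exists_commute_of_dvd (q := p) (Nat.dvd_of_mod_eq_zero (not_not.1 e1))
  have m1 : s ∈ centralizer ({y} : Set G) := mem_centralizer_singleton_iff.2 hsy
  have cp : p.Coprime 2 := (Nat.coprime_primes hp.out Nat.prime_two).2 p2
  refine ⟨Nat.mod_eq_zero_of_dvd (cp.symm.dvd_of_dvd_mul_left ?_), okA_of h he hc hy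
    (mem_centralizer_singleton_iff.2 hsy.symm) cp (hs ▸ orderOf_dvd_natCard _
      ⟨centralizer_le_normalizer_zpowers y m1, mem_centralizer_singleton_iff.2 rfl⟩)⟩
  rw [← hc, ← D1.card_centralizer_eq h hy, ← hs]
  exact orderOf_dvd_natCard _ m1

theorem dvd_of_odd_index {H : Type*} [Group H] [Finite H] {K : Subgroup H} (h : ¬ 2 ∣ K.index)
    {n : ℕ} (hn : n ∣ Nat.card H) : n.gcd 1024 ∣ Nat.card K :=
  (Nat.Coprime.coprime_dvd_left (Nat.gcd_dvd_right n 1024) (Nat.Coprime.pow_left 10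
    ((Nat.Prime.coprime_iff_not_dvd Nat.prime_two).2 h))).dvd_of_dvd_mul_right
    (by rw [card_mul_index]; exact (Nat.gcd_dvd_left _ _).trans hn)

theorem ys_of (h : D1 p x) (p2 : p ≠ 2) {e c : ℕ} (he : Nat.card (Aut h.ord) = e)
    (hc : Nat.card (centralizer ({x} : Set G)) = p * c) (h2 : 2 ∣ c) : ∃ s : G, orderOf s = 2 ∧
      okA (c.gcd 1024) (Nat.card (centralizer ({s} : Set G))) ⟨p, e, c⟩ = true := by
  obtain ⟨s, h3, h4⟩ := exists_central_inv (G := centralizer ({x} : Set G)) (hc ▸ h2.mul_left p)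
  refine ⟨s, by rwa [orderOf_coe], okA_of h he hc h.ord (mem_centralizer_singleton_iff.2
    (mem_centralizer_singleton_iff.1 s.2).symm) (Nat.Coprime.coprime_dvd_right
      (Nat.gcd_dvd_right c 1024) (Nat.Coprime.pow_right 10
      ((Nat.coprime_primes hp.out Nat.prime_two).2 p2))) ((dvd_of_odd_index h4
      (hc ▸ dvd_mul_left c p)).trans ?_)⟩
  rw [← card_map_of_injective (centralizer ({x} : Set G)).subtype_injective]
  refine card_dvd_of_le ?_
  rintro _ ⟨g, hg, rfl⟩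
  exact ⟨centralizer_le_normalizer_zpowers x g.2, mem_centralizer_singleton_iff.2
    (congrArg Subtype.val (mem_centralizer_singleton_iff.1 hg))⟩

theorem cong_of (h : D1 p x) (p2 : p ≠ 2) {s : G} (hs : orderOf s = 2)
    (hd : p ∣ Nat.card (centralizer ({s} : Set G))) {ψ : Irr G} (hψ : ψ ∈ B0 p G) :
    (p : ℤ) ∣ deg ψ - iv ψ s := by
  obtain ⟨y, hy, hsy⟩ := exists_commute_of_dvd (q := p) hd
  have h1 := dvd_mult hy hs hsy.symm ψ.2.isCharacter (b := 1) (fun i hi j =>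
    ((h.of_orderOf hy).xp hi).apply_mul (fun e => p2 ((Nat.prime_dvd_prime_iff_eq hp.out
      Nat.prime_two).1 (e.trans ((orderOf_pow_dvd _).trans hs.dvd))))
      ((hsy.symm.pow_left _).pow_right _) hψ) one_ne_zero
  have h2 := mult_of_const hs ψ.2.isCharacter (deg_eq ψ).symm (c := iv ψ s) fun i hi => by
    rw [show i = 1 by revert i; decide, xp_one, iv_inv _ (mul_self_of_two hs)]
  have h3 := sum_mult hs ψ.2.isCharacter
  rw [← deg_eq, Nat.cast_inj, show ∑ c : ZMod 2, mult s ψ.1 c = mult s ψ.1 (0 : ZMod 2) +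
    mult s ψ.1 (1 : ZMod 2) from Fin.sum_univ_two _] at h3
  obtain ⟨k, hk⟩ := h1
  refine ⟨2 * k, ?_⟩
  have : (mult s ψ.1 (1 : ZMod 2) : ℤ) = p * k := by exact_mod_cast hk
  push_cast at h2
  linarith [congrArg (Nat.cast : ℕ → ℤ) h3, Nat.cast_add (R := ℤ) (mult s ψ.1 (0 : ZMod 2))
    (mult s ψ.1 (1 : ZMod 2))]

theorem sq_of (h : D1 p x) (p2 : p ≠ 2) {e c : ℕ} (he : Nat.card (Aut h.ord) = e)
    (hc : Nat.card (centralizer ({x} : Set G)) = p * c) {f : Irr G → ℤ}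
    (hf : ∀ g, ∑ ψ, (f ψ : ℂ) * ψ.1 g = if p ∣ orderOf g then (p : ℂ) else 0)
    {s : G} (hs : orderOf s = 2) : sqok ⟨p, e, c⟩ (Nat.card (centralizer ({s} : Set G)))
      (∑ ψ, f ψ * (iv ψ s * iv ψ s * (Nat.card G / deg ψ : ℕ))) = true := by
  classical
  have := Fintype.ofFinite G
  have hss := mul_self_of_two hs
  have h1 := count_sing h p2 hss hss
  obtain ⟨j, j1, j2, j3⟩ := J_eq h p2 s
  have h2 := (isClassFunction_sum_smul_irr fun ψ => (f ψ : ℂ)).sum_conj_mul_conj s s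
  simp only [classInner_sum_smul_irr, Finset.sum_apply, Pi.smul_apply, smul_eq_mul, hf] at h2
  have h3 := card_Aut_mul_index h.ord
  have e0 : 0 < e := he ▸ Nat.card_pos
  have h4 : (p - 1) / e = (Aut h.ord).index := by rw [← h3, he, Nat.mul_div_cancel_left _ e0]
  have c0 : p * c ≠ 0 := hc ▸ Nat.card_pos.ne'
  refine sqok_of (j := j) (mul_ne_zero (h4.trans_ne index_ne_zero_of_finite) (pow_ne_zero _
    (mul_ne_zero Nat.card_pos.ne' hp.out.ne_zero))) c0 ?_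
    (Nat.le_of_mul_le_mul_left (hc ▸ j2) hp.out.pos) fun o => not_not.1 fun e1 =>
      neg_notMem_Aut h.ord p2 (he ▸ Nat.odd_iff.2 o) (by
        rw [mem_Aut, Units.val_neg, xp_neg h.ord, Units.val_one, xp_one]; exact j3 e1)
  rw [h.card_normalizer, hc, ← h3, he, j1, Fintype.sum_prod_type] at h1
  have h5 := congrArg (Nat.cast : ℕ → ℂ) h1
  simp only [Pr.t, h4]
  apply Int.cast_injective (α := ℂ)
  have h6 : ∀ ψ : Irr G, ((Nat.card G / deg ψ : ℕ) : ℂ) = Nat.card G / ψ.1 1 := fun ψ => by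
    rw [Nat.cast_div (deg_dvd_card ψ) (by exact_mod_cast deg_ne_zero ψ), deg_eq]
  have h7 : ∀ (q : Prop) [Decidable q], (if q then (p : ℂ) else 0) = p * if q then 1 else 0 :=
    fun q _ => by split_ifs <;> simp
  simp only [h7, ← Finset.mul_sum] at h2
  simp only [Int.cast_mul, Int.cast_natCast, Int.cast_sum, h6, ← iv_inv _ hss]
  push_cast at h5 ⊢
  have h8 : ∑ ψ : Irr G, (f ψ : ℂ) * (ψ.1 s * ψ.1 s * (Nat.card G / ψ.1 1)) =
      Nat.card G * ∑ ψ : Irr G, (f ψ : ℂ) * (ψ.1 s * ψ.1 s / ψ.1 1) := by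
    rw [Finset.mul_sum]; exact Finset.sum_congr rfl fun ψ _ => by ring
  rw [h8]
  apply mul_left_cancel₀ (mul_ne_zero (card_ne_zero G) (show (e : ℂ) ≠ 0 by exact_mod_cast e0.ne'))
  linear_combination h5 - p * c * e * h2

open Classical in
theorem exists_isBlk [IsSimpleGroup G] (hG : ¬ IsMulCommutative G) (h : D1 p x) (p2 : p ≠ 2)
    {e c : ℕ} (he : Nat.card (Aut h.ord) = e) (hc : Nat.card (centralizer ({x} : Set G)) = p * c) :
    ∃ f, IsBlk G ⟨p, e, c⟩ f := by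
  obtain ⟨D⟩ := h.nonempty_bData
  have h3 := card_Aut_mul_index h.ord
  have e0 : 0 < e := he ▸ Nat.card_pos
  have e1 : e ≠ 1 := he ▸ h.card_Aut_ne_one (commutator_eq_top_of_simple hG)
  have ht : (⟨p, e, c⟩ : Pr).t = (Aut h.ord).index := by
    rw [Pr.t, ← h3, he, Nat.mul_div_cancel_left _ e0]
  have hX := D.card_X
  have hXr := fun g (hg : ¬ p ∣ orderOf g) => D.sum_X_reg hg 1
  have t0 : (Aut h.ord).index ≠ 0 := index_ne_zero_of_finite
  rw [← ht] at h3 hX hXr t0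
  rw [he] at h3
  generalize htt : (⟨p, e, c⟩ : Pr).t = t at *
  have p1 := hp.out.two_le
  have po := hp.out.eq_two_or_odd.resolve_left p2
  have h4 : t = 1 ∧ e = p - 1 ∨ t ≠ 1 ∧ 2 * e ≤ p - 1 := by
    by_cases b : t = 1
    · exact Or.inl ⟨b, by simpa [b] using h3⟩
    · exact Or.inr ⟨b, by rw [← h3, mul_comm]; exact Nat.mul_le_mul_left _ (by omega)⟩
  let f : Irr G → ℤ := fun ψ => if ψ ∈ D.Nx then t * D.a ψ else if ψ ∈ D.X then D.δ else 0
  have f1 : ∀ ψ ∈ D.Nx, f ψ = t * D.a ψ := fun ψ b => if_pos b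
  have f2 : ∀ ψ ∈ D.X, f ψ = D.δ := fun ψ b => by
    simp only [f, if_neg (Finset.disjoint_right.1 D.disjoint b), if_pos b]
  have f3 : ∀ ψ, ψ ∉ D.Nx → ψ ∉ D.X → f ψ = 0 := fun ψ a b => by simp only [f, if_neg a, if_neg b]
  have g1 : ∀ ψ ∈ D.Nx, (f ψ).natAbs = t := fun ψ b => by
    rcases D.a_sq ψ b with a | a <;> simp [f1 ψ b, a]
  have g2 : ∀ ψ ∈ D.X, (f ψ).natAbs = 1 := fun ψ b => by
    rcases D.δ_sq with a | a <;> simp [f2 ψ b, a]
  have g3 : ∀ ψ, f ψ ≠ 0 → ψ ∈ D.Nx ∨ ψ ∈ D.X := fun ψ a => by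
    by_contra b; exact a (f3 ψ (fun c => b (Or.inl c)) fun c => b (Or.inr c))
  have g4 : ∀ ψ, ψ ∈ B0 p G ↔ ψ ∈ D.Nx ∨ ψ ∈ D.X := fun ψ => by rw [D.mem_iff, D.mem_X]
  have g5 : ∀ ψ, f ψ ≠ 0 → (f ψ).natAbs ≠ t → ψ ∈ D.X := fun ψ a b =>
    (g3 ψ a).resolve_left fun c => b (g1 ψ c)
  have hs : ∀ g, ∑ ψ, (f ψ : ℂ) * ψ.1 g = if p ∣ orderOf g then (p : ℂ) else 0 := fun g => by
    rw [← Finset.sum_subset (Finset.subset_univ (Bf G p)) fun ψ _ a => by
      rw [mem_Bf, g4, not_or] at a; rw [f3 ψ a.1 a.2]; simp, D.sum_Bf,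
      Finset.sum_congr rfl fun ψ a => by rw [f1 ψ a, Int.cast_mul, mul_assoc],
      Finset.sum_congr (s₁ := D.X) rfl fun ψ a => by rw [f2 ψ a], ← Finset.mul_sum, ← Finset.mul_sum]
    split_ifs with hg
    · rw [D.sum_X_sing hg, Finset.sum_congr rfl fun ψ a => by
        rw [D.apply_Nx a hg, ← Int.cast_mul, D.a_mul_self a], ← Int.cast_mul, D.δ_mul_self,
        Finset.sum_const, D.card_Nx, he]
      have : (e : ℂ) * t = p - 1 := by rw [← Nat.cast_mul, h3, Nat.cast_pred (by omega)]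
      simp only [nsmul_eq_mul, Int.cast_one, Int.cast_natCast]
      linear_combination this
    · rw [hXr g hg]
      simp only [Int.cast_natCast]
      linear_combination t * D.rel hg 1
  refine ⟨f, reg_one, htt ▸ t0, by rw [f1 _ D.one_mem, D.a_one, htt, mul_one], fun ψ h1 => ?_,
    hs, ?_, ?_, fun ψ χ a1 a2 a3 a4 g hg => ?_, fun ψ a g hg => vanish1 h a hg, fun ψ a g hg => ?_,
    fun s hs e => p2 ((Nat.prime_dvd_prime_iff_eq hp.out Nat.prime_two).1 (hs ▸ e)),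
    fun s hs a ψ b => cong_of h p2 hs a ((g4 ψ).2 (g3 ψ b)), fun s hs => okC_of h p2 he hc hs,
    fun s hs' => sq_of h p2 he hc hs hs', ys_of h p2 he hc,
    fun q a1 a2 a3 g hg => h.not_dvd_orderOf a1 a2 hc a3 hg, fun q a1 a2 a3 => ?_⟩
  · simp only [cfs, List.mem_append, List.mem_ite_nil_right, List.mem_singleton]
    by_cases b : ψ ∈ B0 p G
    · have b1 : f ψ ≠ 0 := fun a => by
        rcases (g4 ψ).1 b with c | c
        · have := g1 ψ c; omega
        · have := g2 ψ c; omega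
      have b2 : f ψ = wt ⟨p, e, c⟩ (deg ψ) := by
        simp only [wt, htt]
        rcases (g4 ψ).1 b with c | c
        · rw [f1 ψ c]
          rcases modEq_cases (e := 1) (D.a_sq ψ c) (by simpa using D.deg_Nx c) with ⟨a, a'⟩ | ⟨a, a'⟩
          · rw [Nat.mod_eq_of_lt (by omega : 1 < p)] at a'
            simp [a, a']
          · rw [a, mod_of_add a' one_pos (by omega), if_neg (by omega), if_pos rfl]; simp
        · rw [f2 ψ c]
          obtain ⟨j, rfl⟩ := D.mem_X.1 c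
          rcases modEq_cases (a := -D.δ) (by rcases D.δ_sq with e | e <;> simp [e])
            (he ▸ D.deg_μ j) with ⟨a, a'⟩ | ⟨a, a'⟩
          · rw [Nat.mod_eq_of_lt (by omega : e < p)] at a'
            rw [a']
            split_ifs <;> omega
          · rw [mod_of_add a' e0 (by omega)]
            split_ifs <;> omega
      refine Or.inr ⟨⟨b2 ▸ b1, ?_, or_iff_not_imp_left.2 fun c1 => not_lt.1 fun c2 => c1 ?_⟩, b2⟩
      · rw [← card_mul_index (centralizer ({x} : Set G)), hc,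
          Nat.mul_div_cancel_left _ (hc ▸ Nat.card_pos)]
        exact Nat.mod_eq_zero_of_dvd (D.deg_dvd_index b)
      · rw [h.centralizer_eq_of_deg_lt hG b h1 c2, Nat.card_zpowers, h.ord] at hc
        exact (Nat.eq_of_mul_eq_mul_left hp.out.pos (hc.symm.trans (mul_one p).symm))
    · refine Or.inl ⟨or_iff_not_imp_left.2 fun c1 => Nat.mod_eq_zero_of_dvd (SC.dvd_deg (D1.sc h
        (by rw [hc, not_not.1 c1, mul_one])) b), ?_⟩
      rw [g4, not_or] at b
      exact f3 ψ b.1 b.2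
  · rw [htt, Finset.filter_erase, Finset.card_erase_of_mem (a := irrOne G) (by
      simpa using g1 _ D.one_mem)]
    split_ifs with b
    · rw [show Finset.univ.filter (fun ψ => (f ψ).natAbs = t) = D.Nx ∪ D.X from Finset.ext fun ψ => by
        rw [Finset.mem_filter, Finset.mem_union]
        exact ⟨fun a => g3 ψ (by have := a.2; omega),
          fun a => ⟨Finset.mem_univ _, a.elim (g1 ψ) fun a => b ▸ g2 ψ a⟩⟩,
        Finset.card_union_of_disjoint D.disjoint, D.card_Nx, he, hX, b]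
      rfl
    · rw [show Finset.univ.filter (fun ψ => (f ψ).natAbs = t) = D.Nx from Finset.ext fun ψ => by
        rw [Finset.mem_filter]
        exact ⟨fun a => (g3 ψ (by have := a.2; omega)).resolve_right fun c => b (a.2 ▸ g2 ψ c),
          fun a => ⟨Finset.mem_univ _, g1 ψ a⟩⟩, D.card_Nx, he]
  · rw [htt]
    split_ifs with b
    · exact Finset.card_eq_zero.2 (Finset.filter_eq_empty_iff.2 fun ψ _ ⟨a1, a2⟩ =>
        a2 (b ▸ g2 ψ (g5 ψ a1 a2)))
    · refine Eq.trans (congrArg _ (Finset.ext fun ψ => ?_)) hX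
      simp only [Finset.mem_filter, Finset.mem_erase, Finset.mem_univ, and_true]
      refine ⟨fun a => g5 ψ a.2.1 a.2.2, fun a => ⟨fun c => ?_, ?_, ?_⟩⟩
      · exact Finset.disjoint_left.1 D.disjoint D.one_mem (c ▸ a)
      all_goals have := g2 ψ a; omega
  · obtain ⟨j, rfl⟩ := D.mem_X.1 (g5 ψ a1 (htt ▸ a2))
    obtain ⟨l, rfl⟩ := D.mem_X.1 (g5 χ a3 (htt ▸ a4))
    exact D.μ_reg j l g hg
  · rw [htt] at a ⊢
    rcases g3 ψ (by omega) with b | b
    · rw [f1 ψ b, D.apply_Nx b hg]; simp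
    · have b1 : t = 1 := a ▸ g2 ψ b
      obtain ⟨χ, hχ⟩ := Finset.card_eq_one.1 (hX.trans b1)
      have := D.sum_X_sing hg
      rw [f2 ψ b, ← this, b1, hχ, Finset.sum_singleton]
      rw [hχ, Finset.mem_singleton] at b
      simp [b]
  · have := Fact.mk a1
    obtain ⟨y, hy, c1⟩ := exists_commute_of_dvd (x := x) (q := q) (hc ▸ a3.mul_left p)
    refine ⟨x * y, ?_⟩
    rw [c1.orderOf_mul_eq_mul_orderOf_of_coprime (by
      rw [h.ord, hy]; exact (Nat.coprime_primes hp.out a1).2 a2.symm), h.ord, hy]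
    exact ⟨dvd_mul_right _ _, dvd_mul_left _ _⟩

end H21.Eng
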