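import Mathlib
import Cfsg.Agent.H21.Eng4

/-! Soundness of the search for groups. -/

set_option autoImplicit false
set_option linter.unusedSectionVars false

open Cfsg H4 H17 H18 Subgroup Module
open scoped ComplexConjugate Classical

namespace H21.Eng

variable {G : Type*} [Group G] [Finite G]

theorem IsBlk.proj0 {P : Pr} {f : Irr G → ℤ} (h : IsBlk G P f) (n : Irr G → ℂ)
    (hn : ∀ g, P.p ∣ orderOf g → ∑ ψ, n ψ * ψ.1 g = 0) : ∑ ψ, n ψ * f ψ = 0 := by
  have := Fintype.ofFinite G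
  have h1 := classInner_comb n fun ψ => (f ψ : ℂ)
  simp only [map_intCast] at h1
  rw [← h1, classInner_def, Finset.sum_eq_zero, mul_zero]
  intro g _
  simp only [Finset.sum_apply, Pi.smul_apply, smul_eq_mul, h.sum]
  split_ifs with e
  · rw [hn g e, zero_mul]
  · simp

theorem IsBlk.proj {P : Pr} {f : Irr G → ℤ} (h : IsBlk G P f) (n : Irr G → ℂ) (r : ℂ)
    (hn : ∀ g, P.p ∣ orderOf g → ∑ ψ, n ψ * ψ.1 g = r) : ∑ ψ, n ψ * f ψ = r * P.t := by
  have := h.proj0 (fun ψ => n ψ - if ψ = irrOne G then r else 0) fun g hg => by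
    simp [sub_mul, hn g hg]
  simpa [sub_mul, h.one, sub_eq_zero] using this

theorem IsBlk.eq_of {P : Pr} {f : Irr G → ℤ} (h : IsBlk G P f) {ψ χ : Irr G}
    (e : ∀ g, P.p ∣ orderOf g → ψ.1 g = χ.1 g) : f ψ = f χ := by
  have := h.proj0 (fun θ => (if θ = ψ then 1 else 0) - if θ = χ then 1 else 0) fun g hg => by
    simp [sub_mul, e g hg]
  simpa [sub_mul, sub_eq_zero] using this

theorem IsBlk.eq_wt {P : Pr} {f : Irr G → ℤ} (h : IsBlk G P f) {ψ : Irr G} (h1 : ψ ≠ irrOne G)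
    (h0 : f ψ ≠ 0) : f ψ = wt P (deg ψ) := by
  have := h.loc ψ h1
  simp only [cfs, List.mem_append, List.mem_ite_nil_right, List.mem_singleton] at this
  exact (this.resolve_left fun e => h0 e.2).2

theorem IsBlk.lin {P : Pr} {f : Irr G → ℤ} (h : IsBlk G P f) {g : G} (hg : ¬ P.p ∣ orderOf g)
    {v : Irr G → ℤ} (hv : ∀ ψ, f ψ ≠ 0 → ψ ≠ irrOne G → ψ.1 g = v ψ) :
    P.t + ∑ ψ ∈ Finset.univ.erase (irrOne G), f ψ * v ψ = 0 := by
  have h1 := h.sum g
  rw [if_neg hg, ← Finset.add_sum_erase _ _ (Finset.mem_univ (irrOne G)), h.one, irrOne_apply,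
    Finset.sum_congr rfl (g := fun ψ => ((f ψ * v ψ : ℤ) : ℂ)) fun ψ e => by
      by_cases e' : f ψ = 0
      · simp [e']
      · simp [hv ψ e' (Finset.ne_of_mem_erase e)], mul_one] at h1
  exact_mod_cast h1

/-- The record of a character. -/
noncomputable def rho (fs : List (Irr G → ℤ)) (ψ : Irr G) : Rec := (deg ψ, fs.map (· ψ))

variable {Ps : List Pr} {fs : List (Irr G → ℤ)} (hF : List.Forall₂ (IsBlk G) Ps fs)
include hF

theorem exists_blk {j : ℕ} {P : Pr} (h : Ps[j]? = some P) :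
    ∃ f, IsBlk G P f ∧ fs[j]? = some f ∧ ∀ ψ, cf j (rho fs ψ) = f ψ := by
  obtain ⟨hj, rfl⟩ := List.getElem?_eq_some_iff.1 h
  have hj' := hF.length_eq ▸ hj
  exact ⟨fs[j], (List.forall₂_iff_get.1 hF).2 j hj hj', by simp, fun ψ => by
    simp [cf, rho, List.getD_eq_getElem?_getD, hj']⟩

theorem mem_recs {ψ : Irr G} (h : ψ ≠ irrOne G) :
    fs.map (· ψ) ∈ recs (Nat.card G) (deg ψ) Ps := by
  induction hF with
  | nil => simp [recs]
  | cons h1 _ ih => exact List.mem_flatMap.2 ⟨_, h1.loc ψ h, List.mem_map_of_mem ih⟩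

theorem cong_spec {s : G} (hs : orderOf s = 2) (ψ : Irr G) :
    cong (Nat.card (centralizer ({s} : Set G))) (deg ψ) (iv ψ s) Ps (fs.map (· ψ)) = true := by
  induction hF with
  | nil => rfl
  | cons h1 _ ih =>
    simp only [List.map_cons, cong, ih, Bool.and_true, Bool.or_eq_true, beq_iff_eq, bne_iff_ne]
    by_contra! e
    exact e.2 (Int.emod_eq_zero_of_dvd (h1.cong s hs (Nat.dvd_of_mod_eq_zero e.1.2) ψ e.1.1))

theorem exc_spec {ψ : Irr G} (h : exc Ps (fs.map (· ψ)) = true) :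
    ∃ P, ∃ f ∈ fs, IsBlk G P f ∧ f ψ ≠ 0 ∧ (f ψ).natAbs ≠ P.t := by
  induction hF with
  | nil => simp [exc] at h
  | cons h1 _ ih =>
    simp only [List.map_cons, exc, Bool.or_eq_true, Bool.and_eq_true, bne_iff_ne] at h
    rcases h with h | h
    · exact ⟨_, _, List.mem_cons_self, h1, h⟩
    · obtain ⟨P, f, a, b⟩ := ih h
      exact ⟨P, f, List.mem_cons_of_mem _ a, b⟩

variable [IsSimpleGroup G] (hG : ¬ IsMulCommutative G)
include hG

theorem colHyp {s : G} (hs : orderOf s = 2) : ColHyp (Nat.card G) Ps (rho fs)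
    (Finset.univ.erase (irrOne G)) (Nat.card (centralizer ({s} : Set G))) (iv · s) := by
  have hss := mul_self_of_two hs
  refine ⟨List.all_eq_true.2 fun P hP => ?_, fun ψ hψ => ?_, ?_, fun j P hP => ?_, fun j P hP => ?_,
    fun ψ χ e1 e2 => ?_⟩
  · obtain ⟨j, hj⟩ := List.getElem?_of_mem hP
    obtain ⟨f, hf, -⟩ := exists_blk hF hj
    exact hf.okc s hs
  · have h1 := central_dvd ψ (iv_inv ψ hss)
    have h2 := abs_iv_lt hG (Finset.ne_of_mem_erase hψ) (ne_one_of_orderOf hs) (iv_inv ψ hss)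
    simp only [okv, rho, cong_spec hF hs, Bool.and_true, Bool.and_eq_true, beq_iff_eq]
    refine ⟨⟨four_dvd_inv (commutator_eq_top_of_simple hG) ψ hs (iv_inv ψ hss),
      Int.emod_eq_zero_of_dvd ?_⟩, decide_eq_true (by rw [abs_lt] at h2; omega)⟩
    rw [Int.natCast_dvd, Int.natAbs_mul, Int.natAbs_natCast] at h1
    rw [Int.natCast_dvd]
    have h3 := Nat.gcd_pos_of_pos_left (Nat.card G / Nat.card (centralizer ({s} : Set G)))
      (Nat.pos_of_ne_zero (deg_ne_zero ψ))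
    refine (Nat.coprime_div_gcd_div_gcd h3).dvd_of_dvd_mul_left
      (Nat.dvd_of_mul_dvd_mul_left h3 ?_)
    rwa [← mul_assoc, Nat.mul_div_cancel' (Nat.gcd_dvd_left _ _),
      Nat.mul_div_cancel' (Nat.gcd_dvd_right _ _)]
  · have h1 := sum_norm_sq_irr s
    rw [← Finset.add_sum_erase _ _ (Finset.mem_univ (irrOne G))] at h1
    simp only [norm_sq_int (iv_inv _ hss), iv_one] at h1
    apply Nat.cast_le (α := ℝ) |>.1
    simp only [Nat.cast_add, Nat.cast_sum, Nat.cast_mul, Nat.cast_natAbs, Int.cast_abs,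
      abs_mul_abs_self]
    rw [← h1]
    simp [sq]
  · obtain ⟨f, hf, -, e⟩ := exists_blk hF hP
    simp only [e]
    exact hf.lin (hf.odd s hs) fun ψ _ _ => iv_inv ψ hss
  · obtain ⟨f, hf, -, e⟩ := exists_blk hF hP
    have := hf.sq s hs
    rw [← Finset.add_sum_erase _ _ (Finset.mem_univ (irrOne G)), hf.one, iv_one,
      H17.deg_irrOne] at this
    simp only [e]
    simpa only [rho, Nat.div_one, one_mul] using this
  · obtain ⟨P, f, a1, a2, a3, a4⟩ := exc_spec hF e2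
    have a5 : f ψ = f χ := List.map_inj_left.1 (congrArg Prod.snd e1) f a1
    apply Int.cast_injective (α := ℂ)
    rw [← iv_inv ψ hss, ← iv_inv χ hss]
    exact a2.reg _ _ (a5 ▸ a3) (a5 ▸ a4) a3 a4 s (a2.odd s hs)

theorem hyp (hno : Ps.Pairwise fun P Q => ∀ g : G, P.p ∣ orderOf g → ¬ Q.p ∣ orderOf g)
    {Ds : List ℕ} (hD : ∀ d, d ∣ Nat.card G → d ∈ Ds) : Hyp (Nat.card G) Ps
    ((Ds.filter fun d => decide (1 < d) && decide (d * d < Nat.card G)).flatMap fun d =>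
      (recs (Nat.card G) d Ps).map (d, ·)) (rho fs) (Finset.univ.erase (irrOne G)) := by
  have hno' : ∀ (i j : ℕ) (P Q : Pr), i ≠ j → Ps[i]? = some P → Ps[j]? = some Q →
      ∀ g : G, P.p ∣ orderOf g → ¬ Q.p ∣ orderOf g := fun i j P Q e hi hj g a b => by
    obtain ⟨hi', rfl⟩ := List.getElem?_eq_some_iff.1 hi
    obtain ⟨hj', rfl⟩ := List.getElem?_eq_some_iff.1 hj
    rcases e.lt_or_gt with e | e
    exacts [List.pairwise_iff_getElem.1 hno i j hi' hj' e g a b,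
      List.pairwise_iff_getElem.1 hno j i hj' hi' e g b a]
  refine ⟨fun ψ hψ => ?_, ?_, fun P hP => ?_, fun j P hP => ?_, fun j P hP => ?_, fun j P hP => ?_,
    fun j P hP ψ χ => ?_, fun i j P Q e hP hQ => ?_, fun j P hP ψ hψ h1 => ?_⟩
  · have h1 := Finset.ne_of_mem_erase hψ
    exact List.mem_flatMap.2 ⟨deg ψ, List.mem_filter.2 ⟨hD _ (deg_dvd_card ψ), by
      simpa [← sq] using ⟨one_lt_deg (commutator_eq_top_of_simple hG) h1, deg_sq_lt h1⟩⟩,
      List.mem_map_of_mem (mem_recs hF h1)⟩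
  · rw [← sum_deg_sq, ← Finset.add_sum_erase _ _ (Finset.mem_univ (irrOne G)), H17.deg_irrOne]
    simp [rho, sq]
  · obtain ⟨j, hj⟩ := List.getElem?_of_mem hP
    obtain ⟨f, hf, -⟩ := exists_blk hF hj
    exact hf.tpos
  · obtain ⟨f, hf, -, e⟩ := exists_blk hF hP
    simp only [val, e]
    exact hf.lin hf.reg1 fun ψ _ _ => by simp [rho, deg_eq]
  · obtain ⟨f, hf, -, e⟩ := exists_blk hF hP
    simpa only [e] using hf.cnt
  · obtain ⟨f, hf, -, e⟩ := exists_blk hF hP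
    simpa only [e] using hf.cnt'
  · obtain ⟨f, hf, e', e⟩ := exists_blk hF hP
    simp only [e]
    intro a1 a2 a3 a4
    have a5 := hf.reg _ _ a1 a2 a3 a4
    have a6 : deg ψ = deg χ := Nat.cast_injective (R := ℂ) (by rw [deg_eq, deg_eq, a5 1 hf.reg1])
    refine Prod.ext a6 (List.ext_getElem? fun i => ?_)
    simp only [rho, List.getElem?_map]
    rcases hi : Ps[i]? with _ | Q
    · rw [List.getElem?_eq_none_iff, hF.length_eq, ← List.getElem?_eq_none_iff] at hi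
      simp [hi]
    obtain ⟨f', hf', b, -⟩ := exists_blk hF hi
    simp only [b, Option.map_some, Option.some.injEq]
    by_cases c : i = j
    · obtain rfl : f = f' := Option.some.inj (e'.symm.trans (c ▸ b))
      rw [hf.eq_wt (fun c => a2 (by simp [c, hf.one])) a1,
        hf.eq_wt (fun c => a4 (by simp [c, hf.one])) a3, a6]
    · exact hf'.eq_of fun g hg => a5 g (hno' i j _ _ c hi hP g hg)
  · obtain ⟨f, hf, -, e1⟩ := exists_blk hF hP
    obtain ⟨f', hf', -, e2⟩ := exists_blk hF hQ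
    have := hf'.proj0 (fun ψ => f ψ) fun g hg => by
      rw [hf.sum, if_neg fun c => hno' i j _ _ e hP hQ g c hg]
    rw [← Finset.add_sum_erase _ _ (Finset.mem_univ (irrOne G)), hf.one, hf'.one] at this
    simp only [e1, e2]
    exact_mod_cast this
  · obtain ⟨f, hf, -, e⟩ := exists_blk hF hP
    obtain ⟨n, n1, n2⟩ := exists_norm_sq ψ
    have h2 := hf.proj0 (fun χ => n χ) fun g hg => by
      rw [← n2, hf.van ψ (Nat.dvd_of_mod_eq_zero h1) g hg, zero_mul]
    have h3 := n2 1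
    simp only [← deg_eq, map_natCast] at h3
    rw [← Finset.add_sum_erase _ _ (Finset.mem_univ (irrOne G)), n1] at h2 h3
    rw [hf.one] at h2
    rw [H17.deg_irrOne] at h3
    have h4 : (P.t : ℤ) + ∑ χ ∈ Finset.univ.erase (irrOne G), n χ * f χ = 0 := by
      apply Int.cast_injective (α := ℂ); simpa using h2
    have h5 : (deg ψ * deg ψ : ℤ) = 1 + ∑ χ ∈ Finset.univ.erase (irrOne G), (n χ * deg χ : ℤ) := by
      apply Int.cast_injective (α := ℂ); simpa using h3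
    simp only [e]
    simp only [rho]
    by_contra! c
    have h6 : ∑ χ ∈ Finset.univ.erase (irrOne G), -(n χ * f χ) * (deg ψ * deg ψ : ℤ) ≤
        ∑ χ ∈ Finset.univ.erase (irrOne G), (P.t : ℤ) * (n χ * deg χ : ℤ) :=
      Finset.sum_le_sum fun χ hχ => by
        rcases lt_or_ge (f χ) 0 with a | a
        · have b : ((f χ).natAbs * (deg ψ * deg ψ) : ℤ) ≤ P.t * deg χ := by exact_mod_cast c χ hχ a
          rw [Int.natCast_natAbs, abs_of_neg a] at b
          nlinarith [mul_le_mul_of_nonneg_left b (Nat.cast_nonneg (α := ℤ) (n χ))]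
        · exact (mul_nonpos_of_nonpos_of_nonneg (neg_nonpos.2 (by positivity))
            (by positivity)).trans (by positivity)
    rw [← Finset.sum_mul, Finset.sum_neg_distrib, ← Finset.mul_sum] at h6
    have h7 : (0 : ℤ) < P.t := by exact_mod_cast Nat.pos_of_ne_zero hf.tpos
    rw [show -∑ χ ∈ Finset.univ.erase (irrOne G), (n χ * f χ : ℤ) = P.t by linarith, h5] at h6
    linarith

theorem eng_sound (hno : Ps.Pairwise fun P Q => ∀ g : G, P.p ∣ orderOf g → ¬ Q.p ∣ orderOf g)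
    {N : ℕ} (hN : Nat.card G = N) {Ds : List ℕ} (hD : ∀ d, d ∣ N → d ∈ Ds)
    {sps : List (List (List ℕ))} (hl : sps.length ≤ Ps.length)
    (hsp : ∀ sp ∈ sps, ∀ Cs ∈ sp, ∃ s : G, orderOf s = 2 ∧
      Nat.card (centralizer ({s} : Set G)) ∈ Cs) {F : List Rec → Bool}
    (h : eng N Ps Ds sps F = true) : ∃ cs, Cov (rho fs) (Finset.univ.erase (irrOne G)) sps.length cs ∧
      F (cs.map (rho fs)) = true := by
  subst hN
  rw [eng, fLR_eq] at h
  simpa using run_sound (j := 0) (cs := []) (hyp hF hG hno hD) Ps sps rfl hl (fun sp a Cs b => by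
    obtain ⟨s, c, d⟩ := hsp sp a Cs b
    exact ⟨_, d, _, colHyp hF hG c⟩) ⟨List.nodup_nil, by simp, by simp⟩ h

omit hF in
theorem card_cent_ne {s : G} (hs : orderOf s = 2) :
    Nat.card (centralizer ({s} : Set G)) ≠ Nat.card G := fun e =>
  normalizer_zpowers_ne_top hG (ne_one_of_orderOf hs) (eq_top_iff.2
    ((eq_top_of_card_eq _ e).ge.trans (centralizer_le_normalizer_zpowers s)))

omit hF in
theorem exists_cz (h2 : 2 ∣ Nat.card G) {N : ℕ} (hN : Nat.card G = N) {Ds : List ℕ}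
    (hD : ∀ d, d ∣ N → d ∈ Ds) :
    ∃ s : G, orderOf s = 2 ∧ Nat.card (centralizer ({s} : Set G)) ∈ cz N Ds := by
  subst hN
  obtain ⟨s, h3, h4⟩ := exists_central_inv h2
  exact ⟨s, h3, List.mem_filter.2 ⟨hD _ (card_subgroup_dvd_card _), by
    rw [Bool.and_eq_true, beq_iff_eq, bne_iff_ne]
    exact ⟨Nat.mod_eq_zero_of_dvd (dvd_of_odd_index h4 dvd_rfl), card_cent_ne hG h3⟩⟩⟩

theorem engk_sound (hno : Ps.Pairwise fun P Q => ∀ g : G, P.p ∣ orderOf g → ¬ Q.p ∣ orderOf g)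
    {N : ℕ} (hN : Nat.card G = N) (h2 : 2 ∣ N) {Ds : List ℕ} (hD : ∀ d, d ∣ N → d ∈ Ds) {k : ℕ}
    (hk : k ≤ Ps.length) {F : List Rec → Bool} (h : engk N Ds Ps k F = true) :
    ∃ cs, Cov (rho fs) (Finset.univ.erase (irrOne G)) k cs ∧ F (cs.map (rho fs)) = true := by
  have := eng_sound hF hG hno hN hD (by simpa) (fun sp a Cs b => ?_) h
  · simpa using this
  obtain ⟨j, -, rfl⟩ := List.mem_map.1 a
  rcases List.mem_append.1 b with b | b
  · obtain ⟨P, c, rfl⟩ := List.mem_map.1 b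
    rw [List.mem_filter, beq_iff_eq] at c
    obtain ⟨i, hi⟩ := List.getElem?_of_mem (List.mem_of_mem_take c.1)
    obtain ⟨f, hf, -⟩ := exists_blk hF hi
    obtain ⟨s, d1, d2⟩ := hf.ys (Nat.dvd_of_mod_eq_zero c.2)
    exact ⟨s, d1, List.mem_filter.2 ⟨hD _ (hN ▸ card_subgroup_dvd_card _), by
      rw [Bool.and_eq_true, bne_iff_ne, ← hN]
      exact ⟨d2, card_cent_ne hG d1⟩⟩⟩
  · rw [List.mem_singleton.1 b]
    exact exists_cz hG (hN ▸ h2) hN hD

theorem not_engk (hno : Ps.Pairwise fun P Q => ∀ g : G, P.p ∣ orderOf g → ¬ Q.p ∣ orderOf g)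
    {N : ℕ} (hN : Nat.card G = N) (h2 : 2 ∣ N) {Ds : List ℕ} (hD : ∀ d, d ∣ N → d ∈ Ds) {k : ℕ}
    (hk : k ≤ Ps.length) : engk N Ds Ps k (fun _ => false) ≠ true := fun h => by
  simpa using engk_sound hF hG hno hN h2 hD hk h

omit hF in
theorem exists_opt {p : ℕ} [hp : Fact p.Prime] (p2 : p ≠ 2) {x : G} (h : D1 p x) {N : ℕ}
    (hN : Nat.card G = N) {Ds : List ℕ} (hD : ∀ d, d ∣ N → d ∈ Ds) : ∃ e c f,
    Nat.card (Aut h.ord) = e ∧ Nat.card (centralizer ({x} : Set G)) = p * c ∧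
      IsBlk G ⟨p, e, c⟩ f ∧ ⟨p, e, c⟩ ∈ optsP N Ds p := by
  obtain ⟨c, hc⟩ := D1.dvd_card_centralizer h
  obtain ⟨f, hf⟩ := exists_isBlk hG h p2 rfl hc
  refine ⟨_, c, f, rfl, hc, hf, ?_⟩
  have hperf := commutator_eq_top_of_simple hG
  have h1 := h.card_eq
  have h2 := h.card_Aut_ne_one hperf
  have h3 := card_Aut_dvd h.ord
  have h4 := h.card_sylow_ne_one hperf
  obtain ⟨n, h5⟩ := h.exists_card_sylow
  have h6 : 0 < Nat.card (Aut h.ord) := Nat.card_pos
  have h7 := hp.out.two_le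
  have h8 : 0 < c := Nat.pos_of_mul_pos_left (hc ▸ Nat.card_pos)
  rw [hN, hc] at h1
  generalize Nat.card (Aut h.ord) = e at *
  have h9 : N = p * e * c * Nat.card (Sylow p G) := by rw [h1]; ring
  have h10 : 0 < p * e * c := by positivity
  refine List.mem_flatMap.2 ⟨e, List.mem_range.2 (by have := Nat.le_of_dvd (by omega) h3; omega), ?_⟩
  rw [if_pos ⟨by omega, Nat.mod_eq_zero_of_dvd h3⟩]
  refine List.mem_map_of_mem (List.mem_filter.2 ⟨hD _ ⟨p * e * Nat.card (Sylow p G), by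
    rw [h9]; ring⟩, ?_⟩)
  simp only [Bool.and_eq_true, beq_iff_eq, bne_iff_ne]
  refine ⟨⟨by rw [h9, Nat.mul_mod_right], by
    rw [h9, Nat.mul_div_cancel_left _ h10, h5, Nat.mul_add_mod_of_lt h7]⟩, fun e => h4 ?_⟩
  exact Nat.eq_of_mul_eq_mul_left h10 (by rw [← h9, mul_one, e])

end H21.Eng
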