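import Mathlib
import Cfsg.Agent.H21.Mat7

/-! A commutative associative algebra `1 + V` gives a subgroup of index at most `dim V + 1`. -/

set_option autoImplicit false
set_option linter.unusedSectionVars false

open Cfsg H4 H17 H18 Subgroup Module
open scoped ComplexConjugate TensorProduct

namespace H21

theorem exists_common_eigen {A ι : Type*} [AddCommGroup A] [Module ℂ A] [FiniteDimensional ℂ A]
    [Nontrivial A] (T : ι → End ℂ A) (hT : ∀ i j, T i * T j = T j * T i) :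
    ∃ a ≠ 0, ∀ i, ∃ c : ℂ, T i a = c • a := by
  classical
  have h : ∃ n, ∃ W : Submodule ℂ A, W ≠ ⊥ ∧ (∀ i, ∀ a ∈ W, T i a ∈ W) ∧ finrank ℂ W = n :=
    ⟨_, ⊤, top_ne_bot, fun _ _ _ => trivial, rfl⟩
  obtain ⟨W, h1, h2, h3⟩ := Nat.find_spec h
  obtain ⟨a, ha, ha0⟩ := (Submodule.ne_bot_iff W).1 h1
  refine ⟨a, ha0, fun i => ?_⟩
  have : Nontrivial W := Submodule.nontrivial_iff_ne_bot.2 h1
  obtain ⟨c, hc⟩ := End.exists_eigenvalue ((T i).restrict (h2 i))
  obtain ⟨⟨v, hv⟩, hv1, hv2⟩ := hc.exists_hasEigenvector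
  have h4 : W ⊓ (T i).eigenspace c = W := Submodule.eq_of_le_of_finrank_le inf_le_left (by
    rw [h3]
    refine Nat.find_min' h ⟨W ⊓ (T i).eigenspace c, (Submodule.ne_bot_iff _).2 ⟨v, ⟨hv, ?_⟩, fun e => hv2 (Subtype.ext e)⟩,
      fun j a ha => ⟨h2 j a ha.1, ?_⟩, rfl⟩
    · exact End.mem_eigenspace_iff.2 (congrArg Subtype.val (End.mem_eigenspace_iff.1 hv1))
    · refine End.mem_eigenspace_iff.2 ?_
      rw [← End.mul_apply, hT, End.mul_apply, End.mem_eigenspace_iff.1 ha.2, map_smul])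
  exact ⟨c, End.mem_eigenspace_iff.1 (h4.ge ha).2⟩

section Alg

variable {V : Type*} [AddCommGroup V] [Module ℂ V] [FiniteDimensional ℂ V]
  {m : V →ₗ[ℂ] V →ₗ[ℂ] V} {b : V →ₗ[ℂ] V →ₗ[ℂ] ℂ}

theorem exists_algChar (hc : ∀ u v, m u v = m v u) (hb : ∀ u v, b u v = b v u) {A : Type*}
    [AddCommGroup A] [Module ℂ A] [FiniteDimensional ℂ A] [Nontrivial A] (T : V →ₗ[ℂ] End ℂ A)
    (hT : ∀ u v a, T u (T v a) = T (m u v) a + b u v • a) : ∃ a ≠ 0, ∃ l : Dual ℂ V,
      (∀ u v, l (m u v) + b u v = l u * l v) ∧ ∀ u, T u a = l u • a := by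
  obtain ⟨a, ha, h⟩ := exists_common_eigen T fun u v => LinearMap.ext fun a => by
    rw [End.mul_apply, End.mul_apply, hT, hT, hc, hb]
  obtain ⟨φ, hφ⟩ : ∃ φ : Dual ℂ A, φ a = 1 := by
    obtain ⟨φ, hφ⟩ := not_forall.1 ((forall_dual_apply_eq_zero_iff ℂ a).not.2 ha)
    exact ⟨(φ a)⁻¹ • φ, by simp [inv_mul_cancel₀ hφ]⟩
  have h1 : ∀ u, T u a = (φ ∘ₗ T.flip a) u • a := fun u => by
    obtain ⟨c, hc⟩ := h u
    simp [hc, hφ]
  refine ⟨a, ha, _, fun u v => smul_left_injective ℂ ha ?_, h1⟩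
  have := hT u v a
  rw [h1 v, map_smul, h1 u, h1 (m u v), smul_smul, ← add_smul, mul_comm] at this
  exact this.symm

/-- The multiplication on `1 + V`. -/
@[reducible] def algMul (m : V →ₗ[ℂ] V →ₗ[ℂ] V) (b : V →ₗ[ℂ] V →ₗ[ℂ] ℂ) : MulOneClass (ℂ × V) where
  mul x y := (x.1 * y.1 + b x.2 y.2, x.1 • y.2 + y.1 • x.2 + m x.2 y.2)
  one := (1, 0)
  one_mul x := Prod.ext (by change 1 * x.1 + b 0 x.2 = _; simp)
    (by change (1 : ℂ) • x.2 + x.1 • (0 : V) + m 0 x.2 = _; simp)
  mul_one x := Prod.ext (by change x.1 * 1 + b x.2 0 = _; simp)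
    (by change x.1 • (0 : V) + (1 : ℂ) • x.2 + m x.2 0 = _; simp)

theorem card_algChar_le {ι : Type*} [Finite ι] (l : ι → Dual ℂ V) (hl : Function.Injective l)
    (h : ∀ i u v, l i (m u v) + b u v = l i u * l i v) : Nat.card ι ≤ finrank ℂ V + 1 := by
  have := Fintype.ofFinite ι
  letI := algMul m b
  let f : ι → Dual ℂ (ℂ × V) := fun i => LinearMap.fst ℂ ℂ V + l i ∘ₗ LinearMap.snd ℂ ℂ V
  let F : ι → (ℂ × V →* ℂ) := fun i =>
    { toFun := f i
      map_one' := by change f i (1, 0) = 1; simp [f]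
      map_mul' := fun x y => by
        change f i (_, _) = _
        simp only [f, LinearMap.add_apply, LinearMap.fst_apply, LinearMap.comp_apply,
          LinearMap.snd_apply, map_add, map_smul, smul_eq_mul]
        linear_combination h i x.2 y.2 }
  have hF : Function.Injective F := fun i j e => hl (LinearMap.ext fun v => by
    simpa [F, f] using DFunLike.congr_fun e (0, v))
  have h1 : LinearIndependent ℂ f := LinearIndependent.of_comp (LinearMap.ltoFun ℂ (ℂ × V) ℂ ℂ)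
    ((linearIndependent_monoidHom (ℂ × V) ℂ).comp F hF)
  have h2 := h1.fintype_card_le_finrank
  rwa [Subspace.dual_finrank_eq, finrank_prod, finrank_self, add_comm, ← Nat.card_eq_fintype_card] at h2

variable {G : Type*} [Group G] [Finite G]

theorem exists_index_of_alg (ρ : Representation ℂ G V)
    (hi : ∀ W : Submodule ℂ V, (∀ g, ∀ v ∈ W, ρ g v ∈ W) → W = ⊥ ∨ W = ⊤)
    (h0 : ∀ l : Dual ℂ V, (∀ g v, l (ρ g v) = l v) → l = 0) (hm0 : m ≠ 0)
    (hmg : ∀ g u v, m (ρ g u) (ρ g v) = ρ g (m u v)) (hbg : ∀ g u v, b (ρ g u) (ρ g v) = b u v)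
    (hc : ∀ u v, m u v = m v u) (hb : ∀ u v, b u v = b v u)
    (hbm : ∀ u v w, b u (m v w) = b (m u v) w)
    (ha : ∀ u v w, m u (m v w) + b v w • u = m (m u v) w + b u v • w) :
    ∃ K : Subgroup G, K ≠ ⊤ ∧ K.index ≤ finrank ℂ V + 1 := by
  have hinv : ∀ g v, ρ g (ρ g⁻¹ v) = v := fun g v => by
    rw [← End.mul_apply, ← map_mul, mul_inv_cancel, map_one, End.one_apply]
  obtain ⟨l, hl0, hl⟩ : ∃ l : Dual ℂ V, l ≠ 0 ∧ ∀ u v, l (m u v) + b u v = l u * l v := by
    by_contra hX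
    have hX' : ∀ l : Dual ℂ V, (∀ u v, l (m u v) + b u v = l u * l v) → l = 0 := fun l h =>
      not_not.1 fun e => hX ⟨l, e, h⟩
    obtain ⟨-, -, l, h1, -⟩ := exists_algChar hc hb (A := ℂ × V)
      (LinearMap.mk₂ ℂ (fun u x => (b u x.2, x.1 • u + m u x.2)) (by intros; simp; abel)
        (fun c u x => by simp [smul_comm c x.1]) (by intros; simp [add_smul]; abel)
        (by intros; simp [smul_smul])) fun u v x => by
      simp only [LinearMap.mk₂_apply, map_add, map_smul, Prod.ext_iff, Prod.fst_add, Prod.snd_add,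
        Prod.smul_fst, Prod.smul_snd, smul_eq_mul, hbm]
      exact ⟨by ring, by linear_combination (norm := module) ha u v x.2⟩
    obtain rfl := hX' l h1
    have hb0 : ∀ u v, b u v = 0 := by simpa using h1
    have : Nontrivial V := by
      by_contra e
      rw [not_nontrivial_iff_subsingleton] at e
      exact hm0 (Subsingleton.elim _ _)
    obtain ⟨a, ha0, l, h2, h3⟩ := exists_algChar hc hb (A := V) m fun u v w => by
      simpa [hb0] using ha u v w
    obtain rfl := hX' l h2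
    rcases hi (LinearMap.ker m.flip) (fun g v hv => LinearMap.ext fun u => by
      have := DFunLike.congr_fun (LinearMap.mem_ker.1 hv) (ρ g⁻¹ u)
      rw [LinearMap.flip_apply, ← hinv g u, hmg]
      simp only [LinearMap.flip_apply, LinearMap.zero_apply] at this
      simp [this]) with e | e
    · exact ha0 ((Submodule.eq_bot_iff _).1 e a (LinearMap.ext fun u => by simpa using h3 u))
    · exact hm0 (LinearMap.ext₂ fun u v =>
        DFunLike.congr_fun (LinearMap.mem_ker.1 (e.ge Submodule.mem_top : v ∈ _)) u)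
  let K : Subgroup G :=
    { carrier := {g | ∀ v, l (ρ g v) = l v}
      mul_mem' := fun {a b} ha hb v => by rw [map_mul, End.mul_apply, ha, hb]
      one_mem' := by simp
      inv_mem' := fun {a} ha v => by rw [← ha, hinv] }
  refine ⟨K, fun e => hl0 (h0 l fun g => (e.ge (mem_top g) : g ∈ K)), ?_⟩
  refine card_algChar_le (m := m) (b := b) (fun q : G ⧸ K => l ∘ₗ ρ q.out⁻¹) (fun q r e => ?_)
    fun q u v => by simp only [LinearMap.comp_apply]; rw [← hmg, ← hl, hbg]
  rw [← q.out_eq, ← r.out_eq]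
  refine QuotientGroup.eq.2 fun v => ?_
  have := DFunLike.congr_fun e (ρ r.out v)
  simp only [LinearMap.comp_apply] at this
  rw [map_mul, End.mul_apply, this, ← End.mul_apply, ← map_mul, inv_mul_cancel, map_one,
    End.one_apply]

end Alg

end H21
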