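import Mathlib
import Cfsg.Agent.H21.Mat8

/-! A character whose alternating square is irreducible and whose symmetric square contains it
comes from a permutation representation. -/

set_option autoImplicit false
set_option linter.unusedSectionVars false

open Cfsg H4 H17 H18 Subgroup Module
open scoped ComplexConjugate TensorProduct

namespace H21

variable {G : Type*} [Group G] [Fintype G] {U Y V : Type*} [AddCommGroup U] [Module ℂ U]
  [FiniteDimensional ℂ U] [AddCommGroup Y] [Module ℂ Y] [FiniteDimensional ℂ Y]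
  [AddCommGroup V] [Module ℂ V] [FiniteDimensional ℂ V]

theorem finrank_fix (P : G → End ℂ U) (hP : ∀ g h, P (g * h) = P g * P h) (W : Submodule ℂ U)
    (hW : ∀ v, v ∈ W ↔ ∀ g, P g v = v) :
    (finrank ℂ W : ℂ) = (Nat.card G : ℂ)⁻¹ * ∑ g, LinearMap.trace ℂ U (P g) := by
  have h : LinearMap.IsProj W ((Nat.card G : ℂ)⁻¹ • ∑ g, P g) := by
    refine ⟨fun v => (hW _).2 fun h => ?_, fun v hv => ?_⟩
    · simp only [LinearMap.smul_apply, LinearMap.sum_apply, map_smul, map_sum, ← End.mul_apply, ← hP]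
      rw [Fintype.sum_equiv (Equiv.mulLeft h) (fun g => P (h * g) v) (fun g => P g v) fun _ => rfl]
    · simp only [LinearMap.smul_apply, LinearMap.sum_apply, (hW v).1 hv, Finset.sum_const,
        Finset.card_univ, ← Nat.card_eq_fintype_card, ← Nat.cast_smul_eq_nsmul ℂ, smul_smul,
        inv_mul_cancel₀ (card_ne_zero G), one_smul]
  rw [← h.trace, map_smul, map_sum, smul_eq_mul]

/-- Pre- and postcomposition. -/
def homOp (f : End ℂ U) (h : End ℂ Y) : End ℂ (U →ₗ[ℂ] Y) :=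
  LinearMap.llcomp ℂ U Y Y h ∘ₗ LinearMap.lcomp ℂ Y f

theorem homOp_apply (f : End ℂ U) (h : End ℂ Y) (φ : U →ₗ[ℂ] Y) (u : U) :
    homOp f h φ u = h (φ (f u)) := rfl

theorem trace_homOp (f : End ℂ U) (h : End ℂ Y) :
    LinearMap.trace ℂ _ (homOp f h) = LinearMap.trace ℂ U f * LinearMap.trace ℂ Y h := by
  rw [← LinearMap.trace_transpose' f, ← LinearMap.trace_tensorProduct',
    ← LinearMap.trace_conj' _ (dualTensorHomEquiv ℂ U Y)]
  congr 1
  rw [LinearEquiv.conj_apply, LinearEquiv.eq_comp_toLinearMap_symm]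
  ext φ y u
  simp [homOp, Dual.transpose_apply]

/-- The action on the (anti)symmetric part of the tensor square. -/
noncomputable def sqOp (ε : ℂ) (f : End ℂ V) : End ℂ (V ⊗[ℂ] V) :=
  (2 : ℂ)⁻¹ • (TensorProduct.map f f + ε • (TensorProduct.map f f *
    (TensorProduct.comm ℂ V V).toLinearMap))

theorem sqOp_tmul (ε : ℂ) (f : End ℂ V) (u v : V) :
    sqOp ε f (u ⊗ₜ v) = (2 : ℂ)⁻¹ • (f u ⊗ₜ f v + ε • f v ⊗ₜ f u) := by simp [sqOp]

theorem sqOp_mul {ε : ℂ} (hε : ε * ε = 1) (f g : End ℂ V) : sqOp ε (f * g) = sqOp ε f * sqOp ε g := by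
  ext u v
  simp only [TensorProduct.AlgebraTensorModule.curry_apply, LinearMap.restrictScalars_self,
    TensorProduct.curry_apply, End.mul_apply, sqOp_tmul, map_smul, map_add]
  linear_combination (norm := module) (1 - ε * ε) • (4 : ℂ)⁻¹ • (f (g u) ⊗ₜ[ℂ] f (g v)) +
    congrArg (· • (4 : ℂ)⁻¹ • (f (g u) ⊗ₜ[ℂ] f (g v))) hε.symm -
    (1 - ε * ε) • (4 : ℂ)⁻¹ • (f (g u) ⊗ₜ[ℂ] f (g v))

theorem trace_sqOp (ρ : Representation ℂ G V) (ε : ℂ) (g : G) :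
    LinearMap.trace ℂ _ (sqOp ε (ρ g)) = (ρ.character g ^ 2 + ε * ρ.character (g * g)) / 2 := by
  rw [sqOp, map_smul, map_add, map_smul, trace_map_mul_comm, LinearMap.trace_tensorProduct', ← map_mul ρ]
  simp only [Representation.character, smul_eq_mul]
  ring

/-- Equivariant (anti)symmetric bilinear maps. -/
def bilS (ρ : Representation ℂ G V) (ε : ℂ) (N : G → End ℂ Y) : Submodule ℂ (V →ₗ[ℂ] V →ₗ[ℂ] Y) where
  carrier := {B | (∀ u v, B v u = ε • B u v) ∧ ∀ g u v, B (ρ g u) (ρ g v) = N g (B u v)}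
  add_mem' := fun ha hb => ⟨fun u v => by simp [ha.1 u v, hb.1 u v], fun g u v => by simp [ha.2, hb.2]⟩
  zero_mem' := by simp
  smul_mem' := fun c B h => ⟨fun u v => by simp [h.1 u v, smul_comm c ε], fun g u v => by simp [h.2]⟩

theorem finrank_bilS (ρ : Representation ℂ G V) {ε : ℂ} (hε : ε * ε = 1) (N : G → End ℂ Y)
    (hN : ∀ g h, N (g * h) = N g * N h) : (finrank ℂ (bilS ρ ε N) : ℂ) = (Nat.card G : ℂ)⁻¹ *
      ∑ g, (ρ.character g⁻¹ ^ 2 + ε * ρ.character (g⁻¹ * g⁻¹)) / 2 * LinearMap.trace ℂ Y (N g) := by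
  have hinv : ∀ g v, ρ g (ρ g⁻¹ v) = v := fun g v => by
    rw [← End.mul_apply, ← map_mul, mul_inv_cancel, map_one, End.one_apply]
  have hinv' : ∀ g v, ρ g⁻¹ (ρ g v) = v := fun g v => by simpa using hinv g⁻¹ v
  rw [← LinearEquiv.finrank_map_eq (TensorProduct.lift.equiv (.id ℂ) V V Y),
    finrank_fix (fun g => homOp (sqOp ε (ρ g⁻¹)) (N g)) (fun g h => LinearMap.ext₂ fun φ t => by
      simp only [homOp_apply, End.mul_apply, mul_inv_rev, map_mul, sqOp_mul hε, hN])]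
  · simp only [trace_homOp, trace_sqOp]
  intro φ
  rw [Submodule.mem_map_equiv]
  constructor
  · rintro ⟨h1, h2⟩ g
    ext u v
    have h3 := h2 g (ρ g⁻¹ u) (ρ g⁻¹ v)
    have h4 := h1 (ρ g⁻¹ v) (ρ g⁻¹ u)
    simp only [TensorProduct.lift.equiv_symm_apply, hinv] at h3 h4
    simp only [TensorProduct.AlgebraTensorModule.curry_apply, LinearMap.restrictScalars_self,
      TensorProduct.curry_apply, homOp_apply, sqOp_tmul, map_smul φ, map_add φ, ← h4, h3]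
    congr 1
    module
  · intro h
    have h1 : ∀ g u v, φ (ρ g u ⊗ₜ ρ g v) = N g ((2 : ℂ)⁻¹ • (φ (u ⊗ₜ v) + ε • φ (v ⊗ₜ u))) :=
      fun g u v => by
        conv_lhs => rw [← h g]
        simp only [homOp_apply, sqOp_tmul, hinv', map_smul φ, map_add φ]
    have h2 : ∀ u v, φ (v ⊗ₜ u) = ε • φ (u ⊗ₜ v) := fun u v => by
      have a := h1 1 u v
      have b := h1 1 v u
      simp only [map_one, End.one_apply] at a b
      rw [a, ← map_smul]
      conv_lhs => rw [b]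
      congr 1
      simp only [smul_add, smul_smul]
      rw [show ε * (2⁻¹ * ε) = 2⁻¹ by linear_combination 2⁻¹ * hε]
      module
    refine ⟨fun u v => by simpa using h2 u v, fun g u v => ?_⟩
    simp only [TensorProduct.lift.equiv_symm_apply, h1, h2 u v, smul_smul, hε]
    congr 1
    module

theorem eq_zero_of_finrank {W : Submodule ℂ Y} (h : (finrank ℂ W : ℂ) = 0) {B : Y} (hB : B ∈ W) :
    B = 0 :=
  (Submodule.eq_bot_iff _).1 (Submodule.finrank_eq_zero.1 (Nat.cast_eq_zero.1 h)) B hB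

theorem smul_of_finrank {W : Submodule ℂ Y} (h : (finrank ℂ W : ℂ) = 1) {B C : Y} (hB : B ∈ W)
    (hC : C ∈ W) (h0 : C ≠ 0) : ∃ μ : ℂ, μ • C = B := by
  obtain ⟨μ, hμ⟩ := (finrank_eq_one_iff_of_nonzero' (⟨_, hC⟩ : W)
    fun e => h0 (congrArg Subtype.val e)).1 (by exact_mod_cast h) ⟨_, hB⟩
  exact ⟨μ, congrArg Subtype.val hμ⟩

theorem bilS_eq_zero {ρ : Representation ℂ G V} {ε : ℂ} {N : G → End ℂ Y}
    (h : (finrank ℂ (bilS ρ ε N) : ℂ) = 0) {B : V →ₗ[ℂ] V →ₗ[ℂ] Y} (hB : B ∈ bilS ρ ε N) : B = 0 :=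
  eq_zero_of_finrank h hB

theorem bilS_smul {ρ : Representation ℂ G V} {ε : ℂ} {N : G → End ℂ Y}
    (h : (finrank ℂ (bilS ρ ε N) : ℂ) = 1) {B C : V →ₗ[ℂ] V →ₗ[ℂ] Y} (hB : B ∈ bilS ρ ε N)
    (hC : C ∈ bilS ρ ε N) (h0 : C ≠ 0) : ∃ μ : ℂ, μ • C = B :=
  smul_of_finrank h hB hC h0

theorem rep_inv (ρ : Representation ℂ G V) (g : G) (v : V) : ρ g (ρ g⁻¹ v) = v := by
  rw [← End.mul_apply, ← map_mul, mul_inv_cancel, map_one, End.one_apply]

section Forms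

variable {ρ : Representation ℂ G V} {β : V →ₗ[ℂ] V →ₗ[ℂ] ℂ} {m : V →ₗ[ℂ] V →ₗ[ℂ] V}
  (hβ1 : ∀ u v, β v u = β u v) (hβ2 : ∀ g u v, β (ρ g u) (ρ g v) = β u v)
  (hm2 : ∀ g u v, m (ρ g u) (ρ g v) = ρ g (m u v))
include hβ2 hm2

theorem form_symm (h : (Nat.card G : ℂ)⁻¹ * ∑ g, (ρ.character g⁻¹ ^ 2 +
    -1 * ρ.character (g⁻¹ * g⁻¹)) / 2 * ρ.character g⁻¹ = 0) (u v w : V) :
    β (m u v) w = β (m u w) v := by
  have h2 := (finrank_bilS ρ (ε := -1) (by simp) ρ.dual (map_mul _)).trans (by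
    simpa only [fun g => show LinearMap.trace ℂ _ (ρ.dual g) = _ from ρ.char_dual g] using h)
  let B : V →ₗ[ℂ] V →ₗ[ℂ] Dual ℂ V :=
    LinearMap.mk₂ ℂ (fun v w => β.flip w ∘ₗ m.flip v) (by intros; ext; simp) (by intros; ext; simp)
      (by intros; ext; simp) (by intros; ext; simp)
  have h4 := bilS_eq_zero h2 (B := B - B.flip) ⟨by simp, fun g v w => LinearMap.ext fun u => by
    conv_lhs => rw [← rep_inv ρ g u]
    simp only [B, LinearMap.sub_apply, LinearMap.flip_apply, LinearMap.mk₂_apply,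
      LinearMap.comp_apply, hm2, hβ2, Representation.dual_apply, Dual.transpose_apply]⟩
  simpa [B, sub_eq_zero] using DFunLike.congr_fun (LinearMap.congr_fun₂ h4 v w) u

include hβ1 in
theorem form_assoc (hβ0 : β ≠ 0) (hnd : ∀ v, (∀ t, β v t = 0) → v = 0) (h1 : 1 < finrank ℂ V)
    (h : (Nat.card G : ℂ)⁻¹ * ∑ g, (ρ.character g⁻¹ ^ 2 + -1 * ρ.character (g⁻¹ * g⁻¹)) / 2 *
      ((ρ.character g⁻¹ ^ 2 + -1 * ρ.character (g⁻¹ * g⁻¹)) / 2) = 1) :
    ∃ μ : ℂ, ∀ u w v t, μ * (β u v * β w t - β w v * β u t) =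
      β (m u v) (m w t) - β (m w v) (m u t) := by
  have h2 := (finrank_bilS ρ (ε := -1) (by simp) (fun g => homOp (sqOp (-1) (ρ g⁻¹)) (1 : End ℂ ℂ))
    (fun g h => LinearMap.ext₂ fun φ t => by
      simp only [homOp_apply, End.mul_apply, mul_inv_rev, map_mul, sqOp_mul (ε := -1) (by simp),
        End.one_apply])).trans (by
    simpa only [trace_homOp, trace_sqOp, LinearMap.trace_one, finrank_self, Nat.cast_one, mul_one]
      using h)
  let B : V →ₗ[ℂ] V →ₗ[ℂ] (V ⊗[ℂ] V) →ₗ[ℂ] ℂ :=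
    LinearMap.mk₂ ℂ (fun u w => TensorProduct.lift (β.compl₁₂ (m u) (m w))) (by intros; ext; simp)
      (by intros; ext; simp) (by intros; ext; simp) (by intros; ext; simp)
  let C : V →ₗ[ℂ] V →ₗ[ℂ] (V ⊗[ℂ] V) →ₗ[ℂ] ℂ :=
    LinearMap.mk₂ ℂ (fun u w => TensorProduct.lift ((LinearMap.mul ℂ ℂ).compl₁₂ (β u) (β w)))
      (by intros; ext; simp [add_mul]) (by intros; ext; simp [mul_assoc])
      (by intros; ext; simp [mul_add]) (by intros; ext; simp [mul_left_comm])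
  have hB : B - B.flip ∈ bilS ρ (-1) fun g => homOp (sqOp (-1) (ρ g⁻¹)) (1 : End ℂ ℂ) :=
    ⟨by simp, fun g u w => TensorProduct.ext' fun v t => by
      conv_lhs => rw [← rep_inv ρ g v, ← rep_inv ρ g t]
      simp only [B, homOp_apply, sqOp_tmul, map_smul, map_add, LinearMap.sub_apply,
        LinearMap.flip_apply, LinearMap.mk₂_apply, TensorProduct.lift.tmul, LinearMap.compl₁₂_apply,
        hm2, hβ2, End.one_apply, smul_eq_mul, hβ1 (m u (ρ g⁻¹ t)), hβ1 (m w (ρ g⁻¹ t))]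
      ring⟩
  have hC : C - C.flip ∈ bilS ρ (-1) fun g => homOp (sqOp (-1) (ρ g⁻¹)) (1 : End ℂ ℂ) :=
    ⟨by simp, fun g u w => TensorProduct.ext' fun v t => by
      conv_lhs => rw [← rep_inv ρ g v, ← rep_inv ρ g t]
      simp only [C, homOp_apply, sqOp_tmul, map_smul, map_add, LinearMap.sub_apply,
        LinearMap.flip_apply, LinearMap.mk₂_apply, TensorProduct.lift.tmul, LinearMap.compl₁₂_apply,
        hβ2, End.one_apply, smul_eq_mul, LinearMap.mul_apply']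
      ring⟩
  have hC0 : C - C.flip ≠ 0 := fun e => by
    obtain ⟨u, v, huv⟩ : ∃ u v, β u v ≠ 0 := by
      by_contra e
      push Not at e
      exact hβ0 (LinearMap.ext₂ e)
    obtain ⟨w, hw, hw0⟩ := (Submodule.ne_bot_iff _).1 (LinearMap.ker_ne_bot_of_finrank_lt
      (f := β.flip v) (by rw [finrank_self]; exact h1))
    refine hw0 (hnd w fun t => ?_)
    have h3 := DFunLike.congr_fun (LinearMap.congr_fun₂ e u w) (v ⊗ₜ t)
    have h4 : β w v = 0 := hw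
    simpa [C, h4, huv] using h3
  obtain ⟨μ, hμ⟩ := bilS_smul h2 hB hC hC0
  exact ⟨μ, fun u w v t => by
    simpa [B, C] using DFunLike.congr_fun (LinearMap.congr_fun₂ hμ u w) (v ⊗ₜ t)⟩

end Forms

theorem exists_ne_zero_of_finrank (W : Submodule ℂ Y) {c : ℕ} (h : (finrank ℂ W : ℂ) = c) (hc : c ≠ 0) :
    ∃ B ∈ W, B ≠ 0 :=
  (Submodule.ne_bot_iff W).1 fun e => hc (by rw [e, finrank_bot] at h; exact_mod_cast h.symm)

theorem exists_index_rep (ρ : Representation ℂ G V) [ρ.IsIrreducible] (h1 : 1 < finrank ℂ V)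
    {a b : ℕ} (ha : a ≠ 0) (hb : b ≠ 0)
    (hs1 : (Nat.card G : ℂ)⁻¹ * ∑ g, (ρ.character g⁻¹ ^ 2 + 1 * ρ.character (g⁻¹ * g⁻¹)) / 2 * 1 = a)
    (hs2 : (Nat.card G : ℂ)⁻¹ * ∑ g, (ρ.character g⁻¹ ^ 2 + 1 * ρ.character (g⁻¹ * g⁻¹)) / 2 *
      ρ.character g = b)
    (ha1 : (Nat.card G : ℂ)⁻¹ * ∑ g, (ρ.character g⁻¹ ^ 2 +
      -1 * ρ.character (g⁻¹ * g⁻¹)) / 2 * ρ.character g⁻¹ = 0)
    (ha2 : (Nat.card G : ℂ)⁻¹ * ∑ g, (ρ.character g⁻¹ ^ 2 + -1 * ρ.character (g⁻¹ * g⁻¹)) / 2 *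
      ((ρ.character g⁻¹ ^ 2 + -1 * ρ.character (g⁻¹ * g⁻¹)) / 2) = 1) :
    ∃ K : Subgroup G, K ≠ ⊤ ∧ K.index ≤ finrank ℂ V + 1 := by
  have hi : ∀ W : Submodule ℂ V, (∀ g, ∀ v ∈ W, ρ g v ∈ W) → W = ⊥ ∨ W = ⊤ := fun W h =>
    (eq_bot_or_eq_top (⟨W, h⟩ : Subrepresentation ρ)).imp (congrArg Subrepresentation.toSubmodule)
      (congrArg Subrepresentation.toSubmodule)
  obtain ⟨β, ⟨hβ1, hβ2⟩, hβ0⟩ := exists_ne_zero_of_finrank (bilS ρ 1 fun _ => (1 : End ℂ ℂ))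
    ((finrank_bilS ρ (one_mul _) _ (by simp)).trans (by
      simpa only [LinearMap.trace_one, finrank_self, Nat.cast_one] using hs1)) ha
  obtain ⟨m, ⟨hm1, hm2⟩, hm0⟩ := exists_ne_zero_of_finrank (bilS ρ 1 ρ)
    ((finrank_bilS ρ (one_mul _) _ (map_mul _)).trans hs2) hb
  simp only [one_smul, End.one_apply] at hβ1 hβ2 hm1
  have hnd : ∀ v, (∀ t, β v t = 0) → v = 0 := fun v hv => by
    rcases hi (LinearMap.ker β) (fun g v hv => LinearMap.ext fun t => by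
      rw [← rep_inv ρ g t, hβ2, LinearMap.mem_ker.1 hv]; rfl) with e | e
    · exact (Submodule.eq_bot_iff _).1 e v (LinearMap.ext hv)
    · exact absurd (LinearMap.ker_eq_top.1 e) hβ0
  have hβm := form_symm hβ2 hm2 ha1
  obtain ⟨μ, hμ⟩ := form_assoc hβ1 hβ2 hm2 hβ0 hnd h1 ha2
  refine exists_index_of_alg ρ hi (fun l hl => ?_) hm0 hm2 (b := (-μ) • β) (by simp [hβ2])
    (fun u v => hm1 v u) (fun u v => by simp [hβ1 u v]) (fun u v w => ?_) fun u v w => ?_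
  · rcases hi (LinearMap.ker l) (fun g v hv => (hl g v).trans hv) with e | e
    · have := LinearMap.finrank_le_finrank_of_injective (LinearMap.ker_eq_bot.1 e)
      rw [finrank_self] at this
      omega
    · exact LinearMap.ker_eq_top.1 e
  · simp only [LinearMap.smul_apply]
    rw [hβ1 (m v w), hβm v w u, hm1 u v]
  · refine sub_eq_zero.1 (hnd _ fun t => ?_)
    have := hμ u w v t
    simp only [map_sub, map_add, map_smul, LinearMap.sub_apply, LinearMap.add_apply,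
      LinearMap.smul_apply, smul_eq_mul]
    rw [hβm u (m v w) t, hm1 w (m u v), hβm w (m u v) t, hβ1 (m v w), hβ1 (m u v), hm1 w v, hβ1 w v]
    linear_combination this

theorem exists_index_le {G : Type*} [Group G] [Finite G] {χ ψ : Irr G} (h1 : 1 < deg χ)
    (hr : ∀ g, χ.1 g⁻¹ = χ.1 g) (hψ : ∀ g, (χ.1 g ^ 2 - χ.1 (g * g)) / 2 = ψ.1 g) (hne : ψ ≠ χ)
    {n : Irr G → ℕ} (hn : ∀ g, (χ.1 g ^ 2 + χ.1 (g * g)) / 2 = ∑ θ, (n θ : ℂ) * θ.1 g)
    (hn1 : n (irrOne G) ≠ 0) (hn2 : n χ ≠ 0) : ∃ K : Subgroup G, K ≠ ⊤ ∧ K.index ≤ deg χ + 1 := by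
  have := Fintype.ofFinite G
  have hs : ∀ θ : Irr G, (Nat.card G : ℂ)⁻¹ * ∑ g, (χ.1 g⁻¹ ^ 2 + 1 * χ.1 (g⁻¹ * g⁻¹)) / 2 * θ.1 g =
      n θ := fun θ => by
    rw [← classInner_sum_smul_irr (fun θ => (n θ : ℂ)) θ, classInner_def,
      ← Fintype.sum_equiv (Equiv.inv G) _ _ fun _ => rfl]
    simp [hn, θ.2.apply_inv]
  have hrψ : ∀ g, ψ.1 g⁻¹ = ψ.1 g := fun g => by rw [← hψ, ← hψ, ← mul_inv_rev, hr, hr]
  have ha : ∀ θ : Irr G, (Nat.card G : ℂ)⁻¹ * ∑ g, (χ.1 g⁻¹ ^ 2 + -1 * χ.1 (g⁻¹ * g⁻¹)) / 2 * θ.1 g⁻¹ =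
      classInner ψ.1 θ.1 := fun θ => by
    simp only [neg_one_mul, ← sub_eq_add_neg, hψ, hrψ, classInner_def, θ.2.apply_inv]
  have ha1 := (ha χ).trans (ψ.2.inner_of_ne χ.2 fun e => hne (Subtype.ext e))
  have ha2 := (ha ψ).trans ψ.2.inner_self
  have hs1 := hs (irrOne G)
  have hs2 := hs χ
  have hd := deg_eq χ
  simp only [← hψ, sub_eq_add_neg, ← neg_one_mul (χ.1 _)] at ha2
  generalize deg χ = d at h1 hd ⊢
  generalize n χ = b at hn2 hs2
  clear hs ha hn hψ hne hr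
  obtain ⟨χ, k, ρ, hρ, rfl⟩ := χ
  have hk : finrank ℂ (Fin k → ℂ) = d := by
    simp only [Representation.char_one] at hd; exact_mod_cast hd.symm
  exact hk ▸ exists_index_rep ρ (hk ▸ h1) hn1 hn2 hs1 hs2 ha1 ha2

end H21
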