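import Mathlib
import Cfsg.Agent.H21.Eng5
import Cfsg.Agent.H21.Mat9

/-! Tools for using the result of the search. -/

set_option autoImplicit false
set_option linter.unusedSectionVars false

open Cfsg H4 H17 H18 Subgroup Module
open scoped ComplexConjugate Classical

namespace H21.Eng

variable {G : Type*} [Group G] [Finite G]

theorem IsBlk.sc_no {p e : ℕ} {f : Irr G → ℤ} (h : IsBlk G ⟨p, e, 1⟩ f) {q : ℕ} (hq : q.Prime)
    (hne : q ≠ p) (g : G) (h1 : q ∣ orderOf g) : ¬ p ∣ orderOf g := fun h2 =>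
  h.nopq q hq hne hq.not_dvd_one g h2 h1

theorem IsBlk.not_dvd_c {p q e c e' c' : ℕ} {f f' : Irr G → ℤ} (h : IsBlk G ⟨p, e, c⟩ f)
    (h' : IsBlk G ⟨q, e', c'⟩ f') (hp : p.Prime) (hq : q.Prime) (hne : q ≠ p) (hc : ¬ q ∣ c) :
    c' % p ≠ 0 := fun h1 => by
  obtain ⟨g, h2, h3⟩ := h'.pq p hp hne.symm (Nat.dvd_of_mod_eq_zero h1)
  exact h.nopq q hq hne hc g h3 h2

theorem IsBlk.dvd_deg {p e : ℕ} {f : Irr G → ℤ} (h : IsBlk G ⟨p, e, 1⟩ f) {ψ : Irr G}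
    (h1 : ψ ≠ irrOne G) (h0 : f ψ = 0) : p ∣ deg ψ := by
  have := h.loc ψ h1
  simp only [cfs, List.mem_append, List.mem_ite_nil_right, List.mem_singleton, h0] at this
  rcases this with a | a
  · exact Nat.dvd_of_mod_eq_zero (a.1.resolve_left (by simp))
  · exact absurd a.2.symm a.1.1

theorem Cov.split {ρ : Irr G → Rec} {k : ℕ} {cs : List (Irr G)}
    (h : Cov ρ (Finset.univ.erase (irrOne G)) k cs) : ∃ R : Finset (Irr G),
    (∀ ψ ∈ R, ψ ≠ irrOne G ∧ ∀ i < k, cf i (ρ ψ) = 0) ∧ (∀ ψ, ψ = irrOne G ∨ ψ ∈ cs ∨ ψ ∈ R) ∧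
    ∀ {M : Type} [AddCommMonoid M] (g : Irr G → M),
      ∑ ψ, g ψ = g (irrOne G) + (cs.map g).sum + ∑ ψ ∈ R, g ψ := by
  refine ⟨Finset.univ.erase (irrOne G) \ cs.toFinset, fun ψ a => ?_, fun ψ => ?_, fun g => ?_⟩
  · rw [Finset.mem_sdiff, List.mem_toFinset] at a
    exact ⟨Finset.ne_of_mem_erase a.1, fun i hi => not_not.1 fun e => a.2 (h.all ψ a.1 i hi e)⟩
  · simp only [Finset.mem_sdiff, Finset.mem_erase, List.mem_toFinset, Finset.mem_univ]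
    tauto
  · rw [← Finset.add_sum_erase _ _ (Finset.mem_univ (irrOne G)), ← List.sum_toFinset _ h.nodup,
      add_assoc, add_comm (∑ ψ ∈ cs.toFinset, g ψ), Finset.sum_sdiff fun ψ a =>
        (h.mem ψ (List.mem_toFinset.1 a)).1]

theorem rest_single {ι : Type*} {R : Finset ι} {d : ι → ℕ} {m : ℕ} (hm : 0 < m)
    (h1 : ∀ ψ ∈ R, m ≤ d ψ) (h2 : ∑ ψ ∈ R, d ψ ^ 2 = m ^ 2) : ∃ θ, R = {θ} ∧ d θ = m := by
  have h3 := Finset.card_nsmul_le_sum R (fun ψ => d ψ ^ 2) (m ^ 2) fun ψ a =>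
    Nat.pow_le_pow_left (h1 ψ a) 2
  rw [h2, smul_eq_mul] at h3
  have h4 : R.card ≠ 0 := fun e => by
    rw [Finset.card_eq_zero.1 e, Finset.sum_empty] at h2
    exact (pow_pos hm 2).ne h2
  obtain ⟨θ, rfl⟩ := Finset.card_eq_one.1 (show R.card = 1 by
    have := (Nat.mul_le_mul_right_iff (pow_pos hm 2)).1 (h3.trans_eq (one_mul _).symm)
    omega)
  exact ⟨θ, rfl, Nat.pow_left_injective two_ne_zero (by simpa using h2)⟩

theorem coeff_eq {a b : Irr G → ℂ} (h : ∀ g, ∑ ψ, a ψ * ψ.1 g = ∑ ψ, b ψ * ψ.1 g) (ψ : Irr G) :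
    a ψ = b ψ := by
  have := Fintype.ofFinite G
  rw [← classInner_sum_smul_irr a ψ, ← classInner_sum_smul_irr b ψ]
  congr 1
  ext g
  simpa using h g

theorem exists_sq {χ : Irr G} (hr : ∀ g, χ.1 g = iv χ g) : ∃ l m : Irr G → ℕ,
    (∀ g, (χ.1 g ^ 2 - χ.1 (g * g)) / 2 = ∑ ψ, (l ψ : ℂ) * ψ.1 g) ∧
    (∀ g, (χ.1 g ^ 2 + χ.1 (g * g)) / 2 = ∑ ψ, (m ψ : ℂ) * ψ.1 g) ∧
    l (irrOne G) + m (irrOne G) = 1 := by
  obtain ⟨l, hl⟩ := χ.2.isCharacter.altSq.exists_eq_sum_nat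
  obtain ⟨m, hm⟩ := χ.2.isCharacter.symSq.exists_eq_sum_nat
  obtain ⟨n, n1, n2⟩ := exists_norm_sq χ
  have h1 : ∀ g, (χ.1 g ^ 2 - χ.1 (g * g)) / 2 = ∑ ψ, (l ψ : ℂ) * ψ.1 g := fun g => by
    simpa using congrFun hl g
  have h2 : ∀ g, (χ.1 g ^ 2 + χ.1 (g * g)) / 2 = ∑ ψ, (m ψ : ℂ) * ψ.1 g := fun g => by
    simpa using congrFun hm g
  refine ⟨l, m, h1, h2, ?_⟩
  have := coeff_eq (a := fun ψ => l ψ + m ψ) (b := fun ψ => n ψ) (fun g => by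
    simp only [add_mul, Finset.sum_add_distrib, ← h1, ← h2, ← n2, hr g, map_intCast]
    ring) (irrOne G)
  rw [← n1]
  exact_mod_cast this

theorem dvd_orderOf_mul_self {p : ℕ} (hp : p.Coprime 2) {g : G} (h : p ∣ orderOf g) :
    p ∣ orderOf (g * g) :=
  hp.dvd_of_dvd_mul_left (h.trans (orderOf_dvd_of_pow_eq_one (by
    rw [pow_mul, sq, pow_orderOf_eq_one])))

/-- Block relations for a character `(χ² + ε χ⁽²⁾) / 2`. -/
theorem IsBlk.sq_rel {P : Pr} {f : Irr G → ℤ} (h : IsBlk G P f) (hp : P.p.Coprime 2) {χ : Irr G}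
    {r : ℤ} (hr : ∀ g, P.p ∣ orderOf g → χ.1 g = r) {l m : Irr G → ℕ}
    (hl : ∀ g, (χ.1 g ^ 2 - χ.1 (g * g)) / 2 = ∑ ψ, (l ψ : ℂ) * ψ.1 g)
    (hm : ∀ g, (χ.1 g ^ 2 + χ.1 (g * g)) / 2 = ∑ ψ, (m ψ : ℂ) * ψ.1 g) :
    2 * ∑ ψ, l ψ * f ψ = (r ^ 2 - r) * P.t ∧ 2 * ∑ ψ, m ψ * f ψ = (r ^ 2 + r) * P.t := by
  have h1 := h.proj (fun ψ => l ψ) ((r ^ 2 - r) / 2) fun g hg => by
    rw [← hl, hr g hg, hr _ (dvd_orderOf_mul_self hp hg)]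
  have h2 := h.proj (fun ψ => m ψ) ((r ^ 2 + r) / 2) fun g hg => by
    rw [← hm, hr g hg, hr _ (dvd_orderOf_mul_self hp hg)]
  constructor <;> apply Int.cast_injective (α := ℂ) <;> push_cast
  · rw [h1]; ring
  · rw [h2]; ring

theorem IsBlk.val' {P : Pr} {f : Irr G → ℤ} (h : IsBlk G P f) {χ : Irr G} {r : ℤ}
    (hr : r = 1 ∨ r = -1) (e : f χ = P.t * r) (g : G) (hg : P.p ∣ orderOf g) : χ.1 g = r := by
  have := h.val χ (by rcases hr with rfl | rfl <;> simp [e]) g hg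
  rw [e, Int.cast_mul, Int.cast_natCast] at this
  exact mul_left_cancel₀ (Nat.cast_ne_zero.2 h.tpos) this

theorem sq_int {χ : Irr G} {l : Irr G → ℕ} {ε : ℤ} {g : G}
    (hl : (χ.1 g ^ 2 + ε * χ.1 (g * g)) / 2 = ∑ ψ, (l ψ : ℂ) * ψ.1 g) {v : Irr G → ℤ}
    (hv : ∀ ψ : Irr G, ψ.1 g = v ψ) {u : ℤ} (hu : χ.1 (g * g) = u) :
    v χ ^ 2 + ε * u = 2 * ∑ ψ, l ψ * v ψ := by
  apply Int.cast_injective (α := ℂ)
  simp only [hv, hu] at hl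
  push_cast
  rw [← hl]; ring

theorem col_int {g h : G} {u v : Irr G → ℤ} (hu : ∀ ψ : Irr G, ψ.1 g = u ψ)
    (hv : ∀ ψ : Irr G, ψ.1 h = v ψ) (hn : orderOf g ≠ orderOf h) : ∑ ψ, u ψ * v ψ = 0 := by
  have := column_orth_of_not_isConj (g := g) (h := h) fun e => hn (orderOf_eq_of_isConj e)
  simp only [hu, hv, map_intCast] at this
  exact_mod_cast this

theorem col_int_self {g : G} {u : Irr G → ℤ} (hu : ∀ ψ : Irr G, ψ.1 g = u ψ) :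
    ∑ ψ, u ψ * u ψ = Nat.card (centralizer ({g} : Set G)) := by
  have := column_orth_of_isConj (IsConj.refl g)
  simp only [hu, map_intCast] at this
  exact_mod_cast this

theorem IsBlk.lin' {P : Pr} {f : Irr G → ℤ} (h : IsBlk G P f) {g : G} (hg : ¬ P.p ∣ orderOf g)
    {v : Irr G → ℤ} (hv : ∀ ψ : Irr G, ψ.1 g = v ψ) : ∑ ψ, f ψ * v ψ = 0 := by
  have h1 := h.sum g
  simp only [if_neg hg, hv] at h1
  exact_mod_cast h1

end H21.Eng
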