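import Cfsg.Agent.H4.Central

set_option autoImplicit false
open Finset

namespace H21.KSR

section Mat
variable {Ω : Type*} [Fintype Ω] [DecidableEq Ω]

/-- trace of an idempotent complex matrix is its rank -/
theorem idem (P : Matrix Ω Ω ℂ) (hP : P * P = P) :
    ∃ k : ℕ, P.trace = k ∧ (k = 0 → P = 0) ∧
      (k = 1 → ∀ v w : Ω → ℂ, P.mulVec w ≠ 0 → ∃ c : ℂ, P.mulVec v = c • P.mulVec w) := by
  have he : IsIdempotentElem (Matrix.toLin' P) := by
    rw [IsIdempotentElem, Module.End.mul_eq_comp, ← Matrix.toLin'_mul, hP]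
  have ht := (LinearMap.IsIdempotentElem.isProj_range _ he).trace
  rw [Matrix.trace_toLin'_eq] at ht
  refine ⟨_, ht, fun h => ?_, fun h v w hw => ?_⟩
  · rw [Submodule.finrank_eq_zero, LinearMap.range_eq_bot] at h
    exact Matrix.toLin'.injective (by rw [h, map_zero])
  · have hw' : (⟨P.mulVec w, w, rfl⟩ : LinearMap.range (Matrix.toLin' P)) ≠ 0 := by
      intro h0; exact hw (congrArg Subtype.val h0)
    obtain ⟨c, hc⟩ := (finrank_eq_one_iff_of_nonzero' _ hw').1 h ⟨P.mulVec v, v, rfl⟩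
    exact ⟨c, (congrArg Subtype.val hc).symm⟩

theorem int_root {γ e : ℂ} (hγ : IsIntegral ℤ γ) (n : ℕ) (h : e * e = n + γ * e) :
    IsIntegral ℤ e := by
  have : IsIntegral (integralClosure ℤ ℂ) e := by
    refine ⟨Polynomial.X ^ 2 - (Polynomial.C ⟨γ, hγ⟩ * Polynomial.X + Polynomial.C (n : integralClosure ℤ ℂ)), ?_, ?_⟩
    · monicity!
    · simp only [Polynomial.eval₂_sub, Polynomial.eval₂_add, Polynomial.eval₂_mul,
        Polynomial.eval₂_pow', Polynomial.eval₂_X, Polynomial.eval₂_C, Polynomial.eval₂_X_pow, map_natCast]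
      have : algebraMap (integralClosure ℤ ℂ) ℂ ⟨γ, hγ⟩ = γ := rfl
      rw [this]
      simp only [Polynomial.eval₂_natCast]
      linear_combination h
  exact isIntegral_trans e this

theorem int_of_mul {e : ℂ} (he : IsIntegral ℤ e) {f c : ℤ} (hf : f ≠ 0) (h : e * f = c) :
    ∃ k : ℤ, e = k := by
  have hf' : (f : ℂ) ≠ 0 := by exact_mod_cast hf
  have h1 : e = (c : ℂ) / f := by field_simp; exact h
  obtain ⟨k, hk⟩ := H4.int_dvd_of_isIntegral_div hf (h1 ▸ he)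
  refine ⟨k, ?_⟩
  rw [h1, hk]; push_cast; field_simp

/-- the two spectral projectors of a quadratic matrix -/
theorem proj_idem {T : Matrix Ω Ω ℂ} {e₁ e₂ : ℂ} (hne : e₁ ≠ e₂)
    (hT : T * T = (-(e₁ * e₂)) • (1 : Matrix Ω Ω ℂ) + (e₁ + e₂) • T) :
    ((e₁ - e₂)⁻¹ • (T - e₂ • 1)) * ((e₁ - e₂)⁻¹ • (T - e₂ • 1)) = (e₁ - e₂)⁻¹ • (T - e₂ • 1) ∧
    T * ((e₁ - e₂)⁻¹ • (T - e₂ • 1)) = e₁ • ((e₁ - e₂)⁻¹ • (T - e₂ • 1)) := by
  have h0 : e₁ - e₂ ≠ 0 := sub_ne_zero.2 hne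
  have h1 : T * (T - e₂ • 1) = e₁ • (T - e₂ • 1) := by
    rw [mul_sub, hT, Matrix.mul_smul, mul_one]; module
  constructor
  · rw [Matrix.smul_mul, Matrix.mul_smul, sub_mul, h1, Matrix.smul_mul, one_mul, ← sub_smul,
      smul_smul (e₁ - e₂)⁻¹ (e₁ - e₂), inv_mul_cancel₀ h0, one_smul]
  · rw [Matrix.mul_smul, h1, smul_comm]

/-- integer eigenvalues -/
theorem eig_int {n : ℕ} (hn : 0 < n) (hΩ : Fintype.card Ω = n + 1) {T J : Matrix Ω Ω ℂ} {γ : ℂ}
    (hγ : IsIntegral ℤ γ) (hT : T * T = (n : ℂ) • (1 : Matrix Ω Ω ℂ) + γ • T) (hT0 : T.trace = 0)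
    (hJ : J * J = 1) (hJT : J * T = T * J) (hJ0 : J.trace = 0) (hJ1 : (J * T).trace = n + 1) :
    ∃ e₁ e₂ c : ℤ, e₁ * e₂ = -n ∧ (e₁ : ℂ) + e₂ = γ ∧ (n : ℤ) + 1 = c * (e₁ - e₂) := by
  obtain ⟨δ, hδ⟩ := IsAlgClosed.exists_pow_nat_eq (γ ^ 2 + 4 * n) (by norm_num : 0 < 2)
  obtain ⟨e₁, he₁⟩ : ∃ e : ℂ, e = (γ + δ) / 2 := ⟨_, rfl⟩
  obtain ⟨e₂, he₂⟩ : ∃ e : ℂ, e = (γ - δ) / 2 := ⟨_, rfl⟩
  have hs : e₁ + e₂ = γ := by rw [he₁, he₂]; ring
  have hp : e₁ * e₂ = -n := by rw [he₁, he₂]; linear_combination (-1 / 4 : ℂ) * hδ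
  have hn' : (n : ℂ) ≠ 0 := by exact_mod_cast hn.ne'
  have hn1 : (n : ℂ) + 1 ≠ 0 := by exact_mod_cast Nat.succ_ne_zero n
  have htr1 : (1 : Matrix Ω Ω ℂ).trace = n + 1 := by rw [Matrix.trace_one, hΩ]; push_cast; ring
  have hT' : T * T = (-(e₁ * e₂)) • (1 : Matrix Ω Ω ℂ) + (e₁ + e₂) • T := by
    rw [hT, hp, hs, neg_neg]
  have hne : e₁ ≠ e₂ := by
    intro h
    have h2 : (T - e₁ • 1) ^ 2 = 0 := by
      rw [pow_two, sub_mul, mul_sub, mul_sub, hT', ← h]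
      simp only [Matrix.mul_smul, Matrix.smul_mul, mul_one, one_mul]; module
    have h3 := (Matrix.isNilpotent_trace_of_isNilpotent ⟨2, h2⟩).eq_zero
    rw [Matrix.trace_sub, hT0, Matrix.trace_smul, htr1, smul_eq_mul, zero_sub, neg_eq_zero] at h3
    have h4 : e₁ = 0 := (mul_eq_zero.1 h3).resolve_right hn1
    rw [h4, zero_mul] at hp
    exact hn' (neg_eq_zero.1 hp.symm)
  have h0 : e₁ - e₂ ≠ 0 := sub_ne_zero.2 hne
  obtain ⟨hP, -⟩ := proj_idem hne hT'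
  set P := (e₁ - e₂)⁻¹ • (T - e₂ • (1 : Matrix Ω Ω ℂ)) with hPd
  have hJP : J * P = P * J := by
    rw [hPd, Matrix.mul_smul, Matrix.smul_mul, mul_sub, sub_mul, hJT, Matrix.mul_smul,
      Matrix.smul_mul, mul_one, one_mul]
  obtain ⟨f, hf, -⟩ := idem P hP
  obtain ⟨k, hk, -⟩ := idem ((1 / 2 : ℂ) • (P + J * P)) (by
    have h1 : P * (J * P) = J * P := by rw [← mul_assoc, ← hJP, mul_assoc, hP]
    have h2 : J * P * P = J * P := by rw [mul_assoc, hP]
    have h3 : J * P * (J * P) = P := by rw [mul_assoc, h1, ← mul_assoc, hJ, one_mul]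
    rw [Matrix.smul_mul, Matrix.mul_smul, add_mul, mul_add, mul_add, hP, h1, h2, h3]; module)
  have hf1 : P.trace = (e₁ - e₂)⁻¹ * (-(e₂ * (n + 1))) := by
    rw [hPd, Matrix.trace_smul, Matrix.trace_sub, hT0, Matrix.trace_smul, htr1]; simp
  have hc1 : (J * P).trace = (e₁ - e₂)⁻¹ * (n + 1) := by
    rw [hPd, Matrix.mul_smul, Matrix.trace_smul, mul_sub, Matrix.trace_sub, hJ1, Matrix.mul_smul,
      mul_one, Matrix.trace_smul, hJ0]; simp
  rw [Matrix.trace_smul, Matrix.trace_add, hf, smul_eq_mul] at hk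
  obtain ⟨c, hc⟩ : ∃ c : ℤ, (J * P).trace = c := ⟨2 * k - f, by push_cast; linear_combination 2 * hk⟩
  have hc2 : (c : ℂ) * (e₁ - e₂) = n + 1 := by rw [← hc, hc1]; field_simp
  have hc0 : c ≠ 0 := by
    rintro rfl; rw [Int.cast_zero, zero_mul] at hc2; exact hn1 hc2.symm
  have hf2 : e₂ * c = ((-f : ℤ) : ℂ) := by
    rw [← hc, hc1]; push_cast; rw [← hf, hf1]; ring
  have hi₂ : IsIntegral ℤ e₂ := int_root hγ n (by rw [← hs]; linear_combination -hp)
  have hi₁ : IsIntegral ℤ e₁ := int_root hγ n (by rw [← hs]; linear_combination -hp)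
  obtain ⟨k₂, hk₂⟩ := int_of_mul hi₂ hc0 hf2
  obtain ⟨k₁, hk₁⟩ := int_of_mul hi₁ hc0 (c := n + 1 - f) (by
    push_cast at hf2 ⊢; linear_combination hc2 + hf2)
  refine ⟨k₁, k₂, c, ?_, by rw [← hk₁, ← hk₂, hs], ?_⟩
  · have : ((k₁ * k₂ : ℤ) : ℂ) = ((-n : ℤ) : ℂ) := by push_cast; rw [← hk₁, ← hk₂, hp]
    exact_mod_cast this
  · have : (((n : ℤ) + 1 : ℤ) : ℂ) = ((c * (k₁ - k₂) : ℤ) : ℂ) := by
      push_cast; rw [← hk₁, ← hk₂, hc2]
    exact_mod_cast this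

theorem geom_idem {X : Matrix Ω Ω ℂ} {l : ℕ} (hX : X ^ l = 1) :
    X * (∑ j ∈ range l, X ^ j) = ∑ j ∈ range l, X ^ j ∧
    (∑ j ∈ range l, X ^ j) * (∑ j ∈ range l, X ^ j) = (l : ℂ) • ∑ j ∈ range l, X ^ j := by
  have h1 : X * (∑ j ∈ range l, X ^ j) = ∑ j ∈ range l, X ^ j := by
    have := mul_geom_sum X l
    rw [hX, sub_self, sub_mul, one_mul, sub_eq_zero] at this; exact this
  have h2 : ∀ k : ℕ, X ^ k * (∑ j ∈ range l, X ^ j) = ∑ j ∈ range l, X ^ j := by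
    intro k; induction k with
    | zero => rw [pow_zero, one_mul]
    | succ k ih => rw [pow_succ, mul_assoc, h1, ih]
  refine ⟨h1, ?_⟩
  conv_lhs => rw [Finset.sum_mul]
  simp only [h2, sum_const, card_range]
  rw [Nat.cast_smul_eq_nsmul]

/-- the eigenspace argument with an element of prime order -/
theorem fix_proj {n l : ℕ} (hn : 0 < n) (hl : l.Prime) (hln : l ∣ n) {T A : Matrix Ω Ω ℂ}
    {e₁ e₂ c : ℤ} (hp : e₁ * e₂ = -n) (hc : (n : ℤ) + 1 = c * (e₁ - e₂)) (hle : (l : ℤ) ∣ e₂)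
    (hT : T * T = (n : ℂ) • (1 : Matrix Ω Ω ℂ) + ((e₁ : ℂ) + e₂) • T)
    (hA : A ^ l = 1) (hAT : A * T = T * A)
    (htr : ∀ j < l, (A ^ j).trace = 1 + if j = 0 then (n : ℂ) else 0)
    (τ : ℕ → ℂ) (hτ : ∀ j < l, (T * A ^ j).trace = n * τ j) (hτ0 : τ 0 = 0)
    (hτi : ∀ j < l, IsIntegral ℤ (τ j)) (hτn : ∀ j < l, ‖τ j‖ ≤ 1) :
    A * (T - (e₁ : ℂ) • 1) = T - (e₁ : ℂ) • 1 := by
  obtain ⟨m, rfl⟩ := hln
  have hl0 : (l : ℂ) ≠ 0 := by exact_mod_cast hl.ne_zero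
  have hm0 : 0 < m := Nat.pos_of_mul_pos_left hn
  have hne : e₂ ≠ e₁ := by
    intro h; rw [h, sub_self, mul_zero] at hc; omega
  have hne' : (e₂ : ℂ) ≠ e₁ := by exact_mod_cast hne
  have h0 : (e₂ : ℂ) - e₁ ≠ 0 := sub_ne_zero.2 hne'
  have hp' : (e₁ : ℂ) * e₂ = -((l * m : ℕ) : ℂ) := by exact_mod_cast congrArg (Int.cast : ℤ → ℂ) hp
  have hT' : T * T = (-((e₂ : ℂ) * e₁)) • (1 : Matrix Ω Ω ℂ) + ((e₂ : ℂ) + e₁) • T := by
    rw [hT, mul_comm (e₂ : ℂ), hp', neg_neg, add_comm (e₂ : ℂ)]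
  obtain ⟨hP, hTP⟩ := proj_idem hne' hT'
  set P := ((e₂ : ℂ) - e₁)⁻¹ • (T - (e₁ : ℂ) • (1 : Matrix Ω Ω ℂ)) with hPd
  have hAP : Commute A P := by
    rw [Commute, SemiconjBy, hPd, Matrix.mul_smul, Matrix.smul_mul, mul_sub, sub_mul, hAT,
      Matrix.mul_smul, Matrix.smul_mul, mul_one, one_mul]
  have he2 : e₂ ≠ 0 := by rintro rfl; rw [mul_zero] at hp; omega
  -- for each nontrivial root, P kills the eigenprojector
  have key : ∀ ζ : ℂ, IsPrimitiveRoot ζ l → P * (∑ j ∈ range l, (ζ • A) ^ j) = 0 := by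
    intro ζ hζ
    have hX : (ζ • A) ^ l = 1 := by rw [smul_pow, hζ.pow_eq_one, hA, one_smul]
    obtain ⟨-, hE⟩ := geom_idem hX
    set E := ∑ j ∈ range l, (ζ • A) ^ j with hEd
    have hPE : P * E = E * P := by
      refine (Commute.sum_right _ _ _ fun j _ => ?_)
      exact ((hAP.symm.smul_right ζ).pow_right j)
    have htE : E.trace = l * m := by
      rw [hEd, Matrix.trace_sum]
      have : ∀ j ∈ range l, ((ζ • A) ^ j).trace =
          ζ ^ j + if j = 0 then ((l * m : ℕ) : ℂ) else 0 := by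
        intro j hj
        rw [smul_pow, Matrix.trace_smul, htr j (mem_range.1 hj), smul_eq_mul]
        split_ifs with h
        · rw [h, pow_zero, one_mul]
        · ring
      rw [sum_congr rfl this, sum_add_distrib, hζ.geom_sum_eq_zero hl.one_lt, sum_ite_eq',
        if_pos (mem_range.2 hl.pos)]
      push_cast; ring
    set σ := ∑ j ∈ range l, ζ ^ j * τ j with hσ
    have htTE : (T * E).trace = l * m * σ := by
      rw [hEd, Finset.mul_sum, Matrix.trace_sum, hσ, Finset.mul_sum]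
      refine sum_congr rfl fun j hj => ?_
      rw [smul_pow, Matrix.mul_smul, Matrix.trace_smul, hτ j (mem_range.1 hj), smul_eq_mul]
      push_cast; ring
    have hσi : IsIntegral ℤ σ := IsIntegral.sum _ fun j hj =>
      ((hζ.isIntegral hl.pos).pow j).mul (hτi j (mem_range.1 hj))
    have hσn : ‖σ‖ < l := by
      have hζn : ‖ζ‖ = 1 := hζ.norm'_eq_one hl.ne_zero
      calc ‖σ‖ ≤ ∑ j ∈ range l, ‖ζ ^ j * τ j‖ := norm_sum_le _ _
        _ < ∑ j ∈ range l, (1 : ℝ) := by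
          refine sum_lt_sum (fun j hj => ?_) ⟨0, mem_range.2 hl.pos, by simp [hτ0]⟩
          rw [norm_mul, norm_pow, hζn, one_pow, one_mul]; exact hτn j (mem_range.1 hj)
        _ = l := by simp
    -- y = tr (P π), x = tr ((1-P) π)
    obtain ⟨y, hy, hy0, -⟩ := idem ((l : ℂ)⁻¹ • (P * E)) (by
      rw [Matrix.smul_mul, Matrix.mul_smul, mul_assoc, ← mul_assoc E, ← hPE, mul_assoc, hE,
        Matrix.mul_smul, Matrix.mul_smul, ← mul_assoc, hP, smul_smul (l : ℂ)⁻¹ (l : ℂ),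
        inv_mul_cancel₀ hl0, one_smul])
    obtain ⟨x, hx, -⟩ := idem ((l : ℂ)⁻¹ • ((1 - P) * E)) (by
      have h1 : (1 - P) * E = E * (1 - P) := by rw [sub_mul, mul_sub, hPE, one_mul, mul_one]
      have h2 : (1 - P) * (1 - P) = 1 - P := by
        rw [sub_mul, mul_sub, mul_sub, hP]; simp
      rw [Matrix.smul_mul, Matrix.mul_smul, mul_assoc, ← mul_assoc E, ← h1, mul_assoc, hE,
        Matrix.mul_smul, Matrix.mul_smul, ← mul_assoc, h2, smul_smul (l : ℂ)⁻¹ (l : ℂ),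
        inv_mul_cancel₀ hl0, one_smul])
    have hy1 : (P * E).trace = ((e₂ : ℂ) - e₁)⁻¹ * (l * m * σ - e₁ * (l * m)) := by
      rw [hPd, Matrix.smul_mul, Matrix.trace_smul, sub_mul, Matrix.trace_sub, htTE, Matrix.smul_mul,
        one_mul, Matrix.trace_smul, htE, smul_eq_mul, smul_eq_mul]
    have hxy : x + y = m := by
      have : (x : ℂ) + y = m := by
        rw [← hx, ← hy, sub_mul, one_mul, Matrix.trace_smul, Matrix.trace_smul, Matrix.trace_sub,
          htE, smul_eq_mul, smul_eq_mul]; field_simp; ring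
      exact_mod_cast this
    have hy2 : σ * (m : ℤ) = ((y * (e₂ - e₁) + e₁ * m : ℤ) : ℂ) := by
      rw [Matrix.trace_smul, hy1, smul_eq_mul] at hy
      push_cast; rw [← hy]; field_simp; ring
    obtain ⟨s, hs⟩ := int_of_mul hσi (by exact_mod_cast hm0.ne') hy2
    have hy3 : s * m = y * (e₂ - e₁) + e₁ * m := by
      rw [hs] at hy2; exact_mod_cast hy2
    have hsl : |s| < l := by
      rw [hs, Complex.norm_intCast] at hσn; exact_mod_cast hσn
    have hmy : (m : ℤ) ∣ y := by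
      refine ⟨-(c * (s - e₁)) - l * y, ?_⟩
      push_cast at hc
      linear_combination (y : ℤ) * hc + c * hy3
    have hy4 : y = 0 := by
      by_contra hy5
      have h1 : m ≤ y := Nat.le_of_dvd (Nat.pos_of_ne_zero hy5) (by exact_mod_cast hmy)
      have h2 : y = m := by omega
      rw [h2] at hy3
      have h3 : s = e₂ := by
        have : (s - e₂) * m = 0 := by linear_combination hy3
        have hm' : (m : ℤ) ≠ 0 := by exact_mod_cast hm0.ne'
        exact sub_eq_zero.1 ((mul_eq_zero.1 this).resolve_right hm')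
      have h4 := Int.le_of_dvd (abs_pos.2 he2) ((dvd_abs _ _).2 hle)
      rw [h3] at hsl; omega
    have := hy0 hy4
    rwa [smul_eq_zero, inv_eq_zero, or_iff_right hl0] at this
  have hω := Complex.isPrimitiveRoot_exp l hl.ne_zero
  set ω := Complex.exp (2 * Real.pi * Complex.I / l)
  have hsum : ∑ k ∈ range l, ∑ j ∈ range l, ((ω ^ k) • A) ^ j = (l : ℂ) • (1 : Matrix Ω Ω ℂ) := by
    rw [sum_comm]
    have : ∀ j ∈ range l, ∑ k ∈ range l, ((ω ^ k) • A) ^ j =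
        if j = 0 then (l : ℂ) • (1 : Matrix Ω Ω ℂ) else 0 := by
      intro j hj
      simp only [smul_pow, ← Finset.sum_smul]
      split_ifs with h
      · subst h; simp
      · have hj' : IsPrimitiveRoot (ω ^ j) l := hω.pow_of_coprime j
          (Nat.coprime_of_lt_prime h (mem_range.1 hj) hl).symm
        have := hj'.geom_sum_eq_zero hl.one_lt
        simp only [← pow_mul] at this ⊢
        simp only [mul_comm j] at this
        rw [this, zero_smul]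
    rw [sum_congr rfl this, sum_ite_eq', if_pos (mem_range.2 hl.pos)]
  have h1 : (l : ℂ) • P = P * ∑ j ∈ range l, A ^ j := by
    have h2 : P * ((l : ℂ) • (1 : Matrix Ω Ω ℂ)) = (l : ℂ) • P := by rw [Matrix.mul_smul, mul_one]
    rw [← h2, ← hsum, Finset.mul_sum, sum_eq_single 0]
    · simp
    · intro k hk hk0
      exact key _ (hω.pow_of_coprime k
        (Nat.coprime_of_lt_prime hk0 (mem_range.1 hk) hl).symm)
    · intro h; exact absurd (mem_range.2 hl.pos) h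
  have h3 : A * P = P := by
    have h4 : (l : ℂ) • (A * P) = (l : ℂ) • P := by
      rw [← Matrix.mul_smul, h1, ← mul_assoc, hAP.eq, mul_assoc, (geom_idem hA).1]
    exact smul_right_injective _ hl0 h4
  have h5 : T - (e₁ : ℂ) • 1 = ((e₂ : ℂ) - e₁) • P := by
    rw [hPd, smul_smul, mul_inv_cancel₀ h0, one_smul]
  rw [h5, Matrix.mul_smul, h3]

end Mat

end H21.KSR
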