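import Cfsg.Agent.H21.KSR1
import Cfsg.Agent.H21.Feit2
import Cfsg.Agent.H17.Defect
import Cfsg.Agent.H17.Induce
import Cfsg.Agent.H15.KSG

set_option autoImplicit false
open Finset MulAction Cfsg H4
open scoped ComplexConjugate

namespace H21.KSR

section Char
variable {G : Type*} [Group G]

theorem split_two [Fintype G] {θ : G → ℂ} (hθ : IsCharacter G θ) (h : classInner θ θ = 2) :
    ∃ ψ₁ ψ₂ : G → ℂ, IsIrrCharacter G ψ₁ ∧ IsIrrCharacter G ψ₂ ∧ θ = ψ₁ + ψ₂ ∧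
      classInner ψ₁ θ = 1 ∧ classInner ψ₂ θ = 1 := by
  have h0 : θ ≠ 0 := by rintro rfl; rw [classInner_zero_left] at h; norm_num at h
  obtain ⟨ψ, hψ, hne⟩ := hθ.classFun.exists_irr_inner_ne_zero h0
  obtain ⟨m, hm⟩ := hθ.inner_nat hψ.isCharacter
  have hm' : classInner ψ θ = m := by rw [← hθ.inner_comm hψ.isCharacter, hm]
  have hφ := hθ.sub_irr hψ hne
  obtain ⟨k, hk⟩ := hφ.inner_nat hφ
  have hk' := hk
  rw [classInner_sub_left, classInner_sub_right, classInner_sub_right, h, hm, hm', hψ.inner_self] at hk'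
  have h1 : k + 2 * m = 3 := by
    have : (k : ℂ) + 2 * m = 3 := by rw [← hk']; ring
    exact_mod_cast this
  have h2 : m ≠ 0 := by rintro rfl; exact hne (by rw [hm, Nat.cast_zero])
  have h3 : m = 1 := by omega
  have h4 : k = 1 := by omega
  refine ⟨ψ, θ - ψ, hψ, H5.isIrr_of_inner_self hφ (by rw [hk, h4, Nat.cast_one]), by ring,
    by rw [hm', h3, Nat.cast_one], ?_⟩
  rw [classInner_sub_left, h, hm', h3]; norm_num

theorem pair_irr [Fintype G] {χ : G → ℂ} (hχ : IsIrrCharacter G χ) (a b : G) :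
    ∑ x : G, ∑ y : G, χ (x * a * x⁻¹ * (y * b * y⁻¹)) =
      (Nat.card G : ℂ) ^ 2 * (χ a * χ b / χ 1) := by
  rw [hχ.classFun.sum_conj_mul_conj, sum_eq_single ⟨χ, hχ⟩, hχ.inner_self, one_mul]
  · intro ψ _ hψ
    rw [hχ.inner_of_ne ψ.2 (fun h => hψ (Subtype.ext h.symm)), zero_mul]
  · intro h; exact absurd (mem_univ _) h

theorem int_invol [Finite G] {χ : G → ℂ} (hχ : IsCharacter G χ) {t : G} (ht : t * t = 1) :
    ∃ c : ℤ, χ t = c := by
  obtain ⟨n, ω, -, h1, h2⟩ := hχ.exists_eigenvalues t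
  have h3 : ∀ i, ∃ c : ℤ, ω i = c := by
    intro i
    obtain ⟨k, hk⟩ := orderOf_dvd_of_pow_eq_one (x := t) (n := 2) (by rw [pow_two, ht])
    have : ω i ^ 2 = 1 := by rw [hk, pow_mul, h1, one_pow]
    rcases mul_self_eq_one_iff.1 (show ω i * ω i = 1 by rw [← pow_two]; exact this) with h | h
    · exact ⟨1, by rw [h]; simp⟩
    · exact ⟨-1, by rw [h]; simp⟩
  choose c hc using h3
  refine ⟨∑ i, c i, ?_⟩
  have := h2 1
  simp only [pow_one] at this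
  rw [this]; push_cast; exact sum_congr rfl fun i _ => hc i

theorem vanish' [Finite G] {χ : G → ℂ} (hχ : IsIrrCharacter G χ) {f p k : ℕ} (hp : p.Prime)
    (hf : χ 1 = f) (h1 : p ^ k ∣ f) (h2 : ¬ p ^ (k + 1) ∣ Nat.card G) {g : G}
    (hg : p ∣ orderOf g) : χ g = 0 := by
  haveI := Fact.mk hp
  obtain ⟨M, hM⟩ := H17.exists_PM p
  have hd : H17.deg (⟨χ, hχ⟩ : H17.Irr G) = f := by
    have := H17.deg_eq (⟨χ, hχ⟩ : H17.Irr G)
    rw [show (⟨χ, hχ⟩ : H17.Irr G).1 1 = f from hf] at this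
    exact_mod_cast this
  refine H17.eq_zero_of_defect_zero M (χ := ⟨χ, hχ⟩) ?_ hg
  have h3 := (hp.pow_dvd_iff_le_factorization (H17.deg_ne_zero ⟨χ, hχ⟩)).1 (hd ▸ h1)
  have h4 := (hp.pow_dvd_iff_le_factorization (Nat.card_pos (α := G)).ne').not.1 h2
  omega

theorem nil_mixed {H : Type*} [Group H] [Finite H] [Group.IsNilpotent H] {p q : ℕ} (hp : p.Prime)
    (hq : q.Prime) (h1 : p ∣ Nat.card H) (h2 : q ∣ Nat.card H) :
    ∃ u : H, p ∣ orderOf u ∧ q ∣ orderOf u := by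
  haveI := Fact.mk hp
  haveI := Fact.mk hq
  obtain ⟨x, hx⟩ := exists_prime_orderOf_dvd_card' p h1
  by_cases hpq : p = q
  · exact ⟨x, hx ▸ dvd_rfl, hpq ▸ hx ▸ dvd_rfl⟩
  obtain ⟨y, hy⟩ := exists_prime_orderOf_dvd_card' q h2
  have hP : IsPGroup p (Subgroup.zpowers x) :=
    IsPGroup.of_card (n := 1) (by rw [Nat.card_zpowers, hx, pow_one])
  have hQ : IsPGroup q (Subgroup.zpowers y) :=
    IsPGroup.of_card (n := 1) (by rw [Nat.card_zpowers, hy, pow_one])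
  obtain ⟨P, hP'⟩ := hP.exists_le_sylow
  obtain ⟨Q, hQ'⟩ := hQ.exists_le_sylow
  have hc : Commute x y := Subgroup.commute_of_normal_of_disjoint (P : Subgroup H) Q inferInstance
    inferInstance (IsPGroup.disjoint_of_ne p q hpq _ _ P.isPGroup' Q.isPGroup') x y
    (hP' (Subgroup.mem_zpowers x)) (hQ' (Subgroup.mem_zpowers y))
  have := hc.orderOf_mul_eq_mul_orderOf_of_coprime (by rw [hx, hy]; exact (Nat.coprime_primes hp hq).2 hpq)
  exact ⟨x * y, by rw [this, hx]; exact dvd_mul_right _ _, by rw [this, hy]; exact dvd_mul_left _ _⟩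

theorem one_side [Finite G] {ψ₁ ψ₂ : G → ℂ} (h₂ : IsIrrCharacter G ψ₂) (U : Subgroup G) [Fintype U]
    {f₁ f₂ d : ℕ} (hf₁ : ψ₁ 1 = f₁) (hf₂ : ψ₂ 1 = f₂) (hs : f₁ + f₂ = (Nat.card U + 1) * d)
    (hu : ∀ u ∈ U, u ≠ 1 → ψ₁ u + ψ₂ u = d)
    (hi : (d : ℝ) ≤ (classInner (fun u : U => ψ₁ u) (fun _ => 1)).re)
    (hv : ∀ u ∈ U, u ≠ 1 → ψ₁ u = 0) (hgen : Subgroup.normalClosure (U : Set G) = ⊤) :
    ψ₂ = fun _ => 1 := by
  have h1 : classInner (fun u : U => ψ₁ u) (fun _ => 1) = (((f₁ : ℝ) / Nat.card U : ℝ) : ℂ) := by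
    rw [classInner_def, sum_eq_single 1]
    · simp only [OneMemClass.coe_one, hf₁, map_one]; push_cast; ring
    · intro u _ hu1; rw [hv u u.2 (fun h => hu1 (Subtype.ext h)), zero_mul]
    · intro h; exact absurd (mem_univ _) h
  rw [h1, Complex.ofReal_re, le_div_iff₀ (by exact_mod_cast Nat.card_pos)] at hi
  have h2 : d * Nat.card U ≤ f₁ := by exact_mod_cast hi
  have h3 : f₂ ≤ d := by nlinarith
  have h4 : U ≤ H5.charKer ψ₂ := by
    intro u huU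
    rw [H5.mem_charKer_iff h₂.isCharacter]
    by_cases hu1 : u = 1
    · rw [hu1]
    have h5 := hu u huU hu1
    rw [hv u huU hu1, zero_add] at h5
    have h6 := h₂.isCharacter.norm_le u
    rw [h5, hf₂, Complex.norm_natCast, Complex.natCast_re] at h6
    have h7 : d ≤ f₂ := by exact_mod_cast h6
    rw [h5, hf₂, le_antisymm h3 h7]
  haveI := H5.charKer_normal h₂.classFun
  have h8 : Subgroup.normalClosure (U : Set G) ≤ H5.charKer ψ₂ := Subgroup.normalClosure_le_normal h4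
  refine h₂.eq_one_of_forall_apply_eq fun g => H5.apply_of_mem_charKer (h8 ?_)
  rw [hgen]; trivial

theorem side_of [Finite G] {ψ : G → ℂ} (h : IsIrrCharacter G ψ) {n m f f' p : ℕ} {c e d : ℤ}
    (hn : n ≠ 0) (hG : Nat.card G = (n + 1) * (n * m)) (hcop : m.Coprime n) (hf : ψ 1 = f)
    (he : e ∣ m) (heq : (f : ℤ) * f' * e ^ 2 = n * c ^ 2 * d ^ 2) (hp : p.Prime) (hpn : p ∣ n)
    (hf' : ¬ p ∣ f') {g : G} (hg : p ∣ orderOf g) : ψ g = 0 := by
  have hpm : p.Coprime m := (hcop.coprime_dvd_right hpn).symm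
  have hp1 : p.Coprime (n + 1) := by
    rw [Nat.coprime_comm]; exact Nat.Coprime.coprime_dvd_right hpn (by simp)
  refine vanish' h hp (k := n.factorization p) hf ?_ ?_ hg
  · have h1 : p ^ n.factorization p ∣ f * (f' * e.natAbs ^ 2) := by
      have h2 := congrArg Int.natAbs heq
      simp only [Int.natAbs_mul, Int.natAbs_pow, Int.natAbs_natCast] at h2
      rw [← mul_assoc, h2, mul_assoc]
      exact (Nat.ordProj_dvd n p).mul_right _
    refine Nat.Coprime.dvd_of_dvd_mul_right (Nat.Coprime.pow_left _ ?_) h1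
    refine Nat.Coprime.mul_right ((Nat.Prime.coprime_iff_not_dvd hp).2 hf') (Nat.Coprime.pow_right _ ?_)
    exact hpm.coprime_dvd_right (Int.natAbs_dvd_natAbs.2 he)
  · rw [hG]
    intro h1
    have h2 := (Nat.Coprime.pow_left _ hp1).dvd_of_dvd_mul_left h1
    exact Nat.pow_succ_factorization_not_dvd hn hp ((Nat.Coprime.pow_left _ hpm).dvd_of_dvd_mul_right h2)

theorem endgame [Finite G] {ψ₁ ψ₂ : G → ℂ} (h₁ : IsIrrCharacter G ψ₁) (h₂ : IsIrrCharacter G ψ₂)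
    (U : Subgroup G) [Fintype U] (hU : Group.IsNilpotent U) {m f₁ f₂ d : ℕ} {c e : ℤ}
    (hG : Nat.card G = (Nat.card U + 1) * (Nat.card U * m)) (hcop : m.Coprime (Nat.card U))
    (hf₁ : ψ₁ 1 = f₁) (hf₂ : ψ₂ 1 = f₂) (hs : f₁ + f₂ = (Nat.card U + 1) * d) (hd0 : d ≠ 0)
    (hd : d ∣ m) (he : e ∣ m) (heq : (f₁ : ℤ) * f₂ * e ^ 2 = Nat.card U * c ^ 2 * d ^ 2)
    (hu : ∀ u ∈ U, u ≠ 1 → ψ₁ u + ψ₂ u = d)
    (hi₁ : (d : ℝ) ≤ (classInner (fun u : U => ψ₁ u) (fun _ => 1)).re)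
    (hi₂ : (d : ℝ) ≤ (classInner (fun u : U => ψ₂ u) (fun _ => 1)).re)
    (hgen : Subgroup.normalClosure (U : Set G) = ⊤) :
    (ψ₁ = fun _ => 1) ∨ ψ₂ = fun _ => 1 := by
  have hn : Nat.card U ≠ 0 := Nat.card_pos.ne'
  have hside : ∀ p, p.Prime → p ∣ Nat.card U →
      (∀ g : G, p ∣ orderOf g → ψ₁ g = 0) ∨ ∀ g : G, p ∣ orderOf g → ψ₂ g = 0 := by
    intro p hp hpn
    by_cases h : p ∣ f₂
    · refine Or.inr fun g hg => side_of h₂ (f' := f₁) hn hG hcop hf₂ he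
        (by rw [← heq]; ring) hp hpn (fun h' => ?_) hg
      have h1 : p ∣ (Nat.card U + 1) * d := hs ▸ dvd_add h' h
      rcases (Nat.Prime.dvd_mul hp).1 h1 with h2 | h2
      · exact hp.one_lt.ne' (Nat.dvd_one.1 ((Nat.dvd_add_right hpn).1 h2))
      · exact hp.one_lt.ne' (Nat.eq_one_of_dvd_coprimes hcop (h2.trans hd) hpn)
    · exact Or.inl fun g hg => side_of h₁ hn hG hcop hf₁ he heq hp hpn h hg
  have hmix : ∀ p q, p.Prime → q.Prime → p ∣ Nat.card U → q ∣ Nat.card U →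
      (∀ g : G, p ∣ orderOf g → ψ₁ g = 0) → (∀ g : G, q ∣ orderOf g → ψ₂ g = 0) → False := by
    intro p q hp hq hpn hqn h1 h2
    obtain ⟨u, hu1, hu2⟩ := nil_mixed hp hq hpn hqn
    rw [← Subgroup.orderOf_coe] at hu1 hu2
    have h3 := hu u u.2 (fun h => by
      rw [h, orderOf_one] at hu1; exact hp.one_lt.ne' (Nat.dvd_one.1 hu1))
    rw [h1 _ hu1, h2 _ hu2, add_zero] at h3
    exact hd0 (by exact_mod_cast h3.symm)
  have hpr : ∀ u ∈ U, u ≠ 1 → ∃ p, p.Prime ∧ p ∣ Nat.card U ∧ p ∣ orderOf u := by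
    intro u hu hu1
    refine ⟨_, Nat.minFac_prime (n := orderOf u) (by rwa [Ne, orderOf_eq_one_iff]), ?_,
      Nat.minFac_dvd _⟩
    exact (Nat.minFac_dvd _).trans (Subgroup.orderOf_dvd_natCard U hu)
  by_cases h : ∃ q, q.Prime ∧ q ∣ Nat.card U ∧ ∀ g : G, q ∣ orderOf g → ψ₂ g = 0
  · obtain ⟨q, hq, hqn, h2⟩ := h
    refine Or.inl (one_side h₁ U hf₂ hf₁ (by rw [add_comm, hs]) (fun u hu' h => by
      rw [add_comm, hu u hu' h]) hi₂ (fun u hu' h => ?_) hgen)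
    obtain ⟨p, hp, hpn, hpu⟩ := hpr u hu' h
    exact ((hside p hp hpn).resolve_left fun h1 => hmix p q hp hq hpn hqn h1 h2) u hpu
  · refine Or.inr (one_side h₂ U hf₁ hf₂ hs hu hi₁ (fun u hu' h' => ?_) hgen)
    obtain ⟨p, hp, hpn, hpu⟩ := hpr u hu' h'
    exact ((hside p hp hpn).resolve_right fun h1 => h ⟨p, hp, hpn, h1⟩) u hpu

end Char

end H21.KSR
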