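import Mathlib
import Cfsg.Agent.H21.Eng6
import Cfsg.Agent.H18.D1g

/-! Permutation representations on labelled points, evaluated on tables. -/

set_option autoImplicit false
set_option linter.unusedSectionVars false

open Cfsg H4 H17 H18 Subgroup MulAction
open scoped Classical

namespace H21.Eng

section Rep

variable {G : Type*} [Group G] {n : ℕ} (φ : G →* Equiv.Perm (Fin n))

/-- The action on labels. -/
def fn (g : G) (i : ℕ) : ℕ := if h : i < n then φ g ⟨i, h⟩ else 0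

/-- `g` acts on labels as `F`. -/
def Rep (g : G) (F : ℕ → ℕ) : Prop := ∀ i < n, fn φ g i = F i

variable {φ}

theorem fn_val (g : G) (i : Fin n) : fn φ g i = φ g i := dif_pos i.2

theorem fn_lt (g : G) {i : ℕ} (h : i < n) : fn φ g i < n := by
  rw [fn, dif_pos h]; exact Fin.is_lt _

theorem fn_mul (g h : G) {i : ℕ} (hi : i < n) : fn φ (g * h) i = fn φ g (fn φ h i) := by
  rw [fn_val (g * h) ⟨i, hi⟩, fn_val h ⟨i, hi⟩, fn_val, map_mul, Equiv.Perm.mul_apply]

theorem fn_one {i : ℕ} (hi : i < n) : fn φ 1 i = i := by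
  rw [fn_val 1 ⟨i, hi⟩, map_one, Equiv.Perm.one_apply]

theorem fn_inj (g : G) {i j : ℕ} (hi : i < n) (hj : j < n) (h : fn φ g i = fn φ g j) : i = j := by
  rw [← fn_one (φ := φ) hi, ← inv_mul_cancel g, fn_mul _ _ hi, h, ← fn_mul _ _ hj, inv_mul_cancel,
    fn_one hj]

variable {g h : G} {F H : ℕ → ℕ}

theorem Rep.lt (a : Rep φ g F) {i : ℕ} (hi : i < n) : F i < n := a i hi ▸ fn_lt g hi

theorem Rep.one : Rep φ 1 id := fun _ => fn_one

theorem Rep.mul (a : Rep φ g F) (b : Rep φ h H) : Rep φ (g * h) (F ∘ H) := fun i hi => by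
  rw [fn_mul _ _ hi, b i hi, a _ (b.lt hi), Function.comp_apply]

theorem Rep.pow (a : Rep φ g F) (k : ℕ) : Rep φ (g ^ k) F^[k] := by
  induction k with
  | zero => rw [pow_zero]; exact Rep.one
  | succ k ih => rw [pow_succ]; exact ih.mul a

theorem Rep.congr (a : Rep φ g F) (e : ∀ i < n, F i = H i) : Rep φ g H := fun i hi =>
  (a i hi).trans (e i hi)

theorem Rep.eq_iff (hφ : Function.Injective φ) (a : Rep φ g F) (b : Rep φ h H) :
    g = h ↔ ∀ i < n, F i = H i :=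
  ⟨fun e i hi => by rw [← a i hi, ← b i hi, e], fun e => hφ (Equiv.ext fun i => Fin.ext (by
    rw [← fn_val, ← fn_val, a i i.2, b i i.2, e i i.2]))⟩

theorem Rep.conj (a : Rep φ g F) (σ : Equiv.Perm (Fin n)) {s : ℕ → ℕ} (hs : ∀ i, (σ i : ℕ) = s i)
    (e : ∀ i < n, H (s i) = s (F i)) : Rep ((MulAut.conj σ).toMonoidHom.comp φ) g H := fun i hi => by
  obtain ⟨j, hj⟩ := σ.surjective ⟨i, hi⟩
  rw [fn_val g ⟨i, hi⟩, ← hj, show H i = H (s j) by rw [← hs, hj], e j j.2, ← a j j.2, fn_val, ← hs]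
  simp

theorem exists_rep_evw {gs : List G} {fs : List (ℕ → ℕ)} (a : List.Forall₂ (Rep φ) gs fs)
    {Y : Subgroup G} (hY : ∀ g ∈ gs, g ∈ Y) (l : List ℕ) : ∃ g ∈ Y, Rep φ g (evw fs l) := by
  induction l with
  | nil => exact ⟨1, one_mem _, Rep.one⟩
  | cons i l ih =>
    obtain ⟨g, h1, h2⟩ := ih
    by_cases hi : i < gs.length
    · have hi' := a.length_eq ▸ hi
      refine ⟨gs[i] * g, mul_mem (hY _ (List.getElem_mem hi)) h1,
        (((List.forall₂_iff_get.1 a).2 i hi hi').mul h2).congr fun y _ => ?_⟩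
      simp [evw, List.getD_eq_getElem?_getD, hi']
    · refine ⟨g, h1, h2.congr fun y _ => ?_⟩
      rw [evw, List.getD_eq_default _ _ (by rw [← a.length_eq]; omega), id]

/-- The group generated by permutations given as functions. -/
def cl (n : ℕ) (fs : List (ℕ → ℕ)) : Subgroup (Equiv.Perm (Fin n)) :=
  closure {P | ∃ F ∈ fs, ∀ i, (P i : ℕ) = F i}

theorem iso_cl (hφ : Function.Injective φ) {gs : List G} {fs : List (ℕ → ℕ)}
    (a : List.Forall₂ (Rep φ) gs fs) (hg : closure {g | g ∈ gs} = ⊤) : Nonempty (G ≃* cl n fs) := by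
  refine ⟨(MonoidHom.ofInjective hφ).trans (MulEquiv.subgroupCongr ?_)⟩
  rw [MonoidHom.range_eq_map, ← hg, MonoidHom.map_closure, cl]
  congr 1
  clear hg
  ext P
  induction a with
  | nil => simp
  | @cons g F _ _ h _ ih =>
    simp only [List.mem_cons, Set.setOf_or, Set.image_union, Set.mem_union, ih, Set.mem_setOf_eq,
      exists_eq_or_imp, Set.setOf_eq_eq_singleton, Set.image_singleton, Set.mem_singleton_iff]
    refine or_congr_left ⟨fun e i => by rw [e, ← fn_val, h i i.2], fun e => Equiv.ext fun i =>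
      Fin.ext (by rw [e, ← fn_val, h i i.2])⟩

/-! Tables. -/

def enc : List ℕ → ℕ
  | [] => 0
  | a :: l => a + 32 * enc l

def ap (T i : ℕ) : ℕ := T >>> (5 * i) % 32

theorem ap_enc {l : List ℕ} (h : ∀ a ∈ l, a < 32) (i : ℕ) : ap (enc l) i = l.getD i 0 := by
  induction l generalizing i with
  | nil => simp [ap, enc]
  | cons a l ih =>
    have h1 := h a List.mem_cons_self
    rcases i with _ | i
    · simp only [ap, enc, mul_zero, Nat.shiftRight_zero, List.getD_cons_zero]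
      omega
    · rw [List.getD_cons_succ, ← ih fun b hb => h b (List.mem_cons_of_mem _ hb), ap, ap, enc,
        mul_add, add_comm (5 * i), Nat.shiftRight_add, Nat.shiftRight_eq_div_pow (a + _),
        show (a + 32 * enc l) / 2 ^ (5 * 1) = enc l by omega]

def tab (n : ℕ) (F : ℕ → ℕ) : ℕ := enc ((List.range n).map F)

theorem Rep.tab (a : Rep φ g F) (hn : n ≤ 32) : Rep φ g (ap (tab n F)) := a.congr fun i hi => by
  rw [Eng.tab, ap_enc fun b hb => by
    obtain ⟨j, hj, rfl⟩ := List.mem_map.1 hb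
    exact (a.lt (List.mem_range.1 hj)).trans_le hn]
  simp [List.getD_eq_getElem?_getD, hi]

/-- An intertwiner is determined by its values at orbit representatives. -/
def cnd (n : ℕ) (W : ℕ → ℕ) (lg rp : ℕ → ℕ) (v : List ℕ) : ℕ :=
  tab n fun y => W^[lg y] (v.getD (rp y) 0)

theorem fn_iter {w w' f : G} {W W' : ℕ → ℕ} (a : Rep φ w W) (b : Rep φ w' W')
    (e : f * w * f⁻¹ = w') (k : ℕ) {y : ℕ} (hy : y < n) :
    fn φ f (W^[k] y) = W'^[k] (fn φ f y) := by
  rw [← a.pow k y hy, ← b.pow k _ (fn_lt f hy), ← fn_mul _ _ hy, ← fn_mul _ _ hy, ← e, conj_pow,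
    inv_mul_cancel_right]

theorem rep_cnd {w w' f : G} {W W' : ℕ → ℕ} (a : Rep φ w W) (b : Rep φ w' W')
    (e : f * w * f⁻¹ = w') (hn : n ≤ 32) {lg rp : ℕ → ℕ} {reps : List ℕ}
    (hr : ∀ y < n, rp y < reps.length ∧ reps.getD (rp y) 0 < n ∧
      W^[lg y] (reps.getD (rp y) 0) = y) : Rep φ f (ap (cnd n W' lg rp (reps.map (fn φ f)))) :=
  Rep.tab (fun y hy => by
    obtain ⟨h1, h2, h3⟩ := hr y hy
    conv_lhs => rw [← h3, fn_iter a b e _ h2]
    simp [List.getD_eq_getElem?_getD, h1]) hn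

def orb (W : ℕ → ℕ) (m A : ℕ) : List ℕ := (List.range m).map fun k => W^[k] A

theorem not_mem_orb {w w' f : G} {W W' : ℕ → ℕ} (a : Rep φ w W) (b : Rep φ w' W')
    (e : f * w * f⁻¹ = w') {m y z : ℕ} (hy : y < n) (hz : z < n) (h : z ∉ orb W m y) :
    (orb W' m (fn φ f y)).contains (fn φ f z) ≠ true := fun c => by
  obtain ⟨k, hk, c⟩ := List.mem_map.1 (List.contains_iff_mem.1 c)
  rw [← fn_iter a b e k hy] at c
  exact h (List.mem_map.2 ⟨k, hk, fn_inj f ((a.pow k).lt hy) hz c⟩)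

/-! Cycle lengths. -/

def perGo (F : ℕ → ℕ) (y : ℕ) : ℕ → ℕ → ℕ → ℕ
  | 0, _, _ => 0
  | k + 1, z, c => if z = y then c else perGo F y k (F z) (c + 1)

theorem perGo_spec {y k c L : ℕ} (h : perGo F y k (F^[c] y) c = L) (h0 : L ≠ 0) :
    F^[L] y = y ∧ ∀ j, c ≤ j → j < L → F^[j] y ≠ y := by
  induction k generalizing c with
  | zero => exact absurd h.symm h0
  | succ k ih =>
    rw [perGo] at h
    split_ifs at h with e
    · subst h
      exact ⟨e, fun j a b => absurd b (by omega)⟩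
    · rw [← Function.iterate_succ_apply' F] at h
      obtain ⟨h1, h2⟩ := ih h
      refine ⟨h1, fun j a b => ?_⟩
      rcases a.eq_or_lt with rfl | a
      exacts [e, h2 j a b]

/-- A word with a cycle whose length divides none of the numbers `Ns`. -/
def badW (n : ℕ) (Ns : List ℕ) (fs : List (ℕ → ℕ)) (c : List ℕ × ℕ) : Bool :=
  decide (c.2 < n) && fN (perGo (evw fs c.1) c.2 n (evw fs c.1 c.2) 1) fun L =>
    L != 0 && Ns.all fun N => N % L != 0

theorem not_badW {gs : List G} {fs : List (ℕ → ℕ)} (a : List.Forall₂ (Rep φ) gs fs) {Ns : List ℕ}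
    (h : ∀ g : G, ∃ N ∈ Ns, g ^ N = 1) (cs : List (List ℕ × ℕ)) :
    cs.any (badW n Ns fs) ≠ true := fun e => by
  obtain ⟨c, -, e⟩ := List.any_eq_true.1 e
  simp only [badW, fN_eq, Bool.and_eq_true, decide_eq_true_eq, bne_iff_ne, List.all_eq_true] at e
  obtain ⟨h1, h2, h3⟩ := e
  obtain ⟨g, -, hg⟩ := exists_rep_evw a (Y := ⊤) (fun _ _ => mem_top _) c.1
  obtain ⟨N, h4, h5⟩ := h g
  obtain ⟨h6, h7⟩ := perGo_spec (c := 1) rfl h2
  simp only [Function.iterate_one] at h6 h7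
  generalize perGo (evw fs c.1) c.2 n (evw fs c.1 c.2) 1 = L at *
  have h8 : (evw fs c.1)^[N] c.2 = c.2 := by rw [← hg.pow N _ h1, h5, fn_one h1]
  have h9 := Nat.gcd_pos_of_pos_left N (Nat.pos_of_ne_zero h2)
  refine h3 N h4 (Nat.mod_eq_zero_of_dvd (Nat.gcd_eq_left_iff_dvd.1 (le_antisymm
    (Nat.gcd_le_left _ (Nat.pos_of_ne_zero h2)) (not_lt.1 fun c => h7 _ h9 c ?_))))
  exact Function.IsPeriodicPt.gcd h6 h8

theorem Rep.dvd_orderOf (a : Rep φ g F) {p y : ℕ} (hp : p.Prime) (hy : y < n) (h1 : F^[p] y = y)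
    (h2 : F y ≠ y) : p ∣ orderOf g := by
  by_contra c
  have h3 : F^[orderOf g] y = y := by rw [← a.pow _ _ hy, pow_orderOf_eq_one, fn_one hy]
  have h4 := Function.IsPeriodicPt.gcd h1 h3
  rw [(hp.coprime_iff_not_dvd.2 c).gcd_eq_one] at h4
  exact h2 h4

end Rep

section Label

variable {G : Type*} [Group G] [Finite G]

theorem exists_phi [IsSimpleGroup G] {K : Subgroup G} (hK : K ≠ ⊤) {n : ℕ} (hn : K.index = n)
    (lab : ℕ → G ⧸ K) (hl : ∀ i < n, ∀ j < n, lab i = lab j → i = j) :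
    ∃ φ : G →* Equiv.Perm (Fin n), Function.Injective φ ∧
      ∀ g, ∀ i < n, lab (fn φ g i) = g • lab i := by
  have hb : Function.Bijective fun i : Fin n => lab i :=
    (Nat.bijective_iff_injective_and_card _).2 ⟨fun i j e => Fin.ext (hl i i.2 j j.2 e), by
      rw [← index_eq_card, hn, Nat.card_fin]⟩
  let e := Equiv.ofBijective _ hb
  refine ⟨(e.symm.permCongrHom : _ ≃* _).toMonoidHom.comp (toPermHom G (G ⧸ K)),
    e.symm.permCongrHom.injective.comp ?_, fun g i hi => ?_⟩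
  · rw [← MonoidHom.ker_eq_bot_iff, ← normalCore_eq_ker, normalCore_eq_bot_of_simple hK]
  · rw [fn_val g ⟨i, hi⟩]
    exact e.apply_symm_apply (g • e ⟨i, hi⟩)

variable {p : ℕ} [hp : Fact p.Prime] {Ω : Type*} [MulAction G Ω] {x : G} (hx : orderOf x = p)
include hx

theorem pow_smul_inj {η : Ω} (h : x • η ≠ η) {i j : ℕ} (e : x ^ i • η = x ^ j • η) :
    i % p = j % p := by
  have h1 : x ^ ((i : ℤ) - j) ∈ stabilizer G η := by
    rw [mem_stabilizer_iff, sub_eq_neg_add, zpow_add, mul_smul, zpow_natCast, e, ← mul_smul,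
      zpow_neg, zpow_natCast, inv_mul_cancel, one_smul]
  by_contra c
  refine h (zpowers_le.2 h1 (mem_zpowers_zpow_iff.2 ?_))
  rw [hx, Int.gcd_comm, Int.gcd_eq_natAbs, Int.natAbs_natCast]
  exact (hp.out.coprime_iff_not_dvd).2 fun d =>
    c ((Nat.modEq_iff_dvd.2 (Int.natCast_dvd.2 d)).symm)

theorem smul_pow_smul {w : G} {k : ℕ} (hw : w * x * w⁻¹ = x ^ k) {η : Ω} (h : w • η = η) (i : ℕ) :
    w • x ^ i • η = x ^ (k * i % p) • η := by
  rw [← hx, pow_mod_orderOf, pow_mul, ← hw, conj_pow, mul_smul, mul_smul,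
    show w⁻¹ • η = η by rw [inv_smul_eq_iff, h]]

theorem pow_smul_ne {w : G} {k : ℕ} (hw : w * x * w⁻¹ = x ^ k) (hk : ∀ i < p, k * i % p = i → i = 0)
    {η η' : Ω} (h : w • η = η) (h' : w • η' = η') (hne : η ≠ η') (h0 : x • η ≠ η) (i j : ℕ) :
    x ^ i • η ≠ x ^ j • η' := fun e => by
  have h1 : η' = x ^ (((p - 1) * j + i) % p) • η := by
    rw [← hx, pow_mod_orderOf, pow_add, mul_smul, e, ← mul_smul, ← pow_add, ← add_one_mul,
      Nat.sub_add_cancel (hx ▸ hp.out.pos), pow_mul, pow_orderOf_eq_one, one_pow, one_smul]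
  have h2 := pow_smul_inj hx h0 ((smul_pow_smul hx hw h _).symm.trans (by rw [← h1, h', h1]))
  rw [Nat.mod_mod, Nat.mod_mod] at h2
  rw [hk _ (Nat.mod_lt _ hp.out.pos) h2, pow_zero, one_smul] at h1
  exact hne h1.symm

theorem le_card_fix [Finite Ω] : Nat.card Ω % p ≤ Nat.card {a : Ω // x • a = a} := by
  have h1 : IsPGroup p (zpowers x) := IsPGroup.of_card (n := 1) (by rw [Nat.card_zpowers, hx, pow_one])
  rw [h1.card_modEq_card_fixedPoints Ω]
  exact (Nat.mod_le _ _).trans (Nat.card_le_card_of_injective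
    (fun a => ⟨a.1, a.2 ⟨x, mem_zpowers x⟩⟩) fun a b e => Subtype.ext (Subtype.mk.inj e))

theorem exists_lab [IsSimpleGroup G] {K : Subgroup G} (hK : K ≠ ⊤) {n : ℕ} (hn : K.index = n)
    (η : ℕ → G ⧸ K) (hl : ∀ i < n, ∀ j < n, x ^ i • η (i / p) = x ^ j • η (j / p) → i = j) :
    ∃ φ : G →* Equiv.Perm (Fin n), Function.Injective φ ∧
      (∀ g, ∀ i < n, fn φ g i = i → g ∈ stabilizer G (x ^ i • η (i / p))) ∧
      ∀ (g : G) (A F : ℕ → ℕ), (∀ i < n, g • x ^ i • η (i / p) = x ^ A i • η (i / p)) →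
        (∀ i < n, F i < n ∧ F i % p = A i % p ∧ F i / p = i / p) → Rep φ g F := by
  obtain ⟨φ, h1, h2⟩ := exists_phi hK hn _ hl
  refine ⟨φ, h1, fun g i hi e => ?_, fun g A F a b i hi => hl _ (fn_lt g hi) _ (b i hi).1 ?_⟩
  · rw [mem_stabilizer_iff, ← h2 g i hi, e]
  · rw [h2 g i hi, a i hi, (b i hi).2.2, ← pow_mod_orderOf x (F i), ← pow_mod_orderOf x (A i), hx,
      (b i hi).2.1]

omit hx in
theorem card_stab {K : Subgroup G} (ω : G ⧸ K) : Nat.card (stabilizer G ω) = Nat.card K :=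
  Nat.eq_of_mul_eq_mul_right (Nat.pos_of_ne_zero K.index_ne_zero_of_finite) (by
    rw [card_mul_index, ← card_mul_index (stabilizer G ω), index_stabilizer_of_transitive,
      index_eq_card])

end Label

section Rank

variable {G : Type*} [Group G] [Finite G]

theorem exists_perm (Ω : Type*) [MulAction G Ω] [Finite Ω] [Nonempty Ω] : ∃ n : Irr G → ℕ,
    (∀ g, (Nat.card (fixedBy Ω g) : ℂ) = ∑ ψ, (n ψ : ℂ) * ψ.1 g) ∧
      n (irrOne G) = Nat.card (orbitRel.Quotient G Ω) ∧ n (irrOne G) ≠ 0 ∧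
      Nat.card Ω = ∑ ψ, n ψ * deg ψ := by
  have := Fintype.ofFinite G
  obtain ⟨n, hn⟩ := (isCharacter_fixedBy (G := G) Ω).exists_eq_sum_nat
  have h1 : ∀ g, (Nat.card (fixedBy Ω g) : ℂ) = ∑ ψ, (n ψ : ℂ) * ψ.1 g := fun g => by
    simpa using congrFun hn g
  have h2 := classInner_sum_smul_irr (fun ψ => (n ψ : ℂ)) (irrOne G)
  rw [← hn] at h2
  have h3 : n (irrOne G) = Nat.card (orbitRel.Quotient G Ω) := by
    exact_mod_cast h2.symm.trans (classInner_fixedBy_one Ω)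
  have : Nonempty (orbitRel.Quotient G Ω) := ⟨Quotient.mk _ (Classical.arbitrary Ω)⟩
  refine ⟨n, h1, h3, h3 ▸ Nat.card_pos.ne', ?_⟩
  have h4 := h1 1
  rw [fixedBy_one_eq_univ, Nat.card_univ] at h4
  simp only [← deg_eq] at h4
  exact_mod_cast h4

theorem index_ge {K : Subgroup G} (hK : K ≠ ⊤) {m : ℕ} (h : ∀ ψ ≠ irrOne G, m ≤ deg ψ) :
    m + 1 ≤ K.index := by
  obtain ⟨n, -, h2, -, h4⟩ := exists_perm (G := G) (G ⧸ K)
  have := (pretransitive_iff_subsingleton_quotient G (G ⧸ K)).1 inferInstance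
  have : Nonempty (orbitRel.Quotient G (G ⧸ K)) := ⟨Quotient.mk _ (1 : G)⟩
  rw [← index_eq_card, ← Finset.add_sum_erase _ _ (Finset.mem_univ (irrOne G)), h2,
    Nat.card_unique, H17.deg_irrOne] at h4
  obtain ⟨ψ, h6, h7⟩ := Finset.exists_ne_zero_of_sum_ne_zero fun e =>
    index_eq_one.not.2 hK (h4.trans (by rw [e, mul_one, add_zero]))
  have h8 := (Nat.add_le_add_left (Finset.single_le_sum (f := fun ψ => n ψ * deg ψ)
    (fun _ _ => Nat.zero_le _) h6) _).trans h4.ge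
  have h9 := Nat.le_mul_of_pos_left (deg ψ) (Nat.pos_of_ne_zero (left_ne_zero_of_mul h7))
  have := h ψ (Finset.ne_of_mem_erase h6)
  omega

theorem card_stab2 {Ω : Type*} [MulAction G Ω] [Finite Ω] {m : ℕ} (hm : Nat.card Ω = m + 1)
    (h2 : 1 < m) (h : ∀ ψ ≠ irrOne G, m ≤ deg ψ) {x : G} {ω : Ω} (hx : x • ω ≠ ω) {α β : Ω}
    (hne : α ≠ β) : (m + 1) * m * Nat.card (stabilizer G (α, β)) = Nat.card G := by
  have := Fintype.ofFinite G
  have := Fintype.ofFinite Ω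
  have : Nonempty Ω := ⟨ω⟩
  obtain ⟨n, h1, -, h3, h4⟩ := exists_perm (G := G) Ω
  obtain ⟨χ, h6, h7⟩ : ∃ χ ∈ Finset.univ.erase (irrOne G), n χ ≠ 0 := by
    by_contra! c
    have h5 : ∀ g : G, (Nat.card (fixedBy Ω g) : ℂ) = n (irrOne G) := fun g => by
      rw [h1, ← Finset.add_sum_erase _ _ (Finset.mem_univ (irrOne G)), irrOne_apply, mul_one,
        Finset.sum_eq_zero fun ψ a => by simp [c ψ a], add_zero]
    have h6 : fixedBy Ω x = fixedBy Ω (1 : G) := Set.eq_of_subset_of_ncard_le (by simp) (by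
      rw [← Nat.card_coe_set_eq, ← Nat.card_coe_set_eq]
      exact (Nat.cast_injective (R := ℂ) ((h5 1).trans (h5 x).symm)).le) (Set.toFinite _)
    exact hx (h6.ge (by simp) : ω ∈ fixedBy Ω x)
  rw [← Finset.add_sum_erase _ _ (Finset.mem_univ (irrOne G)), ← Finset.add_sum_erase _ _ h6, hm,
    H17.deg_irrOne, mul_one] at h4
  have h8 := h χ (Finset.ne_of_mem_erase h6)
  have h9 : n (irrOne G) = 1 ∧ n χ = 1 ∧
      ∑ ψ ∈ (Finset.univ.erase (irrOne G)).erase χ, n ψ * deg ψ = 0 := by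
    obtain ⟨k, hk⟩ := Nat.exists_eq_succ_of_ne_zero h7
    rw [hk] at h4 ⊢
    rcases k with _ | k
    · omega
    · rw [Nat.succ_mul, Nat.succ_mul] at h4
      omega
  have h10 : ∀ g : G, (Nat.card (fixedBy Ω g) : ℂ) = (irrOne G).1 g + χ.1 g := fun g => by
    rw [h1, ← Finset.add_sum_erase _ _ (Finset.mem_univ (irrOne G)), ← Finset.add_sum_erase _ _ h6,
      h9.1, h9.2.1, Finset.sum_eq_zero fun ψ a => by
        simp [(mul_eq_zero.1 (Finset.sum_eq_zero_iff.1 h9.2.2 ψ a)).resolve_right (deg_ne_zero ψ)]]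
    simp
  have h11 := classInner_fixedBy_one (G := G) (Ω × Ω)
  have h12 : (fun g : G => (Nat.card (fixedBy (Ω × Ω) g) : ℂ)) =
      ((irrOne G).1 + χ.1) * ((irrOne G).1 + χ.1) := funext fun g => by
    rw [Pi.mul_apply, Pi.add_apply, ← h10, ← Nat.cast_mul, ← Nat.card_prod]
    exact congrArg _ (Nat.card_congr ((Equiv.setCongr (by ext; simp [Prod.ext_iff])).trans
      (Equiv.Set.prod _ _)))
  have h13 : (fun g => (starRingEnd ℂ) (((irrOne G).1 + χ.1) g)) = (irrOne G).1 + χ.1 :=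
    funext fun g => by rw [Pi.add_apply, ← h10, map_natCast]
  rw [h12, classInner_mul_left, h13, show ((fun _ => 1) * ((irrOne G).1 + χ.1) : G → ℂ) =
    (irrOne G).1 + χ.1 from one_mul _] at h11
  have h14 := Finset.ne_of_mem_erase h6
  simp only [classInner_add_left, classInner_add_right, irr_inner, if_neg h14, if_neg h14.symm,
    if_true] at h11
  obtain ⟨q, -, hq⟩ := (Nat.card_eq_two_iff' (Quotient.mk (orbitRel G (Ω × Ω)) (α, α))).1
    (Nat.cast_injective (R := ℂ) (by rw [← h11]; norm_num))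
  have h15 : ∀ y : Ω × Ω, y.1 ≠ y.2 → Quotient.mk (orbitRel G (Ω × Ω)) y = q := fun y hy =>
    hq _ fun e => by
      obtain ⟨g, rfl⟩ := Quotient.exact e
      exact hy rfl
  have h16 : orbit G (α, β) = (Finset.univ : Finset Ω).offDiag := by
    ext y
    simp only [Finset.coe_offDiag, Finset.coe_univ, Set.mem_offDiag, Set.mem_univ, true_and]
    exact ⟨fun ⟨g, e⟩ c => hne (by rw [← e] at c; simpa using c), fun c =>
      Quotient.exact ((h15 _ c).trans (h15 _ hne).symm)⟩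
  rw [← card_mul_index (stabilizer G (α, β)), index_stabilizer, h16, Set.ncard_coe_finset,
    Finset.offDiag_card, Finset.card_univ, ← Nat.card_eq_fintype_card, hm, mul_comm]
  congr 1
  rw [mul_add_one (m + 1), Nat.add_sub_cancel]

theorem nine_dvd {T : Subgroup G} {a b : G} (ha : a ∈ T) (hb : b ∈ T) (h1 : a ^ 3 = 1)
    (h2 : b ^ 3 = 1) (h3 : a * b = b * a) (h4 : a ≠ 1) (h5 : b ≠ 1) (h6 : b ≠ a)
    (h7 : a * b ≠ 1) : 9 ∣ Nat.card T := by
  by_contra c
  have h8 : D1 3 (⟨a, ha⟩ : T) := ⟨by rw [Subgroup.orderOf_mk, orderOf_eq_prime h1 h4], c⟩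
  obtain ⟨P, hP⟩ := h8.exists_sylow
  have h9 : IsPGroup 3 (zpowers (⟨b, hb⟩ : T)) := IsPGroup.of_card (n := 1) (by
    rw [Nat.card_zpowers, Subgroup.orderOf_mk, orderOf_eq_prime h2 h5, pow_one])
  have h10 := (h9.inf_normalizer_sylow P).le ⟨mem_zpowers _, by
    change _ ∈ normalizer ((P : Subgroup T) : Set T)
    rw [← hP]
    exact centralizer_le_normalizer_zpowers _ (mem_centralizer_singleton_iff.2 (Subtype.ext h3.symm))⟩
  rw [← hP] at h10
  obtain ⟨k, hk, e⟩ := Finset.mem_image.1 (mem_zpowers_iff_mem_range_orderOf.1 h10.2)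
  rw [h8.ord, Finset.mem_range] at hk
  replace e : a ^ k = b := congrArg Subtype.val e
  interval_cases k
  exacts [h5 (by simpa using e.symm), h6 (by simpa using e.symm), h7 (by rw [← e, ← pow_succ', h1])]

/-- Two commuting words of order three fixing two points. -/
def nineW (n : ℕ) (fs : List (ℕ → ℕ)) (u v : List ℕ) (α β : ℕ) : Bool :=
  let A := evw fs u
  let B := evw fs v
  decide ((A α = α ∧ A β = β ∧ B α = α ∧ B β = β) ∧ (∀ i < n, A^[3] i = id i) ∧
    (∀ i < n, B^[3] i = id i) ∧ (∀ i < n, (A ∘ B) i = (B ∘ A) i) ∧ (¬ ∀ i < n, A i = id i) ∧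
    (¬ ∀ i < n, B i = id i) ∧ (¬ ∀ i < n, B i = A i) ∧ ¬ ∀ i < n, (A ∘ B) i = id i)

theorem nine_of {n : ℕ} {φ : G →* Equiv.Perm (Fin n)} (hφ : Function.Injective φ) {gs : List G}
    {fs : List (ℕ → ℕ)} (h : List.Forall₂ (Rep φ) gs fs) {u v : List ℕ} {α β : ℕ} (hα : α < n)
    (hβ : β < n) (e : nineW n fs u v α β = true) {T : Subgroup G}
    (hT : ∀ g, fn φ g α = α → fn φ g β = β → g ∈ T) : 9 ∣ Nat.card T := by
  obtain ⟨a, -, ha⟩ := exists_rep_evw h (Y := ⊤) (fun _ _ => mem_top _) u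
  obtain ⟨b, -, hb⟩ := exists_rep_evw h (Y := ⊤) (fun _ _ => mem_top _) v
  obtain ⟨⟨h1, h2, h3, h4⟩, h5, h6, h7, h8, h9, h10, h11⟩ := of_decide_eq_true e
  exact nine_dvd (hT a ((ha α hα).trans h1) ((ha β hβ).trans h2))
    (hT b ((hb α hα).trans h3) ((hb β hβ).trans h4)) (((ha.pow 3).eq_iff hφ Rep.one).2 h5)
    (((hb.pow 3).eq_iff hφ Rep.one).2 h6) (((ha.mul hb).eq_iff hφ (hb.mul ha)).2 h7)
    ((ha.eq_iff hφ Rep.one).not.2 h8) ((hb.eq_iff hφ Rep.one).not.2 h9) ((hb.eq_iff hφ ha).not.2 h10)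
    (((ha.mul hb).eq_iff hφ Rep.one).not.2 h11)

end Rank

end H21.Eng
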