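import Mathlib
import Cfsg.Agent.H21.Eng5

/-! Simple groups of order 443520: the numerical searches. -/

set_option autoImplicit false

namespace H21.Eng

def D22 : List ℕ := [1, 2, 3, 4, 5, 6, 7, 8, 9, 10, 11, 12, 14, 15, 16, 18, 20, 21, 22, 24, 28, 30, 32, 33, 35, 36,
  40, 42, 44, 45, 48, 55, 56, 60, 63, 64, 66, 70, 72, 77, 80, 84, 88, 90, 96, 99, 105, 110, 112,
  120, 126, 128, 132, 140, 144, 154, 160, 165, 168, 176, 180, 192, 198, 210, 220, 224, 231, 240,
  252, 264, 280, 288, 308, 315, 320, 330, 336, 352, 360, 384, 385, 396, 420, 440, 448, 462, 480,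
  495, 504, 528, 560, 576, 616, 630, 640, 660, 672, 693, 704, 720, 770, 792, 840, 880, 896, 924,
  960, 990, 1008, 1056, 1120, 1152, 1155, 1232, 1260, 1320, 1344, 1386, 1408, 1440, 1540, 1584,
  1680, 1760, 1848, 1920, 1980, 2016, 2112, 2240, 2310, 2464, 2520, 2640, 2688, 2772, 2880, 3080,
  3168, 3360, 3465, 3520, 3696, 3960, 4032, 4224, 4480, 4620, 4928, 5040, 5280, 5544, 5760, 6160,
  6336, 6720, 6930, 7040, 7392, 7920, 8064, 9240, 9856, 10080, 10560, 11088, 12320, 12672, 13440,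
  13860, 14784, 15840, 18480, 20160, 21120, 22176, 24640, 27720, 29568, 31680, 36960, 40320,
  44352, 49280, 55440, 63360, 73920, 88704, 110880, 147840, 221760, 443520]

theorem mem_D22 (d : ℕ) (h : d ∣ 443520) : d ∈ D22 :=
  (by decide +kernel : ∀ d ∈ divs [127, 8, 4, 6, 10], d ∈ D22) d (mem_divs _ h)

def P22 : List Pr := [⟨7, 3, 1⟩, ⟨5, 4, 1⟩, ⟨11, 5, 1⟩]

def U22 : List Rec := [(45, [-1, 0, 2]), (45, [-1, 0, 2]), (99, [2, -1, 0]), (55, [-2, 0, 0]),
  (231, [0, 1, 0]), (21, [0, 1, -2]), (154, [0, -1, 0]), (280, [0, 0, -1]), (280, [0, 0, -1]),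
  (210, [0, 0, 2])]

theorem k22_11 : ((optsP 443520 D22 11).all fun P => (P.e == 5 && P.c == 1) ||
    engk 443520 D22 [P] 1 fun _ => false) = true := by decide +kernel

theorem k22_7 : ((optsP 443520 D22 7).all fun P => P.c % 11 == 0 || (P.e == 3 && P.c == 1) ||
    (P.e == 3 && P.c == 8) || (P.e == 6 && P.c == 4) ||
    engk 443520 D22 [P, ⟨11, 5, 1⟩] 2 fun _ => false) = true := by decide +kernel

theorem k22_a : ((optsP 443520 D22 5).all fun P => P.c % 11 == 0 || P.c % 7 == 0 ||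
    engk 443520 D22 [⟨7, 3, 8⟩, P, ⟨11, 5, 1⟩] 3 fun _ => false) = true := by decide +kernel

theorem k22_b : ((optsP 443520 D22 5).all fun P => P.c % 11 == 0 || P.c % 7 == 0 ||
    (P.e == 4 && P.c == 1) ||
    engk 443520 D22 [⟨7, 6, 4⟩, P, ⟨11, 5, 1⟩] 3 fun _ => false) = true := by decide +kernel

theorem k22_c : (engk 443520 D22 [⟨7, 6, 4⟩, ⟨11, 5, 1⟩, ⟨5, 4, 1⟩] 3 fun _ => false) = true := by
  decide +kernel

theorem k22_d : ((optsP 443520 D22 5).all fun P => P.c % 11 == 0 || P.c % 7 == 0 ||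
    (P.e == 4 && P.c == 1) ||
    engk 443520 D22 [⟨7, 3, 1⟩, P, ⟨11, 5, 1⟩] 3 fun _ => false) = true := by decide +kernel

theorem k22_e : engk 443520 D22 P22 3 (· == U22) = true := by decide +kernel

theorem k22_f : (colAll 443520 P22 3 (D22.filter (· != 443520)) U22 fun C v =>
    C == 384 && v == [2, -8, -8, 10, 5, 7, 7, 3, -3, -3]) = true := by decide +kernel

end H21.Eng
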