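import Mathlib
import Cfsg.Agent.H21.Lab
import Cfsg.Agent.H21.M22a

/-! Simple groups of order 443520: the local structure. -/

set_option autoImplicit false
set_option linter.unusedSectionVars false

open Cfsg H4 H17 H18 Subgroup
open scoped Classical

namespace H21.Eng

variable {G : Type*} [Group G] [Finite G] [IsSimpleGroup G]

theorem m22_blocks (hc : Nat.card G = 443520) : ∃ (x w : G) (hx : SC 11 x) (hw : SC 5 w)
    (f7 f5 f11 : Irr G → ℤ), Nat.card (Aut hx.ord) = 5 ∧ Nat.card (Aut hw.ord) = 4 ∧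
      w * x * w⁻¹ = xp x (3 : ZMod 11) ∧ List.Forall₂ (IsBlk G) P22 [f7, f5, f11] := by
  have hG : ¬ IsMulCommutative G := not_comm_of_not_prime (by rw [hc]; norm_num)
  obtain ⟨x, hx⟩ := exists_D1 (G := G) (p := 11) (by rw [hc]; norm_num) (by rw [hc]; norm_num)
  obtain ⟨u, hu⟩ := exists_D1 (G := G) (p := 7) (by rw [hc]; norm_num) (by rw [hc]; norm_num)
  obtain ⟨e, c, f11, he, hcx, b11, h1⟩ := exists_opt hG (by decide) hx hc mem_D22
  replace h1 := List.all_eq_true.1 k22_11 _ h1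
  simp only [Bool.or_eq_true, Bool.and_eq_true, beq_iff_eq] at h1
  obtain ⟨rfl, rfl⟩ := h1.resolve_right (not_engk (.cons b11 .nil) hG (by simp) hc (by decide)
    mem_D22 le_rfl)
  have sx := D1.sc hx hcx
  obtain ⟨w, hw5, hxw⟩ := exists_w sx he.symm.dvd
  have hw : D1 5 w := ⟨hw5, by rw [hc]; decide⟩
  obtain ⟨e, c, f7, -, -, b7, h1⟩ := exists_opt hG (by decide) hu hc mem_D22
  obtain ⟨e', c', f5, he', hcw, b5, h2⟩ := exists_opt hG (by decide) hw hc mem_D22
  have n1 := b11.not_dvd_c b7 (by decide) (by decide) (by decide) (by decide)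
  have n2 := b11.not_dvd_c b5 (by decide) (by decide) (by decide) (by decide)
  have n3 := b11.sc_no (q := 7) (by decide) (by decide)
  have n4 := b11.sc_no (q := 5) (by decide) (by decide)
  replace h1 := List.all_eq_true.1 k22_7 _ h1
  simp only [Bool.or_eq_true, Bool.and_eq_true, beq_iff_eq, n1, false_or] at h1
  replace h1 := h1.resolve_right (not_engk (.cons b7 (.cons b11 .nil)) hG (by simpa using n3) hc
    (by decide) mem_D22 le_rfl)
  have n5 : ¬ 5 ∣ c := by omega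
  have n6 := b7.not_dvd_c b5 (by decide) (by decide) (by decide) n5
  have n7 := b7.nopq 5 (by decide) (by simp) n5
  have k := fun h => not_engk (k := 3) (.cons b7 (.cons b5 (.cons b11 .nil))) hG
    (by simpa using ⟨⟨n7, n3⟩, n4⟩) hc (by decide) mem_D22 le_rfl h
  rcases h1 with (⟨rfl, rfl⟩ | ⟨rfl, rfl⟩) | ⟨rfl, rfl⟩
  · replace h2 := List.all_eq_true.1 k22_d _ h2
    simp only [Bool.or_eq_true, Bool.and_eq_true, beq_iff_eq, n2, n6, false_or] at h2
    obtain ⟨rfl, rfl⟩ := h2.resolve_right k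
    exact ⟨x, w, sx, D1.sc hw hcw, f7, f5, f11, he, he', hxw,
      .cons b7 (.cons b5 (.cons b11 .nil))⟩
  · replace h2 := List.all_eq_true.1 k22_a _ h2
    simp only [Bool.or_eq_true, beq_iff_eq, n2, n6, false_or] at h2
    exact absurd h2 k
  · replace h2 := List.all_eq_true.1 k22_b _ h2
    simp only [Bool.or_eq_true, Bool.and_eq_true, beq_iff_eq, n2, n6, false_or] at h2
    obtain ⟨rfl, rfl⟩ := h2.resolve_right k
    exact absurd k22_c (not_engk (.cons b7 (.cons b11 (.cons b5 .nil))) hG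
      (by simpa using ⟨⟨n3, n7⟩, fun g a b => n4 g b a⟩) hc (by decide) mem_D22 le_rfl)

theorem mem_R19 {v : ℤ} (h : v * v ≤ 384) : v ∈ (List.range 39).map fun i : ℕ => (i : ℤ) - 19 := by
  have : -20 < v ∧ v < 20 := by constructor <;> nlinarith
  exact List.mem_map.2 ⟨(v + 19).toNat, List.mem_range.2 (by omega), by omega⟩

theorem m22_key {a b c d e f g h i : ℤ} {C : ℕ} (hC : C ∣ 384) (h1 : (26 - 2 * a) % 8 = 0)
    (h2 : (42 - 2 * b) % 8 = 0) (h3 : (102 - 2 * d) % 8 = 0) (h4 : (164 - 2 * e) % 8 = 0)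
    (h5 : (212 - 2 * f) % 8 = 0) (h6 : (62 - 2 * c) % 8 = 0) (h7 : a * a - 5 = 2 * (a + 2 * b + d))
    (h8 : c = d - b + 1) (h9 : g = d + e - 1 - a) (h10 : h = 1 - a + 2 * b + f)
    (h11 : 1 + 21 * a + 90 * b + 55 * c + 99 * d + 154 * e + 210 * f + 231 * g + 560 * h + 385 * i = 0)
    (h12 : 1 + 5 * a - 6 * b + 7 * c + 3 * d + 10 * e + 2 * f + 7 * g - 16 * h + i = 0)
    (h13 : 1 + a * a + 2 * (b * b) + c * c + d * d + e * e + f * f + g * g + 2 * (h * h) + i * i = C) :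
    C = 96 ∧ b = 1 := by
  have key : let R := (List.range 39).map fun i : ℕ => (i : ℤ) - 19
      ∀ a ∈ R, (26 - 2 * a) % 8 = 0 → ∀ b ∈ R, (42 - 2 * b) % 8 = 0 →
      ∀ d ∈ R, (102 - 2 * d) % 8 = 0 → a * a - 5 = 2 * (a + 2 * b + d) →
      (62 - 2 * (d - b + 1)) % 8 = 0 → ∀ e ∈ R, (164 - 2 * e) % 8 = 0 →
      ∀ f ∈ R, (212 - 2 * f) % 8 = 0 → ∀ i ∈ R, 1 + 5 * a - 6 * b + 7 * (d - b + 1) + 3 * d + 10 * e +
        2 * f + 7 * (d + e - 1 - a) - 16 * (1 - a + 2 * b + f) + i = 0 →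
      1 + 21 * a + 90 * b + 55 * (d - b + 1) + 99 * d + 154 * e + 210 * f + 231 * (d + e - 1 - a) +
        560 * (1 - a + 2 * b + f) + 385 * i = 0 → ∀ C ∈ divs [127, 2],
      1 + a * a + 2 * (b * b) + (d - b + 1) * (d - b + 1) + d * d + e * e + f * f +
        (d + e - 1 - a) * (d + e - 1 - a) + 2 * ((1 - a + 2 * b + f) * (1 - a + 2 * b + f)) +
        i * i = C → C = 96 ∧ b = 1 := by decide +kernel
  have h0 : (C : ℤ) ≤ 384 := by exact_mod_cast Nat.le_of_dvd (by norm_num) hC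
  have := mul_self_nonneg a; have := mul_self_nonneg b; have := mul_self_nonneg c
  have := mul_self_nonneg d; have := mul_self_nonneg e; have := mul_self_nonneg f
  have := mul_self_nonneg g; have := mul_self_nonneg h; have := mul_self_nonneg i
  have m1 := mem_R19 (v := a) (by linarith); have m2 := mem_R19 (v := b) (by linarith)
  have m3 := mem_R19 (v := d) (by linarith); have m4 := mem_R19 (v := e) (by linarith)
  have m5 := mem_R19 (v := f) (by linarith); have m6 := mem_R19 (v := i) (by linarith)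
  subst h8 h9 h10
  exact key a m1 h1 b m2 h2 d m3 h3 h7 h6 e m4 h4 f m5 h5 i m6 h12 h11 C (mem_divs _ hC) h13

end H21.Eng
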