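import Mathlib
import Cfsg.Agent.H21.M22b

/-! Simple groups of order 443520: a subgroup of index 22. -/

set_option autoImplicit false
set_option linter.unusedSectionVars false

open Cfsg H4 H17 H18 Subgroup
open scoped Classical

namespace H21.Eng

variable {G : Type*} [Group G] [Finite G] [IsSimpleGroup G]

theorem rho_eq {fs : List (Irr G → ℤ)} {ψ : Irr G} {d : ℕ} {l : List ℤ} :
    rho fs ψ = (d, l) ↔ deg ψ = d ∧ fs.map (· ψ) = l := Prod.ext_iff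

theorem lam22 {l0 l1 l2 l3 l4 l5 l6 l7 l8 l9 l10 l11 : ℕ} (h1 : l0 ≤ 1)
    (e1 : 2 * ((l0 : ℤ) * 2 + (l1 * 2 + (l2 * 2 + (l3 * 0 + (l4 * 0 + (l5 * 0 + (l6 * -2 + (l7 * 0 +
      (l8 * -1 + (l9 * -1 + (l10 * 2 + 0)))))))))) + l11 * 0) = ((-1) ^ 2 - -1) * ((11 - 1) / 5 : ℕ))
    (e3 : 2 * ((l0 : ℤ) * 1 + (l1 * 0 + (l2 * 0 + (l3 * -1 + (l4 * 0 + (l5 * 1 + (l6 * 1 + (l7 * -1 +
      (l8 * 0 + (l9 * 0 + (l10 * 0 + 0)))))))))) + l11 * 0) = (1 ^ 2 - 1) * ((5 - 1) / 4 : ℕ))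
    (e4 : 2 * ((l0 : ℤ) * 2 + (l1 * -1 + (l2 * -1 + (l3 * 2 + (l4 * -2 + (l5 * 0 + (l6 * 0 + (l7 * 0 +
      (l8 * 0 + (l9 * 0 + (l10 * 0 + 0)))))))))) + l11 * 0) = (0 ^ 2 - 0) * ((7 - 1) / 3 : ℕ))
    (e5 : ((21 : ℕ) : ℤ) ^ 2 + -1 * (21 : ℕ) = 2 * ((l0 : ℤ) * (1 : ℕ) + (l1 * (45 : ℕ) + (l2 * (45 : ℕ) +
      (l3 * (99 : ℕ) + (l4 * (55 : ℕ) + (l5 * (231 : ℕ) + (l6 * (21 : ℕ) + (l7 * (154 : ℕ) +
      (l8 * (280 : ℕ) + (l9 * (280 : ℕ) + (l10 * (210 : ℕ) + 0)))))))))) + l11 * (385 : ℕ)))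
    {v : ℤ} (e7 : (5 : ℤ) ^ 2 + -1 * (21 : ℕ) = 2 * ((l0 : ℤ) * 1 + (l1 * -3 + (l2 * -3 + (l3 * 3 +
      (l4 * 7 + (l5 * 7 + (l6 * 5 + (l7 * 10 + (l8 * -8 + (l9 * -8 + (l10 * 2 + 0)))))))))) + l11 * v)) :
    l5 = 0 ∧ l8 = 0 ∧ l9 = 0 ∧ l11 = 0 ∧ l0 = 0 ∧ l4 = 0 ∧ l7 = 0 ∧
      (l10 = 1 ∧ l1 = 0 ∧ l2 = 0 ∧ l3 = 0 ∧ l6 = 0 ∨ l10 = 0 ∧ l1 + l2 = 2 ∧ l3 = 1 ∧ l6 = 1) := by
  obtain ⟨rfl, rfl, rfl, rfl⟩ : l5 = 0 ∧ l8 = 0 ∧ l9 = 0 ∧ l11 = 0 := by clear * - e5; omega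
  have u1 : l10 ≤ 1 := by omega
  have u2 : l7 ≤ 1 := by omega
  have u3 : l3 ≤ 2 := by omega
  simp only [Nat.cast_zero, zero_mul] at e7
  interval_cases l0 <;> interval_cases l10 <;> interval_cases l7 <;> interval_cases l3 <;> omega

set_option maxHeartbeats 1000000 in
theorem m22_index (hc : Nat.card G = 443520) {w f : G} (hw : SC 5 w) {f7 f5 f11 : Irr G → ℤ}
    (hF : List.Forall₂ (IsBlk G) P22 [f7, f5, f11]) (hf : f * w * f⁻¹ = xp w (2 : ZMod 5)) :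
    (∀ ψ ≠ irrOne G, 21 ≤ deg ψ) ∧ ∃ K : Subgroup G, K.index = 22 := by
  have hG : ¬ IsMulCommutative G := not_comm_of_not_prime (by rw [hc]; norm_num)
  have perf := commutator_eq_top_of_simple hG
  obtain ⟨b7, b5, b11⟩ : IsBlk G ⟨7, 3, 1⟩ f7 ∧ IsBlk G ⟨5, 4, 1⟩ f5 ∧ IsBlk G ⟨11, 5, 1⟩ f11 := by
    simpa [P22] using hF
  obtain ⟨cs, hcov, hU⟩ := engk_sound hF hG (by
    simpa [P22] using ⟨⟨b5.sc_no (q := 7) (by decide) (by decide), b11.sc_no (q := 7) (by decide)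
      (by decide)⟩, b11.sc_no (q := 5) (by decide) (by decide)⟩) hc (by decide) mem_D22 (k := 3) le_rfl k22_e
  rw [beq_iff_eq] at hU
  have hf4 : orderOf f = 4 := by rw [SC.orderOf_of_act hw (a := u2) hf (by decide), orderOf_u2]
  have hf4' : f ^ 4 = 1 := hf4 ▸ pow_orderOf_eq_one f
  have hz : orderOf (f ^ 2) = 2 := by rw [orderOf_pow' _ two_ne_zero, hf4]; rfl
  have hzz := mul_self_of_two hz
  have hcol := k22_f
  rw [← hU] at hcol
  replace hcol := colAll_sound hcov (hc ▸ colHyp hF hG hz) (Cs := D22.filter (· != 443520))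
    (List.mem_filter.2 ⟨mem_D22 _ (hc ▸ card_subgroup_dvd_card _),
      bne_iff_ne.2 (hc ▸ card_cent_ne hG hz)⟩) hcol
  obtain ⟨R, hR, hall, hsum⟩ := hcov.split
  simp only [U22, List.map_eq_cons_iff, List.map_eq_nil_iff, rho_eq, List.map_cons, List.map_nil,
    List.cons.injEq, and_true] at hU
  obtain ⟨a1, _, rfl, ⟨d1, p1, q1, r1⟩, a2, _, rfl, ⟨d2, p2, q2, r2⟩, a3, _, rfl, ⟨d3, p3, q3, r3⟩,
    a4, _, rfl, ⟨d4, p4, q4, r4⟩, a5, _, rfl, ⟨d5, p5, q5, r5⟩, a6, _, rfl, ⟨d6, p6, q6, r6⟩,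
    a7, _, rfl, ⟨d7, p7, q7, r7⟩, a8, _, rfl, ⟨d8, p8, q8, r8⟩, a9, _, rfl, ⟨d9, p9, q9, r9⟩,
    a10, _, rfl, ⟨d10, p10, q10, r10⟩, rfl⟩ := hU
  simp only [List.map_cons, List.map_nil, List.reverse_cons, List.reverse_nil, List.nil_append,
    List.cons_append, Bool.and_eq_true, beq_iff_eq, List.cons.injEq, and_true] at hcol
  obtain ⟨hC, z10, z9, z8, z7, z6, z5, z4, z3, z2, z1⟩ := hcol
  simp only [List.map_cons, List.map_nil, List.sum_cons, List.sum_nil] at hsum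
  have hR' : ∀ ψ ∈ R, ψ ≠ irrOne G ∧ f7 ψ = 0 ∧ f5 ψ = 0 ∧ f11 ψ = 0 := fun ψ h =>
    ⟨(hR ψ h).1, (hR ψ h).2 0 (by decide), (hR ψ h).2 1 (by decide), (hR ψ h).2 2 (by decide)⟩
  have d0 := H17.deg_irrOne (G := G)
  obtain ⟨θ, rfl, d11⟩ := rest_single (R := R) (d := deg) (m := 385) (by norm_num) (fun ψ h => by
    obtain ⟨e, e1, e2, e3⟩ := hR' ψ h
    exact Nat.le_of_dvd (Nat.pos_of_ne_zero (deg_ne_zero ψ)) ((show Nat.Coprime (7 * 5) 11 by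
      decide).mul_dvd_of_dvd_of_dvd ((show Nat.Coprime 7 5 by decide).mul_dvd_of_dvd_of_dvd
      (b7.dvd_deg e e1) (b5.dvd_deg e e2)) (b11.dvd_deg e e3))) (by
    have := hsum fun ψ => deg ψ ^ 2
    rw [sum_deg_sq, hc, d0, d1, d2, d3, d4, d5, d6, d7, d8, d9, d10] at this
    clear * - this
    omega)
  obtain ⟨-, p11, q11, r11⟩ := hR' θ (Finset.mem_singleton_self _)
  simp only [Finset.sum_singleton] at hsum
  simp only [List.mem_cons, List.not_mem_nil, or_false, Finset.mem_singleton] at hall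
  have p0 : f7 (irrOne G) = 2 := b7.one
  have q0 : f5 (irrOne G) = 1 := b5.one
  have r0 : f11 (irrOne G) = 2 := b11.one
  have hmin : ∀ ψ ≠ irrOne G, 21 ≤ deg ψ := fun ψ h => by
    clear * - hall h d0 d1 d2 d3 d4 d5 d6 d7 d8 d9 d10 d11
    rcases hall ψ with rfl | (rfl | rfl | rfl | rfl | rfl | rfl | rfl | rfl | rfl | rfl) | rfl <;>
      first | omega | exact absurd rfl h
  refine ⟨hmin, ?_⟩
  have hχ : ∀ g, a6.1 g = iv a6 g := fun g => int_of_galP fun ψ h => by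
    clear * - hall h d0 d1 d2 d3 d4 d5 d6 d7 d8 d9 d10 d11
    rcases hall ψ with rfl | (rfl | rfl | rfl | rfl | rfl | rfl | rfl | rfl | rfl | rfl) | rfl <;>
      first | rfl | omega
  have s1 := b7.reg a1 a2 (by simp [p1]) (by simp [p1, Pr.t]) (by simp [p2]) (by simp [p2, Pr.t]) f
    (by rw [hf4]; decide)
  have s2 := b11.reg a8 a9 (by simp [r8]) (by simp [r8, Pr.t]) (by simp [r9]) (by simp [r9, Pr.t]) f
    (by rw [hf4]; decide)
  have hv : ∀ ψ : Irr G, ψ.1 f = iv ψ f := fun χ => int_of_galP fun ψ h => by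
    clear * - hall h s1 s2 d0 d1 d2 d3 d4 d5 d6 d7 d8 d9 d10 d11
    rcases hall χ with rfl | (rfl | rfl | rfl | rfl | rfl | rfl | rfl | rfl | rfl | rfl) | rfl <;>
    rcases hall ψ with rfl | (rfl | rfl | rfl | rfl | rfl | rfl | rfl | rfl | rfl | rfl) | rfl <;>
      first | rfl | omega | exact s1 | exact s2 | exact s1.symm | exact s2.symm
  have hv1 : ∀ ψ : Irr G, ψ.1 1 = (deg ψ : ℤ) := fun ψ => by rw [← deg_eq, Int.cast_natCast]
  have hvz := fun ψ : Irr G => iv_inv ψ hzz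
  have z11 := col_int hv1 hvz (by rw [hz, orderOf_one]; decide)
  obtain ⟨l, m, hl, hm, h1⟩ := exists_sq hχ
  obtain ⟨e1, e2⟩ := b11.sq_rel (by decide) (b11.val' (r := -1) (by simp) r6) hl hm
  obtain ⟨e3, -⟩ := b5.sq_rel (by decide) (b5.val' (r := 1) (by simp) q6) hl hm
  obtain ⟨e4, -⟩ := b7.sq_rel (r := 0) (by decide)
    (fun g h => by rw [b7.van a6 (by simp [d6]) g h, Int.cast_zero]) hl hm
  have hl' : ∀ g, (a6.1 g ^ 2 + (-1 : ℤ) * a6.1 (g * g)) / 2 = ∑ ψ, (l ψ : ℂ) * ψ.1 g := fun g => by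
    rw [← hl]; simp [sub_eq_add_neg]
  have e5 := sq_int (hl' 1) hv1 (by rw [mul_one, hv1])
  have e6 := sq_int (ε := 1) (l := m) (by simpa using hm 1) hv1 (by rw [mul_one, hv1])
  have e7 := sq_int (hl' _) hvz (by rw [hzz, hv1])
  have e8 := sq_int (hl' _) hv (by rw [← sq, hvz])
  rw [hsum] at z11 e1 e2 e3 e4 e5 e6 e7 e8
  simp only [d0, d1, d2, d3, d4, d5, d6, d7, d8, d9, d10, d11, p0, p1, p2, p3, p4, p5, p6, p7, p8,
    p9, p10, p11, q0, q1, q2, q3, q4, q5, q6, q7, q8, q9, q10, q11, r0, r1, r2, r3, r4, r5, r6, r7,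
    r8, r9, r10, r11, z1, z2, z3, z4, z5, z6, z7, z8, z9, z10, iv_one, Pr.t]
    at z11 e1 e2 e3 e4 e5 e6 e7 e8
  obtain ⟨y1, y2, y3, y4, y7⟩ := lam22 (le_of_add_le_left h1.le) e1 e3 e4 e5 e7
  have y5 : m a8 = 0 ∧ m a9 = 0 := by clear * - e6; omega
  obtain ⟨y7, y8, y9, ⟨y10, y11, y12, y13, y14⟩ | ⟨y10, y11, y12, y13⟩⟩ := y7
  · obtain ⟨K, h2, h3⟩ := exists_index_le (χ := a6) (ψ := a10) (n := m) (by rw [d6]; decide)
      (fun g => by rw [a6.2.apply_inv, hχ, map_intCast]) (fun g => by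
        rw [hl, hsum]; simp [y1, y2, y3, y4, y7, y8, y9, y10, y11, y12, y13, y14])
      (fun e => by rw [e, d6] at d10; cases d10) hm (by clear * - h1 y7; omega)
      (by clear * - e2 h1 y5 y7; omega)
    exact ⟨K, le_antisymm (by rwa [d6] at h3) (index_ge h2 hmin)⟩
  have k1 := b7.lin' (by rw [hf4]; decide) hv
  have k2 := b5.lin' (by rw [hf4]; decide) hv
  have k3 := b11.lin' (by rw [hf4]; decide) hv
  have k4 := col_int hv1 hv (by rw [hf4, orderOf_one]; decide)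
  have k5 := col_int hvz hv (by rw [hf4, hz]; decide)
  have k6 := col_int_self hv
  have k7 := fun ψ => four_int perf ψ hf4' (hv ψ) (hvz ψ)
  have k8 : Nat.card (centralizer ({f} : Set G)) ∣ 384 := hC ▸ card_dvd_of_le fun g hg =>
    mem_centralizer_singleton_iff.2 ((show Commute g f from
      mem_centralizer_singleton_iff.1 hg).pow_right 2)
  have k9 := central_dvd a1 (hv a1)
  have t1 : iv a2 f = iv a1 f := (iv_of_eq (s1.symm.trans (hv a1)))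
  have t2 : iv a9 f = iv a8 f := (iv_of_eq (s2.symm.trans (hv a8)))
  have t3 : iv θ (f ^ 2) = 1 := by clear * - z11; omega
  rw [hsum] at k1 k2 k3 k4 k5 k6
  have j1 := k7 a1; have j3 := k7 a3; have j4 := k7 a4; have j6 := k7 a6; have j7 := k7 a7
  have j10 := k7 a10
  simp only [d0, d1, d2, d3, d4, d5, d6, d7, d8, d9, d10, d11, p0, p1, p2, p3, p4, p5, p6, p7, p8,
    p9, p10, p11, q0, q1, q2, q3, q4, q5, q6, q7, q8, q9, q10, q11, r0, r1, r2, r3, r4, r5, r6, r7,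
    r8, r9, r10, r11, z1, z2, z3, z4, z5, z6, z7, z8, z9, z10, iv_one, t1, t2, t3, y1, y2, y3, y4,
    y7, y8, y9, y10, y12, y13] at k1 k2 k3 k4 k5 k6 k9 e8 j1 j3 j4 j6 j7 j10
  obtain ⟨t4, t5⟩ := m22_key (a := iv a6 f) (b := iv a1 f) (c := iv a4 f) (d := iv a3 f)
    (e := iv a7 f) (f := iv a10 f) (g := iv a5 f) (h := iv a8 f) (i := iv θ f) k8
    (by clear * - j6; omega) (by clear * - j1; omega) (by clear * - j3; omega)
    (by clear * - j7; omega) (by clear * - j10; omega) (by clear * - j4; omega) (by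
      rw [show (l a1 : ℤ) = 2 - l a2 by clear * - y11; omega] at e8
      push_cast at e8
      linear_combination e8) (by clear * - k1; omega) (by clear * - k2; omega)
    (by clear * - k3; omega) (by clear * - k4; omega) (by clear * - k5; omega)
    (by linear_combination k6)
  rw [hc, t4, t5] at k9
  exact absurd k9 (by decide)

end H21.Eng
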