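import Mathlib
import Cfsg.Agent.H21.M22c

/-! Simple groups of order 443520: identification on 22 points. -/

set_option autoImplicit false
set_option linter.unusedSectionVars false

open Cfsg H4 H17 H18 Subgroup MulAction
open scoped Classical

namespace H21.Eng

def x22 : ℕ → ℕ := ap 473650193886733377473815086500929
def w22 : ℕ → ℕ := ap 791555669292345000431759352174688
def v22 : ℕ → ℕ := ap 547055196394227209492014545673504
def lg22 : ℕ → ℕ := ap 124390733492173589819517382459392
def rp22 : ℕ → ℕ := ap 208099156963773338931726536215616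
def f22 : ℕ := 860003882193581392688794907754539
def f22' : ℕ := 390596291240582182450257928456619

def certs22 : List (List ℕ × ℕ) := [([0, 2], 11), ([0, 2, 1], 11), ([0, 1, 2], 11), ([0, 0, 2], 0),
  ([0, 1, 2, 2, 2], 0), ([0, 2, 2, 2], 11), ([0, 0, 2, 1], 0), ([0, 2, 1, 1, 0], 0), ([0, 2, 1], 0),
  ([0, 1, 2, 0, 2], 0), ([0, 2, 0, 2, 1], 0), ([0, 1, 2, 1, 0], 0), ([0, 1, 2], 0)]

theorem chk22 : ([1, 2, 12, 13].all fun C => (List.range 22).all fun D => D == 0 || D == 11 ||
    (orb v22 5 C).contains D || (List.range 22).all fun E => E == 0 || E == 11 ||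
    (orb v22 5 C).contains E || (orb v22 5 D).contains E || (List.range 22).all fun H => H == 0 ||
    H == 11 || (orb v22 5 C).contains H || (orb v22 5 D).contains H || (orb v22 5 E).contains H ||
    fN (cnd 22 v22 lg22 rp22 [11, 0, C, D, E, H]) fun T =>
      certs22.any (badW 22 [5, 7, 11, 1152] [x22, w22, ap T]) || T == f22 || T == f22' ||
      nineW 22 [x22, w22, ap T] [0, 2, 0, 2] [0, 0, 2, 2, 0, 0] 7 8 ||
      nineW 22 [x22, w22, ap T] [2, 0, 2] [1, 0, 2, 0, 1, 0] 2 5) = true := by
  decide +kernel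

end H21.Eng
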