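import Mathlib
import Cfsg.Agent.H21.M22d

/-! Simple groups of order 443520 are isomorphic. -/

set_option autoImplicit false
set_option linter.unusedSectionVars false

open Cfsg H4 H17 H18 Subgroup MulAction
open scoped Classical

namespace H21.Eng

variable {G : Type*} [Group G] [Finite G] [IsSimpleGroup G]

theorem m22_fin (hc : Nat.card G = 443520) {x w f : G} (hx : SC 11 x) (hw : SC 5 w)
    (he : Nat.card (Aut hx.ord) = 5) (he' : Nat.card (Aut hw.ord) = 4)
    (hxw : w * x * w⁻¹ = xp x (3 : ZMod 11)) (hf : f * w * f⁻¹ = xp w (2 : ZMod 5))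
    {φ : G →* Equiv.Perm (Fin 22)} (hφ : Function.Injective φ)
    (h : List.Forall₂ (Rep φ) [x, w, f] [x22, w22, ap f22]) :
    Nonempty (G ≃* cl 22 [x22, w22, ap f22]) := by
  refine iso_cl hφ h ?_
  set Y := closure {g | g ∈ [x, w, f]}
  have hY : ∀ g ∈ [x, w, f], g ∈ Y := fun g hg => subset_closure hg
  obtain ⟨n, e1, e2⟩ := D1.card_sub' hx.d1 (normalizer_le hx.ord (a := u3) hxw
    (by rw [he, orderOf_u3]) (by rw [hx.cent]; exact zpowers_le.2 (hY x (by simp))) (hY w (by simp)))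
  obtain ⟨m, e3, e4⟩ := D1.card_sub' hw.d1 (normalizer_le hw.ord (a := u2) hf
    (by rw [he', orderOf_u2]) (by rw [hw.cent]; exact zpowers_le.2 (hY w (by simp))) (hY f (by simp)))
  obtain ⟨g, hg, hg'⟩ := exists_rep_evw h hY [0, 2]
  have e5 := (hg'.dvd_orderOf (p := 7) (y := 0) (by decide) (by decide) (by decide +kernel)
    (by decide +kernel)).trans (orderOf_dvd_natCard _ hg)
  have e6 := card_subgroup_dvd_card Y
  rw [hx.card_normalizer, he] at e2
  rw [hw.card_normalizer, he'] at e4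
  refine eq_top_of_card_eq _ ?_
  rw [hc] at e6 ⊢
  rw [e2] at e4 e5 e6 ⊢
  have e7 : ∀ n ∈ divs [127, 62], n % 11 = 1 → 7 ∣ 11 * 5 * n → n = 56 ∨ n = 672 ∨ n = 8064 := by
    decide +kernel
  have := e7 n (mem_divs _ (Nat.dvd_of_mul_dvd_mul_left (k := 55) (by norm_num) e6)) e1 e5
  omega

theorem m22_iso (hc : Nat.card G = 443520) : Nonempty (G ≃* cl 22 [x22, w22, ap f22]) := by
  obtain ⟨x, w, hx, hw, f7, f5, f11, he, he', hxw, hF⟩ := m22_blocks hc
  obtain ⟨f0, -, hf0⟩ := exists_act hw.ord (a := u2) (by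
    rw [he', ← orderOf_u2, pow_orderOf_eq_one])
  obtain ⟨hmin, K, hK⟩ := m22_index hc hw hF hf0
  obtain ⟨b7, b5, b11⟩ : IsBlk G ⟨7, 3, 1⟩ f7 ∧ IsBlk G ⟨5, 4, 1⟩ f5 ∧ IsBlk G ⟨11, 5, 1⟩ f11 := by
    simpa [P22] using hF
  have hexp : ∀ g : G, ∃ N ∈ [5, 7, 11, 1152], g ^ N = 1 := fun g => by
    have : ∀ d ∈ D22, (∀ p ∈ [5, 7, 11], ∀ q ∈ [2, 3, 5, 7, 11], q ≠ p → q ∣ d → ¬ p ∣ d) →
        ∃ N ∈ [5, 7, 11, 1152], d ∣ N := by decide +kernel
    obtain ⟨N, h1, h2⟩ := this _ (mem_D22 _ (hc ▸ orderOf_dvd_natCard g)) fun p hp q hq e => by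
      have : q.Prime := (by decide : ∀ q ∈ [2, 3, 5, 7, 11], q.Prime) q hq
      simp only [List.mem_cons, List.not_mem_nil, or_false] at hp
      rcases hp with rfl | rfl | rfl
      exacts [b5.sc_no this e g, b7.sc_no this e g, b11.sc_no this e g]
    exact ⟨N, h1, orderOf_dvd_iff_pow_eq_one.1 h2⟩
  have hΩ : Nat.card (G ⧸ K) = 22 := hK
  have hS : ∀ ω : G ⧸ K, Nat.card (stabilizer G ω) = 20160 := fun ω => by
    have := card_mul_index K
    rw [hK] at this
    rw [card_stab]
    omega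
  have hx0 : ∀ ω : G ⧸ K, x • ω ≠ ω := fun ω e => by
    have := orderOf_dvd_natCard (stabilizer G ω) e
    rw [hS, hx.ord] at this
    exact absurd this (by decide)
  obtain ⟨⟨η, h1⟩, ⟨η', h2⟩, h3⟩ := (Finite.one_lt_card_iff_nontrivial.1
    (hΩ ▸ le_card_fix (Ω := G ⧸ K) hw.ord)).exists_pair_ne
  replace h3 : η ≠ η' := fun e => h3 (Subtype.ext e)
  have hxw' : w * x * w⁻¹ = x ^ 3 := hxw
  obtain ⟨φ, hφ, hst, hrep⟩ := exists_lab hx.ord (K := K) (fun e => by simp [e] at hK) hK
    (fun b => if b = 0 then η else η') fun i hi j hj e => by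
      split_ifs at e with a b b
      · have := pow_smul_inj hx.ord (hx0 _) e; omega
      · exact absurd e (pow_smul_ne hx.ord hxw' (by decide) h1 h2 h3 (hx0 _) _ _)
      · exact absurd e.symm (pow_smul_ne hx.ord hxw' (by decide) h1 h2 h3 (hx0 _) _ _)
      · have := pow_smul_inj hx.ord (hx0 _) e; omega
  have rx : Rep φ x x22 := hrep x (· + 1) _ (fun i _ => by rw [← mul_smul, ← pow_succ'])
    (by decide +kernel)
  have rw' : Rep φ w w22 := hrep w (3 * · % 11) _ (fun i _ => smul_pow_smul hx.ord hxw'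
    (by split_ifs <;> assumption) i) (by decide +kernel)
  have rv : Rep φ (xp w (2 : ZMod 5)) v22 := (rw'.pow 2).congr (by decide +kernel)
  have hsw : ∀ f, f * w * f⁻¹ = xp w (2 : ZMod 5) → fn φ f 0 = 11 ∧ fn φ f 11 = 0 := fun f hf => by
    have key : ∀ i < 22, w22 i = i → fn φ f i ≠ i ∧ (fn φ f i = 0 ∨ fn φ f i = 11) := fun i hi e => by
      refine ⟨fun c => ?_, (by decide +kernel : ∀ A < 22, v22 A = A → A = 0 ∨ A = 11) _ (fn_lt f hi)
        (by simpa [e] using (fn_iter rw' rv hf 1 hi).symm)⟩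
      obtain ⟨m, e3, e4⟩ := D1.card_sub' hw.d1 (normalizer_le hw.ord (a := u2) hf
        (by rw [he', orderOf_u2]) (by
          rw [hw.cent]; exact zpowers_le.2 (hst w i hi ((rw' i hi).trans e))) (hst f i hi c))
      rw [hw.card_normalizer, he', hS] at e4
      omega
    have a := key 0 (by decide) (by decide +kernel)
    have b := key 11 (by decide) (by decide +kernel)
    exact ⟨a.2.resolve_left a.1, b.2.resolve_right b.1⟩
  have hne : ∀ f, f * w * f⁻¹ = xp w (2 : ZMod 5) → ∀ i < 22, i ≠ 0 → i ≠ 11 →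
      fn φ f i ≠ 0 ∧ fn φ f i ≠ 11 := fun f hf i hi a b =>
    ⟨fun e => b (fn_inj f hi (by decide) (e.trans (hsw f hf).2.symm)),
      fun e => a (fn_inj f hi (by decide) (e.trans (hsw f hf).1.symm))⟩
  have hmul : ∀ f j, f * w * f⁻¹ = xp w (2 : ZMod 5) → f * w ^ j * w * (f * w ^ j)⁻¹ = xp w (2 : ZMod 5) :=
    fun f j hf => by rw [← hf, mul_inv_rev, mul_assoc f, ← pow_succ, pow_succ']; group
  obtain ⟨f, hf, h4⟩ : ∃ f, f * w * f⁻¹ = xp w (2 : ZMod 5) ∧ fn φ f 1 ∈ [1, 2, 12, 13] := by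
    obtain ⟨j, -, hj⟩ := (by decide +kernel : ∀ A < 22, A ≠ 0 ∧ A ≠ 11 →
      ∃ j < 5, v22^[j] A ∈ [1, 2, 12, 13]) _ (fn_lt f0 (by decide)) (hne f0 hf0 1 (by decide)
        (by decide) (by decide))
    exact ⟨f0 * w ^ j, hmul f0 j hf0, by
      rwa [fn_mul _ _ (by decide), rw'.pow j 1 (by decide), fn_iter rw' rv hf0 j (by decide)]⟩
  have rf := rep_cnd rw' rv hf (lg := lg22) (rp := rp22) (reps := [0, 11, 1, 2, 12, 13]) (by decide)
    (by decide +kernel)
  simp only [List.map_cons, List.map_nil, (hsw f hf).1, (hsw f hf).2] at rf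
  have o := fun {y z : ℕ} => not_mem_orb rw' rv hf (m := 5) (y := y) (z := z)
  have h5 := List.all_eq_true.1 (List.all_eq_true.1 chk22 _ h4) _
    (List.mem_range.2 (fn_lt (φ := φ) f (i := 2) (by decide)))
  simp only [Bool.or_eq_true, Bool.false_eq_true, beq_iff_eq, hne f hf 2 (by decide) (by decide) (by decide), false_or,
    o (y := 1) (z := 2) (by decide) (by decide) (by decide +kernel)] at h5
  replace h5 := List.all_eq_true.1 h5 _ (List.mem_range.2 (fn_lt (φ := φ) f (i := 12) (by decide)))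
  simp only [Bool.or_eq_true, Bool.false_eq_true, beq_iff_eq, hne f hf 12 (by decide) (by decide) (by decide), false_or,
    o (y := 1) (z := 12) (by decide) (by decide) (by decide +kernel),
    o (y := 2) (z := 12) (by decide) (by decide) (by decide +kernel)] at h5
  replace h5 := List.all_eq_true.1 h5 _ (List.mem_range.2 (fn_lt (φ := φ) f (i := 13) (by decide)))
  have hr : List.Forall₂ (Rep φ) [x, w, f] _ := .cons rx (.cons rw' (.cons rf .nil))
  have h9 : ∀ u v, ∀ α < 22, ∀ β < 22, α ≠ β → nineW 22 _ u v α β ≠ true := fun u v α a β b c e => by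
    have d := nine_of hφ hr a b e (T := stabilizer G (x ^ α • (if α / 11 = 0 then η else η'),
      x ^ β • if β / 11 = 0 then η else η')) fun g a' b' => Prod.ext (hst g α a a') (hst g β b b')
    have := card_stab2 (m := 21) hΩ (by decide) hmin (hx0 η) (α := x ^ α • if α / 11 = 0 then η else η')
      (β := x ^ β • if β / 11 = 0 then η else η') fun e => c (by
        split_ifs at e with a b b
        · have := pow_smul_inj hx.ord (hx0 _) e; omega
        · exact absurd e (pow_smul_ne hx.ord hxw' (by decide) h1 h2 h3 (hx0 _) _ _)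
        · exact absurd e.symm (pow_smul_ne hx.ord hxw' (by decide) h1 h2 h3 (hx0 _) _ _)
        · have := pow_smul_inj hx.ord (hx0 _) e; omega)
    omega
  simp only [Bool.or_eq_true, Bool.false_eq_true, beq_iff_eq, hne f hf 13 (by decide) (by decide) (by decide), false_or,
    o (y := 1) (z := 13) (by decide) (by decide) (by decide +kernel),
    o (y := 2) (z := 13) (by decide) (by decide) (by decide +kernel),
    o (y := 12) (z := 13) (by decide) (by decide) (by decide +kernel), fN_eq, not_badW hr hexp,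
    h9 _ _ 7 (by decide) 8 (by decide) (by decide), h9 _ _ 2 (by decide) 5 (by decide) (by decide),
    or_false] at h5
  rcases h5 with e | e
  · exact m22_fin hc hx hw he he' hxw hf hφ (e ▸ hr)
  rw [e] at rf
  have hs : ∀ i : Fin 22, (Equiv.addRight (11 : Fin 22) i : ℕ) = (i + 11) % 22 := by decide
  exact m22_fin hc hx hw he he' hxw (by simpa using hmul f 1 hf) ((MulAut.conj _).injective.comp hφ)
    (.cons (rx.conj _ (s := fun i => (i + 11) % 22) hs (by decide +kernel))
    (.cons (rw'.conj _ (s := fun i => (i + 11) % 22) hs (by decide +kernel))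
    (.cons ((rf.mul rw').conj _ (s := fun i => (i + 11) % 22) hs (by decide +kernel)) .nil)))

theorem m22_unique {G : Type*} [Group G] [Finite G] {H : Type*} [Group H] [Finite H] (hG : IsM22 G)
    (hH : IsM22 H) : Nonempty (G ≃* H) := by
  have := hG.1
  have := hH.1
  obtain ⟨e⟩ := m22_iso hG.2
  obtain ⟨e'⟩ := m22_iso hH.2
  exact ⟨e.trans e'.symm⟩

end H21.Eng
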