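import Mathlib
import Cfsg.Agent.H21.Lab

/-! Simple groups of order 10200960: the searches. -/

set_option autoImplicit false

namespace H21.Eng

def D23 : List ℕ := [1, 2, 3, 4, 5, 6, 7, 8, 9, 10, 11, 12, 14, 15, 16, 18, 20, 21, 22, 23, 24,
  28, 30, 32, 33, 35, 36, 40, 42, 44, 45, 46, 48, 55, 56, 60, 63, 64, 66, 69, 70, 72, 77, 80, 84,
  88, 90, 92, 96, 99, 105, 110, 112, 115, 120, 126, 128, 132, 138, 140, 144, 154, 160, 161, 165,
  168, 176, 180, 184, 192, 198, 207, 210, 220, 224, 230, 231, 240, 252, 253, 264, 276, 280, 288,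
  308, 315, 320, 322, 330, 336, 345, 352, 360, 368, 384, 385, 396, 414, 420, 440, 448, 460, 462,
  480, 483, 495, 504, 506, 528, 552, 560, 576, 616, 630, 640, 644, 660, 672, 690, 693, 704, 720,
  736, 759, 770, 792, 805, 828, 840, 880, 896, 920, 924, 960, 966, 990, 1008, 1012, 1035, 1056,
  1104, 1120, 1152, 1155, 1232, 1260, 1265, 1288, 1320, 1344, 1380, 1386, 1408, 1440, 1449, 1472,
  1518, 1540, 1584, 1610, 1656, 1680, 1760, 1771, 1840, 1848, 1920, 1932, 1980, 2016, 2024, 2070,
  2112, 2208, 2240, 2277, 2310, 2415, 2464, 2520, 2530, 2576, 2640, 2688, 2760, 2772, 2880, 2898,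
  2944, 3036, 3080, 3168, 3220, 3312, 3360, 3465, 3520, 3542, 3680, 3696, 3795, 3864, 3960, 4032,
  4048, 4140, 4224, 4416, 4480, 4554, 4620, 4830, 4928, 5040, 5060, 5152, 5280, 5313, 5520, 5544,
  5760, 5796, 6072, 6160, 6336, 6440, 6624, 6720, 6930, 7040, 7084, 7245, 7360, 7392, 7590, 7728,
  7920, 8064, 8096, 8280, 8832, 8855, 9108, 9240, 9660, 9856, 10080, 10120, 10304, 10560, 10626,
  11040, 11088, 11385, 11592, 12144, 12320, 12672, 12880, 13248, 13440, 13860, 14168, 14490, 14720,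
  14784, 15180, 15456, 15840, 15939, 16192, 16560, 17710, 18216, 18480, 19320, 20160, 20240, 20608,
  21120, 21252, 22080, 22176, 22770, 23184, 24288, 24640, 25760, 26496, 26565, 27720, 28336, 28980,
  29568, 30360, 30912, 31680, 31878, 32384, 33120, 35420, 36432, 36960, 38640, 40320, 40480, 42504,
  44160, 44352, 45540, 46368, 48576, 49280, 51520, 53130, 55440, 56672, 57960, 60720, 61824, 63360,
  63756, 66240, 70840, 72864, 73920, 77280, 79695, 80960, 85008, 88704, 91080, 92736, 97152, 103040,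
  106260, 110880, 113344, 115920, 121440, 127512, 132480, 141680, 145728, 147840, 154560, 159390,
  161920, 170016, 182160, 185472, 212520, 221760, 226688, 231840, 242880, 255024, 283360, 291456,
  309120, 318780, 340032, 364320, 425040, 443520, 463680, 485760, 510048, 566720, 637560, 680064,
  728640, 850080, 927360, 1020096, 1133440, 1275120, 1457280, 1700160, 2040192, 2550240, 3400320,
  5100480, 10200960]

theorem mem_D23 (d : ℕ) (h : d ∣ 10200960) : d ∈ D23 :=
  (by decide +kernel : ∀ d ∈ divs [127, 8, 4, 6, 10, 22], d ∈ D23) d (mem_divs _ h)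

def P23 : List Pr := [⟨5, 4, 3⟩, ⟨11, 5, 1⟩, ⟨23, 11, 1⟩]

def U23 : List Rec := [(896, [1, -1, -2]), (896, [1, -1, -2]), (231, [1, 0, 2]), (2024, [-1, 0, 0]),
  (1035, [0, 2, 0]), (45, [0, 2, -2]), (45, [0, 2, -2]), (230, [0, -2, 0]), (770, [0, 0, -1]),
  (770, [0, 0, -1]), (990, [0, 0, 2]), (990, [0, 0, 2]), (231, [0, 0, 2]), (231, [0, 0, 2]),
  (22, [0, 0, -2])]

theorem k23_23 : ((optsP 10200960 D23 23).all fun P => (P.e == 11 && P.c == 1) ||
    engk 10200960 D23 [P] 1 fun _ => false) = true := by decide +kernel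

theorem k23_7 : ((optsP 10200960 D23 7).all fun P => P.c % 11 != 0 ||
    engk 10200960 D23 [P, ⟨23, 11, 1⟩] 1 fun _ => false) = true := by decide +kernel

theorem k23_11 : ((optsP 10200960 D23 11).all fun P => P.c % 7 == 0 || P.c % 23 == 0 ||
    (P.e == 5 && P.c == 1) ||
    engk 10200960 D23 [P, ⟨23, 11, 1⟩] 1 fun _ => false) = true := by decide +kernel

theorem k23_5 : ((optsP 10200960 D23 5).all fun P => P.c % 11 == 0 || P.c % 23 == 0 ||
    (P.e == 4 && P.c == 3) ||
    engk 10200960 D23 [P, ⟨11, 5, 1⟩, ⟨23, 11, 1⟩] 2 fun _ => false) = true := by decide +kernel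

theorem k23_e : engk 10200960 D23 P23 3 (· == U23) = true := by decide +kernel

theorem k23_f : (colAll 10200960 P23 3 (cz 10200960 D23) U23 fun _ v =>
    v == [6, 7, 7, -18, -18, -14, -14, 22, -3, -3, 27, 8, 7, 0, 0]) = true := by decide +kernel

end H21.Eng
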