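import Mathlib
import Cfsg.Agent.H21.M23a

/-! Simple groups of order 10200960: a subgroup of index 23. -/

set_option autoImplicit false
set_option linter.unusedSectionVars false

open Cfsg H4 H17 H18 Subgroup
open scoped Classical

namespace H21.Eng

variable {G : Type*} [Group G] [Finite G] [IsSimpleGroup G]

def u23 : (ZMod 23)ˣ := Units.mk0 2 (by decide)
theorem orderOf_u23 : orderOf u23 = 11 := orderOf_eq_prime (by decide) (by decide)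

theorem rho_eq' {fs : List (Irr G → ℤ)} {ψ : Irr G} {d : ℕ} {l : List ℤ} :
    rho fs ψ = (d, l) ↔ deg ψ = d ∧ fs.map (· ψ) = l := Prod.ext_iff

theorem m23_blocks (hc : Nat.card G = 10200960) : ∃ (x q w : G) (hx : SC 23 x) (hq : SC 11 q)
    (f5 f11 f23 : Irr G → ℤ), Nat.card (Aut hx.ord) = 11 ∧ Nat.card (Aut hq.ord) = 5 ∧
      q * x * q⁻¹ = xp x (2 : ZMod 23) ∧ w * q * w⁻¹ = xp q (3 : ZMod 11) ∧
      List.Forall₂ (IsBlk G) P23 [f5, f11, f23] := by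
  have hG : ¬ IsMulCommutative G := not_comm_of_not_prime (by rw [hc]; norm_num)
  obtain ⟨x, hx⟩ := exists_D1 (G := G) (p := 23) (by rw [hc]; norm_num) (by rw [hc]; norm_num)
  obtain ⟨u, hu⟩ := exists_D1 (G := G) (p := 7) (by rw [hc]; norm_num) (by rw [hc]; norm_num)
  obtain ⟨e, c, f23, he, hcx, b23, h1⟩ := exists_opt hG (by decide) hx hc mem_D23
  replace h1 := List.all_eq_true.1 k23_23 _ h1
  simp only [Bool.or_eq_true, Bool.and_eq_true, beq_iff_eq] at h1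
  obtain ⟨rfl, rfl⟩ := h1.resolve_right (not_engk (.cons b23 .nil) hG (by simp) hc (by decide)
    mem_D23 le_rfl)
  have sx := D1.sc hx hcx
  obtain ⟨q, -, hqx⟩ := exists_act sx.ord (a := u23) (by rw [he, ← orderOf_u23, pow_orderOf_eq_one])
  have hq : D1 11 q := ⟨by rw [SC.orderOf_of_act sx hqx (by decide), orderOf_u23], by rw [hc]; decide⟩
  obtain ⟨e, c, f7, -, -, b7, h1⟩ := exists_opt hG (by decide) hu hc mem_D23
  obtain ⟨e', c', f11, he', hcq, b11, h2⟩ := exists_opt hG (by decide) hq hc mem_D23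
  have n3 := b23.sc_no (q := 7) (by decide) (by decide)
  have n4 := b23.sc_no (q := 11) (by decide) (by decide)
  have n5 := b23.sc_no (q := 5) (by decide) (by decide)
  replace h1 := List.all_eq_true.1 k23_7 _ h1
  simp only [Bool.or_eq_true, bne_iff_ne] at h1
  replace h1 := h1.resolve_right (not_engk (.cons b7 (.cons b23 .nil)) hG (by simpa using n3) hc
    (by decide) mem_D23 (by simp))
  have n1 := b23.not_dvd_c b11 (by decide) (by decide) (by decide) (by decide)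
  have n2 := b7.not_dvd_c b11 (by decide) (by decide) (by decide) fun e => h1 (Nat.mod_eq_zero_of_dvd e)
  replace h2 := List.all_eq_true.1 k23_11 _ h2
  simp only [Bool.or_eq_true, Bool.and_eq_true, beq_iff_eq, n1, n2, false_or] at h2
  obtain ⟨rfl, rfl⟩ := h2.resolve_right (not_engk (.cons b11 (.cons b23 .nil)) hG
    (by simpa using n4) hc (by decide) mem_D23 (by simp))
  have sq := D1.sc hq hcq
  obtain ⟨w, hw5, hwq⟩ := exists_w sq he'.symm.dvd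
  have hw : D1 5 w := ⟨hw5, by rw [hc]; decide⟩
  obtain ⟨e', c', f5, -, -, b5, h3⟩ := exists_opt hG (by decide) hw hc mem_D23
  have n6 := b23.not_dvd_c b5 (by decide) (by decide) (by decide) (by decide)
  have n7 := b11.not_dvd_c b5 (by decide) (by decide) (by decide) (by decide)
  replace h3 := List.all_eq_true.1 k23_5 _ h3
  simp only [Bool.or_eq_true, Bool.and_eq_true, beq_iff_eq, n6, n7, false_or] at h3
  obtain ⟨rfl, rfl⟩ := h3.resolve_right (not_engk (.cons b5 (.cons b11 (.cons b23 .nil))) hG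
    (by simpa using ⟨⟨b11.sc_no (q := 5) (by decide) (by decide), n5⟩, n4⟩) hc (by decide) mem_D23
    (by simp))
  exact ⟨x, q, w, sx, sq, f5, f11, f23, he, he', hqx, hwq, .cons b5 (.cons b11 (.cons b23 .nil))⟩

theorem lam23 {l0 l1 l2 l3 l4 l5 l6 l7 l8 l9 l10 l11 l12 l13 l14 l15 l16 : ℕ} {s t : ℤ}
    (e1 : 2 * ((l0 : ℤ) * 2 + (l1 * -2 + (l2 * -2 + (l3 * 2 + (l4 * 0 + (l5 * 0 + (l6 * -2 + (l7 * -2 +
      (l8 * 0 + (l9 * -1 + (l10 * -1 + (l11 * 2 + (l12 * 2 + (l13 * 2 + (l14 * 2 + (l15 * -2 +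
      0))))))))))))))) + l16 * 0) = s)
    (e2 : 2 * ((l0 : ℤ) * 2 + (l1 * -1 + (l2 * -1 + (l3 * 0 + (l4 * 0 + (l5 * 2 + (l6 * 2 + (l7 * 2 +
      (l8 * -2 + (l9 * 0 + (l10 * 0 + (l11 * 0 + (l12 * 0 + (l13 * 0 + (l14 * 0 + (l15 * 0 +
      0))))))))))))))) + l16 * 0) = 0)
    (e3 : t = 2 * ((l0 : ℤ) * (1 : ℕ) + (l1 * (896 : ℕ) + (l2 * (896 : ℕ) + (l3 * (231 : ℕ) +
      (l4 * (2024 : ℕ) + (l5 * (1035 : ℕ) + (l6 * (45 : ℕ) + (l7 * (45 : ℕ) + (l8 * (230 : ℕ) +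
      (l9 * (770 : ℕ) + (l10 * (770 : ℕ) + (l11 * (990 : ℕ) + (l12 * (990 : ℕ) + (l13 * (231 : ℕ) +
      (l14 * (231 : ℕ) + (l15 * (22 : ℕ) + 0))))))))))))))) + l16 * (253 : ℕ))) :
    (s = 0 → t = 506 → l0 = 1 → l15 ≠ 0) ∧ (s = 4 → t = 462 →
      (l1 = 0 ∧ l2 = 0 ∧ l4 = 0 ∧ l5 = 0 ∧ l6 = 0 ∧ l7 = 0 ∧ l9 = 0 ∧ l10 = 0 ∧ l11 = 0 ∧ l12 = 0 ∧
        l15 = 0 ∧ l16 = 0) ∧ (l0 = 1 ∧ l8 = 1 ∧ l3 = 0 ∧ l13 = 0 ∧ l14 = 0 ∨ l0 = 0 ∧ l8 = 0 ∧
        (l3 = 1 ∧ l13 = 0 ∧ l14 = 0 ∨ l3 = 0 ∧ l13 = 1 ∧ l14 = 0 ∨ l3 = 0 ∧ l13 = 0 ∧ l14 = 1))) := by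
  refine ⟨by omega, fun a b => ?_⟩
  obtain ⟨rfl, rfl, rfl, rfl, rfl, rfl, rfl, rfl, rfl⟩ : l1 = 0 ∧ l2 = 0 ∧ l4 = 0 ∧ l5 = 0 ∧ l9 = 0 ∧
    l10 = 0 ∧ l11 = 0 ∧ l12 = 0 ∧ l16 = 0 := by clear * - e3 b; omega
  have : l8 ≤ 1 := by omega
  interval_cases l8 <;> omega

set_option maxHeartbeats 1000000 in
theorem m23_index (hc : Nat.card G = 10200960) {f5 f11 f23 : Irr G → ℤ}
    (hF : List.Forall₂ (IsBlk G) P23 [f5, f11, f23]) : ∃ K : Subgroup G, K.index = 23 := by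
  have hG : ¬ IsMulCommutative G := not_comm_of_not_prime (by rw [hc]; norm_num)
  obtain ⟨b5, b11, b23⟩ : IsBlk G ⟨5, 4, 3⟩ f5 ∧ IsBlk G ⟨11, 5, 1⟩ f11 ∧ IsBlk G ⟨23, 11, 1⟩ f23 := by
    simpa [P23] using hF
  obtain ⟨cs, hcov, hU⟩ := engk_sound hF hG (by
    simpa [P23] using ⟨⟨b11.sc_no (q := 5) (by decide) (by decide), b23.sc_no (q := 5) (by decide)
      (by decide)⟩, b23.sc_no (q := 11) (by decide) (by decide)⟩) hc (by decide) mem_D23 (k := 3)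
    le_rfl k23_e
  rw [beq_iff_eq] at hU
  obtain ⟨z, hz, hC⟩ := exists_cz hG (by rw [hc]; decide) hc mem_D23
  have hzz := mul_self_of_two hz
  have hcol := k23_f
  rw [← hU] at hcol
  replace hcol := colAll_sound hcov (hc ▸ colHyp hF hG hz) hC hcol
  obtain ⟨R, hR, hall, hsum⟩ := hcov.split
  clear hcov hC
  simp only [U23, List.map_eq_cons_iff, List.map_eq_nil_iff, rho_eq', List.map_cons, List.map_nil,
    List.cons.injEq, and_true] at hU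
  obtain ⟨a1, _, rfl, ⟨d1, -, q1, r1⟩, a2, _, rfl, ⟨d2, -, q2, r2⟩, a3, _, rfl, ⟨d3, -, q3, r3⟩,
    a4, _, rfl, ⟨d4, -, q4, r4⟩, a5, _, rfl, ⟨d5, -, q5, r5⟩, a6, _, rfl, ⟨d6, -, q6, r6⟩,
    a7, _, rfl, ⟨d7, -, q7, r7⟩, a8, _, rfl, ⟨d8, -, q8, r8⟩, a9, _, rfl, ⟨d9, -, q9, r9⟩,
    a10, _, rfl, ⟨d10, -, q10, r10⟩, a11, _, rfl, ⟨d11, -, q11, r11⟩, a12, _, rfl, ⟨d12, -, q12, r12⟩,
    a13, _, rfl, ⟨d13, -, q13, r13⟩, a14, _, rfl, ⟨d14, -, q14, r14⟩, a15, _, rfl, ⟨d15, -, q15, r15⟩,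
    rfl⟩ := hU
  simp only [List.map_cons, List.map_nil, List.reverse_cons, List.reverse_nil, List.nil_append,
    List.cons_append, beq_iff_eq, List.cons.injEq, and_true] at hcol
  obtain ⟨z15, -, -, -, -, -, -, z8, -⟩ := hcol
  simp only [List.map_cons, List.map_nil, List.sum_cons, List.sum_nil] at hsum
  have hR' : ∀ ψ ∈ R, ψ ≠ irrOne G ∧ f11 ψ = 0 ∧ f23 ψ = 0 := fun ψ h =>
    ⟨(hR ψ h).1, (hR ψ h).2 1 (by decide), (hR ψ h).2 2 (by decide)⟩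
  have d0 := H17.deg_irrOne (G := G)
  obtain ⟨θ, rfl, d16⟩ := rest_single (R := R) (d := deg) (m := 253) (by norm_num) (fun ψ h => by
    obtain ⟨e, e1, e2⟩ := hR' ψ h
    exact Nat.le_of_dvd (Nat.pos_of_ne_zero (deg_ne_zero ψ)) ((show Nat.Coprime 11 23 by
      decide).mul_dvd_of_dvd_of_dvd (b11.dvd_deg e e1) (b23.dvd_deg e e2))) (by
    have := hsum fun ψ => deg ψ ^ 2
    rw [sum_deg_sq, hc, d0, d1, d2, d3, d4, d5, d6, d7, d8, d9, d10, d11, d12, d13, d14, d15] at this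
    clear * - this
    omega)
  obtain ⟨-, q16, r16⟩ := hR' θ (Finset.mem_singleton_self _)
  simp only [Finset.sum_singleton] at hsum
  simp only [List.mem_cons, List.not_mem_nil, or_false, Finset.mem_singleton] at hall
  have q0 : f11 (irrOne G) = 2 := b11.one
  have r0 : f23 (irrOne G) = 2 := b23.one
  have hmin : ∀ ψ ≠ irrOne G, 22 ≤ deg ψ := fun ψ h => by
    clear * - hall h d0 d1 d2 d3 d4 d5 d6 d7 d8 d9 d10 d11 d12 d13 d14 d15 d16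
    rcases hall ψ with rfl | (rfl | rfl | rfl | rfl | rfl | rfl | rfl | rfl | rfl | rfl | rfl | rfl |
      rfl | rfl | rfl) | rfl <;> first | omega | exact absurd rfl h
  have hχ : ∀ g, a15.1 g = iv a15 g := fun g => int_of_galP fun ψ h => by
    clear * - hall h d0 d1 d2 d3 d4 d5 d6 d7 d8 d9 d10 d11 d12 d13 d14 d15 d16
    rcases hall ψ with rfl | (rfl | rfl | rfl | rfl | rfl | rfl | rfl | rfl | rfl | rfl | rfl | rfl |
      rfl | rfl | rfl) | rfl <;> first | rfl | omega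
  have hv1 : ∀ ψ : Irr G, ψ.1 1 = (deg ψ : ℤ) := fun ψ => by rw [← deg_eq, Int.cast_natCast]
  have hvz := fun ψ : Irr G => iv_inv ψ hzz
  obtain ⟨l, m, hl, hm, h1⟩ := exists_sq hχ
  obtain ⟨e1, e2⟩ := b23.sq_rel (by decide) (b23.val' (r := -1) (by simp) r15) hl hm
  obtain ⟨e3, e4⟩ := b11.sq_rel (r := 0) (by decide)
    (fun g h => by rw [b11.van a15 (by simp [d15]) g h, Int.cast_zero]) hl hm
  have hl' : ∀ g, (a15.1 g ^ 2 + (-1 : ℤ) * a15.1 (g * g)) / 2 = ∑ ψ, (l ψ : ℂ) * ψ.1 g := fun g => by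
    rw [← hl]; simp [sub_eq_add_neg]
  have e5 := sq_int (hl' 1) hv1 (by rw [mul_one, hv1])
  have e6 := sq_int (ε := 1) (l := m) (by simpa using hm 1) hv1 (by rw [mul_one, hv1])
  have e7 := sq_int (hl' _) hvz (by rw [hzz, hv1])
  rw [hsum] at e1 e2 e3 e4 e5 e6 e7
  simp only [d0, d1, d2, d3, d4, d5, d6, d7, d8, d9, d10, d11, d12, d13, d14, d15, d16, q0, q1, q2,
    q3, q4, q5, q6, q7, q8, q9, q10, q11, q12, q13, q14, q15, q16, r0, r1, r2, r3, r4, r5, r6, r7,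
    r8, r9, r10, r11, r12, r13, r14, r15, r16, z8, z15, iv_one] at e1 e2 e3 e4 e5 e6 e7
  obtain ⟨⟨y1, y2, y4, y5, y6, y7, y9, y10, y11, y12, y15, y16⟩, y⟩ :=
    (lam23 e1 (e3.trans rfl) e5).2 rfl rfl
  obtain ⟨y0, y8, y3, y13, y14⟩ | ⟨y0, y8, y⟩ := y
  · simp [y0, y1, y2, y3, y4, y5, y6, y7, y8, y9, y10, y11, y12, y13, y14, y15, y16] at e7
  have h4 : m (irrOne G) = 1 := by rwa [y0, zero_add] at h1
  have key : ∀ ψ : Irr G, deg ψ = 231 → (∀ g, (a15.1 g ^ 2 - a15.1 (g * g)) / 2 = ψ.1 g) →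
      ∃ K : Subgroup G, K.index = 23 := fun ψ a b => by
    obtain ⟨K, h2, h3⟩ := exists_index_le (χ := a15) (ψ := ψ) (n := m) (by rw [d15]; decide)
      (fun g => by rw [a15.2.apply_inv, hχ, map_intCast]) b (fun e => by rw [e, d15] at a; cases a) hm
      (h4 ▸ one_ne_zero) ((lam23 e2 (e4.trans rfl) e6).1 rfl rfl h4)
    exact ⟨K, le_antisymm (by rwa [d15] at h3) (index_ge h2 hmin)⟩
  obtain ⟨y3, y13, y14⟩ | ⟨y3, y13, y14⟩ | ⟨y3, y13, y14⟩ := y <;>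
    [refine key a3 d3 fun g => ?_; refine key a13 d13 fun g => ?_; refine key a14 d14 fun g => ?_] <;>
    rw [hl, hsum] <;>
    simp [y0, y1, y2, y3, y4, y5, y6, y7, y8, y9, y10, y11, y12, y13, y14, y15, y16]

end H21.Eng
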