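import Mathlib
import Cfsg.Agent.H21.M23b

/-! Simple groups of order 10200960 are isomorphic. -/

set_option autoImplicit false
set_option linter.unusedSectionVars false

open Cfsg H4 H17 H18 Subgroup MulAction
open scoped Classical

namespace H21.Eng

def x23 : ℕ → ℕ := ap 919863205167070139185553590062145
def q23 : ℕ → ℕ := ap 28052450873582545129410374324654144
def r23 : ℕ → ℕ := ap 19783518120266724560753993576399104
def lg23 : ℕ → ℕ := ap 6736580137028735938643161793168384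
def rp23 : ℕ → ℕ := ap 2679893913643165947155544143856672
def w23 : ℕ → ℕ := ap 15076739552863412137403981848780832
def n23 (i : ℕ) : ℕ := (23 - i) % 23

def certs23 : List (List ℕ × ℕ) := [([0, 2], 0), ([1, 0, 2], 1), ([2, 0, 0], 1), ([0, 0, 2, 1], 1),
  ([0, 0, 0, 2, 1], 1), ([1, 0, 2, 1], 1), ([2, 0, 1], 1), ([2, 1, 2, 2, 0], 1), ([0, 2, 2, 2], 0),
  ([0, 1, 2, 0, 2], 0)]

theorem chk23 : ((List.range 23).all fun B => B == 0 || (List.range 23).all fun C => C == 0 ||
    (orb r23 11 B).contains C || fN (cnd 23 r23 lg23 rp23 [0, B, C]) fun T : ℕ =>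
      certs23.any (badW 23 [23, 11, 45, 8064] [x23, q23, ap T]) || (List.range 11).any fun j : ℕ =>
        decide (∀ i < (23 : ℕ), (ap T ∘ q23^[j]) i = w23 i) ||
        decide (∀ i < (23 : ℕ), w23 (n23 i) = n23 ((ap T ∘ q23^[j]) i))) = true := by
  decide +kernel

variable {G : Type*} [Group G] [Finite G] [IsSimpleGroup G]

theorem m23_iso (hc : Nat.card G = 10200960) : Nonempty (G ≃* cl 23 [x23, q23, w23]) := by
  obtain ⟨x, q, w, hx, hq, f5, f11, f23, he, he', hqx, hwq, hF⟩ := m23_blocks hc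
  obtain ⟨K, hK⟩ := m23_index hc hF
  obtain ⟨b5, b11, b23⟩ : IsBlk G ⟨5, 4, 3⟩ f5 ∧ IsBlk G ⟨11, 5, 1⟩ f11 ∧ IsBlk G ⟨23, 11, 1⟩ f23 := by
    simpa [P23] using hF
  have hgen : ∀ (x' : G) (j : ℕ), x ∈ zpowers x' → closure {g | g ∈ [x', q, w * q ^ j]} = ⊤ :=
    fun x' j h => by
    set Y := closure {g | g ∈ [x', q, w * q ^ j]}
    have h1 : x ∈ Y := zpowers_le.2 (subset_closure (by simp)) h
    have h2 : q ∈ Y := subset_closure (by simp)
    have h3 : w ∈ Y := (mul_mem_cancel_right (pow_mem h2 j)).1 (subset_closure (by simp))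
    obtain ⟨n, e1, e2⟩ := D1.card_sub' hx.d1 (normalizer_le hx.ord (a := u23) hqx
      (by rw [he, orderOf_u23]) (by rw [hx.cent]; exact zpowers_le.2 h1) h2)
    obtain ⟨m, e3, e4⟩ := D1.card_sub' hq.d1 (normalizer_le hq.ord (a := u3) hwq
      (by rw [he', orderOf_u3]) (by rw [hq.cent]; exact zpowers_le.2 h2) h3)
    have e6 := card_subgroup_dvd_card Y
    rw [hx.card_normalizer, he] at e2
    rw [hq.card_normalizer, he'] at e4
    refine eq_top_of_card_eq _ ?_
    rw [hc] at e6 ⊢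
    rw [e2] at e4 e6 ⊢
    have e7 : ∀ n ∈ divs [127, 8, 4, 6], n % 23 = 1 → n % 5 = 0 → n = 70 ∨ n = 1680 ∨ n = 40320 := by
      decide +kernel
    have := e7 n (mem_divs _ (Nat.dvd_of_mul_dvd_mul_left (k := 253) (by norm_num) e6)) e1 (by omega)
    omega
  have hexp : ∀ g : G, ∃ N ∈ [23, 11, 45, 8064], g ^ N = 1 := fun g => by
    have : ∀ d ∈ D23, (∀ q ∈ [2, 3, 5, 7, 11, 23], (q ≠ 23 → q ∣ d → ¬ 23 ∣ d) ∧
        (q ≠ 11 → q ∣ d → ¬ 11 ∣ d) ∧ (q ≠ 5 → ¬ q ∣ 3 → 5 ∣ d → ¬ q ∣ d)) →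
        ∃ N ∈ [23, 11, 45, 8064], d ∣ N := by decide +kernel
    obtain ⟨N, h1, h2⟩ := this _ (mem_D23 _ (hc ▸ orderOf_dvd_natCard g)) fun q hq => by
      have : q.Prime := (by decide : ∀ q ∈ [2, 3, 5, 7, 11, 23], q.Prime) q hq
      exact ⟨fun e => b23.sc_no this e g, fun e => b11.sc_no this e g,
        fun e e' => b5.nopq q this e e' g⟩
    exact ⟨N, h1, orderOf_dvd_iff_pow_eq_one.1 h2⟩
  have hΩ : Nat.card (G ⧸ K) = 23 := hK
  have hx0 : ∀ ω : G ⧸ K, x • ω ≠ ω := fun ω e => by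
    have h1 := orderOf_dvd_natCard (stabilizer G ω) e
    have := card_mul_index K
    rw [card_stab, hx.ord] at h1
    rw [hK] at this
    omega
  obtain ⟨η, h1⟩ := (Nat.card_pos_iff.1 (hΩ ▸ le_card_fix (Ω := G ⧸ K) hq.ord)).1
  have hqx' : q * x * q⁻¹ = x ^ 2 := hqx
  obtain ⟨φ, hφ, -, hrep⟩ := exists_lab hx.ord (K := K) (fun e => by simp [e] at hK) hK
    (fun _ => η) fun i hi j hj e => by have := pow_smul_inj hx.ord (hx0 _) e; omega
  have rx : Rep φ x x23 := hrep x (· + 1) _ (fun i _ => by rw [← mul_smul, ← pow_succ'])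
    (by decide +kernel)
  have rq : Rep φ q q23 := hrep q (2 * · % 23) _ (fun i _ => smul_pow_smul hx.ord hqx' h1 i)
    (by decide +kernel)
  have rr : Rep φ (xp q (3 : ZMod 11)) r23 := (rq.pow 3).congr (by decide +kernel)
  have h2 : fn φ w 0 = 0 := (by decide +kernel : ∀ A < 23, r23 A = A → A = 0) _ (fn_lt w (by decide))
    (by simpa [show q23 0 = 0 by decide +kernel] using (fn_iter rq rr hwq 1 (y := 0) (by decide)).symm)
  have h3 : ∀ i < 23, i ≠ 0 → fn φ w i ≠ 0 := fun i hi a e =>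
    a (fn_inj w hi (by decide) (e.trans h2.symm))
  have rw' := rep_cnd rq rr hwq (lg := lg23) (rp := rp23) (reps := [0, 1, 5]) (by decide)
    (by decide +kernel)
  simp only [List.map_cons, List.map_nil, h2] at rw'
  have h5 := List.all_eq_true.1 chk23 _ (List.mem_range.2 (fn_lt (φ := φ) w (i := 1) (by decide)))
  simp only [Bool.or_eq_true, beq_iff_eq, h3 1 (by decide) (by decide), false_or] at h5
  replace h5 := List.all_eq_true.1 h5 _ (List.mem_range.2 (fn_lt (φ := φ) w (i := 5) (by decide)))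
  simp only [Bool.or_eq_true, Bool.false_eq_true, beq_iff_eq, h3 5 (by decide) (by decide), false_or,
    not_mem_orb rq rr hwq (m := 11) (y := 1) (z := 5) (by decide) (by decide) (by decide +kernel),
    fN_eq, not_badW (.cons rx (.cons rq (.cons rw' .nil))) hexp] at h5
  obtain ⟨j, -, h5⟩ := List.any_eq_true.1 h5
  rw [Bool.or_eq_true, decide_eq_true_eq, decide_eq_true_eq] at h5
  rcases h5 with e | e
  · exact iso_cl hφ (.cons rx (.cons rq (.cons ((rw'.mul (rq.pow j)).congr e) .nil)))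
      (hgen x j (mem_zpowers x))
  have hs : ∀ i : Fin 23, (Equiv.neg (Fin 23) i : ℕ) = n23 i := by decide
  exact iso_cl ((MulAut.conj _).injective.comp hφ)
    (.cons ((rx.pow 22).conj _ hs (by decide +kernel)) (.cons (rq.conj _ hs (by decide +kernel))
    (.cons ((rw'.mul (rq.pow j)).conj _ hs e) .nil)))
    (hgen _ j (mem_zpowers_pow_iff.2 (by rw [hx.ord]; decide)))

theorem m23_unique {G : Type*} [Group G] [Finite G] {H : Type*} [Group H] [Finite H] (hG : IsM23 G)
    (hH : IsM23 H) : Nonempty (G ≃* H) := by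
  have := hG.1
  have := hH.1
  obtain ⟨e⟩ := m23_iso hG.2
  obtain ⟨e'⟩ := m23_iso hH.2
  exact ⟨e.trans e'.symm⟩

end H21.Eng
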