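import Mathlib
import Cfsg.Agent.H21.M24a
import Cfsg.Agent.H21.Eng10

/-! Simple groups of order 244823040: the search excluding involutions centralising an element
of order 11. -/

set_option autoImplicit false

namespace H21.Eng

theorem k24_c : (H11.all fun x => fL fR ((allRecs [x.1, p23]).filter fun r =>
    decide (cf 0 r * cf 1 r < 0)) fun A => D24.all fun C => !okA 10 C x.1 || C == 244823040 ||
      !okC C p23 || x.2.contains C ||
        A.all fun r => (vals2 244823040 C [x.1, p23] r).isEmpty) = true := by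
  decide +kernel

def asg (P : Pr) : List Rec → List (List Rec)
  | [] => [[]]
  | r :: U => (cfs 244823040 P r.1).flatMap fun a => (asg P U).map ((r.1, [cf 0 r, a, cf 1 r]) :: ·)

def kill7 (U : List Rec) : Bool := O7.all fun x => U.all fun r =>
  (cfs 244823040 ⟨7, x.1, x.2⟩ r.1).all fun a => decide (0 ≤ cf 0 r * a)

def patA (U : List Rec) : Bool :=
  U.countP (fun r => r.1 == 24 && cf 0 r != 0) == 1 && U.any fun r => r.1 == 24 && cf 0 r == -1

def F2 (P : Pr) (x : Pr × List ℕ) (Cs : List ℕ) (U : List Rec) (_ : List Rel) : Bool :=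
  (asg x.1 U).all fun V => fL fR V fun V => !crossOk [P, x.1, p23] 0 V ||
    icol3 244823040 [P, x.1, p23] [0] Cs (fun _ _ => true) (fun _ => false) V [] ||
    (P.c % 7 != 0 && kill7 U) || (P.c % 7 == 0 && P.e == 4 && patA U) ||
    fL fR (allRecs [P, x.1, p23]) fun A => run2 244823040 [P, x.1, p23] A (fun _ => false) []
      (fun _ _ _ => false)
      (icol3 244823040 [P, x.1, p23] [0, 1] Cs (fun _ _ => true) fun _ => false) [x.1] 1 V []

def ph2 (y : ℕ × ℕ) (x : Pr × List ℕ) : Bool := fL fN (x.2.filter (okC · ⟨5, y.1, y.2⟩)) fun Cs =>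
  eng3 244823040 [⟨5, y.1, y.2⟩, p23] (allRecs [⟨5, y.1, y.2⟩, p23]) (fun _ => false)
    (fun _ _ => []) 1 (fun _ _ _ => false) (F2 ⟨5, y.1, y.2⟩ x Cs)
    fun A => (A.filter fun r => decide (cf 0 r * cf 1 r < 0)).map fun r => ([r], [])

end H21.Eng
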