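import Mathlib
import Cfsg.Agent.H21.M24a
import Cfsg.Agent.H21.Eng10

/-! Simple groups of order 244823040: the searches with triples. -/

set_option autoImplicit false

namespace H21.Eng

def kok2 (p t κ : ℕ) (ty : Bool) (da db dc : ℕ) (fa fb fc : ℤ) : Bool :=
  if ty then
    ((κ != 0 && da % p != 0 && db % p != 0 && dc % p != 0) || fa + fb - fc == 0) &&
      (fa == 0 || t * (fa + fb - fc) == κ * fa) && (fb == 0 || t * (fa + fb - fc) == κ * fb) &&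
      (fc == 0 || t * (fa + fb - fc) == -κ * fc)
  else
    (κ != 0 || (fa == fb && fa == fc)) &&
      (fa == 0 || t * (fa + fb + fc) == (3 * t - κ) * fa) &&
      (fb == 0 || t * (fa + fb + fc) == (3 * t - κ) * fb) &&
      (fc == 0 || t * (fa + fb + fc) == (3 * t - κ) * fc) &&
      (fa == 0 || fa.natAbs == t || fb == 0 || fb.natAbs == t) &&
      (fa == 0 || fa.natAbs == t || fc == 0 || fc.natAbs == t) &&
      (fb == 0 || fb.natAbs == t || fc == 0 || fc.natAbs == t)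

def tokL (ty : Bool) (da db dc : ℕ) : List Pr → List ℕ → List ℤ → List ℤ → List ℤ → Bool
  | P :: Ps, k :: ks, a :: fa, b :: fb, c :: fc =>
    kok2 P.p P.t k ty da db dc a b c && tokL ty da db dc Ps ks fa fb fc
  | _, _, _, _, _ => true

def tok (Ps : List Pr) (ks : List ℕ) (ty : Bool) (a b c : Rec) : Bool :=
  tokL ty a.1 b.1 c.1 Ps ks a.2 b.2 c.2

def kaps (P : Pr) : List ℕ := (List.range (3 * P.t)).filter fun k => (k == 0) != (P.c % 3 == 0)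

def p11 : Pr := ⟨11, 10, 1⟩

def e3 (Ps : List Pr) (ks : List ℕ) (flt : Rec → Bool) (k : ℕ)
    (post : ℕ → List Rec → List Rel → Bool) (F : List Rec → List Rel → Bool)
    (st : List Rec → List (List Rec × List Rel)) : Bool :=
  eng3 244823040 Ps ((allRecs Ps).filter fun r => decide (12 < r.1) && flt r) nine
    (opt9 244823040 (tok Ps ks)) k post F st

def deg8 (r : Rec) : Bool := cf 0 r == 0 || [506, 736, 759, 1771, 2024, 3036, 5544, 5796].contains r.1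

def deg4 (r : Rec) : Bool := cf 0 r == 0 || [1771, 2024, 5544, 5796].contains r.1

def ph3a (x : ℕ × ℕ) : Bool := (kaps ⟨5, x.1, x.2⟩).all fun k =>
  e3 [⟨5, x.1, x.2⟩, p11, p23] [k, 0, 0] (fun _ => true) 1 (fun _ _ _ => false)
    (fun U _ => (x == (4, 12) || x == (4, 192)) && U.all deg8) fun _ => [([], [])]

def ph3b (y : ℕ × ℕ) (k : ℕ) : Bool := (kaps ⟨7, y.1, y.2⟩).all fun l =>
  e3 [⟨5, 4, 12⟩, ⟨7, y.1, y.2⟩, p11, p23] [k, l, 0, 0] deg8 2 (fun _ _ _ => false)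
    (fun U _ => [(3, 6), (3, 48), (3, 384), (6, 3), (6, 24), (6, 192)].contains y &&
      (y.1 == 6 || l == 2 || l == 4) && U.all deg4 &&
      U.all fun r => r.1 != 2024 || cf 0 r == 0 || cf 1 r != 0) fun _ => [([], [])]

def P6 : List Pr := [⟨5, 4, 12⟩, p11, p23, ⟨7, 6, 3⟩]

/-- The column of a rational element of order 7. -/
def ucol (Cs jm : List ℕ) (j : ℕ) (U : List Rec) (Ls : List Rel) : Bool :=
  (j == 4 || jm.contains j) && col3 244823040 Cs P6 ((List.range j).filter (· < 3))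
    (fun _ _ _ => true) (fun C => uvals 244823040 C 7 3) (fun r => exc P6 r.2) (fun _ => false) U Ls

def PAT : List (ℤ × List ℤ) := [(2, [-990, -990, 4830, 4830]), (2, [540, 540, 1540, 5060]),
  (2, [528, 528, 3312, 3312]), (2, [-3520, -3520, 7360, 7360]), (2, [-8832, -8832, 12672, 12672]),
  (1, [-3840, 3840, 3840]), (3, [3840, 3840, 3840])]

/-- Lists of records with given degrees, ordered within equal signed degrees. -/
def asgD (A : List Rec) : List ℤ → List (List Rec)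
  | [] => [[]]
  | d :: l => (asgD A l).flatMap fun U => (A.filter fun r => r.1 == d.natAbs &&
      (l.head? != some d || decide (key r ≤ key (U.headD (0, []))))).map (· :: U)

def relP (x : ℤ × List ℤ) : Rel := (-x.1, 0) :: x.2.zipIdx.map fun a => (a.1.sign, a.2 + 1)

def stP (x : ℤ × List ℤ) (A : List Rec) : List (List Rec × List Rel) :=
  (A.filter (·.1 == 3840)).flatMap fun r => (asgD A x.2).map fun U => (r :: U, [relP x])

def fl6 (r : Rec) : Bool := deg4 r && r.1 != 45 && (r.1 != 2024 || cf 0 r == 0 || cf 3 r != 0)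

def ph3c (x : ℤ × List ℤ) (Cs jm : List ℕ) (k l : ℕ) : Bool :=
  e3 P6 [k, 0, 0, l] fl6 4 (ucol Cs jm) (fun _ _ => false) (stP x)

def ph3c' (k l : ℕ) : Bool :=
  e3 P6 [k, 0, 0, l] (fun r => fl6 r && r.1 != 3840 && decide (cf 1 r * cf 2 r ≤ 0)) 4
    (ucol [21, 168, 1344] []) (fun _ _ => false)
    fun A => (A.filter fun r => decide (cf 1 r * cf 2 r < 0)).map fun r => ([r], [])

/-- The conclusion: the degrees up to 276, and the values of the involution on 23 and 252. -/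
def fin24 (U : List Rec) (v : List ℤ) : Bool :=
  U.countP (·.1 == 23) == 1 && (U.all fun r => decide (276 < r.1) || [(23, [0, 0, 1, 0]),
    (45, [0, 0, 1, -2]), (231, [0, 0, 0, 2]), (252, [0, 0, -1, -2])].contains r) &&
  (U.zip v.reverse).all fun x => (x.1.1 != 23 || x.2 == -1) && (x.1.1 != 252 || x.2 == 12)

def Cs5 : List ℕ := [10, 20, 30, 40, 60, 80, 120, 160, 180, 210, 240, 320, 360, 420, 480, 630, 640,
  720, 840, 960, 1080, 1260, 1280, 1440, 1680, 1920, 2160, 2520, 2560, 2880, 3360, 3780, 3840, 4320,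
  5040, 5120, 5760, 6720, 7560, 7680, 8640, 10080, 11520, 13440, 15120, 15360, 17280, 20160, 23040,
  26880, 30240, 34560, 40320, 46080, 53760, 60480, 69120, 80640, 107520, 120960, 138240, 161280,
  241920, 322560, 483840, 967680]

theorem mem_Cs5 : (D24.all fun C => C % 5 != 0 || !okC C p11 || !okC C p23 ||
    !(okC C ⟨5, 4, 12⟩ || okC C ⟨5, 4, 192⟩) ||
    !(okC C ⟨7, 3, 6⟩ || okC C ⟨7, 3, 48⟩ || okC C ⟨7, 3, 384⟩) || Cs5.contains C) = true := by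
  decide +kernel

def P24 : List Pr := [⟨5, 4, 12⟩, ⟨7, 3, 6⟩, p11, p23]

def SV : List (List Rec × List Rel) := [([(5796, [1, 0, -1, 0]), (1771, [1, 0, 0, 0]), (2024, [-1,
  2, 0, 0]), (5544, [-1, 0, 0, 2]), (252, [0, 0, -1, -2]), (990, [0, -1, 0, 2]), (990, [0, -1, 0,
  2]), (1035, [0, -2, 1, 0]), (45, [0, 0, 1, -2]), (1035, [0, 0, 1, 0]), (45, [0, 0, 1, -2]), (1035,
  [0, 0, 1, 0]), (2277, [0, 0, 0, 0]), (3312, [0, 0, 1, 0]), (276, [0, 0, 1, 0]), (736, [0, 0, -1,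
  0]), (264, [0, 0, 0, -1]), (264, [0, 0, 0, -1]), (3520, [0, 0, 0, 2]), (22, [0, 0, 0, -2]), (22,
  [0, 0, 0, -2]), (10395, [0, 0, 0, -2])], [[(1, 7), (1, 12), (-1, 13)], [(1, 6), (1, 10), (-1,
  11)], [(1, 5), (1, 8), (-1, 9)], [(1, 4), (1, 3), (-1, 0)]]), ([(5796, [1, 0, -1, 0]), (1771, [1,
  0, 0, 0]), (2024, [-1, 2, 0, 0]), (5544, [-1, 0, 0, 2]), (252, [0, 0, -1, -2]), (990, [0, -1, 0,
  2]), (990, [0, -1, 0, 2]), (1035, [0, -2, 1, 0]), (45, [0, 0, 1, -2]), (1035, [0, 0, 1, 0]), (45,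
  [0, 0, 1, -2]), (1035, [0, 0, 1, 0]), (2277, [0, 0, 0, 0]), (3312, [0, 0, 1, 0]), (276, [0, 0, 1,
  0]), (736, [0, 0, -1, 0]), (770, [0, 0, 0, -1]), (770, [0, 0, 0, -1]), (3520, [0, 0, 0, 2]), (231,
  [0, 0, 0, 2]), (231, [0, 0, 0, 2]), (10395, [0, 0, 0, -2])], [[(1, 7), (1, 12), (-1, 13)], [(1,
  6), (1, 10), (-1, 11)], [(1, 5), (1, 8), (-1, 9)], [(1, 4), (1, 3), (-1, 0)]]), ([(5796, [1, 0,
  -1, 0]), (1771, [1, 0, 0, 0]), (2024, [-1, 2, 0, 0]), (5544, [-1, 0, 0, 2]), (252, [0, 0, -1,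
  -2]), (990, [0, -1, 0, 2]), (990, [0, -1, 0, 2]), (1035, [0, -2, 1, 0]), (45, [0, 0, 1, -2]),
  (1035, [0, 0, 1, 0]), (45, [0, 0, 1, -2]), (1035, [0, 0, 1, 0]), (2277, [0, 0, 0, 0]), (3312, [0,
  0, 1, 0]), (276, [0, 0, 1, 0]), (736, [0, 0, -1, 0]), (1760, [0, 0, 0, 1]), (1760, [0, 0, 0, 1]),
  (3520, [0, 0, 0, 2]), (528, [0, 0, 0, -2]), (1540, [0, 0, 0, -2]), (10395, [0, 0, 0, -2])], [[(1,
  7), (1, 12), (-1, 13)], [(1, 6), (1, 10), (-1, 11)], [(1, 5), (1, 8), (-1, 9)], [(1, 4), (1, 3),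
  (-1, 0)]]), ([(5796, [1, 0, -1, 0]), (1771, [1, 0, 0, 0]), (2024, [-1, 2, 0, 0]), (5544, [-1, 0,
  0, 2]), (252, [0, 0, -1, -2]), (990, [0, -1, 0, 2]), (990, [0, -1, 0, 2]), (1035, [0, -2, 1, 0]),
  (45, [0, 0, 1, -2]), (1035, [0, 0, 1, 0]), (45, [0, 0, 1, -2]), (1035, [0, 0, 1, 0]), (2277, [0,
  0, 0, 0]), (3312, [0, 0, 1, 0]), (23, [0, 0, 1, 0]), (483, [0, 0, -1, 0]), (264, [0, 0, 0, -1]),
  (264, [0, 0, 0, -1]), (3520, [0, 0, 0, 2]), (22, [0, 0, 0, -2]), (22, [0, 0, 0, -2]), (10395, [0,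
  0, 0, -2])], [[(1, 7), (1, 12), (-1, 13)], [(1, 6), (1, 10), (-1, 11)], [(1, 5), (1, 8), (-1, 9)],
  [(1, 4), (1, 3), (-1, 0)]]), ([(5796, [1, 0, -1, 0]), (1771, [1, 0, 0, 0]), (2024, [-1, 2, 0, 0]),
  (5544, [-1, 0, 0, 2]), (252, [0, 0, -1, -2]), (990, [0, -1, 0, 2]), (990, [0, -1, 0, 2]), (1035,
  [0, -2, 1, 0]), (45, [0, 0, 1, -2]), (1035, [0, 0, 1, 0]), (45, [0, 0, 1, -2]), (1035, [0, 0, 1,
  0]), (2277, [0, 0, 0, 0]), (3312, [0, 0, 1, 0]), (23, [0, 0, 1, 0]), (483, [0, 0, -1, 0]), (770,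
  [0, 0, 0, -1]), (770, [0, 0, 0, -1]), (3520, [0, 0, 0, 2]), (231, [0, 0, 0, 2]), (231, [0, 0, 0,
  2]), (10395, [0, 0, 0, -2])], [[(1, 7), (1, 12), (-1, 13)], [(1, 6), (1, 10), (-1, 11)], [(1, 5),
  (1, 8), (-1, 9)], [(1, 4), (1, 3), (-1, 0)]]), ([(5796, [1, 0, -1, 0]), (1771, [1, 0, 0, 0]),
  (2024, [-1, 2, 0, 0]), (5544, [-1, 0, 0, 2]), (252, [0, 0, -1, -2]), (990, [0, -1, 0, 2]), (990,
  [0, -1, 0, 2]), (1035, [0, -2, 1, 0]), (45, [0, 0, 1, -2]), (1035, [0, 0, 1, 0]), (45, [0, 0, 1,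
  -2]), (1035, [0, 0, 1, 0]), (2277, [0, 0, 0, 0]), (3312, [0, 0, 1, 0]), (23, [0, 0, 1, 0]), (483,
  [0, 0, -1, 0]), (1760, [0, 0, 0, 1]), (1760, [0, 0, 0, 1]), (3520, [0, 0, 0, 2]), (528, [0, 0, 0,
  -2]), (1540, [0, 0, 0, -2]), (10395, [0, 0, 0, -2])], [[(1, 7), (1, 12), (-1, 13)], [(1, 6), (1,
  10), (-1, 11)], [(1, 5), (1, 8), (-1, 9)], [(1, 4), (1, 3), (-1, 0)]]), ([(5796, [1, 0, -1, 0]),
  (1771, [1, 0, 0, 0]), (2024, [-1, 2, 0, 0]), (5544, [-1, 0, 0, 2]), (252, [0, 0, -1, -2]), (990,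
  [0, -1, 0, 2]), (990, [0, -1, 0, 2]), (1035, [0, -2, 1, 0]), (45, [0, 0, 1, -2]), (1035, [0, 0, 1,
  0]), (45, [0, 0, 1, -2]), (1035, [0, 0, 1, 0]), (2277, [0, 0, 0, 0]), (3312, [0, 0, 1, 0]), (230,
  [0, 0, -1, 0]), (230, [0, 0, -1, 0]), (264, [0, 0, 0, -1]), (264, [0, 0, 0, -1]), (3520, [0, 0, 0,
  2]), (22, [0, 0, 0, -2]), (22, [0, 0, 0, -2]), (10395, [0, 0, 0, -2])], [[(1, 7), (1, 12), (-1,
  13)], [(1, 6), (1, 10), (-1, 11)], [(1, 5), (1, 8), (-1, 9)], [(1, 4), (1, 3), (-1, 0)]]),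
  ([(5796, [1, 0, -1, 0]), (1771, [1, 0, 0, 0]), (2024, [-1, 2, 0, 0]), (5544, [-1, 0, 0, 2]), (252,
  [0, 0, -1, -2]), (990, [0, -1, 0, 2]), (990, [0, -1, 0, 2]), (1035, [0, -2, 1, 0]), (45, [0, 0, 1,
  -2]), (1035, [0, 0, 1, 0]), (45, [0, 0, 1, -2]), (1035, [0, 0, 1, 0]), (2277, [0, 0, 0, 0]),
  (3312, [0, 0, 1, 0]), (230, [0, 0, -1, 0]), (230, [0, 0, -1, 0]), (770, [0, 0, 0, -1]), (770, [0,
  0, 0, -1]), (3520, [0, 0, 0, 2]), (231, [0, 0, 0, 2]), (231, [0, 0, 0, 2]), (10395, [0, 0, 0,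
  -2])], [[(1, 7), (1, 12), (-1, 13)], [(1, 6), (1, 10), (-1, 11)], [(1, 5), (1, 8), (-1, 9)], [(1,
  4), (1, 3), (-1, 0)]]), ([(5796, [1, 0, -1, 0]), (1771, [1, 0, 0, 0]), (2024, [-1, 2, 0, 0]),
  (5544, [-1, 0, 0, 2]), (252, [0, 0, -1, -2]), (990, [0, -1, 0, 2]), (990, [0, -1, 0, 2]), (1035,
  [0, -2, 1, 0]), (45, [0, 0, 1, -2]), (1035, [0, 0, 1, 0]), (45, [0, 0, 1, -2]), (1035, [0, 0, 1,
  0]), (2277, [0, 0, 0, 0]), (3312, [0, 0, 1, 0]), (230, [0, 0, -1, 0]), (230, [0, 0, -1, 0]),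
  (1760, [0, 0, 0, 1]), (1760, [0, 0, 0, 1]), (3520, [0, 0, 0, 2]), (528, [0, 0, 0, -2]), (1540, [0,
  0, 0, -2]), (10395, [0, 0, 0, -2])], [[(1, 7), (1, 12), (-1, 13)], [(1, 6), (1, 10), (-1, 11)],
  [(1, 5), (1, 8), (-1, 9)], [(1, 4), (1, 3), (-1, 0)]]), ([(5796, [1, 0, -1, 0]), (1771, [1, 0, 0,
  0]), (2024, [-1, 2, 0, 0]), (5544, [-1, 0, 0, 2]), (252, [0, 0, -1, -2]), (990, [0, -1, 0, 2]),
  (990, [0, -1, 0, 2]), (1035, [0, -2, 1, 0]), (45, [0, 0, 1, -2]), (1035, [0, 0, 1, 0]), (495, [0,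
  0, 0, 1]), (495, [0, 0, 0, 1]), (2277, [0, 0, 0, 0]), (3312, [0, 0, 1, 0]), (3840, [0, 0, 1, -2]),
  (736, [0, 0, -1, 0]), (1242, [0, 0, -1, 0]), (1242, [0, 0, -1, 0]), (3520, [0, 0, 0, 2]), (3520,
  [0, 0, 0, 2]), (528, [0, 0, 0, -2]), (10395, [0, 0, 0, -2])], [[(1, 7), (1, 12), (-1, 13)], [(1,
  10), (1, 11), (-1, 6)], [(1, 5), (1, 8), (-1, 9)], [(1, 4), (1, 3), (-1, 0)]]), ([(5796, [1, 0,
  -1, 0]), (1771, [1, 0, 0, 0]), (2024, [-1, 2, 0, 0]), (5544, [-1, 0, 0, 2]), (252, [0, 0, -1,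
  -2]), (990, [0, -1, 0, 2]), (990, [0, -1, 0, 2]), (1035, [0, -2, 1, 0]), (495, [0, 0, 0, 1]),
  (495, [0, 0, 0, 1]), (45, [0, 0, 1, -2]), (1035, [0, 0, 1, 0]), (2277, [0, 0, 0, 0]), (3312, [0,
  0, 1, 0]), (3840, [0, 0, 1, -2]), (736, [0, 0, -1, 0]), (1242, [0, 0, -1, 0]), (1242, [0, 0, -1,
  0]), (3520, [0, 0, 0, 2]), (3520, [0, 0, 0, 2]), (528, [0, 0, 0, -2]), (10395, [0, 0, 0, -2])],
  [[(1, 7), (1, 12), (-1, 13)], [(1, 6), (1, 10), (-1, 11)], [(1, 8), (1, 9), (-1, 5)], [(1, 4), (1,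
  3), (-1, 0)]])]

def ph3d (k l : ℕ) : Bool :=
  e3 P24 [k, l, 0, 0] deg4 4 (fun _ _ _ => false) (fun U Ls => SV.contains (U, Ls))
    fun _ => [([], [])]

/-- The column of an involution inverting an element of order 11. -/
def scol (x : List Rec × List Rel) : Bool :=
  col3 244823040 Cs5 P24 [0, 1, 2, 3]
    (fun C P z => P.p == 0 || sqok P C z || (P.p == 5 && sqok ⟨5, 4, 192⟩ C z))
    (fun C r => (vals2 244823040 C P24 r).filter fun v => decide (11 * v.natAbs ≤ r.1 + 10 * cf 2 r))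
    (fun r => exc P24 r.2) (fin24 x.1) x.1 x.2

end H21.Eng
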