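import Mathlib
import Cfsg.Agent.H21.Lab
import Cfsg.Agent.H8.Tp0

/-! Characters whose degree has almost full `p`-part: blocks of defect one for `p = 3` and
the characters of degree `2^8 * odd` when `2^10` is the `2`-part of the order. -/

set_option autoImplicit false
set_option linter.unusedSectionVars false

open Cfsg H4 H17 H18 Subgroup
open scoped Classical

namespace H21.Eng

variable {G : Type*} [Group G] [Finite G]

/-- `χ` and `ψ` are not orthogonal on the `p`-regular elements. -/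
def Lk (p : ℕ) (χ ψ : Irr G) : Prop :=
  haveI := Fintype.ofFinite G
  classInner (regPart p χ.1) ψ.1 ≠ 0

/-- A `3`-block of defect one. -/
structure Tri (a b c : Irr G) (ty : Bool) : Prop where
  ab : a ≠ b
  ac : a ≠ c
  bc : b ≠ c
  nine : ∀ m, m = a ∨ m = b ∨ m = c → 9 ∣ deg m ∧ ¬ 27 ∣ deg m
  cls : ∀ m, m = a ∨ m = b ∨ m = c → ∀ χ, Lk 3 m χ ↔ χ = a ∨ χ = b ∨ χ = c
  regA : ty = true → ∀ g, ¬ 3 ∣ orderOf g → a.1 g + b.1 g = c.1 g
  singA : ty = true → ∀ g, 3 ∣ orderOf g → a.1 g = b.1 g ∧ c.1 g = -a.1 g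
  regB : ty = false → ∀ g, ¬ 3 ∣ orderOf g → a.1 g = b.1 g ∧ a.1 g = c.1 g
  singB : ty = false → ∀ g, 3 ∣ orderOf g → a.1 g + b.1 g + c.1 g = 0

section

open H8.Tp

structure TpB (a b c : Irr G) : Prop where
  ab : a ≠ b
  ac : a ≠ c
  bc : b ≠ c
  nine : ∀ m, m = a ∨ m = b ∨ m = c → 9 ∣ deg m ∧ ¬ 27 ∣ deg m
  cls : ∀ m, m = a ∨ m = b ∨ m = c → ∀ χ, Lk 3 m χ ↔ χ = a ∨ χ = b ∨ χ = c

namespace TpB

variable {a b c : Irr G} {na nb nc : Irr G → ℤ} (B : TpB a b c)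
include B

theorem s1 : TpB b a c := ⟨B.ab.symm, B.bc, B.ac, fun m h => B.nine m (or_left_comm.1 h),
  fun m h χ => (B.cls m (or_left_comm.1 h) χ).trans or_left_comm⟩

theorem s2 : TpB a c b := ⟨B.ac, B.ab, B.bc.symm, fun m h => B.nine m (h.imp_right Or.symm),
  fun m h χ => (B.cls m (h.imp_right Or.symm) χ).trans (or_congr_right or_comm)⟩

theorem pa_eq (t : TN 3 3 a na) : pa a na = {b, c} := by
  have : Fact (Nat.Prime 3) := ⟨Nat.prime_three⟩
  ext χ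
  rw [mem_pa, ← t.lk (by norm_num), Finset.mem_insert, Finset.mem_singleton]
  refine (and_congr_right fun _ => B.cls a (Or.inl rfl) χ).trans ⟨fun h => h.2.resolve_left h.1, ?_⟩
  rintro (rfl | rfl)
  exacts [⟨B.ab.symm, Or.inr (Or.inl rfl)⟩, ⟨B.ac.symm, Or.inr (Or.inr rfl)⟩]

theorem reg (t : TN 3 3 a na) {g : G} (hg : ¬ 3 ∣ orderOf g) :
    (3 - na a) * a.1 g = na b * b.1 g + na c * c.1 g := by
  have : Fact (Nat.Prime 3) := ⟨Nat.prime_three⟩
  have := t.reg hg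
  rwa [B.pa_eq t, Finset.sum_pair B.bc, Nat.cast_ofNat] at this

theorem sing (t : TN 3 3 a na) {g : G} (hg : 3 ∣ orderOf g) :
    na a * a.1 g + (na b * b.1 g + na c * c.1 g) = 0 := by
  have : Fact (Nat.Prime 3) := ⟨Nat.prime_three⟩
  have := t.sing hg
  rwa [B.pa_eq t, Finset.sum_pair B.bc] at this

theorem dg (t : TN 3 3 a na) : (3 - na a) * deg a = na b * deg b + na c * deg c := by
  have := B.reg t (g := 1) (by simp)
  rw [← deg_eq, ← deg_eq, ← deg_eq] at this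
  exact_mod_cast this

theorem triA (ta : TN 3 3 a na) (tb : TN 3 3 b nb) (tc : TN 3 3 c nc) (h1 : na a = 2) (h2 : nb b = 2)
    (h3 : nc c = 2) (h4 : na b = -1) (h5 : na c = 1) (h6 : nb c = 1) : Tri a b c true := by
  have : Fact (Nat.Prime 3) := ⟨Nat.prime_three⟩
  refine ⟨B.ab, B.ac, B.bc, B.nine, B.cls, fun _ g hg => ?_, fun _ g hg => ?_, nofun, nofun⟩
  · have := B.s2.s1.reg tc hg
    rw [← ta.symm tc, ← tb.symm tc, h3, h5, h6] at this
    push_cast at this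
    linear_combination -this
  · have e1 := B.sing ta hg
    have e2 := B.s1.sing tb hg
    rw [← ta.symm tb, h2, h4, h6] at e2
    rw [h1, h4, h5] at e1
    push_cast at e1 e2
    exact ⟨by linear_combination (e1 - e2) / 3, by linear_combination (2 * e1 + e2) / 3⟩

theorem triB (ta : TN 3 3 a na) (tb : TN 3 3 b nb) (h1 : na a = 1) (h2 : nb b = 1)
    (h4 : na b = 1) (h5 : na c = 1) (h6 : nb c = 1) : Tri a b c false := by
  have : Fact (Nat.Prime 3) := ⟨Nat.prime_three⟩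
  refine ⟨B.ab, B.ac, B.bc, B.nine, B.cls, nofun, nofun, fun _ g hg => ?_, fun _ g hg => ?_⟩
  · have e1 := B.reg ta hg
    have e2 := B.s1.reg tb hg
    rw [← ta.symm tb, h2, h4, h6] at e2
    rw [h1, h4, h5] at e1
    push_cast at e1 e2
    exact ⟨by linear_combination (e1 - e2) / 3, by linear_combination (2 * e1 + e2) / 3⟩
  · have e1 := B.sing ta hg
    rw [h1, h4, h5] at e1
    push_cast at e1
    linear_combination e1

end TpB

theorem tp_row [Fact (Nat.Prime 3)] (h : (Nat.card G).factorization 3 = 3) (M : Ideal AlgInt) [PM 3 M]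
    {χ : Irr G} (hχ : (deg χ).factorization 3 = 2) : ∃ n, TN 3 3 χ n ∧ (n χ = 1 ∨ n χ = 2) ∧
      (pa χ n).card = 2 ∧ (∀ ψ ∈ pa χ n, n ψ = 1 ∨ n ψ = -1) ∧
      ∀ ψ, SB M χ ψ → n ψ ≠ 0 ∧ (deg ψ).factorization 3 = 2 := by
  have f3 : (3 : ℕ).factorization 3 = 1 := Nat.prime_three.factorization_self
  obtain ⟨n, t⟩ := exists_TN (p := 3) (χ := χ) (N := 3) (by
    rw [Nat.factorization_mul (by norm_num) (deg_ne_zero χ), Finsupp.add_apply, f3, hχ, h])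
  obtain ⟨h1, h2⟩ := t.range (by norm_num) (by omega)
  have h3 : n χ = 1 ∨ n χ = 2 := by omega
  obtain ⟨h4, h5⟩ := (sq_cases (r := 2) (fun ψ h => (mem_pa.1 h).2)
    (t.sq.trans (by rcases h3 with e | e <;> simp [e])) (by norm_num)).resolve_right (by omega)
  have h6 : tz 3 χ χ ∉ Pm M := by
    rw [t.pm_iff (by norm_num) h1.ne', f3, hχ, h]
    rcases h3 with e | e <;> rw [e]
    · simp
    · rw [show Int.natAbs 2 = 2 from rfl, Nat.factorization_eq_zero_of_not_dvd (by norm_num)]; omega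
  refine ⟨n, t, h3, h5, h4, fun ψ hψ => ?_⟩
  have h7 := (hψ.mem_iff (tz_mem χ)).not.1 h6
  have h8 : n ψ ≠ 0 := (t.lk (by norm_num)).1 fun e => h7 (by rw [tz, e]; simp)
  refine ⟨h8, by_contra fun e => ?_⟩
  have h9 : (n ψ).natAbs = 1 := by
    rcases h4 ψ (mem_pa.2 ⟨fun e' => e (e' ▸ hχ), h8⟩) with e | e <;> simp [e]
  have h10 := t.s_le (by norm_num) h8
  rw [t.pm_iff (by norm_num) h8] at h7
  rw [f3, h, h9, Nat.factorization_one, Finsupp.zero_apply] at h7 h10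
  omega

theorem tp_int {A B C x y z da db dc : ℤ} (a0 : 0 < da) (b0 : 0 < db) (c0 : 0 < dc)
    (hA : A = 1 ∨ A = 2) (hB : B = 1 ∨ B = 2) (hC : C = 1 ∨ C = 2) (hx : x = 1 ∨ x = -1)
    (hy : y = 1 ∨ y = -1) (hz : z = 1 ∨ z = -1) (h1 : 3 * x = A * x + (x * B + y * z))
    (h2 : 3 * y = A * y + (x * z + y * C)) (d1 : (3 - A) * da = x * db + y * dc)
    (d2 : (3 - B) * db = x * da + z * dc) (d3 : (3 - C) * dc = y * da + z * db) :
    (A = 1 ∧ B = 1 ∧ x = 1 ∧ y = 1 ∧ z = 1) ∨ (A = 2 ∧ B = 2 ∧ C = 2) ∧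
      ((x = -1 ∧ y = 1 ∧ z = 1) ∨ (x = 1 ∧ y = -1 ∧ z = 1) ∨ (x = 1 ∧ y = 1 ∧ z = -1)) := by
  rcases hA with rfl | rfl <;> rcases hB with rfl | rfl <;> rcases hC with rfl | rfl <;>
    rcases hx with rfl | rfl <;> rcases hy with rfl | rfl <;> rcases hz with rfl | rfl <;> omega

end

open H8.Tp in
theorem exists_tri (h27 : 27 ∣ Nat.card G) (h81 : ¬ 81 ∣ Nat.card G) {ψ : Irr G} (h9 : 9 ∣ deg ψ)
    (h9' : ¬ 27 ∣ deg ψ) : ∃ a b c ty, Tri a b c ty ∧ (ψ = a ∨ ψ = b ∨ ψ = c) := by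
  have : Fact (Nat.Prime 3) := ⟨Nat.prime_three⟩
  obtain ⟨M, hM⟩ := exists_PM 3
  have h : (Nat.card G).factorization 3 = 3 := (fact_eq_iff Nat.card_pos.ne').2 ⟨h27, h81⟩
  obtain ⟨na, ta, a1, a2, a3, a4⟩ := tp_row h M ((fact_eq_iff (deg_ne_zero ψ)).2 ⟨h9, h9'⟩)
  obtain ⟨b, c, bc, e⟩ := Finset.card_eq_two.1 a2
  have hb : b ∈ pa ψ na := e ▸ Finset.mem_insert_self _ _
  have hc : c ∈ pa ψ na := e ▸ Finset.mem_insert_of_mem (Finset.mem_singleton_self _)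
  have sb : ∀ χ, SB M ψ χ ↔ χ = ψ ∨ χ = b ∨ χ = c := fun χ => ⟨fun h => or_iff_not_imp_left.2 fun e' => by
    simpa [e] using (mem_pa.2 ⟨e', (a4 χ h).1⟩ : χ ∈ pa ψ na), by
      rintro (rfl | rfl | rfl)
      exacts [SB.refl _, sb_of_ne M ((ta.lk (by norm_num)).2 (mem_pa.1 hb).2),
        sb_of_ne M ((ta.lk (by norm_num)).2 (mem_pa.1 hc).2)]⟩
  have B : TpB ψ b c := ⟨(mem_pa.1 hb).1.symm, (mem_pa.1 hc).1.symm, bc,
    fun m hm => (fact_eq_iff (p := 3) (k := 2) (deg_ne_zero m)).1 (a4 m ((sb m).2 hm)).2, fun m hm χ => by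
      obtain ⟨n, t, -, -, -, a⟩ := tp_row h M (a4 m ((sb m).2 hm)).2
      exact ⟨fun e => (sb χ).1 (((sb m).2 hm).trans (sb_of_ne M e)), fun e => (t.lk (by norm_num)).2
        (a χ (((sb m).2 hm).symm.trans ((sb χ).2 e))).1⟩⟩
  obtain ⟨nb, tb, b1, -, b3, -⟩ := tp_row h M (a4 b ((sb b).2 (Or.inr (Or.inl rfl)))).2
  obtain ⟨nc, tc, c1, -, -, -⟩ := tp_row h M (a4 c ((sb c).2 (Or.inr (Or.inr rfl)))).2
  have m1 := ta.mul tb
  have m2 := ta.mul tc
  rw [e, Finset.sum_pair bc, ← ta.symm tb] at m1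
  rw [e, Finset.sum_pair bc, ← ta.symm tc, ← tb.symm tc] at m2
  have d2 := B.s1.dg tb
  have d3 := B.s2.s1.dg tc
  rw [← ta.symm tb] at d2
  rw [← ta.symm tc, ← tb.symm tc] at d3
  have d0 : ∀ χ : Irr G, (0 : ℤ) < deg χ := fun χ => Nat.cast_pos.2 (Nat.pos_of_ne_zero (deg_ne_zero χ))
  rcases tp_int (d0 ψ) (d0 b) (d0 c) a1 b1 c1 (a3 b hb) (a3 c hc)
    (b3 c (by rw [B.s1.pa_eq tb]; simp)) m1 m2 (B.dg ta) d2 d3 with ⟨h1, h2, h3, h4, h5⟩ |
      ⟨⟨h1, h2, h3⟩, ⟨h4, h5, h6⟩ | ⟨h4, h5, h6⟩ | ⟨h4, h5, h6⟩⟩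
  · exact ⟨_, _, _, _, B.triB ta tb h1 h2 h3 h4 h5, Or.inl rfl⟩
  · exact ⟨_, _, _, _, B.triA ta tb tc h1 h2 h3 h4 h5 h6, Or.inl rfl⟩
  · exact ⟨_, _, _, _, B.s2.triA ta tc tb h1 h3 h2 h5 h4 ((tc.symm tb).trans h6), Or.inl rfl⟩
  · exact ⟨_, _, _, _, B.s1.s2.triA tb tc ta h2 h3 h1 h6 ((tb.symm ta).trans h4) ((tc.symm ta).trans h5),
      Or.inr (Or.inr rfl)⟩

/-- The relation between the coefficients `fa fb fc` of a principal block of defect one (prime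
`p`, `t` exceptional characters) on a `3`-block of defect one with degrees `da db dc`. -/
def kok (p t κ : ℕ) (ty : Bool) (da db dc : ℕ) (fa fb fc : ℤ) : Bool :=
  if ty then
    ((κ != 0 && da % p != 0 && db % p != 0 && dc % p != 0) || fa + fb - fc == 0) &&
      (fa == 0 || t * (fa + fb - fc) == κ * fa) && (fb == 0 || t * (fa + fb - fc) == κ * fb) &&
      (fc == 0 || t * (fa + fb - fc) == -κ * fc)
  else
    (κ != 0 || (fa == fb && fa == fc)) &&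
      (fa == 0 || t * (fa + fb + fc) == (3 * t - κ) * fa) &&
      (fb == 0 || t * (fa + fb + fc) == (3 * t - κ) * fb) &&
      (fc == 0 || t * (fa + fb + fc) == (3 * t - κ) * fc) &&
      (fa == 0 || fa.natAbs == t || fb == 0 || fb.natAbs == t) &&
      (fa == 0 || fa.natAbs == t || fc == 0 || fc.natAbs == t) &&
      (fb == 0 || fb.natAbs == t || fc == 0 || fc.natAbs == t)

section

open H8.Tp
open scoped ComplexConjugate

/-- sum over the elements whose order satisfies `Q` -/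
noncomputable def tpS (Q : ℕ → Prop) (θ : G → ℂ) : ℂ :=
  haveI := Fintype.ofFinite G
  ∑ g, if Q (orderOf g) then θ g else 0

noncomputable def tpN (G : Type*) [Group G] [Finite G] (Q : ℕ → Prop) : ℕ :=
  haveI := Fintype.ofFinite G
  (Finset.univ.filter fun g : G => Q (orderOf g)).card

theorem tpS_const (Q : ℕ → Prop) (c : ℂ) : tpS Q (fun _ : G => c) = tpN G Q * c := by
  simp [tpS, tpN, Finset.sum_ite]

theorem tpN_zero {Q : ℕ → Prop} : tpN G Q = 0 ↔ ∀ g : G, ¬ Q (orderOf g) := by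
  simp [tpN, Finset.filter_eq_empty_iff]

theorem tpN_lt {Q R : ℕ → Prop} (h : ∀ n, Q n → R n) {x : G} (h1 : R (orderOf x))
    (h2 : ¬ Q (orderOf x)) : tpN G Q < tpN G R :=
  Finset.card_lt_card ((Finset.ssubset_iff_of_subset
    (Finset.monotone_filter_right _ fun _ _ a => h _ a)).2 ⟨x, by simp [h1], by simp [h2]⟩)

theorem tpS_congr {Q : ℕ → Prop} {θ η : G → ℂ} (h : ∀ g, Q (orderOf g) → θ g = η g) :
    tpS Q θ = tpS Q η :=
  Finset.sum_congr rfl fun g _ => by split_ifs with e; exacts [h g e, rfl]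

theorem tpS_lin (Q : ℕ → Prop) (θ η μ : G → ℂ) (a b c : ℂ) :
    tpS Q (fun g => a * θ g + b * η g + c * μ g) = a * tpS Q θ + b * tpS Q η + c * tpS Q μ := by
  simp only [tpS, Finset.mul_sum, ← Finset.sum_add_distrib]
  exact Finset.sum_congr rfl fun g _ => by split_ifs <;> simp

theorem tpS_split (Q R : ℕ → Prop) (θ : G → ℂ) :
    tpS Q θ = tpS (fun n => Q n ∧ R n) θ + tpS (fun n => Q n ∧ ¬ R n) θ := by
  simp only [tpS, ← Finset.sum_add_distrib]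
  exact Finset.sum_congr rfl fun g _ => by
    by_cases h : Q (orderOf g) <;> by_cases h' : R (orderOf g) <;> simp [h, h']

variable {p : ℕ} [hp : Fact p.Prime] {x : G}

theorem tp_avg (h : D1 p x) {ψ : Irr G} (hψ : ψ ∈ B0 p G) {Q : ℕ → Prop} (hQ : ∀ n, Q n → p ∣ n) :
    (p - 1 : ℕ) * tpS Q ψ.1 = tpN G Q * ∑ i : (ZMod p)ˣ, ψ.1 (xp x (i : ZMod p)) := by
  letI := Fintype.ofFinite G
  have : NeZero (Nat.card G) := ⟨Nat.card_pos.ne'⟩
  have h1 : ∀ i : (ZMod p)ˣ, tpS Q ψ.1 = tpS Q fun g => ψ.1 (xp (pp p g) (i : ZMod p)) := fun i => by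
    obtain ⟨u, rfl⟩ := ZMod.unitsMap_surjective h.dvd i
    have hu := ZMod.val_coe_unit_coprime u
    unfold tpS
    rw [← (powCoprime hu.symm).sum_comp]
    refine Finset.sum_congr rfl fun g _ => ?_
    rw [powCoprime_apply, orderOf_pow_of_coprime g hu]
    split_ifs with e
    · rw [h.apply_pp (by rw [orderOf_pow_of_coprime g hu]; exact hQ _ e) hψ, pp_pow,
        ← xp_natCast (h.pp (hQ _ e)).ord, ZMod.unitsMap_val, ZMod.natCast_val]
    · rfl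
  rw [← tpS_const, ← ZMod.card_units p, ← nsmul_eq_mul, ← Finset.card_univ, ← Finset.sum_const,
    Finset.sum_congr rfl fun i _ => h1 i]
  unfold tpS
  rw [Finset.sum_comm]
  refine Finset.sum_congr rfl fun g _ => ?_
  split_ifs with e
  · obtain ⟨j, hj⟩ := h.exists_isConj_pp (hQ _ e)
    rw [← Equiv.sum_comp (Equiv.mulLeft j) fun i : (ZMod p)ˣ => ψ.1 (xp x (i : ZMod p))]
    exact Finset.sum_congr rfl fun i _ => (ψ.2.classFun.apply_of_isConj (isConj_xp hj _)).trans (by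
      rw [Equiv.coe_mulLeft, Units.val_mul, xp_mul h.ord])
  · simp

variable {e c : ℕ} {f : Irr G → ℤ} (hb : IsBlk G ⟨p, e, c⟩ f)
include hb

theorem tp_f (ψ : Irr G) : p * tpS (p ∣ ·) ψ.1 = Nat.card G * f ψ := by
  letI := Fintype.ofFinite G
  have h1 := classInner_sum_smul_irr (fun ψ => (f ψ : ℂ)) ψ
  have h2 := congrArg conj (card_mul_classInner (∑ χ : Irr G, (f χ : ℂ) • χ.1) ψ.1)
  rw [h1] at h2
  simp only [Finset.sum_apply, Pi.smul_apply, smul_eq_mul, hb.sum, map_mul, map_natCast, map_intCast,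
    map_sum, Complex.conj_conj] at h2
  rw [h2, tpS, Finset.mul_sum]
  exact Finset.sum_congr rfl fun g _ => by split_ifs <;> simp

theorem tp_B0 {ψ : Irr G} (h : f ψ ≠ 0) : ψ ∈ B0 p G := fun M _ => by
  letI := Fintype.ofFinite G
  by_contra e
  have h1 := inner_regPart_eq_zero fun e' : SB M ψ (irrOne G) => e e'.symm
  have h2 := ψ.2.inner_of_ne (irrOne G).2 fun e' => e (Subtype.ext e' ▸ SB.refl _)
  have h3 := tp_f hb ψ
  have h4 : tpS (p ∣ ·) ψ.1 = 0 := by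
    rw [← mul_zero (Nat.card G : ℂ), ← sub_zero (0 : ℂ)]
    nth_rw 1 [← h2]
    rw [← h1, ← classInner_sub_left, card_mul_classInner, tpS]
    exact Finset.sum_congr rfl fun g _ => by by_cases h : p ∣ orderOf g <;> simp [regPart, h]
  rw [h4, mul_zero, eq_comm, mul_eq_zero, Int.cast_eq_zero] at h3
  exact h3.elim (card_ne_zero G) h

theorem tp_card : p * tpN G (p ∣ ·) = Nat.card G * Pr.t ⟨p, e, c⟩ := by
  have := tp_f hb (irrOne G)
  rw [hb.one, irrOne_coe, tpS_const, mul_one] at this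
  exact_mod_cast this

theorem tp_U (h : D1 p x) {ψ : Irr G} (h0 : f ψ ≠ 0) (R : ℕ → Prop) :
    Pr.t ⟨p, e, c⟩ * tpS (fun n => p ∣ n ∧ R n) ψ.1 = tpN G (fun n => p ∣ n ∧ R n) * f ψ := by
  have h1 := tp_avg h (tp_B0 hb h0) (Q := (p ∣ ·)) fun _ h => h
  have h2 := tp_avg h (tp_B0 hb h0) (Q := fun n => p ∣ n ∧ R n) fun _ h => h.1
  have h3 := congrArg (Nat.cast : ℕ → ℂ) (tp_card hb)
  have h4 : ((p - 1 : ℕ) : ℂ) ≠ 0 := Nat.cast_ne_zero.2 (Nat.sub_ne_zero_of_lt hp.out.one_lt)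
  push_cast at h3
  apply mul_left_cancel₀ (mul_ne_zero h4 (card_ne_zero G))
  linear_combination (Nat.card G * Pr.t ⟨p, e, c⟩) * h2 - (tpN G (fun n => p ∣ n ∧ R n) * p) * h1 -
    (tpN G (fun n => p ∣ n ∧ R n) * ∑ i : (ZMod p)ˣ, ψ.1 (xp x (i : ZMod p))) * h3 +
    (tpN G (fun n => p ∣ n ∧ R n) * (p - 1 : ℕ)) * tp_f hb ψ

theorem tp_abs {ψ : Irr G} (h0 : f ψ ≠ 0) : (f ψ).natAbs = Pr.t ⟨p, e, c⟩ ∨ (f ψ).natAbs = 1 := by
  by_cases h1 : ψ = irrOne G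
  · rw [h1, hb.one]; exact Or.inl rfl
  have := hb.loc ψ h1
  simp only [cfs, List.mem_append, List.mem_ite_nil_right, List.mem_singleton, h0, and_false,
    false_or] at this
  rw [this.2] at h0 ⊢
  unfold wt at h0 ⊢
  split_ifs at h0 ⊢ <;> simp at h0 ⊢

theorem tp_dvd {ψ : Irr G} (h0 : f ψ ≠ 0) {k : ℕ} {r : ℤ}
    (h : (Pr.t ⟨p, e, c⟩ * r * Nat.card G : ℂ) = k * f ψ) : Nat.card G ∣ k := by
  have h1 : Pr.t ⟨p, e, c⟩ * r * Nat.card G = k * f ψ := by exact_mod_cast h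
  have h2 := congrArg Int.natAbs h1
  simp only [Int.natAbs_mul, Int.natAbs_natCast] at h2
  rcases tp_abs hb h0 with e | e <;> rw [e] at h2
  · refine ⟨r.natAbs, Nat.eq_of_mul_eq_mul_right (Nat.pos_of_ne_zero hb.tpos) ?_⟩
    rw [← h2]; ring
  · exact ⟨Pr.t ⟨p, _, c⟩ * r.natAbs, by rw [← mul_one k, ← h2, mul_comm]⟩

theorem tp_exc (h : D1 p x) (p3 : p ≠ 3) {u v : Irr G} (ne : u ≠ v)
    (hr : ∀ g, ¬ 3 ∣ orderOf g → u.1 g = v.1 g) : f u = 0 ∨ (f u).natAbs = Pr.t ⟨p, e, c⟩ ∨ f v = 0 ∨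
      (f v).natAbs = Pr.t ⟨p, e, c⟩ := by
  by_contra a
  push Not at a
  refine ne (Subtype.ext (funext fun g => ?_))
  by_cases hg : p ∣ orderOf g
  · rw [h.apply_pp hg (tp_B0 hb a.1), h.apply_pp hg (tp_B0 hb a.2.2.1)]
    exact hr _ fun e => p3 ((Nat.prime_dvd_prime_iff_eq Nat.prime_three hp.out).1
      ((h.pp hg).ord ▸ e)).symm
  · exact hb.reg u v a.1 a.2.1 a.2.2.1 a.2.2.2 g hg

theorem tp_A {u v w : Irr G} (T : Tri u v w true) : tpS (fun n => p ∣ n ∧ 3 ∣ n) v.1 =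
    tpS (fun n => p ∣ n ∧ 3 ∣ n) u.1 ∧ tpS (fun n => p ∣ n ∧ 3 ∣ n) w.1 =
    -tpS (fun n => p ∣ n ∧ 3 ∣ n) u.1 ∧
    (Nat.card G * (f u + f v - f w) : ℂ) = 3 * p * tpS (fun n => p ∣ n ∧ 3 ∣ n) u.1 := by
  have h1 : tpS (fun n => p ∣ n ∧ 3 ∣ n) v.1 = tpS (fun n => p ∣ n ∧ 3 ∣ n) u.1 :=
    tpS_congr fun g hg => (T.singA rfl g hg.2).1.symm
  have h2 := tpS_lin (fun n => p ∣ n ∧ 3 ∣ n) u.1 v.1 w.1 1 0 1
  have h3 := tpS_lin (fun n => p ∣ n ∧ ¬ 3 ∣ n) u.1 v.1 w.1 1 1 (-1)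
  rw [tpS_congr (η := fun _ => 0) fun g hg => by rw [(T.singA rfl g hg.2).2]; ring, tpS_const] at h2
  rw [tpS_congr (η := fun _ => 0) fun g hg => by rw [← T.regA rfl g hg.2]; ring, tpS_const] at h3
  refine ⟨h1, by linear_combination -h2, ?_⟩
  linear_combination p * (tpS_split (p ∣ ·) (3 ∣ ·) u.1 + tpS_split (p ∣ ·) (3 ∣ ·) v.1 -
    tpS_split (p ∣ ·) (3 ∣ ·) w.1) - (tp_f hb u + tp_f hb v - tp_f hb w) + p * h1 - p * h3 + p * h2

theorem tp_B {u v w m : Irr G} (T : Tri u v w false) (hm : m = u ∨ m = v ∨ m = w) :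
    (Nat.card G * (f u + f v + f w) : ℂ) =
      3 * Nat.card G * f m - 3 * p * tpS (fun n => p ∣ n ∧ 3 ∣ n) m.1 := by
  have h1 : ∀ m : Irr G, m = u ∨ m = v ∨ m = w → tpS (fun n => p ∣ n ∧ ¬ 3 ∣ n) m.1 =
      tpS (fun n => p ∣ n ∧ ¬ 3 ∣ n) u.1 := by
    rintro _ (rfl | rfl | rfl)
    exacts [rfl, tpS_congr fun g hg => (T.regB rfl g hg.2).1.symm,
      tpS_congr fun g hg => (T.regB rfl g hg.2).2.symm]
  have h2 := tpS_lin (fun n => p ∣ n ∧ 3 ∣ n) u.1 v.1 w.1 1 1 1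
  rw [tpS_congr (η := fun _ => 0) fun g hg => by rw [← T.singB rfl g hg.2]; ring, tpS_const] at h2
  linear_combination p * (tpS_split (p ∣ ·) (3 ∣ ·) u.1 + tpS_split (p ∣ ·) (3 ∣ ·) v.1 +
    tpS_split (p ∣ ·) (3 ∣ ·) w.1 - 3 * tpS_split (p ∣ ·) (3 ∣ ·) m.1) -
    (tp_f hb u + tp_f hb v + tp_f hb w - 3 * tp_f hb m) - p * h2 +
    p * (h1 v (by simp) + h1 w (by simp) - 3 * h1 m hm)

end

/-- `κ / (3 t)` is the proportion of `3`-singular elements among the `p`-singular ones. -/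
theorem exists_kappa {p : ℕ} [Fact p.Prime] {x : G} (h : D1 p x) (p3 : p ≠ 3) {e c : ℕ}
    {f : Irr G → ℤ} (hb : IsBlk G ⟨p, e, c⟩ f) : ∃ κ : ℕ, κ < 3 * Pr.t ⟨p, e, c⟩ ∧
      (κ = 0 ↔ ¬ 3 ∣ c) ∧ ∀ {u v w : Irr G} {ty : Bool}, Tri u v w ty →
        kok p (Pr.t ⟨p, e, c⟩) κ ty (deg u) (deg v) (deg w) (f u) (f v) (f w) = true := by
  letI := Fintype.ofFinite G
  have hp : p.Prime := Fact.out
  have G0 := card_ne_zero G
  set σ := tpN G fun n => p ∣ n ∧ 3 ∣ n with hσ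
  have s0 : σ = 0 ↔ ¬ 3 ∣ c := by
    rw [hσ, tpN_zero]
    exact ⟨fun a b => (hb.pq 3 Nat.prime_three p3.symm b).elim fun g hg => a g hg,
      fun a g hg => hb.nopq 3 Nat.prime_three p3.symm a g hg.1 hg.2⟩
  have s1 : σ < tpN G (p ∣ ·) := tpN_lt (fun _ h => h.1) (x := x) h.ord.symm.dvd fun e =>
    p3 ((Nat.prime_dvd_prime_iff_eq Nat.prime_three hp).1 (h.ord ▸ e.2)).symm
  have U := fun {ψ : Irr G} (h0 : f ψ ≠ 0) => tp_U hb h h0 (3 ∣ ·)
  rw [← hσ] at U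
  have U0 : σ = 0 → ∀ ψ : Irr G, tpS (fun n => p ∣ n ∧ 3 ∣ n) ψ.1 = 0 := fun a ψ => by
    rw [hσ, tpN_zero] at a
    rw [tpS_congr (η := fun _ => 0) fun g hg => (a g hg).elim, tpS_const, mul_zero]
  have U1 : ∀ ψ : Irr G, deg ψ % p = 0 → tpS (fun n => p ∣ n ∧ 3 ∣ n) ψ.1 = 0 := fun ψ a => by
    rw [tpS_congr (η := fun _ => 0) fun g hg => hb.van ψ (Nat.dvd_of_mod_eq_zero a) g hg.1, tpS_const,
      mul_zero]
  by_cases hd : Nat.card G ∣ 3 * p * σ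
  · obtain ⟨κ, hκ⟩ := hd
    have hκ' : (3 * p * σ : ℂ) = Nat.card G * κ := by exact_mod_cast hκ
    have k0 : κ = 0 ↔ σ = 0 := ⟨fun a => by simpa [a, hp.ne_zero] using hκ, fun a => by
      simpa [a, Nat.card_pos.ne'] using hκ⟩
    refine ⟨κ, Nat.lt_of_mul_lt_mul_left (a := Nat.card G) ?_, k0.trans s0, fun {u v w ty} T => ?_⟩
    · rw [← hκ, mul_left_comm, ← tp_card hb, mul_assoc]
      exact Nat.mul_lt_mul_of_pos_left (Nat.mul_lt_mul_of_pos_left s1 hp.pos) (by norm_num)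
    cases ty
    · have key : ∀ m : Irr G, m = u ∨ m = v ∨ m = w → f m = 0 ∨
          Pr.t ⟨p, e, c⟩ * (f u + f v + f w) = (3 * Pr.t ⟨p, e, c⟩ - κ) * f m := fun m hm =>
        or_iff_not_imp_left.2 fun h0 => by
          apply Int.cast_injective (α := ℂ)
          push_cast
          apply mul_left_cancel₀ G0
          linear_combination Pr.t ⟨p, e, c⟩ * tp_B hb T hm - 3 * p * U h0 - f m * hκ'
      have k1 : κ = 0 → ∀ m : Irr G, m = u ∨ m = v ∨ m = w → f u + f v + f w = 3 * f m := fun a m hm => by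
        apply Int.cast_injective (α := ℂ)
        push_cast
        apply mul_left_cancel₀ G0
        linear_combination tp_B hb T hm - 3 * p * U0 (k0.1 a) m
      simp only [kok, Bool.false_eq_true, if_false, Bool.and_eq_true, Bool.or_eq_true, beq_iff_eq,
        bne_iff_ne, or_assoc]
      refine ⟨⟨⟨⟨⟨⟨or_iff_not_imp_left.2 fun a => ?_, key u (by simp)⟩, key v (by simp)⟩, key w (by simp)⟩,
        tp_exc hb h p3 T.ab fun g hg => (T.regB rfl g hg).1⟩,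
        tp_exc hb h p3 T.ac fun g hg => (T.regB rfl g hg).2⟩,
        tp_exc hb h p3 T.bc fun g hg => (T.regB rfl g hg).1.symm.trans (T.regB rfl g hg).2⟩
      have := k1 (not_not.1 a) u (by simp)
      have := k1 (not_not.1 a) v (by simp)
      omega
    · obtain ⟨a1, a2, a3⟩ := tp_A hb T
      simp only [kok, if_true, Bool.and_eq_true, Bool.or_eq_true, beq_iff_eq, bne_iff_ne]
      refine ⟨⟨⟨or_iff_not_imp_left.2 fun a => ?_, or_iff_not_imp_left.2 fun h0 => ?_⟩,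
        or_iff_not_imp_left.2 fun h0 => ?_⟩, or_iff_not_imp_left.2 fun h0 => ?_⟩ <;>
        apply Int.cast_injective (α := ℂ) <;> push_cast <;> apply mul_left_cancel₀ G0
      · have : tpS (fun n => p ∣ n ∧ 3 ∣ n) u.1 = 0 := by_contra fun b => a ⟨⟨⟨fun e => b (U0 (k0.1 e) u),
          fun e => b (U1 u e)⟩, fun e => b (a1 ▸ U1 v e)⟩, fun e => b (neg_eq_zero.1 (a2 ▸ U1 w e))⟩
        linear_combination a3 + 3 * p * this
      · linear_combination Pr.t ⟨p, e, c⟩ * a3 + 3 * p * U h0 + f u * hκ'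
      · linear_combination Pr.t ⟨p, e, c⟩ * a3 + 3 * p * U h0 + f v * hκ' - 3 * p * Pr.t ⟨p, e, c⟩ * a1
      · linear_combination Pr.t ⟨p, e, c⟩ * a3 - 3 * p * U h0 - f w * hκ' + 3 * p * Pr.t ⟨p, e, c⟩ * a2
  · have := hb.tpos
    refine ⟨if 3 ∣ c then 1 else 0, by split_ifs <;> omega, by split_ifs with a <;> simp [a],
      fun {u v w ty} T => ?_⟩
    have z : ∀ m : Irr G, m = u ∨ m = v ∨ m = w → f m = 0 := fun m hm => by_contra fun h0 => hd (by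
      cases ty
      · exact tp_dvd hb h0 (r := 3 * f m - (f u + f v + f w)) (by
          push_cast
          linear_combination -Pr.t ⟨p, e, c⟩ * tp_B hb T hm + 3 * p * U h0)
      · obtain ⟨a1, a2, a3⟩ := tp_A hb T
        rcases hm with rfl | rfl | rfl
        · exact tp_dvd hb h0 (r := f m + f v - f w) (by
            push_cast
            linear_combination Pr.t ⟨p, e, c⟩ * a3 + 3 * p * U h0)
        · exact tp_dvd hb h0 (r := f u + f m - f w) (by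
            push_cast
            linear_combination Pr.t ⟨p, e, c⟩ * a3 + 3 * p * U h0 - 3 * p * Pr.t ⟨p, e, c⟩ * a1)
        · exact tp_dvd hb h0 (r := -(f u + f v - f m)) (by
            push_cast
            linear_combination -Pr.t ⟨p, e, c⟩ * a3 + 3 * p * U h0 - 3 * p * Pr.t ⟨p, e, c⟩ * a2))
    rw [z u (by simp), z v (by simp), z w (by simp)]
    cases ty <;> simp [kok]

open H8.Tp in
/-- Characters of degree `2^8 * odd` in a group whose order has `2`-part `2^10`. -/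
theorem exists_t2 (h1 : 1024 ∣ Nat.card G) (h2 : ¬ 2048 ∣ Nat.card G) {χ : Irr G}
    (h3 : 256 ∣ deg χ) (h4 : ¬ 512 ∣ deg χ) : ∃ (l : List (Irr G)) (n : Irr G → ℤ) (k v : ℕ),
      (χ :: l).Nodup ∧ (∀ ψ ∈ l, (n ψ = 1 ∨ n ψ = -1) ∧ 2 ^ v ∣ deg ψ ∧ ¬ 2 ^ (v + 1) ∣ deg ψ) ∧
      (l.length = 3 ∧ (k = 1 ∨ k = 3) ∧ v = 8 ∨ l.length = 4 ∧ k = 2 ∧ v ≤ 7) ∧
      ∀ g, ¬ 2 ∣ orderOf g → k * χ.1 g = (l.map fun ψ => (n ψ : ℂ) * ψ.1 g).sum := by
  obtain ⟨M, hM⟩ := exists_PM 2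
  have h : (Nat.card G).factorization 2 = 10 := (fact_eq_iff Nat.card_pos.ne').2 ⟨h1, h2⟩
  have hχ : (deg χ).factorization 2 = 8 := (fact_eq_iff (deg_ne_zero χ)).2 ⟨h3, h4⟩
  have f2 : (2 : ℕ).factorization 2 = 1 := Nat.prime_two.factorization_self
  have f4 : (4 : ℕ).factorization 2 = 2 := (fact_eq_iff (by norm_num)).2 (by norm_num)
  obtain ⟨n, t⟩ := exists_TN (p := 2) (χ := χ) (N := 4) (by
    rw [Nat.factorization_mul (by norm_num) (deg_ne_zero χ), Finsupp.add_apply, f4, hχ, h])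
  obtain ⟨r1, r2⟩ := t.range (by norm_num) (by omega)
  have sb : ∀ ψ ∈ pa χ n, SB M χ ψ := fun ψ hψ => sb_of_ne M ((t.lk (by norm_num)).2 (mem_pa.1 hψ).2)
  have pm : ∀ ψ ∈ pa χ n, n ψ = 1 ∨ n ψ = -1 → (deg ψ).factorization 2 ≤ 8 ∧
      (tz 2 χ χ ∈ Pm M ↔ (deg ψ).factorization 2 < 8) := fun ψ hψ e => by
    have a := t.s_le (by norm_num) (mem_pa.1 hψ).2
    rw [(sb ψ hψ).mem_iff (tz_mem χ), t.pm_iff (by norm_num) (mem_pa.1 hψ).2]
    rw [f4, h, show (n ψ).natAbs = 1 by omega, Nat.factorization_one, Finsupp.zero_apply] at a ⊢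
    omega
  suffices H : ∃ k v : ℕ, (k : ℤ) = 4 - n χ ∧ (∀ ψ ∈ pa χ n, (n ψ = 1 ∨ n ψ = -1) ∧
      (deg ψ).factorization 2 = v) ∧ ((pa χ n).card = 3 ∧ (k = 1 ∨ k = 3) ∧ v = 8 ∨
        (pa χ n).card = 4 ∧ k = 2 ∧ v ≤ 7) by
    obtain ⟨k, v, a, b, c⟩ := H
    refine ⟨(pa χ n).toList, n, k, v, List.nodup_cons.2 ⟨fun e => (mem_pa.1 (Finset.mem_toList.1 e)).1 rfl,
      Finset.nodup_toList _⟩, fun ψ hψ => ⟨(b ψ (Finset.mem_toList.1 hψ)).1,
        (fact_eq_iff (deg_ne_zero ψ)).1 (b ψ (Finset.mem_toList.1 hψ)).2⟩,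
      by rwa [Finset.length_toList], fun g hg => ?_⟩
    rw [Finset.sum_map_toList, ← t.reg hg, ← Int.cast_natCast k, a]
    push_cast; rfl
  by_cases e : n χ = 2
  · rcases sq_cases (r := 4) (fun ψ h => (mem_pa.1 h).2) (t.sq.trans (by simp [e])) le_rfl with
      ⟨a, b⟩ | ⟨-, ψ, a, b⟩
    · have z0 : tz 2 χ χ ∈ Pm M := by
        rw [t.pm_iff (by norm_num) r1.ne', f4, hχ, h, e, show Int.natAbs 2 = 2 from rfl, f2]; omega
      have z1 : ∀ ψ ∈ pa χ n, ∀ φ ∈ pa χ n, tz 2 ψ φ ∉ Pm M := fun ψ hψ φ hφ => by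
        rw [← (sb φ hφ).mem_iff (tz_mem ψ)]
        obtain ⟨ε, e1, e2⟩ := t.tz_eq (by norm_num) ψ
        have e3 : tz 2 ψ χ = n ψ * (((Nat.card G : ℕ) : ℂ) / (4 * deg χ : ℕ)) := by
          have := χ.2.apply_one_ne_zero
          rw [tz, tm_symm, t, Nat.cast_mul, deg_eq]; field_simp
        have e4 : ((Nat.card G : ℕ) : ℂ) / (4 * deg χ : ℕ) ∉ Pm M :=
          div_notMem_Pm_of_le Nat.card_pos.ne' (mul_ne_zero (by norm_num) (deg_ne_zero χ)) (by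
            rw [Nat.factorization_mul (by norm_num) (deg_ne_zero χ), Finsupp.add_apply, f4, hχ, h])
        rcases a ψ hψ with e5 | e5 <;> rw [e3, e5] <;> simpa using e4
      obtain ⟨φ, hφ⟩ := Finset.card_pos.1 (b.symm ▸ (by norm_num : 0 < 4))
      refine ⟨2, (deg φ).factorization 2, by simp [e], fun ψ hψ => ⟨a ψ hψ, le_antisymm
        ((fact_le_of_units (z1 φ hφ ψ hψ)).resolve_right (z1 ψ hψ φ hφ))
        ((fact_le_of_units (z1 ψ hψ φ hφ)).resolve_right (z1 φ hφ ψ hψ))⟩, Or.inr ⟨b, rfl, ?_⟩⟩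
      have := (pm φ hφ (a φ hφ)).2.1 z0
      omega
    · have d := t.reg (reg_one (G := G))
      rw [a, Finset.sum_singleton, ← deg_eq, ← deg_eq, e] at d
      have d' : (4 - 2 : ℤ) * deg χ = n ψ * deg ψ := by exact_mod_cast d
      have := deg_ne_zero χ
      obtain ⟨b, d⟩ : n ψ = 2 ∧ deg ψ = deg χ := by rcases b with b | b <;> rw [b] at d' <;> omega
      obtain ⟨P⟩ := (inferInstance : Nonempty (Sylow 2 G))
      have c := card_dvd_deg_of_vanish (χ.2.isCharacter.add ψ.2.isCharacter) (P : Subgroup G)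
        fun g hg h1 => by
          have := t.sing ((PElt.of_mem P.isPGroup' hg).dvd_orderOf h1)
          rw [a, Finset.sum_singleton, e, b] at this
          push_cast at this
          rw [Pi.add_apply]
          linear_combination this / 2
      have c' : charDegree (χ.1 + ψ.1) = 2 * deg χ := by
        apply Nat.cast_injective (R := ℂ)
        rw [charDegree_eq (χ.2.isCharacter.add ψ.2.isCharacter), Pi.add_apply, ← deg_eq, ← deg_eq, d]
        push_cast; ring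
      rw [P.card_eq_multiplicity, h, c'] at c
      exact absurd (Nat.dvd_of_mul_dvd_mul_left (k := 2) (by norm_num) c) h4
  · have e' : n χ = 1 ∨ n χ = 3 := by omega
    obtain ⟨a, b⟩ := (sq_cases (r := 3) (fun ψ h => (mem_pa.1 h).2)
      (t.sq.trans (by rcases e' with e | e <;> simp [e])) (by norm_num)).resolve_right (by omega)
    have z0 : tz 2 χ χ ∉ Pm M := by
      rw [t.pm_iff (by norm_num) r1.ne', f4, hχ, h,
        Nat.factorization_eq_zero_of_not_dvd (show ¬ 2 ∣ (n χ).natAbs by omega)]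
      omega
    refine ⟨(4 - n χ).toNat, 8, by omega, fun ψ hψ => ⟨a ψ hψ, ?_⟩, Or.inl ⟨b, by omega, rfl⟩⟩
    have := pm ψ hψ (a ψ hψ)
    have := this.2.not.1 z0
    omega

end H21.Eng
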