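import Mathlib
import Cfsg.Agent.H21.M24c
import Cfsg.Agent.H21.Tp

/-! Simple groups of order 244823040: soundness of the searches with triples. -/

set_option autoImplicit false
set_option linter.unusedSectionVars false

open Cfsg H4 H17 H18 Subgroup
open scoped Classical

namespace H21.Eng

section

variable {ι : Type*} {ρ : ι → Rec} {s : Finset ι} {N : ℕ} {Ps : List Pr} {A : List Rec}

theorem Hyp.trans (H : Hyp N Ps A ρ s) {Qs : List Pr}
    (h : Ps.map (fun P => (P.p, P.e)) = Qs.map fun P => (P.p, P.e)) {B : List Rec}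
    (hB : ∀ ψ ∈ s, ρ ψ ∈ B) : Hyp N Qs B ρ s := by
  have k : ∀ (j : ℕ) (Q : Pr), Qs[j]? = some Q →
      ∃ P, Ps[j]? = some P ∧ Q.p = P.p ∧ Q.e = P.e ∧ Q.t = P.t := fun j Q e => by
    have := congrArg (·[j]?) h
    simp only [List.getElem?_map, e, Option.map_some, Option.map_eq_some_iff, Prod.mk.injEq] at this
    obtain ⟨P, a, b, c⟩ := this
    exact ⟨P, a, b.symm, c.symm, by rw [Pr.t, Pr.t, b, c]⟩
  refine ⟨hB, H.sq, fun Q hQ => ?_, fun j Q e => ?_, fun j Q e => ?_, fun j Q e => ?_,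
    fun j Q e => ?_, fun i j P Q n e e' => ?_, fun j Q e => ?_⟩
  · obtain ⟨j, e⟩ := List.getElem?_of_mem hQ
    obtain ⟨P, a, -, -, d⟩ := k j Q e
    exact d ▸ H.tpos P (List.mem_of_getElem? a)
  · obtain ⟨P, a, -, -, d⟩ := k j Q e
    exact d ▸ H.deg j P a
  · obtain ⟨P, a, -, c, d⟩ := k j Q e
    rw [c, d]; exact H.cnt j P a
  · obtain ⟨P, a, -, -, d⟩ := k j Q e
    rw [d]; exact H.cnt' j P a
  · obtain ⟨P, a, -, -, d⟩ := k j Q e
    rw [d]; exact H.same j P a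
  · obtain ⟨P', a, -, -, d⟩ := k i P e
    obtain ⟨Q', a', -, -, d'⟩ := k j Q e'
    rw [d, d']; exact H.cross i j _ _ n a a'
  · obtain ⟨P, a, b, -, d⟩ := k j Q e
    rw [b, d]; exact H.norm j P a

theorem Hyp.exists_neg (H : Hyp N Ps A ρ s) {i j : ℕ} {P Q : Pr} (h : i ≠ j) (hP : Ps[i]? = some P)
    (hQ : Ps[j]? = some Q) : ∃ ψ ∈ s, cf i (ρ ψ) * cf j (ρ ψ) < 0 := by
  by_contra! e
  have h1 := H.cross i j P Q h hP hQ
  have h2 := Finset.sum_nonneg e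
  have h3 := mul_ne_zero (H.tpos P (List.mem_of_getElem? hP)) (H.tpos Q (List.mem_of_getElem? hQ))
  omega

theorem cfs_mono {p e c c' d : ℕ} {a : ℤ} (h1 : c ≠ 1) (h1' : c' ≠ 1)
    (h2 : N / (p * c') ∣ N / (p * c)) (h : a ∈ cfs N ⟨p, e, c'⟩ d) : a ∈ cfs N ⟨p, e, c⟩ d := by
  simp only [cfs, List.mem_append, List.mem_ite_nil_right, List.mem_singleton] at h ⊢
  exact h.imp (fun x => ⟨Or.inl h1, x.2⟩) fun x => ⟨⟨x.1.1, Nat.mod_eq_zero_of_dvd
    ((Nat.dvd_of_mod_eq_zero x.1.2.1).trans h2), Or.inr (x.1.2.2.resolve_left h1')⟩, x.2⟩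

end

variable {G : Type*} [Group G] [Finite G]

theorem Tri.swap {a b c : Irr G} {ty : Bool} (T : Tri a b c ty) : Tri b a c ty :=
  ⟨T.ab.symm, T.bc, T.ac, fun m h => T.nine m (or_left_comm.1 h),
    fun m h χ => (T.cls m (or_left_comm.1 h) χ).trans or_left_comm,
    fun e g h => by rw [add_comm]; exact T.regA e g h,
    fun e g h => ⟨(T.singA e g h).1.symm, by rw [← (T.singA e g h).1]; exact (T.singA e g h).2⟩,
    fun e g h => ⟨(T.regB e g h).1.symm, (T.regB e g h).1.symm.trans (T.regB e g h).2⟩,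
    fun e g h => by rw [add_comm (b.1 g)]; exact T.singB e g h⟩

theorem Tri.swap' {a b c : Irr G} (T : Tri a b c false) : Tri a c b false :=
  ⟨T.ac, T.ab, T.bc.symm, fun m h => T.nine m (h.imp_right Or.symm),
    fun m h χ => (T.cls m (h.imp_right Or.symm) χ).trans (or_congr_right or_comm),
    fun e => by simp at e, fun e => by simp at e, fun e g h => (T.regB e g h).symm,
    fun e g h => by rw [add_right_comm]; exact T.singB e g h⟩

theorem triHyp (hc : Nat.card G = 244823040) {ρ : Irr G → Rec} (hρ : ∀ ψ, (ρ ψ).1 = deg ψ)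
    {A : List Rec} (hA : ∀ ψ ∈ Finset.univ.erase (irrOne G), ρ ψ ∈ A)
    {tk : Bool → Rec → Rec → Rec → Bool}
    (htk : ∀ u v w ty, Tri u v w ty → tk ty (ρ u) (ρ v) (ρ w) = true) {V : (Irr G → ℤ) → Prop}
    (hV : ∀ v, V v → ∃ g, ¬ 3 ∣ orderOf g ∧ ∀ ψ : Irr G, ψ.1 g = v ψ) :
    TriHyp (Lk 3) V nine (opt9 244823040 tk (A.filter nine)) ρ (Finset.univ.erase (irrOne G)) := by
  have h0 : ∀ {a b c ty}, Tri a b c ty → ∀ m, m = a ∨ m = b ∨ m = c →
      m ∈ Finset.univ.erase (irrOne G) ∧ nine (ρ m) = true ∧ ρ m ∈ A.filter nine := fun T m h => by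
    obtain ⟨h1, h2⟩ := T.nine m h
    have h3 : m ∈ Finset.univ.erase (irrOne G) := Finset.mem_erase.2 ⟨fun e => by
      rw [e, H17.deg_irrOne] at h1; omega, Finset.mem_univ _⟩
    have h4 : nine (ρ m) = true := by
      simp only [nine, hρ, Bool.and_eq_true, beq_iff_eq, bne_iff_ne]; omega
    exact ⟨h3, h4, List.mem_filter.2 ⟨hA m h3, h4⟩⟩
  have hd : ∀ ψ : Irr G, 244823040 % deg ψ = 0 := fun ψ =>
    Nat.mod_eq_zero_of_dvd (hc ▸ deg_dvd_card ψ)
  have r1 : ¬ 3 ∣ orderOf (1 : G) := by simp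
  have d1 : ∀ {a b c : Irr G}, Tri a b c true → deg a + deg b = deg c := fun T => by
    have := T.regA rfl 1 r1
    simp only [← deg_eq] at this
    exact_mod_cast this
  have v1 : ∀ {a b c : Irr G}, Tri a b c true → ∀ v, V v → v a + v b = v c := fun T v h => by
    obtain ⟨g, a, b⟩ := hV v h
    have := T.regA rfl g a
    simp only [b] at this
    exact_mod_cast this
  intro ψ _ h9
  simp only [nine, hρ, Bool.and_eq_true, beq_iff_eq, bne_iff_ne] at h9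
  obtain ⟨a, b, c, ty, T, h⟩ := exists_tri (ψ := ψ) (by rw [hc]; decide) (by rw [hc]; decide)
    (by omega) (by omega)
  cases ty
  · obtain ⟨b, c, T, hk⟩ : ∃ b c, Tri ψ b c false ∧ key (ρ b) ≤ key (ρ c) := by
      obtain ⟨b, c, T⟩ : ∃ b c, Tri ψ b c false := by
        rcases h with rfl | rfl | rfl
        exacts [⟨_, _, T⟩, ⟨_, _, T.swap⟩, ⟨_, _, T.swap'.swap⟩]
      exact (le_total _ _).elim (⟨b, c, T, ·⟩) (⟨c, b, T.swap', ·⟩)
    have d2 := T.regB rfl 1 r1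
    simp only [← deg_eq, Nat.cast_inj] at d2
    refine ⟨b, (h0 T b (by simp)).1, c, (h0 T c (by simp)).1, 2, T.ab, T.ac, T.bc, T.cls,
      (h0 T b (by simp)).2.1, (h0 T c (by simp)).2.1, List.mem_flatMap.2 ⟨ρ b, (h0 T b (by simp)).2.2,
      List.mem_append_right _ ?_⟩, fun v e => ⟨by simp, by simp, fun _ _ => ?_⟩⟩
    · rw [if_pos (by rw [hρ, hρ, d2.1])]
      exact List.mem_map_of_mem (List.mem_filter.2 ⟨(h0 T c (by simp)).2.2, by
        simp [hρ, htk _ _ _ _ T, hk, d2.2]⟩)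
    · obtain ⟨g, a, b⟩ := hV v e
      have := T.regB rfl g a
      simp only [b] at this
      exact_mod_cast this
  by_cases e : ψ = c
  · subst e
    obtain ⟨a, b, T, hk⟩ : ∃ a b, Tri a b ψ true ∧ key (ρ a) ≤ key (ρ b) :=
      (le_total _ _).elim (⟨a, b, T, ·⟩) (⟨b, a, T.swap, ·⟩)
    have d2 := d1 T
    refine ⟨a, (h0 T a (by simp)).1, b, (h0 T b (by simp)).1, 1, T.ac.symm, T.bc.symm, T.ab,
      fun m h χ => (T.cls m (by tauto) χ).trans (by tauto),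
      (h0 T a (by simp)).2.1, (h0 T b (by simp)).2.1, List.mem_flatMap.2 ⟨ρ a, (h0 T a (by simp)).2.2,
      List.mem_append_left _ (List.mem_append_right _ ?_)⟩, fun v e => ⟨by simp, fun _ => v1 T v e,
      by simp⟩⟩
    have := deg_ne_zero b
    rw [if_pos (by rw [hρ, hρ, ← d2, Nat.add_sub_cancel_left]; exact ⟨by omega, hd b⟩)]
    exact List.mem_map_of_mem (List.mem_filter.2 ⟨(h0 T b (by simp)).2.2, by
      simp [hρ, htk _ _ _ _ T, hk, d2]⟩)
  obtain ⟨b, T⟩ : ∃ b, Tri ψ b c true := by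
    rcases h with rfl | rfl | rfl
    exacts [⟨_, T⟩, ⟨_, T.swap⟩, absurd rfl e]
  have d2 := d1 T
  refine ⟨b, (h0 T b (by simp)).1, c, (h0 T c (by simp)).1, 0, T.ab, T.ac, T.bc, T.cls,
    (h0 T b (by simp)).2.1, (h0 T c (by simp)).2.1, List.mem_flatMap.2 ⟨ρ b, (h0 T b (by simp)).2.2,
    List.mem_append_left _ (List.mem_append_left _ ?_)⟩, fun v e => ⟨fun _ => v1 T v e, by simp,
    by simp⟩⟩
  rw [if_pos (by rw [hρ, hρ, d2]; exact hd c)]
  exact List.mem_map_of_mem (List.mem_filter.2 ⟨(h0 T c (by simp)).2.2, by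
    simp [hρ, htk _ _ _ _ T, d2]⟩)

theorem e3_sound (hc : Nat.card G = 244823040) {fs : List (Irr G → ℤ)} {Qs : List Pr}
    (H : Hyp 244823040 Qs (allRecs Qs) (rho fs) (Finset.univ.erase (irrOne G)))
    (h12 : ∀ ψ ≠ irrOne G, 12 < deg ψ) {ks : List ℕ}
    (htk : ∀ u v w ty, Tri u v w ty → tok Qs ks ty (rho fs u) (rho fs v) (rho fs w) = true)
    {flt : Rec → Bool} (hf : ∀ ψ ≠ irrOne G, flt (rho fs ψ) = true) {V : (Irr G → ℤ) → Prop}
    (hV : ∀ v, V v → ∃ g, ¬ 3 ∣ orderOf g ∧ ∀ ψ : Irr G, ψ.1 g = v ψ) {k : ℕ} (hk : k ≤ Qs.length)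
    {post : ℕ → List Rec → List Rel → Bool} {F : List Rec → List Rel → Bool}
    (hpost : ∀ j cs Ls, Cov2 (rho fs) (Finset.univ.erase (irrOne G)) j cs → ROk V cs Ls →
      post j (cs.map (rho fs)) Ls ≠ true)
    {st : List Rec → List (List Rec × List Rel)} {cs : List (Irr G)} (h : cs.Nodup)
    (h' : ∀ ψ ∈ cs, ψ ≠ irrOne G) {Ls : List Rel} (hL : ROk V cs Ls)
    (hst : ∀ A', (∀ ψ ∈ Finset.univ.erase (irrOne G), rho fs ψ ∈ A') → (cs.map (rho fs), Ls) ∈ st A')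
    (hr : e3 Qs ks flt k post F st = true) :
    ∃ cs' Ls', Cov2 (rho fs) (Finset.univ.erase (irrOne G)) k cs' ∧ ROk V cs' Ls' ∧
      F (cs'.map (rho fs)) Ls' = true := by
  have H' := H.filter (p := fun r => decide (12 < r.1) && flt r) fun ψ a => by
    rw [hf ψ (Finset.ne_of_mem_erase a), Bool.and_true]
    exact decide_eq_true (h12 ψ (Finset.ne_of_mem_erase a))
  exact eng2_sound H' (triHyp hc (fun _ => rfl) H'.mem htk hV) hk hpost h
    (fun ψ a => Finset.mem_erase.2 ⟨h' ψ a, Finset.mem_univ _⟩) hL hst (eng3_spec hr)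

/-- The condition on triples coming from the prime `p`. -/
def Kap (p t κ : ℕ) (f : Irr G → ℤ) : Prop := ∀ {u v w : Irr G} {ty : Bool}, Tri u v w ty →
  kok2 p t κ ty (deg u) (deg v) (deg w) (f u) (f v) (f w) = true

theorem exists_kap {p : ℕ} [Fact p.Prime] {x : G} (h : D1 p x) (p3 : p ≠ 3) {e c : ℕ}
    {f : Irr G → ℤ} (hb : IsBlk G ⟨p, e, c⟩ f) :
    ∃ κ ∈ kaps ⟨p, e, c⟩, Kap p (Pr.t ⟨p, e, c⟩) κ f := by
  obtain ⟨κ, h1, h2, h3⟩ := exists_kappa h p3 hb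
  refine ⟨κ, List.mem_filter.2 ⟨List.mem_range.2 h1, ?_⟩, h3⟩
  by_cases a : κ = 0
  · simpa [a, Nat.dvd_iff_mod_eq_zero] using h2
  · simpa [a, Nat.dvd_iff_mod_eq_zero] using h2

theorem kap_sc {p : ℕ} [Fact p.Prime] {x : G} (h : D1 p x) (p3 : p ≠ 3) {e : ℕ}
    {f : Irr G → ℤ} (hb : IsBlk G ⟨p, e, 1⟩ f) : Kap p (Pr.t ⟨p, e, 1⟩) 0 f := by
  obtain ⟨κ, -, h2, h3⟩ := exists_kappa h p3 hb
  obtain rfl := h2.2 (by decide)
  exact h3

variable [IsSimpleGroup G]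

theorem mem_allRecs (hc : Nat.card G = 244823040) {Qs : List Pr} {fs : List (Irr G → ℤ)}
    {ψ : Irr G} (h1 : ψ ≠ irrOne G)
    (h : List.Forall₂ (fun Q f => f ψ ∈ cfs 244823040 Q (deg ψ)) Qs fs) : rho fs ψ ∈ allRecs Qs := by
  have hG : ¬ IsMulCommutative G := not_comm_of_not_prime (by rw [hc]; norm_num)
  refine List.mem_flatMap.2 ⟨deg ψ, List.mem_filter.2 ⟨mem_D24 _ (hc ▸ deg_dvd_card ψ), by
    simpa [← sq, ← hc] using ⟨one_lt_deg (commutator_eq_top_of_simple hG) h1, deg_sq_lt h1⟩⟩,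
    List.mem_map_of_mem ?_⟩
  induction h with
  | nil => simp [recs]
  | cons h1 _ ih => exact List.mem_flatMap.2 ⟨_, h1, List.mem_map_of_mem ih⟩

theorem hyp24 (hc : Nat.card G = 244823040) {Ps : List Pr} {fs : List (Irr G → ℤ)}
    (hF : List.Forall₂ (IsBlk G) Ps fs)
    (hno : Ps.Pairwise fun P Q => ∀ g : G, P.p ∣ orderOf g → ¬ Q.p ∣ orderOf g) :
    Hyp 244823040 Ps (allRecs Ps) (rho fs) (Finset.univ.erase (irrOne G)) := by
  have := hyp hF (not_comm_of_not_prime (by rw [hc]; norm_num)) hno (Ds := D24)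
    fun d h => mem_D24 d (hc ▸ h)
  rwa [hc] at this

end H21.Eng
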