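import Mathlib
import Cfsg.Agent.H21.M24d

/-! Simple groups of order 244823040: soundness of the columns. -/

set_option autoImplicit false
set_option linter.unusedSectionVars false

open Cfsg H4 H17 H18 Subgroup
open scoped Classical

namespace H21.Eng

variable {G : Type*} [Group G] [Finite G]

theorem nrm_int {g : G} {v : Irr G → ℤ} (hv : ∀ ψ : Irr G, ψ.1 g = v ψ) :
    1 + ∑ ψ ∈ Finset.univ.erase (irrOne G), (v ψ).natAbs * (v ψ).natAbs =
      Nat.card (centralizer ({g} : Set G)) := by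
  have h1 := col_int_self hv
  have h2 : v (irrOne G) = 1 := by
    have := hv (irrOne G)
    rw [irrOne_apply] at this
    exact_mod_cast this.symm
  rw [← Finset.add_sum_erase _ _ (Finset.mem_univ (irrOne G)), h2] at h1
  apply Nat.cast_injective (R := ℤ)
  simpa only [Nat.cast_add, Nat.cast_sum, Int.natAbs_mul_self, Nat.cast_one, one_mul] using h1

theorem cent_dvd {ψ : Irr G} {g : G} {v : ℤ} (hv : ψ.1 g = v) :
    ((deg ψ / (deg ψ).gcd (Nat.card G / Nat.card (centralizer ({g} : Set G))) : ℕ) : ℤ) ∣ v := by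
  have h1 := central_dvd ψ hv
  rw [Int.natCast_dvd, Int.natAbs_mul, Int.natAbs_natCast] at h1
  rw [Int.natCast_dvd]
  have h3 := Nat.gcd_pos_of_pos_left (Nat.card G / Nat.card (centralizer ({g} : Set G)))
    (Nat.pos_of_ne_zero (deg_ne_zero ψ))
  refine (Nat.coprime_div_gcd_div_gcd h3).dvd_of_dvd_mul_left (Nat.dvd_of_mul_dvd_mul_left h3 ?_)
  rwa [← mul_assoc, Nat.mul_div_cancel' (Nat.gcd_dvd_left _ _),
    Nat.mul_div_cancel' (Nat.gcd_dvd_right _ _)]

theorem IsBlk.abs1 {p e c : ℕ} [Fact p.Prime] {f : Irr G → ℤ} (h : IsBlk G ⟨p, e, c⟩ f)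
    (ht : (p - 1) / e = 1) {ψ : Irr G} (h0 : f ψ ≠ 0) : (f ψ).natAbs = 1 :=
  (tp_abs h h0).elim (·.trans ht) id

theorem IsBlk.val1 {p e c : ℕ} [Fact p.Prime] {f : Irr G → ℤ} (h : IsBlk G ⟨p, e, c⟩ f)
    (ht : (p - 1) / e = 1) {ψ : Irr G} (h0 : f ψ ≠ 0) {g : G} (hg : p ∣ orderOf g) :
    ψ.1 g = f ψ := by
  simpa [Pr.t, ht] using h.val ψ ((h.abs1 ht h0).trans ht.symm) g hg

theorem int_of_aut {p : ℕ} [Fact p.Prime] {u : G} (hu : orderOf u = p)
    (he : Nat.card (Aut hu) = p - 1) (ψ : Irr G) (i : ZMod p) (hi : i ≠ 0) :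
    ψ.1 (xp u i) = iv ψ u := by
  obtain ⟨c, h⟩ := exists_int_of_top hu (aut_eq_top hu he) ψ.2.isCharacter
  rw [h i hi, iv_of_eq ((congrArg ψ.1 (xp_one u)).symm.trans (h 1 one_ne_zero))]

variable [IsSimpleGroup G]

theorem mem_uvals (hc : Nat.card G = 244823040) {u : G} (hu : orderOf u = 7)
    (he : Nat.card (Aut hu) = 6) {c : ℕ} {f : Irr G → ℤ} (b7 : IsBlk G ⟨7, 6, c⟩ f) {ψ : Irr G}
    (h1 : ψ ≠ irrOne G) {r : Rec} (hr : r.1 = deg ψ) (hf : cf 3 r = f ψ) :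
    iv ψ u ∈ uvals 244823040 (Nat.card (centralizer ({u} : Set G))) 7 3 r := by
  have hG : ¬ IsMulCommutative G := not_comm_of_not_prime (by rw [hc]; norm_num)
  have hv : ∀ ψ : Irr G, ψ.1 u = iv ψ u := fun ψ => by
    simpa only [xp_one] using int_of_aut hu he ψ 1 one_ne_zero
  rw [uvals, hr, hf]
  split_ifs with a b
  · rw [iv_of_eq (b7.val1 rfl a hu.symm.dvd)]
    exact List.mem_singleton_self _
  · rw [iv_of_eq (n := 0) (by rw [b7.van ψ (Nat.dvd_of_mod_eq_zero b) u hu.symm.dvd, Int.cast_zero])]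
    exact List.mem_singleton_self _
  have h2 := mult_of_const hu ψ.2.isCharacter (deg_eq ψ).symm (int_of_aut hu he ψ)
  have h3 := abs_iv_lt hG h1 (ne_one_of_orderOf hu) (hv ψ)
  have h4 := cent_dvd (hv ψ)
  have h5 := nrm_int hv
  have h6 := Finset.single_le_sum (f := fun ψ => (iv ψ u).natAbs * (iv ψ u).natAbs)
    (fun _ _ => Nat.zero_le _) (Finset.mem_erase.2 ⟨h1, Finset.mem_univ _⟩)
  rw [hc] at h4
  refine List.mem_filter.2 ⟨mem_prog (Nat.lcm_pos (by decide) (Nat.div_pos (Nat.gcd_le_left _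
    (Nat.pos_of_ne_zero (deg_ne_zero ψ))) (Nat.gcd_pos_of_pos_left _
    (Nat.pos_of_ne_zero (deg_ne_zero ψ))))) (Int.natCast_dvd.2 (Nat.lcm_dvd (Int.natCast_dvd.1 ?_)
    (Int.natCast_dvd.1 ((Int.natCast_dvd_natCast.2 (Nat.div_dvd_of_dvd
      (Nat.gcd_dvd_left _ _))).sub h4)))) (Nat.le_sqrt.2 (h6.trans ((Nat.le_add_left _ 1).trans h5.le)))
    (by rw [abs_lt] at h3; omega),
    decide_eq_true ?_⟩
  · push_cast at h2 ⊢
    omega
  · push_cast at h2 ⊢
    omega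

theorem ucol_sound (hc : Nat.card G = 244823040) {c5 c7 : ℕ} {f5 f11 f23 f7 : Irr G → ℤ}
    (b5 : IsBlk G ⟨5, 4, c5⟩ f5) (b11 : IsBlk G p11 f11) (b23 : IsBlk G p23 f23)
    (b7 : IsBlk G ⟨7, 6, c7⟩ f7) {u : G} (hu : orderOf u = 7) (he : Nat.card (Aut hu) = 6)
    {Cs : List ℕ} (hC : Nat.card (centralizer ({u} : Set G)) ∈ Cs) (jm : List ℕ)
    {V : (Irr G → ℤ) → Prop} (hV : V (iv · u)) (j : ℕ) (cs : List (Irr G)) (Ls : List Rel)
    (h : Cov2 (rho [f5, f11, f23, f7]) (Finset.univ.erase (irrOne G)) j cs) (hL : ROk V cs Ls) :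
    ucol Cs jm j (cs.map (rho [f5, f11, f23, f7])) Ls ≠ true := fun H => by
  have hv : ∀ ψ : Irr G, ψ.1 u = iv ψ u := fun ψ => by
    simpa only [xp_one] using int_of_aut hu he ψ 1 one_ne_zero
  rw [ucol, Bool.and_eq_true] at H
  refine absurd (col2_sound (v := (iv · u)) h (fun i hi => List.mem_range.1 (List.mem_filter.1 hi).1)
    (fun _ => rfl) (fun ψ a => mem_uvals hc hu he b7 (Finset.ne_of_mem_erase a) rfl rfl)
    (nrm_int hv).le (fun i hi => ?_) (fun _ _ => rfl) (fun ψ χ e1 e2 => ?_)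
    (fun L a => (hL L a).2 _ hV) (col3_spec H.2 hC)) (by simp)
  · have : i < 3 := of_decide_eq_true (List.mem_filter.1 hi).2
    interval_cases i
    · exact b5.lin (by rw [hu]; exact (by decide : ¬ 5 ∣ 7)) fun ψ _ _ => hv ψ
    · exact b11.lin (by rw [hu]; decide) fun ψ _ _ => hv ψ
    · exact b23.lin (by rw [hu]; decide) fun ψ _ _ => hv ψ
  · have e3 : f23 ψ = f23 χ := congrArg (cf 2) e1
    simp only [exc, P6, rho, List.map_cons, List.map_nil, Bool.or_eq_true, Bool.and_eq_true,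
      bne_iff_ne, Bool.false_eq_true, or_false] at e2
    rcases e2 with e | e | e | e
    · exact absurd (b5.abs1 rfl e.1) e.2
    · exact absurd (b11.abs1 rfl e.1) e.2
    · apply Int.cast_injective (α := ℂ)
      rw [← hv, ← hv]
      exact b23.reg _ _ (e3 ▸ e.1) (e3 ▸ e.2) e.1 e.2 u (by rw [hu]; decide)
    · exact absurd (b7.abs1 rfl e.1) e.2

theorem sqok3 (c c' C : ℕ) (z : ℤ) : sqok ⟨7, 3, c⟩ C z = sqok ⟨7, 3, c'⟩ C z := by
  simp [sqok]

theorem scol_sound (hc : Nat.card G = 244823040) {c5 c7 : ℕ} (h5 : c5 = 12 ∨ c5 = 192)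
    (h7 : c7 = 6 ∨ c7 = 48 ∨ c7 = 384) {f5 f7 f11 f23 : Irr G → ℤ}
    (b5 : IsBlk G ⟨5, 4, c5⟩ f5) (b7 : IsBlk G ⟨7, 3, c7⟩ f7) (b11 : IsBlk G p11 f11)
    (b23 : IsBlk G p23 f23) {q s : G} (hq : orderOf q = 11) (hs : orderOf s = 2)
    (h1 : s ∈ normalizer (zpowers q : Set G)) (h2 : s ∉ centralizer ({q} : Set G))
    (h3 : 5 ∣ Nat.card (centralizer ({s} : Set G))) {cs : List (Irr G)} {Ls : List Rel}
    (h : Cov2 (rho [f5, f7, f11, f23]) (Finset.univ.erase (irrOne G)) 4 cs)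
    (hL : ∀ L ∈ Ls, reval L (cs.map (iv · s)) = 0)
    (H : scol (cs.map (rho [f5, f7, f11, f23]), Ls) = true) :
    fin24 (cs.map (rho [f5, f7, f11, f23])) (cs.map (iv · s)).reverse = true := by
  have hG : ¬ IsMulCommutative G := not_comm_of_not_prime (by rw [hc]; norm_num)
  have K := colHyp (.cons b5 (.cons b7 (.cons b11 (.cons b23 .nil)))) hG hs
  rw [hc] at K
  have hC : Nat.card (centralizer ({s} : Set G)) ∈ Cs5 := by
    have a := List.all_eq_true.1 mem_Cs5 _ (mem_D24 _ (hc ▸ card_subgroup_dvd_card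
      (centralizer ({s} : Set G))))
    have a5 := b5.okc s hs
    have a7 := b7.okc s hs
    rw [b11.okc s hs, b23.okc s hs, Nat.mod_eq_zero_of_dvd h3] at a
    rcases h5 with rfl | rfl <;> rcases h7 with rfl | rfl | rfl <;> simpa [a5, a7] using a
  have hn := K.nrm
  refine col2_sound (v := (iv · s)) h (by decide) (fun _ => rfl) (fun ψ a => List.mem_filter.2
    ⟨(mem_vals2 (by omega) (K.ok ψ a) ?_ :), decide_eq_true ?_⟩) hn (fun i hi => ?_) (fun i hi => ?_)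
    K.same hL (col3_spec H hC)
  · have := Finset.single_le_sum (f := fun ψ => (iv ψ s).natAbs * (iv ψ s).natAbs)
      (fun _ _ => Nat.zero_le _) a
    omega
  · have e1 := abs_le_mult ψ.2.isCharacter hq h1 h2 (iv_inv ψ (mul_self_of_two hs))
    have e2 := mult_of_const' hq ψ (c := f11 ψ) fun g hg => by
      by_cases e : f11 ψ = 0
      · rw [e, b11.van ψ (b11.dvd_deg (Finset.ne_of_mem_erase a) e) g hg, Int.cast_zero]
      · exact b11.val1 rfl e hg
    change 11 * ((iv ψ s).natAbs : ℤ) ≤ deg ψ + 10 * f11 ψ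
    rw [Int.natCast_natAbs]
    push_cast at e2
    omega
  · simp only [List.mem_cons, List.not_mem_nil, or_false] at hi
    rcases hi with rfl | rfl | rfl | rfl
    exacts [K.lin 0 ⟨5, 4, c5⟩ rfl, K.lin 1 ⟨7, 3, c7⟩ rfl, K.lin 2 _ rfl, K.lin 3 _ rfl]
  · simp only [List.mem_cons, List.not_mem_nil, or_false] at hi
    simp only [Bool.or_eq_true, Bool.and_eq_true]
    rcases hi with rfl | rfl | rfl | rfl
    · rcases h5 with rfl | rfl
      exacts [Or.inl (Or.inr (K.sq 0 _ rfl)), Or.inr ⟨rfl, K.sq 0 _ rfl⟩]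
    exacts [Or.inl (Or.inr ((sqok3 6 c7 _ _).trans (K.sq 1 ⟨7, 3, c7⟩ rfl))),
      Or.inl (Or.inr (K.sq 2 _ rfl)), Or.inl (Or.inr (K.sq 3 _ rfl))]

end H21.Eng
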