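import Mathlib
import Cfsg.Agent.H21.M24a

/-! Simple groups of order 244823040: the first searches. -/

set_option autoImplicit false

namespace H21.Eng

theorem k24_23 : ((optsP 244823040 D24 23).all fun P =>
    [(11, 1), (11, 24), (11, 576), (22, 12), (22, 288)].contains (P.e, P.c) ||
    engk 244823040 D24 [P] 1 fun _ => false) = true := by decide +kernel

theorem k24_7 : ((optsP 244823040 D24 7).all fun P => P.c % 11 != 0 || P.c % 23 == 0 ||
    engk 244823040 D24 [P, p23] 1 fun _ => false) = true := by decide +kernel

theorem k24_11 : ((optsP 244823040 D24 11).all fun P => P.c % 7 == 0 || P.c % 23 == 0 ||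
    [(10, 1), (10, 12), (5, 2), (5, 24)].contains (P.e, P.c) ||
    engk 244823040 D24 [P, p23] 1 fun _ => false) = true := by decide +kernel

end H21.Eng
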