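import Mathlib
import Cfsg.Agent.H21.M24b

/-! Simple groups of order 244823040: runs of the second search. -/

set_option autoImplicit false
set_option Elab.async false

namespace H21.Eng

theorem all_H11 {f : Pr × List ℕ → Bool} (h1 : (H11.take 1).all f = true)
    (h2 : ((H11.drop 1).take 1).all f = true) (h3 : (H11.drop 2).all f = true) :
    H11.all f = true :=
  show (H11.take 1 ++ ((H11.drop 1).take 1 ++ H11.drop 2)).all f = true by
    rw [List.all_append, List.all_append, h1, h2, h3]; rfl

theorem k24_2_0 : ([(2, 4), (2, 14), (2, 24), (2, 54), (2, 64), (2, 84), (2, 144), (2, 224)].all fun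
    y => H11.all (ph2 y)) = true := by decide +kernel

theorem k24_2_1 : ([(2, 384), (2, 504), (2, 864), (2, 1344), (2, 2304), (2, 3024), (2, 3584), (2,
    8064), (2, 13824), (2, 48384)].all fun y => H11.all (ph2 y)) = true := by decide +kernel

theorem k24_2_2a : (H11.take 1).all (ph2 (4, 2)) = true := by decide +kernel

theorem k24_2_2b : ((H11.drop 1).take 1).all (ph2 (4, 2)) = true := by decide +kernel

theorem k24_2_2c : (H11.drop 2).all (ph2 (4, 2)) = true := by decide +kernel

theorem k24_2_2 : ([(4, 2)].all fun y => H11.all (ph2 y)) = true := by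
  rw [List.all_cons, all_H11 k24_2_2a k24_2_2b k24_2_2c]; rfl

theorem k24_2_3a : (H11.take 1).all (ph2 (4, 12)) = true := by decide +kernel

theorem k24_2_3b : ((H11.drop 1).take 1).all (ph2 (4, 12)) = true := by decide +kernel

theorem k24_2_3c : (H11.drop 2).all (ph2 (4, 12)) = true := by decide +kernel

theorem k24_2_3 : ([(4, 12)].all fun y => H11.all (ph2 y)) = true := by
  rw [List.all_cons, all_H11 k24_2_3a k24_2_3b k24_2_3c]; rfl

theorem k24_2_4a : (H11.take 1).all (ph2 (4, 32)) = true := by decide +kernel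

theorem k24_2_4b : ((H11.drop 1).take 1).all (ph2 (4, 32)) = true := by decide +kernel

theorem k24_2_4c : (H11.drop 2).all (ph2 (4, 32)) = true := by decide +kernel

theorem k24_2_4 : ([(4, 32)].all fun y => H11.all (ph2 y)) = true := by
  rw [List.all_cons, all_H11 k24_2_4a k24_2_4b k24_2_4c]; rfl

theorem k24_2_5 : ([(4, 42)].all fun y => H11.all (ph2 y)) = true := by decide +kernel

theorem k24_2_6 : ([(4, 72)].all fun y => H11.all (ph2 y)) = true := by decide +kernel

theorem k24_2_7 : ([(4, 112), (4, 192), (4, 252)].all fun y => H11.all (ph2 y)) = true := by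
  decide +kernel

theorem k24_2_8 : ([(4, 432), (4, 672), (4, 1152), (4, 1512), (4, 1792), (4, 4032), (4, 6912), (4,
    24192)].all fun y => H11.all (ph2 y)) = true := by decide +kernel

theorem k24_2 : (O5.all fun y => H11.all (ph2 y)) = true := show (([(2, 4), (2, 14), (2, 24), (2,
    54), (2, 64), (2, 84), (2, 144), (2, 224)] ++ ([(2, 384), (2, 504), (2, 864), (2, 1344), (2,
    2304), (2, 3024), (2, 3584), (2, 8064), (2, 13824), (2, 48384)] ++ ([(4, 2)] ++ ([(4, 12)] ++
    ([(4, 32)] ++ ([(4, 42)] ++ ([(4, 72)] ++ ([(4, 112), (4, 192), (4, 252)] ++ ([(4, 432), (4,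
    672), (4, 1152), (4, 1512), (4, 1792), (4, 4032), (4, 6912), (4, 24192)]))))))))).all fun y =>
    H11.all (ph2 y)) = true by simp only [List.all_append, k24_2_0, k24_2_1, k24_2_2, k24_2_3,
    k24_2_4, k24_2_5, k24_2_6, k24_2_7, k24_2_8, Bool.and_self]

end H21.Eng
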