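import Mathlib
import Cfsg.Agent.H21.M24k1
import Cfsg.Agent.H21.Lab

/-! Simple groups of order 244823040: the Sylow 23-subgroup is self-centralising. -/

set_option autoImplicit false
set_option linter.unusedSectionVars false

open Cfsg H4 H17 H18 Subgroup
open scoped Classical

namespace H21.Eng

variable {G : Type*} [Group G] [Finite G]

theorem Q1.frat {N : Type*} [Group N] [Finite N] (C : Subgroup N) [C.Normal] {r : ℕ} [Fact r.Prime]
    (h1 : r ∣ C.index) {k : ℕ} (h3 : 2 ^ k ∣ Nat.card C) (h4 : ¬ 2 ^ (k + 1) ∣ Nat.card C)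
    (h5 : 2 ≤ 2 ^ k % r) : ∃ y q : N, orderOf y = 2 ∧ y ∈ C ∧ orderOf q = r ∧ Commute y q := by
  obtain ⟨P⟩ : Nonempty (Sylow 2 C) := inferInstance
  have fr := P.normalizer_sup_eq_top
  have c : Nat.card ((P : Subgroup C).map C.subtype) = 2 ^ k := by
    rw [card_map_of_injective C.subtype_injective, P.card_eq_multiplicity]
    congr 1
    have a := (Nat.prime_two.pow_dvd_iff_le_factorization Nat.card_pos.ne').1 h3
    have b := (Nat.prime_two.pow_dvd_iff_le_factorization Nat.card_pos.ne').not.1 h4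
    omega
  have le : (P : Subgroup C).map C.subtype ≤ C := map_subtype_le _
  generalize (P : Subgroup C).map C.subtype = Q at fr c le
  rw [← relIndex_top_right, ← fr, relIndex_sup_right] at h1
  obtain ⟨q, hq⟩ := exists_prime_orderOf_dvd_card' r (h1.trans (relIndex_dvd_card _ _))
  have h6 := le_card_fix (Ω := Q) hq
  rw [c] at h6
  have : Nontrivial {a : Q // q • a = a} := Finite.one_lt_card_iff_nontrivial.1 (h5.trans h6)
  obtain ⟨⟨y, hy⟩, ne⟩ := exists_ne (⟨1, smul_one q⟩ : {a : Q // q • a = a})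
  have y1 : y ≠ 1 := fun e => ne (Subtype.ext e)
  have d : 2 ∣ orderOf (y : N) := by
    rw [orderOf_coe]
    obtain ⟨m, -, hm⟩ := (Nat.dvd_prime_pow Nat.prime_two).1 (c ▸ orderOf_dvd_natCard y)
    rcases m with _ | m
    · exact (y1 (orderOf_eq_one_iff.1 hm)).elim
    · exact hm ▸ dvd_pow_self 2 m.succ_ne_zero
  refine ⟨_, q, orderOf_pow_orderOf_div (orderOf_pos _).ne' d, pow_mem (le y.2) _,
    by rw [orderOf_coe, hq], Commute.pow_left ?_ _⟩
  have : (q : N) * y * (q : N)⁻¹ = y := congrArg Subtype.val hy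
  exact (mul_inv_eq_iff_eq_mul.1 this).symm

theorem exists_inv_norm {p : ℕ} [Fact p.Prime] {x : G} (h : D1 p x) {r : ℕ} [Fact r.Prime]
    (h1 : r ∣ Nat.card (Aut h.ord)) (h2 : ¬ r ∣ Nat.card (centralizer ({x} : Set G))) {k : ℕ}
    (h3 : 2 ^ k ∣ Nat.card (centralizer ({x} : Set G)))
    (h4 : ¬ 2 ^ (k + 1) ∣ Nat.card (centralizer ({x} : Set G))) (h5 : 2 ≤ 2 ^ k % r) :
    ∃ y q : G, orderOf y = 2 ∧ Commute x y ∧ orderOf q = r ∧
      q ∈ normalizer (zpowers x : Set G) ∧ Commute y q := by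
  have le : centralizer ({x} : Set G) ≤ normalizer (zpowers x : Set G) := fun g hg => by
    rw [mem_normalizer_zpowers_iff, mem_centralizer_singleton_iff.1 hg, mul_inv_cancel_right]
    exact mem_zpowers x
  have : ((centralizer ({x} : Set G)).subgroupOf (normalizer (zpowers x : Set G))).Normal :=
    ⟨fun g hg n => by
      rw [mem_subgroupOf, mem_centralizer_singleton_iff] at hg ⊢
      obtain ⟨m, hm⟩ := mem_normalizer_zpowers_iff.1 (inv_mem n.2)
      have e : Commute (g : G) ((n : G)⁻¹ * x * (n : G)⁻¹⁻¹) := hm ▸ (show Commute (g : G) x from hg).zpow_right m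
      change (n : G) * g * (n : G)⁻¹ * x = x * ((n : G) * g * (n : G)⁻¹)
      calc _ = n * (g * ((n : G)⁻¹ * x * (n : G)⁻¹⁻¹)) * (n : G)⁻¹ := by group
        _ = _ := by rw [e.eq]; group⟩
  have c := Nat.card_congr (subgroupOfEquivOfLe le).toEquiv
  have i := ((centralizer ({x} : Set G)).subgroupOf (normalizer (zpowers x : Set G))).card_mul_index
  rw [c, h.card_normalizer] at i
  obtain ⟨y, q, a1, a2, a3, a4⟩ := Q1.frat _ (Nat.eq_of_mul_eq_mul_left Nat.card_pos i ▸ h1)
    (c ▸ h3) (c ▸ h4) h5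
  exact ⟨y, q, by rw [orderOf_coe, a1], (mem_centralizer_singleton_iff.1 a2).symm,
    by rw [orderOf_coe, a3], q.2, congrArg Subtype.val a4⟩

theorem Q1.no [IsSimpleGroup G] (hc : Nat.card G = 244823040) {x : G} (hx : D1 23 x) {k e c : ℕ}
    (he : Nat.card (Aut hx.ord) = e) (e1 : e = 11 ∨ e = 22)
    (hcx : Nat.card (centralizer ({x} : Set G)) = 23 * c) (h2 : ¬ 11 ∣ 23 * c) (h3 : 2 ^ k ∣ 23 * c)
    (h4 : ¬ 2 ^ (k + 1) ∣ 23 * c) (h5 : 2 ≤ 2 ^ k % 11) (h6 : 3 ∣ c) : False := by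
  have hG : ¬ IsMulCommutative G := not_comm_of_not_prime (by rw [hc]; norm_num)
  have : Fact (Nat.Prime 11) := ⟨by norm_num⟩
  obtain ⟨y, q, a1, a2, a3, -, a4⟩ := exists_inv_norm (r := 11) hx (by omega) (by rwa [hcx])
    (by rwa [hcx]) (by rwa [hcx]) h5
  have dv : ∀ g, Commute y g → orderOf g ∣ Nat.card (centralizer ({y} : Set G)) := fun g hg =>
    orderOf_dvd_natCard _ (mem_centralizer_singleton_iff.2 hg.symm)
  obtain ⟨D⟩ := hx.nonempty_bData
  obtain ⟨χ, b1, b2, b3⟩ := hx.exists_not_dvd Nat.prime_two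
  have b4 : 2 * 23 ≤ deg χ := not_lt.1 fun l => by
    rw [hx.centralizer_eq_of_deg_lt hG b1 b2 l, Nat.card_zpowers, hx.ord] at hcx
    omega
  have b5 : deg χ ∣ 3465 := by
    obtain ⟨c, rfl⟩ := h6
    have i := (centralizer ({x} : Set G)).card_mul_index
    rw [hcx, hc] at i
    have : deg χ ∣ 2 ^ 10 * 3465 := (D.deg_dvd_index b1).trans ⟨c, by
      apply Nat.eq_of_mul_eq_mul_left (show 0 < 69 by norm_num)
      rw [show 69 * (2 ^ 10 * 3465) = 244823040 by norm_num, ← i]; ring⟩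
    exact (((Nat.prime_two.coprime_iff_not_dvd.2 b3).symm).pow_right 10).dvd_of_dvd_mul_left this
  have b6 := D.deg_cases b1
  rw [he] at b6
  have b7 : deg χ = 231 ∨ deg χ = 495 := by
    have : ∀ d ∈ Nat.divisors 3465, 46 ≤ d → d % 23 = 1 ∨ d % 23 = 22 ∨ d % 23 = 11 ∨ d % 23 = 12 →
      d = 231 ∨ d = 495 := by decide +kernel
    refine this _ (Nat.mem_divisors.2 ⟨b5, by norm_num⟩) b4 ?_
    simp only [Int.ModEq] at b6
    clear * - b6 e1
    omega
  have v := iv_inv χ (mul_self_of_two a1)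
  have c1 := four_dvd_inv (commutator_eq_top_of_simple hG) χ a1 v
  have c2 := cong_of hx (by decide) a1 (by rw [← hx.ord]; exact dv x a2.symm) b1
  have c3 := dvd_of_vanish (q := 11) (k := 1) (χ := χ) (by clear * - b7; omega) (by rw [hc]; decide)
    (by rw [a1]; decide) (by rw [← a3]; exact dv q a4) v
  have c4 := abs_lt.1 (abs_iv_lt hG b2 (ne_one_of_orderOf a1) v)
  clear * - c1 c2 c3 c4 b7
  omega

theorem m24_23 [IsSimpleGroup G] (hc : Nat.card G = 244823040) : ∃ (x : G) (hx : SC 23 x)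
    (f : Irr G → ℤ), Nat.card (Aut hx.ord) = 11 ∧ IsBlk G p23 f := by
  have hG : ¬ IsMulCommutative G := not_comm_of_not_prime (by rw [hc]; norm_num)
  obtain ⟨x, hx⟩ := exists_D1 (G := G) (p := 23) (by rw [hc]; norm_num) (by rw [hc]; norm_num)
  obtain ⟨e, c, f, he, hcx, b, h1⟩ := exists_opt hG (by decide) hx hc mem_D24
  replace h1 := List.all_eq_true.1 k24_23 _ h1
  rw [Bool.or_eq_true] at h1
  replace h1 := h1.resolve_right (not_engk (.cons b .nil) hG (by simp) hc (by decide) mem_D24 le_rfl)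
  simp only [List.contains_eq_mem, List.mem_cons, Prod.mk.injEq, List.not_mem_nil, or_false,
    decide_eq_true_eq] at h1
  obtain ⟨rfl, rfl⟩ | ⟨rfl, rfl⟩ | ⟨rfl, rfl⟩ | ⟨rfl, rfl⟩ | ⟨rfl, rfl⟩ := h1
  · exact ⟨x, D1.sc hx hcx, f, he, b⟩
  · exact (Q1.no (k := 3) hc hx he (by simp) hcx (by decide) (by decide) (by decide) (by decide)
      (by decide)).elim
  · exact (Q1.no (k := 6) hc hx he (by simp) hcx (by decide) (by decide) (by decide) (by decide)
      (by decide)).elim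
  · exact (Q1.no (k := 2) hc hx he (by simp) hcx (by decide) (by decide) (by decide) (by decide)
      (by decide)).elim
  · exact (Q1.no (k := 5) hc hx he (by simp) hcx (by decide) (by decide) (by decide) (by decide)
      (by decide)).elim

end H21.Eng
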