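import Mathlib
import Cfsg.Agent.H21.M24c

/-! Simple groups of order 244823040: three excluded degrees. -/

set_option autoImplicit false
set_option linter.unusedSectionVars false

open Cfsg H4 H17 H18 Subgroup
open scoped Classical ComplexConjugate

namespace H21.Eng

variable {G : Type*} [Group G] [Finite G]

theorem q2_small : ∀ d < 13, 1 < d → cfs 244823040 p23 d ≠ [] → d = 11 ∨ d = 12 := by decide +kernel

theorem q2_pos : ∀ d < 145, 1 < d → d % 23 = 1 → cfs 244823040 p11 d = [] := by decide +kernel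

theorem ban12 [IsSimpleGroup G] (hc : Nat.card G = 244823040) {x : G} (hx : SC 23 x)
    (he : Nat.card (Aut hx.ord) = 11) {f11 f23 : Irr G → ℤ} (b11 : IsBlk G p11 f11)
    (b23 : IsBlk G p23 f23) : ∀ ψ ≠ irrOne G, 12 < deg ψ := fun ψ h1 => by
  have hG := commutator_eq_top_of_simple (G := G) (not_comm_of_not_prime (by rw [hc]; norm_num))
  by_contra hd
  have h2 := q2_small (deg ψ) (by omega) (one_lt_deg hG h1) (List.ne_nil_of_mem (hc ▸ b23.loc ψ h1))
  obtain ⟨D⟩ := hx.d1.nonempty_bData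
  rcases (D.mem_iff ψ).1 (H21.SC.mem_B0 hx (χ := ψ) (by omega)) with h3 | ⟨j, rfl⟩
  · have h4 := D.deg_Nx h3
    rcases D.a_sq ψ h3 with h5 | h5 <;> rw [h5] at h4 <;> rcases h2 with h2 | h2 <;> rw [h2] at h4 <;>
      revert h4 <;> decide
  have ht : 2 ≤ (Aut hx.d1.ord).index := (index_Aut (t := 2) hx.ord he rfl).ge
  have hs : deg (D.μ j) ^ 2 ≤ 144 := by rcases h2 with h2 | h2 <;> rw [h2] <;> norm_num
  have := Fintype.ofFinite G
  have hp := (D.sum_deg_pos_le ht j).trans hs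
  have hn := (D.sum_deg_neg_le ht j).trans hs
  have h3 : D.Nx.erase (irrOne G) ⊆ D.Nx.filter (D.a · = -1) := fun χ hχ => by
    obtain ⟨k1, k2⟩ := Finset.mem_erase.1 hχ
    refine Finset.mem_filter.2 ⟨k2, (D.a_sq χ k2).resolve_left fun k3 => ?_⟩
    have k4 := (Finset.single_le_sum (f := deg) (fun _ _ => Nat.zero_le _)
      (Finset.mem_filter.2 ⟨k2, k3⟩ : χ ∈ D.Nx.filter (D.a · = 1))).trans hp
    have k5 := D.deg_Nx k2
    rw [k3, Int.ModEq] at k5
    have k6 := b11.loc χ k1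
    rw [hc, q2_pos (deg χ) (by omega) (one_lt_deg hG k1) (by omega)] at k6
    cases k6
  have h4 := Finset.card_nsmul_le_sum (D.Nx.filter (D.a · = -1)) deg 22 fun χ hχ => by
    obtain ⟨k1, k2⟩ := Finset.mem_filter.1 hχ
    have k5 := D.deg_Nx k1
    rw [k2, Int.ModEq] at k5
    omega
  have h5 := Finset.card_le_card h3
  rw [Finset.card_erase_of_mem D.one_mem, D.card_Nx, he] at h5
  replace h4 := h4.trans hn
  rw [smul_eq_mul] at h4
  omega

theorem no45 {c c' : ℕ} {f5 f7 : Irr G → ℤ} (b5 : IsBlk G ⟨5, 4, c⟩ f5) (b7 : IsBlk G ⟨7, 6, c'⟩ f7)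
    (h4 : ∀ ψ ≠ irrOne G, f5 ψ ≠ 0 → deg ψ ∈ [1771, 2024, 5544, 5796])
    (h7 : ∀ ψ, deg ψ = 2024 → f5 ψ ≠ 0 → f7 ψ ≠ 0) {u : G} (hu : orderOf u = 7)
    (hi : ∀ ψ : Irr G, ∃ n : ℤ, ψ.1 u = n) (χ : Irr G) : deg χ ≠ 45 := fun hχ => by
  obtain ⟨n, n1, hn⟩ := exists_norm_sq χ
  have e1 := b5.proj0 (fun ψ => n ψ) fun g hg => by
    rw [← hn, b5.van χ (hχ ▸ (by decide : 5 ∣ 45)) g hg, zero_mul]
  have e2 := hn 1
  rw [← deg_eq, hχ] at e2
  simp only [← deg_eq, map_natCast] at e2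
  replace e1 : ∑ ψ, (n ψ : ℤ) * f5 ψ = 0 := by exact_mod_cast e1
  replace e2 : 45 * 45 = ∑ ψ, n ψ * deg ψ := by exact_mod_cast e2
  have o5 : f5 (irrOne G) = 1 := by simpa [Pr.t] using b5.one
  rw [← Finset.add_sum_erase _ _ (Finset.mem_univ (irrOne G)), n1] at e1 e2
  rw [H17.deg_irrOne] at e2
  obtain ⟨ψ, k1, k2⟩ : ∃ ψ ∈ Finset.univ.erase (irrOne G), (n ψ : ℤ) * f5 ψ < 0 := by
    by_contra! k
    have := Finset.sum_nonneg k
    omega
  have k3 := (Finset.mem_erase.1 k1).1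
  have k4 : f5 ψ ≠ 0 := fun e => by simp [e] at k2
  have k5 : n ψ ≠ 0 := fun e => by simp [e] at k2
  have k6 := b5.eq_wt k3 k4
  rw [← Finset.add_sum_erase _ _ k1] at e2
  have k7 : deg ψ ≤ n ψ * deg ψ := Nat.le_mul_of_pos_left _ (Nat.pos_of_ne_zero k5)
  have k8 : deg ψ = 2024 := by
    have := h4 ψ k3 k4
    simp only [List.mem_cons, List.not_mem_nil, or_false] at this
    rcases this with e | e | e | e
    · rw [e] at k6
      rw [k6, show wt ⟨5, 4, c⟩ 1771 = 1 by simp [wt, Pr.t]] at k2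
      omega
    all_goals omega
  have k9 : ψ.1 u = (1 : ℤ) := b7.val' (.inl rfl) (by rw [b7.eq_wt k3 (h7 ψ k8 k4), k8]; simp [wt]) u (by rw [hu])
  rw [k8] at e2
  have k10 : n ψ = 1 := by omega
  rw [k10, ← add_assoc, eq_comm, show 1 * 1 + 1 * 2024 = 45 * 45 from rfl, add_eq_left,
    Finset.sum_eq_zero_iff] at e2
  have k11 := fun θ hθ => (mul_eq_zero.1 (e2 θ hθ)).resolve_right (deg_ne_zero θ)
  have e3 := hn u
  obtain ⟨m, hm⟩ := hi χ
  rw [← Finset.add_sum_erase _ _ (Finset.mem_univ (irrOne G)), ← Finset.add_sum_erase _ _ k1, n1, k10, k9,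
    Finset.sum_eq_zero fun θ hθ => by rw [k11 θ hθ, Nat.cast_zero, zero_mul], irrOne_apply, hm,
    map_intCast] at e3
  replace e3 : m * m = 2 := by exact_mod_cast e3.trans (by norm_num : _ = (2 : ℂ))
  have : -2 < m := by nlinarith
  have : m < 2 := by nlinarith
  interval_cases m <;> omega

theorem q2_units : ∀ i : ZMod 7, i ≠ 0 → ∃ m ∈ [29, 37, 17, 53, 19, 13], m.Coprime 244823040 ∧
    ((m : ℕ) : ZMod 7) = i := by decide +kernel

theorem no24 [IsSimpleGroup G] (hc : Nat.card G = 244823040) {c : ℕ} {f5 : Irr G → ℤ}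
    (b5 : IsBlk G ⟨5, 4, c⟩ f5) (h7 : 7 ∣ c) {χ : Irr G} (hχ : deg χ = 24) (hf : f5 χ = -1)
    (hu : ∀ ψ, deg ψ = 24 → f5 ψ ≠ 0 → ψ = χ) : False := by
  have hG : ¬ IsMulCommutative G := not_comm_of_not_prime (by rw [hc]; norm_num)
  have h1 : χ ≠ irrOne G := fun e => by rw [e, H17.deg_irrOne] at hχ; cases hχ
  have hv : ∀ g, 5 ∣ orderOf g → χ.1 g = (-1 : ℤ) := b5.val' (.inr rfl) (by simpa [Pr.t] using hf)
  have hg : ∀ m : ℕ, m.Coprime (Nat.card G) → ∀ g, χ.1 (g ^ m) = χ.1 g := fun m hm g =>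
    congrFun (congrArg Subtype.val (hu (galP χ hm) ((deg_galP χ hm).trans hχ) (by
      rw [b5.eq_of (ψ := galP χ hm) (χ := χ) fun g h => (hv _ (by
        rwa [(hm.symm.coprime_dvd_left (orderOf_dvd_natCard g)).orderOf_pow])).trans (hv g h).symm, hf]
      decide))) g
  obtain ⟨g, g5, g7⟩ := b5.pq 7 (by norm_num) (by norm_num) h7
  have o5 := orderOf_pow_orderOf_div (orderOf_pos g).ne' g5
  have o7 := orderOf_pow_orderOf_div (orderOf_pos g).ne' g7
  have hc' := Commute.pow_pow_self g (orderOf g / 7) (orderOf g / 5)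
  generalize g ^ (orderOf g / 7) = y at o7 hc'
  generalize g ^ (orderOf g / 5) = w at o5 hc'
  obtain ⟨v, e⟩ := χ.2.isGen.exists_int_of_pow (g := y) Nat.card_pos.ne' pow_card_eq_one' fun m hm => hg m hm y
  have e1 := dvd_sub_of_const (p := 5) χ.2.isCharacter o5 hc' e fun i hi => hv _ (by
    rw [(hc'.pow_right _).orderOf_mul_eq_mul_orderOf_of_coprime (y := xp w i)
      (by rw [o7, orderOf_xp o5 hi]; exact (by decide : Nat.Coprime 7 5)), orderOf_xp o5 hi]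
    exact dvd_mul_left _ _)
  have e2 := mult_of_const (p := 7) o7 χ.2.isCharacter (deg_eq χ).symm (c := v) fun i hi => by
    obtain ⟨m, -, m1, rfl⟩ := q2_units i hi
    rw [xp_natCast o7, hg m (hc ▸ m1), e]
  have e3 := abs_lt.1 (abs_iv_lt hG h1 (fun k => by rw [k, orderOf_one] at o7; cases o7) e)
  rw [hχ] at e2 e3
  push_cast at e1 e2 e3
  omega

end H21.Eng
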