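import Mathlib
import Cfsg.Agent.H21.M24e
import Cfsg.Agent.H21.M24k2
import Cfsg.Agent.H21.M24k1
import Cfsg.Agent.H21.M24q1
import Cfsg.Agent.H21.M24q2

/-! Simple groups of order 244823040: the elements of order 11 are self-centralising. -/

set_option autoImplicit false
set_option linter.unusedSectionVars false

open Cfsg H4 H17 H18 Subgroup
open scoped Classical

namespace H21.Eng

theorem ColHyp.mem {ι : Type*} {ρ : ι → Rec} {s : Finset ι} {N C : ℕ} {Ps : List Pr} {v : ι → ℤ}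
    (K : ColHyp N Ps ρ s C v) {ψ : ι} (h : ψ ∈ s) : v ψ ∈ vals2 N C Ps (ρ ψ) := by
  have h1 := K.nrm
  have := Finset.single_le_sum (f := fun ψ => (v ψ).natAbs * (v ψ).natAbs)
    (fun _ _ => Nat.zero_le _) h
  exact mem_vals2 (by omega) (K.ok ψ h) (by omega)

theorem eq_of_countP {ι : Type*} {ρ : ι → Rec} {p : Rec → Bool} {l : List ι}
    (h : (l.map ρ).countP p = 1) {a b : ι} (ha : a ∈ l) (pa : p (ρ a) = true) (hb : b ∈ l)
    (pb : p (ρ b) = true) : a = b := by
  rw [List.countP_map, List.countP_eq_length_filter, List.length_eq_one_iff] at h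
  obtain ⟨z, h⟩ := h
  have h1 := (List.mem_filter (p := p ∘ ρ)).2 ⟨ha, pa⟩
  have h2 := (List.mem_filter (p := p ∘ ρ)).2 ⟨hb, pb⟩
  rw [h, List.mem_singleton] at h1 h2
  rw [h1, h2]

variable {G : Type*} [Group G] [Finite G] [IsSimpleGroup G]

theorem mem_asg (hc : Nat.card G = 244823040) {P : Pr} {f5 f11 f23 : Irr G → ℤ} (b : IsBlk G P f11)
    {cs : List (Irr G)} (h : ∀ ψ ∈ cs, ψ ∈ Finset.univ.erase (irrOne G)) :
    cs.map (rho [f5, f11, f23]) ∈ asg P (cs.map (rho [f5, f23])) := by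
  induction cs with
  | nil => simp [asg]
  | cons a l ih =>
    exact List.mem_flatMap.2 ⟨f11 a, hc ▸ b.loc a (Finset.ne_of_mem_erase (h a List.mem_cons_self)),
      List.mem_map_of_mem (ih fun ψ e => h ψ (List.mem_cons_of_mem _ e))⟩

theorem ph2_false (hc : Nat.card G = 244823040) {f7 f11 f23 : Irr G → ℤ} (b23 : IsBlk G p23 f23)
    {e7 c7 : ℕ} (b7 : IsBlk G ⟨7, e7, c7⟩ f7) (h7 : ⟨7, e7, c7⟩ ∈ optsP 244823040 D24 7)
    (n1 : c7 % 11 ≠ 0) {e c : ℕ} {Cs : List ℕ} (hx : (⟨11, e, c⟩, Cs) ∈ H11) (n5 : ¬ 5 ∣ c)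
    (b11 : IsBlk G ⟨11, e, c⟩ f11) {y : G} (hy : orderOf y = 2)
    (h10 : okA 10 (Nat.card (centralizer ({y} : Set G))) ⟨11, e, c⟩ = true)
    (h5 : 5 ∣ Nat.card (centralizer ({y} : Set G))) : False := by
  have hG : ¬ IsMulCommutative G := not_comm_of_not_prime (by rw [hc]; norm_num)
  obtain ⟨w, hw⟩ := exists_D1 (G := G) (p := 5) (by rw [hc]; norm_num) (by rw [hc]; norm_num)
  obtain ⟨e5, c5, f5, -, -, b5, h1⟩ := exists_opt hG (by decide) hw hc mem_D24
  have n3 := b23.sc_no (q := 11) (by decide) (by decide)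
  have n4 := b23.sc_no (q := 5) (by decide) (by decide)
  have n6 : ∀ g : G, 5 ∣ orderOf g → ¬ 11 ∣ orderOf g := fun g a b =>
    b11.nopq 5 (by decide) (by simp) n5 g b a
  have a5 := b5.okc y hy
  replace h1 := List.all_eq_true.1 o24_5 _ h1
  have n7 := b23.not_dvd_c b5 (by decide) (by decide) (by decide) (by decide)
  have n8 := b11.not_dvd_c b5 (by decide) (by decide) (by decide) n5
  have n9 : c5 % 2 = 0 := by
    simp only [okC, Nat.mod_eq_zero_of_dvd h5, bne_self_eq_false, Bool.false_or, Bool.and_eq_true,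
      beq_iff_eq] at a5
    exact a5.1
  simp only [Bool.or_eq_true, beq_iff_eq, bne_iff_ne, n7, n8, n9, false_or, ne_eq,
    not_true_eq_false, List.contains_iff_mem] at h1
  have hC : Nat.card (centralizer ({y} : Set G)) ∈ Cs.filter (okC · ⟨5, e5, c5⟩) := by
    refine List.mem_filter.2 ⟨?_, a5⟩
    have a := List.all_eq_true.1 k24_c _ hx
    rw [fLR_eq] at a
    replace a := List.all_eq_true.1 a _ (mem_D24 _ (hc ▸ card_subgroup_dvd_card
      (centralizer ({y} : Set G))))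
    have H := hyp24 hc (.cons b11 (.cons b23 .nil)) (by simpa [p23] using n3)
    obtain ⟨ψ, a1, a2⟩ := H.exists_neg (i := 0) (j := 1) (by decide) rfl rfl
    have K := colHyp (.cons b11 (.cons b23 .nil)) hG hy
    rw [hc] at K
    simp only [h10, b23.okc y hy, Bool.not_true, Bool.false_or, Bool.or_false, Bool.or_eq_true,
      beq_iff_eq, hc ▸ card_cent_ne hG hy, false_or, List.contains_iff_mem] at a
    refine a.resolve_right fun a => ?_
    have := List.all_eq_true.1 a _ (List.mem_filter.2 ⟨H.mem ψ a1, decide_eq_true a2⟩)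
    exact List.ne_nil_of_mem (K.mem a1) (List.isEmpty_iff.1 this)
  have hk := List.all_eq_true.1 (List.all_eq_true.1 k24_2 _ h1) _ hx
  rw [ph2, fLN_eq] at hk
  have H2 := hyp24 hc (.cons b5 (.cons b23 .nil)) (by simpa [p23] using n4)
  obtain ⟨ψ, a1, a2⟩ := H2.exists_neg (i := 0) (j := 1) (by decide) rfl rfl
  obtain ⟨cs, Ls, c1, -, hF⟩ := eng2_sound (E := fun _ _ => False) (V := fun _ => False) (cs := [ψ])
    (Ls := []) (nn := fun _ => false) (O := fun _ _ => []) (k := 1) (post := fun _ _ _ => false) H2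
    (fun _ _ h => by simp at h) (by simp) (fun _ _ _ _ _ => by simp) (by simp)
    (by simpa using a1) (fun _ h => by simp at h) (fun A h => by
      exact List.mem_map.2 ⟨_, List.mem_filter.2 ⟨h ψ a1, decide_eq_true a2⟩, rfl⟩) (eng3_spec hk)
  replace hF := List.all_eq_true.1 hF _ (mem_asg hc (f5 := f5) (f23 := f23) b11 c1.mem)
  have c3 : Cov2 (rho [f5, f11, f23]) (Finset.univ.erase (irrOne G)) 1 cs :=
    ⟨c1.nodup, c1.mem, fun ψ a i hi e => c1.all ψ a i hi (by
      obtain rfl : i = 0 := by omega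
      exact e)⟩
  have H3 := hyp24 hc (.cons b5 (.cons b11 (.cons b23 .nil))) (by simpa [p23] using ⟨⟨n6, n4⟩, n3⟩)
  have K := colHyp (.cons b5 (.cons b11 (.cons b23 .nil))) hG hy
  rw [hc] at K
  simp only [fLR_eq, crossOk_of H3 c3 (by simp), Bool.not_true, Bool.false_or, Bool.or_eq_true,
    Bool.and_eq_true, bne_iff_ne, beq_iff_eq] at hF
  rcases hF with ((hF | hF) | hF) | hF
  · simpa using icol_sound c3 K (by simp) hC (fun _ _ => rfl) (by simp) (icol3_spec hF)
  · have n10 : ¬ 7 ∣ c5 := fun e => hF.1 (Nat.mod_eq_zero_of_dvd e)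
    replace h7 := List.all_eq_true.1 o24_7 _ h7
    simp only [Bool.or_eq_true, beq_iff_eq, n1, false_or, List.contains_iff_mem,
      b23.not_dvd_c b7 (by decide) (by decide) (by decide) (by decide),
      b5.not_dvd_c b7 (by decide) (by decide) (by decide) n10] at h7
    obtain ⟨χ, d1, d2⟩ := (hyp24 hc (.cons b5 (.cons b7 .nil)) (by
      simpa using b5.nopq 7 (by decide) (by simp) n10)).exists_neg (i := 0) (j := 1) (by decide) rfl rfl
    have := List.all_eq_true.1 (List.all_eq_true.1 (List.all_eq_true.1 hF.2 _ h7) _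
      (List.mem_map_of_mem (c1.all χ d1 0 one_pos (left_ne_zero_of_mul d2.ne)))) (f7 χ)
      (hc ▸ b7.loc χ (Finset.ne_of_mem_erase d1))
    exact d2.not_ge (of_decide_eq_true this)
  · obtain ⟨⟨d1, rfl⟩, d2⟩ := hF
    simp only [patA, Bool.and_eq_true, beq_iff_eq, List.any_eq_true] at d2
    obtain ⟨d2, r, d3, d4, d5⟩ := d2
    obtain ⟨χ, d8, rfl⟩ := List.mem_map.1 d3
    refine no24 hc b5 (Nat.dvd_of_mod_eq_zero d1) d4 d5 fun θ d6 d7 => eq_of_countP d2
      (c1.all θ (Finset.mem_erase.2 ⟨fun e => by rw [e, H17.deg_irrOne] at d6; omega,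
        Finset.mem_univ _⟩) 0 one_pos d7) ?_ d8 (by simp [d4, d5])
    rw [Bool.and_eq_true, beq_iff_eq, bne_iff_ne]
    exact ⟨d6, d7⟩
  · obtain ⟨cs', Ls', c4, c5, hF⟩ := run2_sound (E := fun _ _ => False) (V := (· = (iv · y)))
      (nn := fun _ => false) (post := fun _ _ _ => false) (Ls := []) H3 (fun _ _ h => by simp at h) (fun _ _ _ _ _ => by simp) [_]
      (by simp) c3 (fun _ h => by simp at h)
      ⟨List.nodup_nil, by simp, fun _ _ _ _ h => by simp at h⟩ hF
    simpa using icol_sound c4 K (by simp) hC (fun _ _ => rfl) (fun L a => (c5 L a).2 _ rfl)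
      (icol3_spec hF)

theorem m24_11 (hc : Nat.card G = 244823040) {f23 : Irr G → ℤ} (b23 : IsBlk G p23 f23) {q : G}
    (hq : D1 11 q) : ∃ (hq' : SC 11 q) (f : Irr G → ℤ), Nat.card (Aut hq'.ord) = 10 ∧
      IsBlk G p11 f := by
  have hG : ¬ IsMulCommutative G := not_comm_of_not_prime (by rw [hc]; norm_num)
  obtain ⟨u, hu⟩ := exists_D1 (G := G) (p := 7) (by rw [hc]; norm_num) (by rw [hc]; norm_num)
  obtain ⟨e7, c7, f7, -, -, b7, h7⟩ := exists_opt hG (by decide) hu hc mem_D24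
  obtain ⟨e, c, f11, he, hcq, b11, h2⟩ := exists_opt hG (by decide) hq hc mem_D24
  have h1 := List.all_eq_true.1 k24_7 _ h7
  simp only [Bool.or_eq_true, bne_iff_ne, beq_iff_eq, or_false,
    b23.not_dvd_c b7 (by decide) (by decide) (by decide) (by decide)] at h1
  replace h1 := h1.resolve_right (not_engk (.cons b7 (.cons b23 .nil)) hG
    (by simpa [p23] using b23.sc_no (q := 7) (by decide) (by decide)) hc (by decide) mem_D24 (by simp))
  replace h2 := List.all_eq_true.1 k24_11 _ h2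
  simp only [Bool.or_eq_true, beq_iff_eq, false_or, List.contains_iff_mem,
    b23.not_dvd_c b11 (by decide) (by decide) (by decide) (by decide),
    b7.not_dvd_c b11 (by decide) (by decide) (by decide) fun e => h1 (Nat.mod_eq_zero_of_dvd e)] at h2
  replace h2 := h2.resolve_right (not_engk (.cons b11 (.cons b23 .nil)) hG
    (by simpa [p23] using b23.sc_no (q := 11) (by decide) (by decide)) hc (by decide) mem_D24 (by simp))
  have key : ∀ Cs k, (⟨11, e, c⟩, Cs) ∈ H11 → 5 ∣ e → ¬ 5 ∣ 11 * c → 2 ^ k ∣ 11 * c →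
      ¬ 2 ^ (k + 1) ∣ 11 * c → 2 ≤ 2 ^ k % 5 → False := fun Cs k a1 a2 a3 a4 a5 a6 => by
    obtain ⟨y, w, d1, d2, d3, d4, d5⟩ := exists_inv_norm hq (r := 5) (he ▸ a2) (hcq ▸ a3)
      (hcq ▸ a4) (hcq ▸ a5) a6
    have m1 : w ∈ centralizer ({y} : Set G) := mem_centralizer_singleton_iff.2 d5.symm
    refine ph2_false hc b23 b7 h7 h1 a1 (fun e => a3 (e.mul_left _)) b11 d1 (okA_of hq he hcq hq.ord
      (mem_centralizer_singleton_iff.2 d2) (by decide) ?_) (d3 ▸ orderOf_dvd_natCard _ m1)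
    exact (by decide : Nat.Coprime 2 5).mul_dvd_of_dvd_of_dvd (d1 ▸ orderOf_dvd_natCard _
      ⟨centralizer_le_normalizer_zpowers q (mem_centralizer_singleton_iff.2 d2.symm),
        mem_centralizer_singleton_iff.2 rfl⟩) (d3 ▸ orderOf_dvd_natCard _ ⟨d4, m1⟩)
  simp only [List.mem_cons, Prod.mk.injEq, List.not_mem_nil, or_false] at h2
  rcases h2 with ⟨rfl, rfl⟩ | ⟨rfl, rfl⟩ | ⟨rfl, rfl⟩ | ⟨rfl, rfl⟩
  · exact ⟨D1.sc hq hcq, f11, he, b11⟩
  · exact (key _ 2 List.mem_cons_self (by decide) (by decide) (by decide) (by decide)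
      (by decide)).elim
  · exact (key _ 1 (List.mem_cons_of_mem _ List.mem_cons_self) (by decide) (by decide) (by decide)
      (by decide) (by decide)).elim
  · exact (key _ 3 (List.mem_cons_of_mem _ (List.mem_cons_of_mem _ List.mem_cons_self)) (by decide)
      (by decide) (by decide) (by decide) (by decide)).elim

end H21.Eng
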