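import Mathlib
import Cfsg.Agent.H21.M24c

/-! Simple groups of order 244823040: runs of the searches with triples. -/

set_option autoImplicit false
set_option Elab.async false

namespace H21.Eng

theorem k24_3a_0 : [(2, 4), (2, 14), (2, 24), (2, 54), (2, 64), (2, 84), (2, 144), (2, 224), (2,
    384)].all ph3a = true := by decide +kernel

theorem k24_3a_1 : [(2, 504), (2, 864), (2, 1344), (2, 2304), (2, 3024), (2, 3584), (2, 8064), (2,
    13824), (2, 48384)].all ph3a = true := by decide +kernel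

theorem k24_3a_2 : [(4, 2), (4, 12), (4, 32), (4, 42), (4, 72), (4, 112), (4, 192), (4, 252), (4,
    432), (4, 672), (4, 1152), (4, 1512), (4, 1792), (4, 4032), (4, 6912), (4, 24192)].all ph3a =
    true := by decide +kernel

theorem k24_3a : O5.all ph3a = true := show ([(2, 4), (2, 14), (2, 24), (2, 54), (2, 64), (2, 84),
    (2, 144), (2, 224), (2, 384)] ++ ([(2, 504), (2, 864), (2, 1344), (2, 2304), (2, 3024), (2,
    3584), (2, 8064), (2, 13824), (2, 48384)] ++ ([(4, 2), (4, 12), (4, 32), (4, 42), (4, 72), (4,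
    112), (4, 192), (4, 252), (4, 432), (4, 672), (4, 1152), (4, 1512), (4, 1792), (4, 4032), (4,
    6912), (4, 24192)]))).all ph3a = true by simp only [List.all_append, k24_3a_0, k24_3a_1,
    k24_3a_2, Bool.and_self]

theorem k24_3b1_0 : [(2, 2), (2, 9)].all (ph3b · 1) = true := by decide +kernel

theorem k24_3b1_1 : [(2, 16), (2, 72)].all (ph3b · 1) = true := by decide +kernel

theorem k24_3b1_2 : [(2, 128), (2, 576)].all (ph3b · 1) = true := by decide +kernel

theorem k24_3b1_3 : [(2, 4608)].all (ph3b · 1) = true := by decide +kernel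

theorem k24_3b1_4 : [(3, 6)].all (ph3b · 1) = true := by decide +kernel

theorem k24_3b1_5 : [(3, 48)].all (ph3b · 1) = true := by decide +kernel

theorem k24_3b1_6 : [(3, 384)].all (ph3b · 1) = true := by decide +kernel

theorem k24_3b1_7 : [(3, 3072), (6, 3)].all (ph3b · 1) = true := by decide +kernel

theorem k24_3b1_8 : [(6, 24)].all (ph3b · 1) = true := by decide +kernel

theorem k24_3b1_9 : [(6, 192), (6, 1536)].all (ph3b · 1) = true := by decide +kernel

theorem k24_3b1 : O7.all (ph3b · 1) = true := show ([(2, 2), (2, 9)] ++ ([(2, 16), (2, 72)] ++ ([(2,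
    128), (2, 576)] ++ ([(2, 4608)] ++ ([(3, 6)] ++ ([(3, 48)] ++ ([(3, 384)] ++ ([(3, 3072), (6,
    3)] ++ ([(6, 24)] ++ ([(6, 192), (6, 1536)])))))))))).all (ph3b · 1) = true by simp only
    [List.all_append, k24_3b1_0, k24_3b1_1, k24_3b1_2, k24_3b1_3, k24_3b1_4, k24_3b1_5, k24_3b1_6,
    k24_3b1_7, k24_3b1_8, k24_3b1_9, Bool.and_self]

theorem k24_3b2_0 : [(2, 2), (2, 9)].all (ph3b · 2) = true := by decide +kernel

theorem k24_3b2_1 : [(2, 16), (2, 72)].all (ph3b · 2) = true := by decide +kernel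

theorem k24_3b2_2 : [(2, 128), (2, 576)].all (ph3b · 2) = true := by decide +kernel

theorem k24_3b2_3 : [(2, 4608)].all (ph3b · 2) = true := by decide +kernel

theorem k24_3b2_4 : [(3, 6)].all (ph3b · 2) = true := by decide +kernel

theorem k24_3b2_5 : [(3, 48)].all (ph3b · 2) = true := by decide +kernel

theorem k24_3b2_6 : [(3, 384)].all (ph3b · 2) = true := by decide +kernel

theorem k24_3b2_7 : [(3, 3072), (6, 3)].all (ph3b · 2) = true := by decide +kernel

theorem k24_3b2_8 : [(6, 24)].all (ph3b · 2) = true := by decide +kernel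

theorem k24_3b2_9 : [(6, 192), (6, 1536)].all (ph3b · 2) = true := by decide +kernel

theorem k24_3b2 : O7.all (ph3b · 2) = true := show ([(2, 2), (2, 9)] ++ ([(2, 16), (2, 72)] ++ ([(2,
    128), (2, 576)] ++ ([(2, 4608)] ++ ([(3, 6)] ++ ([(3, 48)] ++ ([(3, 384)] ++ ([(3, 3072), (6,
    3)] ++ ([(6, 24)] ++ ([(6, 192), (6, 1536)])))))))))).all (ph3b · 2) = true by simp only
    [List.all_append, k24_3b2_0, k24_3b2_1, k24_3b2_2, k24_3b2_3, k24_3b2_4, k24_3b2_5, k24_3b2_6,
    k24_3b2_7, k24_3b2_8, k24_3b2_9, Bool.and_self]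

end H21.Eng
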