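import Mathlib
import Cfsg.Agent.H21.M24f
import Cfsg.Agent.H21.M24k3

/-! Simple groups of order 244823040: the principal blocks for 5 and 7. -/

set_option autoImplicit false
set_option linter.unusedSectionVars false

open Cfsg H4 H17 H18 Subgroup
open scoped Classical

namespace H21.Eng

theorem mem_asgD {ι : Type*} {ρ : ι → Rec} {g : ι → ℤ} {A : List Rec} {cs : List ι}
    (h : ∀ ψ ∈ cs, ρ ψ ∈ A ∧ (ρ ψ).1 = (g ψ).natAbs)
    (h' : cs.IsChain fun a b => g a = g b → key (ρ a) ≤ key (ρ b)) :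
    cs.map ρ ∈ asgD A (cs.map g) := by
  induction cs with
  | nil => simp [asgD]
  | cons a l ih =>
    rw [List.isChain_cons] at h'
    refine List.mem_flatMap.2 ⟨_, ih (fun ψ e => h ψ (List.mem_cons_of_mem _ e)) h'.2,
      List.mem_map.2 ⟨_, List.mem_filter.2 ⟨(h a List.mem_cons_self).1, ?_⟩, rfl⟩⟩
    rw [(h a List.mem_cons_self).2]
    rcases l with _ | ⟨b, l⟩
    · simp
    · simpa [or_iff_not_imp_left] using fun e => h'.1 b rfl (Eq.symm e)

theorem zip_sum {ι : Type*} (g v : ι → ℤ) (cs : List ι) (k : ℕ) (vs : List ℤ)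
    (h : vs.drop k = cs.map v) :
    (((cs.map g).zipIdx k).map fun a => a.1.sign * vs.getD a.2 0).sum =
      (cs.map fun ψ => (g ψ).sign * v ψ).sum := by
  induction cs generalizing k with
  | nil => rfl
  | cons a l ih =>
    have h1 : vs[k]? = some (v a) := by rw [← add_zero k, ← List.getElem?_drop, h]; rfl
    simp only [List.map_cons, List.zipIdx_cons, List.sum_cons, List.getD_eq_getElem?_getD, h1,
      Option.getD_some] at ih ⊢
    rw [ih (k + 1) (by rw [← List.drop_drop, h]; rfl)]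

variable {G : Type*} [Group G] [Finite G] [IsSimpleGroup G] (hc : Nat.card G = 244823040)
  {f11 f23 : Irr G → ℤ} (b11 : IsBlk G p11 f11) (b23 : IsBlk G p23 f23) (k11 : Kap 11 1 0 f11)
  (k23 : Kap 23 2 0 f23) (h12 : ∀ ψ ≠ irrOne G, 12 < deg ψ)
include hc b11 b23 k11 k23 h12

theorem m24_5 {w : G} (hw : D1 5 w) {s : G} (hs : orderOf s = 2)
    (h5 : 5 ∣ Nat.card (centralizer ({s} : Set G))) : ∃ c f, (c = 12 ∨ c = 192) ∧
      Nat.card (centralizer ({w} : Set G)) = 5 * c ∧ IsBlk G ⟨5, 4, c⟩ f ∧ ∀ ψ ≠ irrOne G,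
      f ψ = 0 ∨ deg ψ ∈ [506, 736, 759, 1771, 2024, 3036, 5544, 5796] := by
  have hG : ¬ IsMulCommutative G := not_comm_of_not_prime (by rw [hc]; norm_num)
  obtain ⟨e, c, f, -, hcw, b5, h1⟩ := exists_opt hG (by decide) hw hc mem_D24
  have a5 := b5.okc s hs
  replace h1 := List.all_eq_true.1 o24_5 _ h1
  simp only [okC, Nat.mod_eq_zero_of_dvd h5, bne_self_eq_false, Bool.false_or, Bool.and_eq_true,
    beq_iff_eq] at a5
  simp only [Bool.or_eq_true, beq_iff_eq, bne_iff_ne, a5.1, false_or, ne_eq, not_true_eq_false,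
    List.contains_iff_mem, b23.not_dvd_c b5 (by decide) (by decide) (by decide) (by decide),
    b11.not_dvd_c b5 (by decide) (by decide) (by decide) (by decide)] at h1
  obtain ⟨k, h2, k5⟩ := exists_kap hw (by decide) b5
  obtain ⟨cs, Ls, c1, -, hF⟩ := e3_sound hc (hyp24 hc (.cons b5 (.cons b11 (.cons b23 .nil))) (by
    simpa [p11, p23] using ⟨⟨b11.sc_no (q := 5) (by decide) (by decide), b23.sc_no (q := 5)
      (by decide) (by decide)⟩, b23.sc_no (q := 11) (by decide) (by decide)⟩)) h12 (ks := [k, 0, 0])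
    (fun u v w ty T => by
      simp only [tok, tokL, rho, List.map_cons, List.map_nil, Bool.and_eq_true, and_true]
      exact ⟨k5 T, k11 T, k23 T⟩) (flt := fun _ => true) (fun _ _ => rfl) (V := fun _ => False)
    (fun _ h => h.elim) (k := 1) (by simp) (post := fun _ _ _ => false) (fun _ _ _ _ _ => by simp)
    (cs := []) (st := fun _ => [([], [])]) (by simp) (by simp) (Ls := []) (fun _ h => by simp at h)
    (by simp) (List.all_eq_true.1 (List.all_eq_true.1 k24_3a _ h1) _ h2)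
  simp only [Bool.and_eq_true, Bool.or_eq_true, beq_iff_eq, Prod.mk.injEq] at hF
  obtain rfl : e = 4 := hF.1.elim (·.1) (·.1)
  refine ⟨c, f, hF.1.imp (·.2) (·.2), hcw, b5, fun ψ a => or_iff_not_imp_left.2 fun b => ?_⟩
  have := List.all_eq_true.1 hF.2 _ (List.mem_map_of_mem (c1.all ψ (Finset.mem_erase.2
    ⟨a, Finset.mem_univ _⟩) 0 one_pos b))
  rw [deg8, Bool.or_eq_true, beq_iff_eq, List.contains_iff_mem] at this
  exact this.resolve_left b

omit k11 k23 h12 in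
theorem hyp4 {c5 e7 c7 c : ℕ} (h5 : c5 = 12 ∨ c5 = 192) {f5 f7 : Irr G → ℤ}
    (b5 : IsBlk G ⟨5, 4, c5⟩ f5) (b7 : IsBlk G ⟨7, e7, c7⟩ f7)
    (h7 : ∀ d a, a ∈ cfs 244823040 ⟨7, e7, c7⟩ d → a ∈ cfs 244823040 ⟨7, e7, c⟩ d) :
    Hyp 244823040 [⟨5, 4, 12⟩, ⟨7, e7, c⟩, p11, p23] (allRecs [⟨5, 4, 12⟩, ⟨7, e7, c⟩, p11, p23])
      (rho [f5, f7, f11, f23]) (Finset.univ.erase (irrOne G)) ∧
    Hyp 244823040 [⟨5, 4, 12⟩, p11, p23, ⟨7, e7, c⟩] (allRecs [⟨5, 4, 12⟩, p11, p23, ⟨7, e7, c⟩])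
      (rho [f5, f11, f23, f7]) (Finset.univ.erase (irrOne G)) := by
  have n1 := b5.nopq 7 (by decide) (by simp) (by rcases h5 with rfl | rfl <;> decide)
  have n2 := b11.sc_no (q := 5) (by decide) (by decide)
  have n3 := b23.sc_no (q := 5) (by decide) (by decide)
  have n4 := b11.sc_no (q := 7) (by decide) (by decide)
  have n5 := b23.sc_no (q := 7) (by decide) (by decide)
  have n6 := b23.sc_no (q := 11) (by decide) (by decide)
  have m5 : ∀ ψ ≠ irrOne G, f5 ψ ∈ cfs 244823040 ⟨5, 4, 12⟩ (deg ψ) := fun ψ a => by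
    rcases h5 with rfl | rfl
    exacts [hc ▸ b5.loc ψ a, cfs_mono (by decide) (by decide) (by decide) (hc ▸ b5.loc ψ a)]
  constructor
  · refine (hyp24 hc (.cons b5 (.cons b7 (.cons b11 (.cons b23 .nil)))) (by
      simpa [p11, p23] using ⟨⟨n1, n2, n3⟩, ⟨n4, n5⟩, n6⟩)).trans (by rfl) fun ψ a => ?_
    replace a := Finset.ne_of_mem_erase a
    exact mem_allRecs hc a (.cons (m5 ψ a) (.cons (h7 _ _ (hc ▸ b7.loc ψ a))
      (.cons (hc ▸ b11.loc ψ a) (.cons (hc ▸ b23.loc ψ a) .nil))))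
  · refine (hyp24 hc (.cons b5 (.cons b11 (.cons b23 (.cons b7 .nil)))) (by
      simpa [p11, p23] using ⟨⟨n2, n3, n1⟩, ⟨n6, fun g a b => n4 g b a⟩,
        fun g a b => n5 g b a⟩)).trans (by rfl) fun ψ a => ?_
    replace a := Finset.ne_of_mem_erase a
    exact mem_allRecs hc a (.cons (m5 ψ a) (.cons (hc ▸ b11.loc ψ a) (.cons (hc ▸ b23.loc ψ a)
      (.cons (h7 _ _ (hc ▸ b7.loc ψ a)) .nil))))

theorem m24_7 {c5 : ℕ} (h5 : c5 = 12 ∨ c5 = 192) {f5 : Irr G → ℤ} (b5 : IsBlk G ⟨5, 4, c5⟩ f5)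
    (h8 : ∀ ψ ≠ irrOne G, f5 ψ = 0 ∨ deg ψ ∈ [506, 736, 759, 1771, 2024, 3036, 5544, 5796]) {k : ℕ}
    (hk : k = 1 ∨ k = 2) (k5 : Kap 5 1 k f5) {u : G} (hu : D1 7 u) : ∃ e c f l,
      (e, c) ∈ [(3, 6), (3, 48), (3, 384), (6, 3), (6, 24), (6, 192)] ∧ Nat.card (Aut hu.ord) = e ∧
      Nat.card (centralizer ({u} : Set G)) = 7 * c ∧ IsBlk G ⟨7, e, c⟩ f ∧ l ∈ kaps ⟨7, e, c⟩ ∧
      Kap 7 (Pr.t ⟨7, e, c⟩) l f ∧ (e = 6 ∨ l = 2 ∨ l = 4) ∧ ∀ ψ ≠ irrOne G, f5 ψ ≠ 0 →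
        deg ψ ∈ [1771, 2024, 5544, 5796] ∧ (deg ψ = 2024 → f ψ ≠ 0) := by
  have hG : ¬ IsMulCommutative G := not_comm_of_not_prime (by rw [hc]; norm_num)
  obtain ⟨e, c, f, he, hcu, b7, h1⟩ := exists_opt hG (by decide) hu hc mem_D24
  replace h1 := List.all_eq_true.1 o24_7 _ h1
  simp only [Bool.or_eq_true, beq_iff_eq, false_or, List.contains_iff_mem,
    b23.not_dvd_c b7 (by decide) (by decide) (by decide) (by decide),
    b11.not_dvd_c b7 (by decide) (by decide) (by decide) (by decide),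
    b5.not_dvd_c b7 (by decide) (by decide) (by decide)
      (by rcases h5 with rfl | rfl <;> decide)] at h1
  obtain ⟨l, h2, k7⟩ := exists_kap hu (by decide) b7
  have hk' : ph3b (e, c) k = true := by
    rcases hk with rfl | rfl
    exacts [List.all_eq_true.1 k24_3b1 _ h1, List.all_eq_true.1 k24_3b2 _ h1]
  obtain ⟨cs, Ls, c1, -, hF⟩ := e3_sound hc (hyp4 hc b11 b23 h5 b5 b7 fun _ _ h => h).1 h12
    (ks := [k, l, 0, 0]) (fun u v w ty T => by
      simp only [tok, tokL, rho, List.map_cons, List.map_nil, Bool.and_eq_true, and_true]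
      exact ⟨k5 T, k7 T, k11 T, k23 T⟩) (flt := deg8) (fun ψ a => by
      rw [deg8, Bool.or_eq_true, beq_iff_eq, List.contains_iff_mem]
      exact h8 ψ a) (V := fun _ => False)
    (fun _ h => h.elim) (k := 2) (by simp) (post := fun _ _ _ => false) (fun _ _ _ _ _ => by simp)
    (cs := []) (st := fun _ => [([], [])]) (by simp) (by simp) (Ls := []) (fun _ h => by simp at h)
    (by simp) (List.all_eq_true.1 hk' _ h2)
  simp only [Bool.and_eq_true, Bool.or_eq_true, beq_iff_eq, List.contains_iff_mem, or_assoc] at hF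
  refine ⟨e, c, f, l, hF.1.1.1, he, hcu, b7, h2, k7, hF.1.1.2, fun ψ a b => ?_⟩
  have m := List.mem_map_of_mem (f := rho [f5, f, f11, f23]) (c1.all ψ (Finset.mem_erase.2
    ⟨a, Finset.mem_univ _⟩) 0 two_pos b)
  have d1 := List.all_eq_true.1 hF.1.2 _ m
  have d2 := List.all_eq_true.1 hF.2 _ m
  rw [deg4, Bool.or_eq_true, beq_iff_eq, List.contains_iff_mem] at d1
  simp only [Bool.or_eq_true, beq_iff_eq, bne_iff_ne] at d2
  exact ⟨d1.resolve_left b, fun e => d2.resolve_left fun d => d.elim (· e) b⟩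

end H21.Eng
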