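import Mathlib
import Cfsg.Agent.H21.M24c

/-! Simple groups of order 244823040: runs of the searches for rational elements of order 7. -/

set_option autoImplicit false
set_option Elab.async false

namespace H21.Eng

theorem k24_c11_0 : ph3c (2, [-990, -990, 4830, 4830]) [21, 168, 1344] [] 1 1 = true := by
  decide +kernel

theorem k24_c11_1 : ph3c (2, [540, 540, 1540, 5060]) [21, 168, 1344] [1] 1 1 = true := by
  decide +kernel

theorem k24_c11_2_21 : ph3c (2, [528, 528, 3312, 3312]) [21] [1] 1 1 = true := by
  decide +kernel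

theorem k24_c11_2_168 : ph3c (2, [528, 528, 3312, 3312]) [168] [3] 1 1 = true := by
  decide +kernel

theorem k24_c11_2_1344 : ph3c (2, [528, 528, 3312, 3312]) [1344] [1] 1 1 = true := by
  decide +kernel

theorem k24_c11_3 : ((PAT.drop 3).all fun x => ph3c x [21, 168, 1344] [] 1 1) = true := by
  decide +kernel

theorem k24_c'11 : ph3c' 1 1 = true := by decide +kernel

theorem k24_c12_0 : ph3c (2, [-990, -990, 4830, 4830]) [21, 168, 1344] [] 1 2 = true := by
  decide +kernel

theorem k24_c12_1 : ph3c (2, [540, 540, 1540, 5060]) [21, 168, 1344] [1] 1 2 = true := by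
  decide +kernel

theorem k24_c12_2_21 : ph3c (2, [528, 528, 3312, 3312]) [21] [1] 1 2 = true := by
  decide +kernel

theorem k24_c12_2_168 : ph3c (2, [528, 528, 3312, 3312]) [168] [3] 1 2 = true := by
  decide +kernel

theorem k24_c12_2_1344 : ph3c (2, [528, 528, 3312, 3312]) [1344] [1] 1 2 = true := by
  decide +kernel

theorem k24_c12_3 : ((PAT.drop 3).all fun x => ph3c x [21, 168, 1344] [] 1 2) = true := by
  decide +kernel

theorem k24_c'12 : ph3c' 1 2 = true := by decide +kernel

theorem k24_c21_0 : ph3c (2, [-990, -990, 4830, 4830]) [21, 168, 1344] [] 2 1 = true := by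
  decide +kernel

theorem k24_c21_1 : ph3c (2, [540, 540, 1540, 5060]) [21, 168, 1344] [1] 2 1 = true := by
  decide +kernel

theorem k24_c21_2 : ph3c (2, [528, 528, 3312, 3312]) [21, 168, 1344] [3] 2 1 = true := by
  decide +kernel

theorem k24_c21_3 : ((PAT.drop 3).all fun x => ph3c x [21, 168, 1344] [] 2 1) = true := by
  decide +kernel

theorem k24_c'21 : ph3c' 2 1 = true := by decide +kernel

theorem k24_c22_0 : ph3c (2, [-990, -990, 4830, 4830]) [21, 168, 1344] [] 2 2 = true := by
  decide +kernel

theorem k24_c22_1 : ph3c (2, [540, 540, 1540, 5060]) [21, 168, 1344] [1] 2 2 = true := by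
  decide +kernel

theorem k24_c22_2 : ph3c (2, [528, 528, 3312, 3312]) [21, 168, 1344] [3] 2 2 = true := by
  decide +kernel

theorem k24_c22_3 : ((PAT.drop 3).all fun x => ph3c x [21, 168, 1344] [] 2 2) = true := by
  decide +kernel

theorem k24_c'22 : ph3c' 2 2 = true := by decide +kernel

end H21.Eng
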