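import Mathlib
import Cfsg.Agent.H21.M24c

set_option autoImplicit false
set_option linter.unusedSectionVars false

open Cfsg H4 H17 H18 Subgroup
open scoped Classical

namespace H21.Eng

variable {G : Type*} [Group G] [Finite G]

namespace Q3

/-- The multiplicities summed over one degree. -/
noncomputable def fib (n : Irr G → ℕ) (d : ℕ) : ℕ := ∑ ψ, if deg ψ = d then n ψ else 0

theorem le_fib (n : Irr G → ℕ) (ψ : Irr G) : n ψ ≤ fib n (deg ψ) :=
  (if_pos rfl).symm.trans_le (Finset.single_le_sum (f := fun θ => if deg θ = deg ψ then n θ else 0)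
    (fun _ _ => Nat.zero_le _) (Finset.mem_univ ψ))

theorem fib_eq (n : Irr G → ℕ) {ψ : Irr G} {d : ℕ} (h : deg ψ = d) (hu : ∀ θ, deg θ = d → θ = ψ) :
    fib n d = n ψ := by
  rw [fib, Finset.sum_eq_single ψ (fun θ _ e => if_neg fun k => e (hu θ k)) (by simp), if_pos h]

theorem sum_fib {n : Irr G → ℕ} {L : Finset ℕ} (h : ∀ ψ, n ψ ≠ 0 → deg ψ ∈ L) (W : ℕ → ℤ)
    {w : Irr G → ℤ} (hw : ∀ ψ, n ψ ≠ 0 → w ψ = W (deg ψ)) :
    ∑ ψ, n ψ * w ψ = ∑ d ∈ L, fib n d * W d := by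
  simp only [fib, Nat.cast_sum, Finset.sum_mul]
  rw [Finset.sum_comm]
  refine Finset.sum_congr rfl fun ψ _ => ?_
  by_cases e : n ψ = 0
  · simp [e]
  · rw [Finset.sum_eq_single (deg ψ) (fun d _ k => by simp [k.symm]) (fun k => (k (h ψ e)).elim),
      if_pos rfl, hw ψ e]

theorem wt_eq {p e : ℕ} {f : Irr G → ℤ} (h : IsBlk G ⟨p, e, 1⟩ f) (h1 : 1 % p = 1)
    (h0 : ∀ d, d % p = 0 → wt ⟨p, e, 1⟩ d = 0) (ψ : Irr G) : f ψ = wt ⟨p, e, 1⟩ (deg ψ) := by
  by_cases a : ψ = irrOne G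
  · rw [a, h.one, H17.deg_irrOne, wt, if_pos h1]
  by_cases b : f ψ = 0
  · rw [b, h0 _ (Nat.mod_eq_zero_of_dvd (h.dvd_deg a b))]
  · exact h.eq_wt a b

end Q3

open Q3

theorem m24_index [IsSimpleGroup G] (hc : Nat.card G = 244823040) {f11 f23 : Irr G → ℤ}
    (b11 : IsBlk G p11 f11) (b23 : IsBlk G p23 f23) {s : G} (hs : orderOf s = 2) {χ : Irr G}
    (hχ : deg χ = 23) (hu : ∀ ψ, deg ψ = 23 → ψ = χ) (hv : iv χ s = -1)
    (hv' : ∀ ψ, deg ψ = 252 → iv ψ s = 12)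
    (hl : ∀ ψ ≠ irrOne G, 276 < deg ψ ∨ deg ψ ∈ [23, 45, 231, 252, 253]) :
    ∃ K : Subgroup G, K.index = 24 := by
  have hss := mul_self_of_two hs
  have d0 := H17.deg_irrOne (G := G)
  have hmin : ∀ ψ ≠ irrOne G, 23 ≤ deg ψ := fun ψ h => by
    have := hl ψ h
    simp only [List.mem_cons, List.not_mem_nil, or_false] at this
    omega
  have u1 : ∀ ψ : Irr G, deg ψ = 1 → ψ = irrOne G := fun ψ e => by_contra fun h => by
    have := hmin ψ h
    omega
  have w11 := wt_eq b11 rfl fun d e => by simp [wt, e]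
  have w23 := wt_eq b23 rfl fun d e => by simp [wt, e]
  have hi : ∀ g, χ.1 g = iv χ g := fun g => int_of_galP fun ψ h => by rw [hu ψ (h.trans hχ)]
  have hv1 : ∀ ψ : Irr G, ψ.1 1 = (deg ψ : ℤ) := fun ψ => by rw [← deg_eq, Int.cast_natCast]
  obtain ⟨l, m, hl1, hm, h1⟩ := exists_sq hi
  obtain ⟨e1, e2⟩ := b23.sq_rel (r := 0) (by decide)
    (fun g h => by rw [b23.van χ (by rw [hχ]; decide) g h, Int.cast_zero]) hl1 hm
  obtain ⟨e3, e4⟩ := b11.sq_rel (by decide) (b11.val' (r := 1) (by simp) (by rw [w11, hχ]; decide)) hl1 hm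
  have hl' : ∀ g, (χ.1 g ^ 2 + (-1 : ℤ) * χ.1 (g * g)) / 2 = ∑ ψ, (l ψ : ℂ) * ψ.1 g := fun g => by
    rw [← hl1]; simp [sub_eq_add_neg]
  have e5 := sq_int (hl' 1) hv1 (by rw [mul_one, hv1])
  have e6 := sq_int (ε := 1) (l := m) (by simpa using hm 1) hv1 (by rw [mul_one, hv1])
  have e7 := sq_int (hl' _) (fun ψ => iv_inv ψ hss) (by rw [hss, hv1])
  rw [hχ] at e5 e6 e7
  have sup : ∀ n : Irr G → ℕ, ∑ ψ, (n ψ : ℤ) * deg ψ ≤ 276 → ∀ ψ, n ψ ≠ 0 →
      deg ψ ∈ ({1, 23, 45, 231, 252, 253} : Finset ℕ) := fun n h ψ e => by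
    have := (Finset.single_le_sum (f := fun θ => (n θ : ℤ) * deg θ) (fun _ _ => by positivity)
      (Finset.mem_univ ψ)).trans h
    have k : (deg ψ : ℤ) ≤ n ψ * deg ψ := le_mul_of_one_le_left (by positivity) (by omega)
    by_cases a : ψ = irrOne G
    · simp [a, d0]
    · replace k := k.trans this
      have := hl ψ a
      clear * - k this
      simp only [List.mem_cons, List.not_mem_nil, or_false, Finset.mem_insert, Finset.mem_singleton] at this ⊢
      omega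
  have sl := sup l (by omega)
  have sm := sup m (by omega)
  rw [sum_fib sl _ fun ψ _ => w23 ψ] at e1
  rw [sum_fib sm _ fun ψ _ => w23 ψ] at e2
  rw [sum_fib sl _ fun ψ _ => w11 ψ] at e3
  rw [sum_fib sm _ fun ψ _ => w11 ψ] at e4
  rw [sum_fib sl (fun d => d) fun ψ _ => rfl] at e5
  rw [sum_fib sm (fun d => d) fun ψ _ => rfl] at e6
  have e8 := sum_fib sl (fun _ => 1) (w := fun _ => 1) fun ψ _ => rfl
  rw [← fib_eq l d0 u1, ← fib_eq m d0 u1] at h1
  simp [wt, Pr.t, p11, p23] at e1 e2 e3 e4 e5 e6 e8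
  have z : fib l 23 = 0 ∧ fib l 45 = 0 ∧ fib l 231 = 0 := by omega
  by_cases c : fib l 253 = 0
  · rw [sum_fib sl (fun d => if d = 1 then 1 else 12) fun ψ e => by
      have a := le_fib l ψ
      have b := sl ψ e
      simp only [Finset.mem_insert, Finset.mem_singleton] at b
      rcases b with b | b | b | b | b | b <;> rw [b] at a ⊢
      exacts [by rw [u1 ψ b, iv_one]; rfl, by omega, by omega, by omega, hv' ψ b, by omega], hv] at e7
    simp at e7
    omega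
  have e9 : ∑ ψ, l ψ = 1 := by
    apply Nat.cast_injective (R := ℤ)
    rw [Nat.cast_sum, e8]
    omega
  obtain ⟨ψ, -, a⟩ := Finset.exists_ne_zero_of_sum_ne_zero (e9.trans_ne one_ne_zero)
  rw [← Finset.add_sum_erase _ _ (Finset.mem_univ ψ)] at e9
  have b : ∀ θ ≠ ψ, l θ = 0 := fun θ k =>
    Finset.sum_eq_zero_iff.1 (show ∑ θ ∈ Finset.univ.erase ψ, l θ = 0 by omega) θ (by simp [k])
  obtain ⟨K, h2, h3⟩ := exists_index_le (χ := χ) (ψ := ψ) (n := m) (by rw [hχ]; decide)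
    (fun g => by rw [χ.2.apply_inv, hi, map_intCast])
    (fun g => by
      rw [hl1, Finset.sum_eq_single ψ (fun θ _ k => by simp [b θ k]) (by simp), show l ψ = 1 by omega]
      simp)
    (fun e => by have := le_fib l ψ; rw [e, hχ] at this; rw [e] at a; omega) hm
    (by rw [← fib_eq m d0 u1]; omega) (by rw [← fib_eq m hχ hu]; omega)
  exact ⟨K, le_antisymm (by rwa [hχ] at h3) (index_ge h2 hmin)⟩

end H21.Eng
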