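import Mathlib
import Cfsg.Agent.H21.M24q3
import Cfsg.Agent.H21.Tp

set_option autoImplicit false
set_option linter.unusedSectionVars false

open Cfsg H4 H17 H18 Subgroup
open scoped Classical

namespace H21.Eng

variable {G : Type*} [Group G] [Finite G]

namespace Q4

def DL : List ℕ := [1, 22, 23, 230, 231, 252, 253, 264, 276, 483, 495, 506, 528, 540, 736, 759, 770,
  990, 1012, 1024, 1035, 1242, 1265, 1288, 1518, 1540, 1760, 1771, 2024, 2277, 2530, 2760, 2772, 3024,
  3036, 3312, 3520, 3542, 3795, 3840, 4048, 4554, 4830, 5060, 5313, 5544, 5796, 6072, 6336, 6831,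
  7084, 7360, 7590, 8096, 8832, 8855, 9108, 9856, 10120, 10395, 10626, 11385, 11880, 12144, 12420,
  12672, 12880, 13662, 14168, 15180, 15456]

theorem mem_DL : ∀ d ∈ D24, 12 < d → d ^ 2 < 244823040 → d ≠ 45 → wt p11 d ∈ cfs 244823040 p11 d →
    wt p23 d ∈ cfs 244823040 p23 d → d ∈ DL := by decide +kernel

def sL (v : ℕ) : List ℤ :=
  (DL.filter fun d => d % 2 ^ v == 0 && d % 2 ^ (v + 1) != 0).flatMap fun d : ℕ => [(d : ℤ), -d]

def W (P : Pr) (z : ℤ) : ℤ := z.sign * wt P z.natAbs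

theorem chk4 : ((List.range 8).all fun v => fL fZ (sL v) fun L => L.all fun a => L.all fun b =>
    decide (b < a) || L.all fun c => decide (c < b) || fZ (7680 - a - b - c) fun d =>
      decide (d < c) || !L.contains d || W p11 a + (W p11 b + (W p11 c + W p11 d)) != 2 ||
        W p23 a + (W p23 b + (W p23 c + W p23 d)) != -4 || PAT.contains (2, [a, b, c, d])) = true := by
  decide +kernel

theorem chk3 : ∀ a ∈ sL 8, ∀ b ∈ sL 8, ∀ c ∈ sL 8, a ≤ b → b ≤ c → ∀ k ∈ [1, 3],
    k * 3840 = a + (b + c) → (k, [a, b, c]) ∈ PAT := by decide +kernel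

theorem blk_list {P : Pr} {f : Irr G → ℤ} (b : IsBlk G P f) {χ : Irr G} {cs : List (Irr G)}
    {n : Irr G → ℤ} {k : ℕ}
    (h : ∀ g, P.p ∣ orderOf g → k * χ.1 g = (cs.map fun ψ => (n ψ : ℂ) * ψ.1 g).sum) :
    k * f χ = (cs.map fun ψ => n ψ * f ψ).sum := by
  have key : ∀ (F : Irr G → ℂ) (l : List (Irr G)), ∑ ψ, (l.map fun θ => if ψ = θ then (n θ : ℂ) else 0).sum * F ψ =
      (l.map fun θ => n θ * F θ).sum := fun F l => by
    induction l with
    | nil => simp
    | cons a l ih => simp [add_mul, Finset.sum_add_distrib, ih]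
  have := b.proj0 (fun ψ => (if ψ = χ then (k : ℂ) else 0) -
    (cs.map fun θ => if ψ = θ then (n θ : ℂ) else 0).sum) fun g hg => by
      simp only [sub_mul, Finset.sum_sub_distrib, key fun ψ => ψ.1 g, ← h g hg]
      simp
  simp only [sub_mul, Finset.sum_sub_distrib, key fun ψ => f ψ] at this
  apply Int.cast_injective (α := ℂ)
  simpa [sub_eq_zero, Function.comp_def] using this

end Q4

open Q4

theorem exists_pat [IsSimpleGroup G] (hc : Nat.card G = 244823040) {f11 f23 : Irr G → ℤ}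
    (b11 : IsBlk G p11 f11) (b23 : IsBlk G p23 f23) (hmin : ∀ ψ ≠ irrOne G, 12 < deg ψ)
    (h45 : ∀ ψ : Irr G, deg ψ ≠ 45) {χ : Irr G} (hχ : deg χ = 3840) (ky : Irr G → ℤ) :
    ∃ (k : ℕ) (cs : List (Irr G)) (n : Irr G → ℤ), ((k : ℤ), cs.map fun ψ => n ψ * deg ψ) ∈ PAT ∧
      (χ :: cs).Nodup ∧ (∀ ψ ∈ cs, n ψ = 1 ∨ n ψ = -1) ∧
      cs.IsChain (fun a b => n a * deg a = n b * deg b → ky a ≤ ky b) ∧
      ∀ g, ¬ 2 ∣ orderOf g → k * χ.1 g = (cs.map fun ψ => (n ψ : ℂ) * ψ.1 g).sum := by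
  obtain ⟨l, n, k, v, h1, h2, h3, h4⟩ := exists_t2 (χ := χ) (by rw [hc]; decide) (by rw [hc]; decide)
    (by rw [hχ]; decide) (by rw [hχ]; decide)
  let K : Irr G → ℤ ×ₗ ℤ := fun a => toLex (n a * deg a, ky a)
  have pm := l.mergeSort_perm fun a b => decide (K a ≤ K b)
  have so := l.pairwise_mergeSort (le := fun a b => decide (K a ≤ K b))
    (fun a b c => by simpa using le_trans) (fun a b => by simpa using le_total _ _)
  generalize l.mergeSort (fun a b => decide (K a ≤ K b)) = cs at pm so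
  rw [← pm.length_eq] at h3
  replace h2 := fun ψ m => h2 ψ (pm.subset m)
  replace h4 := fun g hg => (h4 g hg).trans (pm.map _).sum_eq.symm
  refine ⟨k, cs, n, ?_, (pm.cons χ).nodup_iff.2 h1, fun ψ m => (h2 ψ m).1, (so.imp fun {a b} e e' => ?_).isChain, h4⟩
  swap
  · rcases Prod.Lex.toLex_le_toLex.1 (of_decide_eq_true e) with e | e
    exacts [(e.ne e').elim, e.2]
  have w11 := Q3.wt_eq b11 rfl fun d e => by simp [wt, e]
  have w23 := Q3.wt_eq b23 rfl fun d e => by simp [wt, e]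
  have e0 : (k : ℤ) * 3840 = (cs.map fun ψ => n ψ * deg ψ).sum := by
    have := h4 1 (by simp)
    simp only [← deg_eq, hχ] at this
    apply Int.cast_injective (α := ℂ)
    simpa [Function.comp_def] using this
  have e1 := blk_list b11 fun g hg => h4 g fun e => b11.sc_no (q := 2) (by decide) (by decide) g e hg
  have e2 := blk_list b23 fun g hg => h4 g fun e => b23.sc_no (q := 2) (by decide) (by decide) g e hg
  have hW : ∀ (P : Pr) (f : Irr G → ℤ), (∀ ψ, f ψ = wt P (deg ψ)) → (cs.map fun ψ => n ψ * f ψ) =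
      (cs.map fun ψ => n ψ * deg ψ).map (W P) := fun P f e => by
    rw [List.map_map]
    refine List.map_congr_left fun ψ m => ?_
    have := Int.sign_natCast_of_ne_zero (deg_ne_zero ψ)
    rcases (h2 ψ m).1 with a | a <;> simp [a, W, e, this]
  rw [hW p11 _ w11, w11, hχ] at e1
  rw [hW p23 _ w23, w23, hχ] at e2
  have m : ∀ z ∈ cs.map fun ψ => n ψ * deg ψ, z ∈ sL v := fun z m0 => by
    obtain ⟨ψ, m, rfl⟩ := List.mem_map.1 m0
    obtain ⟨a, b, c⟩ := h2 ψ m
    refine List.mem_flatMap.2 ⟨deg ψ, List.mem_filter.2 ⟨?_, by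
      simpa [← Nat.dvd_iff_mod_eq_zero] using ⟨b, c⟩⟩, by rcases a with a | a <;> simp [a]⟩
    by_cases e : ψ = irrOne G
    · rw [e, H17.deg_irrOne]; decide
    · exact mem_DL _ (mem_D24 _ (hc ▸ deg_dvd_card ψ)) (hmin ψ e) (hc ▸ deg_sq_lt e) (h45 ψ)
        (by have := b11.loc ψ e; rwa [w11, hc] at this) (by have := b23.loc ψ e; rwa [w23, hc] at this)
  have so' : (cs.map fun ψ => n ψ * deg ψ).Pairwise (· ≤ ·) := List.pairwise_map.2 (so.imp fun e => by
    rcases Prod.Lex.toLex_le_toLex.1 (of_decide_eq_true e) with e | e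
    exacts [e.le, e.1.le])
  rw [← List.length_map (fun ψ => n ψ * deg ψ)] at h3
  generalize cs.map (fun ψ => n ψ * deg ψ) = L at *
  rcases h3 with ⟨a, b, rfl⟩ | ⟨a, rfl, b⟩
  · obtain ⟨x, y, z, rfl⟩ := List.length_eq_three.1 a
    simp only [List.pairwise_cons, List.mem_cons, forall_eq_or_imp, List.sum_cons, List.sum_nil,
      add_zero] at so' e0 m
    exact chk3 x m.1 y m.2.1 z m.2.2.1 so'.1.1 so'.2.1.1 _ (by rcases b with rfl | rfl <;> simp) e0
  · obtain ⟨x, y, z, u, rfl⟩ := List.length_eq_four.1 a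
    simp only [List.pairwise_cons, List.mem_cons, forall_eq_or_imp, List.sum_cons, List.sum_nil,
      add_zero, List.map_cons, List.map_nil] at so' e0 m e1 e2
    have := chk4
    simp only [List.all_eq_true, fLZ_eq, fZ_eq, Bool.or_eq_true, decide_eq_true_eq] at this
    have := (((this v (List.mem_range.2 (by omega)) x m.1 y m.2.1).resolve_left so'.1.1.not_gt) z
      m.2.2.1).resolve_left so'.2.1.1.not_gt
    rw [show 7680 - x - y - z = u by omega, ← e1, ← e2] at this
    simpa [so'.2.2.1.1.not_gt, m.2.2.2.1, wt, p11, p23, Pr.t] using this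

end H21.Eng
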