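import Mathlib
import Cfsg.Agent.H21.M24g
import Cfsg.Agent.H21.M24k4
import Cfsg.Agent.H21.M24q4

/-! Simple groups of order 244823040: the elements of order 7 are not rational. -/

set_option autoImplicit false
set_option linter.unusedSectionVars false

open Cfsg H4 H17 H18 Subgroup
open scoped Classical

namespace H21.Eng

theorem k24_c6 {x : ℤ × List ℤ} (hx : x ∈ PAT) {C k l : ℕ} (hC : C ∈ [21, 168, 1344])
    (hk : k = 1 ∨ k = 2) (hl : l = 1 ∨ l = 2) : ∃ Cs jm, C ∈ Cs ∧ ph3c x Cs jm k l = true := by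
  obtain rfl | rfl | rfl | hx : x = (2, [-990, -990, 4830, 4830]) ∨ x = (2, [540, 540, 1540, 5060]) ∨
      x = (2, [528, 528, 3312, 3312]) ∨ x ∈ PAT.drop 3 := by
    simpa only [PAT, List.mem_cons, List.drop_succ_cons, List.drop_zero] using hx
  · rcases hk with rfl | rfl <;> rcases hl with rfl | rfl
    exacts [⟨_, _, hC, k24_c11_0⟩, ⟨_, _, hC, k24_c12_0⟩, ⟨_, _, hC, k24_c21_0⟩, ⟨_, _, hC, k24_c22_0⟩]
  · rcases hk with rfl | rfl <;> rcases hl with rfl | rfl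
    exacts [⟨_, _, hC, k24_c11_1⟩, ⟨_, _, hC, k24_c12_1⟩, ⟨_, _, hC, k24_c21_1⟩, ⟨_, _, hC, k24_c22_1⟩]
  · rcases hk with rfl | rfl <;> rcases hl with rfl | rfl
    rotate_left 2
    · exact ⟨_, _, hC, k24_c21_2⟩
    · exact ⟨_, _, hC, k24_c22_2⟩
    all_goals
      simp only [List.mem_cons, List.not_mem_nil, or_false] at hC
      rcases hC with rfl | rfl | rfl
    exacts [⟨_, _, by simp, k24_c11_2_21⟩, ⟨_, _, by simp, k24_c11_2_168⟩,
      ⟨_, _, by simp, k24_c11_2_1344⟩, ⟨_, _, by simp, k24_c12_2_21⟩, ⟨_, _, by simp, k24_c12_2_168⟩,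
      ⟨_, _, by simp, k24_c12_2_1344⟩]
  · rcases hk with rfl | rfl <;> rcases hl with rfl | rfl
    exacts [⟨_, _, hC, List.all_eq_true.1 k24_c11_3 _ hx⟩, ⟨_, _, hC, List.all_eq_true.1 k24_c12_3 _ hx⟩,
      ⟨_, _, hC, List.all_eq_true.1 k24_c21_3 _ hx⟩, ⟨_, _, hC, List.all_eq_true.1 k24_c22_3 _ hx⟩]

theorem prod_le {ι : Type*} {ρ : ι → Rec} {s : Finset ι} (H : Hyp 244823040 P6 (allRecs P6) ρ s)
    (h : ∀ ψ ∈ s, 12 < (ρ ψ).1 ∧ (ρ ψ).1 ≠ 45 ∧ (ρ ψ).1 ≠ 3840) {ψ : ι} (hψ : ψ ∈ s) :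
    cf 1 (ρ ψ) * cf 2 (ρ ψ) ≤ 0 := by
  have h1 := H.cross 1 2 _ _ (by decide) rfl rfl
  have h2 := H.cnt' 2 _ rfl
  have h3 : ∀ r ∈ allRecs P6, 12 < r.1 ∧ r.1 ≠ 45 ∧ r.1 ≠ 3840 →
      0 ≤ cf 1 r * cf 2 r + if cf 2 r ≠ 0 ∧ (cf 2 r).natAbs ≠ p23.t then 1 else 0 := by
    decide +kernel
  have h4 := (Finset.sum_eq_zero_iff_of_nonneg fun ψ a => h3 _ (H.mem ψ a) (h ψ a)).1 (by
    rw [Finset.sum_add_distrib, Finset.sum_boole, h2]
    exact (add_comm _ _).trans h1) ψ hψ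
  split_ifs at h4 <;> omega

variable {G : Type*} [Group G] [Finite G] [IsSimpleGroup G]

theorem m24_76 (hc : Nat.card G = 244823040) {f5 f7 f11 f23 : Irr G → ℤ} (b11 : IsBlk G p11 f11)
    (b23 : IsBlk G p23 f23) (k11 : Kap 11 1 0 f11) (k23 : Kap 23 2 0 f23)
    (h12 : ∀ ψ ≠ irrOne G, 12 < deg ψ) {c5 : ℕ} (h5 : c5 = 12 ∨ c5 = 192)
    (b5 : IsBlk G ⟨5, 4, c5⟩ f5) {k : ℕ} (hk : k = 1 ∨ k = 2) (k5 : Kap 5 1 k f5) {u : G}
    (hu : orderOf u = 7) (he : Nat.card (Aut hu) = 6) {c : ℕ} (h7 : c = 3 ∨ c = 24 ∨ c = 192)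
    (hcu : Nat.card (centralizer ({u} : Set G)) = 7 * c) (b7 : IsBlk G ⟨7, 6, c⟩ f7) {l : ℕ}
    (hl : l = 1 ∨ l = 2) (k7 : Kap 7 1 l f7) (h4 : ∀ ψ ≠ irrOne G, f5 ψ ≠ 0 →
      deg ψ ∈ [1771, 2024, 5544, 5796] ∧ (deg ψ = 2024 → f7 ψ ≠ 0)) : False := by
  have hv : ∀ ψ : Irr G, ψ.1 u = iv ψ u := fun ψ => by
    simpa only [xp_one] using int_of_aut hu he ψ 1 one_ne_zero
  have h45 := no45 b5 b7 (fun ψ a b => (h4 ψ a b).1) (fun ψ a b => (h4 ψ (fun e => by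
    rw [e, H17.deg_irrOne] at a; omega) b).2 a) hu fun ψ => ⟨_, hv ψ⟩
  have H : Hyp 244823040 P6 (allRecs P6) _ _ := (hyp4 hc b11 b23 h5 b5 b7 (c := 3) fun _ _ h => by
    rcases h7 with rfl | rfl | rfl
    exacts [h, cfs_mono (by decide) (by decide) (by decide) h,
      cfs_mono (by decide) (by decide) (by decide) h]).2
  have htk : ∀ u v w ty, Tri u v w ty → tok P6 [k, 0, 0, l] ty (rho [f5, f11, f23, f7] u)
      (rho [f5, f11, f23, f7] v) (rho [f5, f11, f23, f7] w) = true := fun u v w ty T => by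
    simp only [tok, tokL, rho, P6, List.map_cons, List.map_nil, Bool.and_eq_true, and_true]
    exact ⟨k5 T, k11 T, k23 T, k7 T⟩
  have hf : ∀ ψ ≠ irrOne G, fl6 (rho [f5, f11, f23, f7] ψ) = true := fun ψ a => by
    simp only [fl6, deg4, Bool.and_eq_true, Bool.or_eq_true, beq_iff_eq, bne_iff_ne,
      List.contains_iff_mem]
    by_cases e : f5 ψ = 0
    · exact ⟨⟨Or.inl e, h45 ψ⟩, Or.inl (Or.inr e)⟩
    · exact ⟨⟨Or.inr (h4 ψ a e).1, h45 ψ⟩, or_iff_not_imp_left.2 fun b =>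
        (h4 ψ a e).2 (not_not.1 fun d => b (Or.inl d))⟩
  have hV : ∀ v : Irr G → ℤ, v = (iv · u) → ∃ g, ¬ 3 ∣ orderOf g ∧ ∀ ψ : Irr G, ψ.1 g = v ψ :=
    fun v e => ⟨u, by rw [hu]; decide, e ▸ hv⟩
  have hC : Nat.card (centralizer ({u} : Set G)) ∈ [21, 168, 1344] := by
    rcases h7 with rfl | rfl | rfl <;> simp [hcu]
  by_cases h : ∃ χ : Irr G, deg χ = 3840
  · obtain ⟨χ, hχ⟩ := h
    obtain ⟨m, cs, n, a1, a2, a3, a4, a5⟩ := exists_pat hc b11 b23 h12 h45 hχ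
      fun ψ => key (rho [f5, f11, f23, f7] ψ)
    obtain ⟨Cs, jm, d1, d2⟩ := k24_c6 a1 hC hk hl
    have a6 : ∀ ψ ∈ cs, deg ψ = (n ψ * deg ψ).natAbs := fun ψ a => by
      rcases a3 ψ a with e | e <;> simp [e]
    have a7 : ∀ ψ ∈ χ :: cs, ψ ≠ irrOne G := fun ψ a e => by
      rcases List.mem_cons.1 a with rfl | a
      · rw [e, H17.deg_irrOne] at hχ; cases hχ
      · have := (by decide : ∀ x ∈ PAT, ∀ z ∈ x.2, z.natAbs ≠ 1) _ a1 _ (List.mem_map_of_mem a)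
        exact this (by rw [← a6 ψ a, e, H17.deg_irrOne])
    have hL : ROk (· = (iv · u)) (χ :: cs) [relP (m, cs.map fun ψ => n ψ * deg ψ)] := fun L hL => by
      rw [List.mem_singleton.1 hL]
      refine ⟨fun a ha => ?_, ?_⟩
      · simp only [relP, List.mem_cons, List.mem_map] at ha
        obtain rfl | ⟨b, hb, rfl⟩ := ha
        · simp
        · simpa using (List.mem_zipIdx hb).2.1
      rintro _ rfl
      have e1 := a5 u (by rw [hu]; decide)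
      have e2 : (m : ℤ) * iv χ u = (cs.map fun ψ => (n ψ * deg ψ).sign * iv ψ u).sum := by
        rw [List.map_congr_left (g := fun ψ => n ψ * iv ψ u) fun ψ a => by
          rcases a3 ψ a with e | e <;> simp [e, Int.sign_natCast_of_ne_zero (deg_ne_zero ψ)]]
        apply Int.cast_injective (α := ℂ)
        simpa only [hv, Int.cast_mul, Int.cast_natCast, Int.cast_list_sum, List.map_map,
          Function.comp_def] using e1
      simp only [reval, relP, List.map_cons, List.sum_cons, List.getD_cons_zero, List.map_map,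
        Function.comp_def, List.getD_cons_succ]
      rw [zip_sum _ _ cs 0 _ rfl, ← e2]
      ring
    obtain ⟨_, _, -, -, e⟩ := e3_sound hc H h12 htk hf hV (k := 4) le_rfl
      (ucol_sound hc b5 b11 b23 b7 hu he d1 jm rfl) a2 a7
      hL (fun A hA => by
        exact List.mem_flatMap.2 ⟨_, List.mem_filter.2 ⟨hA χ (Finset.mem_erase.2 ⟨a7 χ
          List.mem_cons_self, Finset.mem_univ _⟩), beq_iff_eq.2 hχ⟩, List.mem_map.2 ⟨_, mem_asgD
          (fun ψ a => ⟨hA ψ (Finset.mem_erase.2 ⟨a7 ψ (List.mem_cons_of_mem _ a),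
            Finset.mem_univ _⟩), a6 ψ a⟩) a4, rfl⟩⟩) d2
    simp at e
  obtain ⟨ψ, a1, a2⟩ := H.exists_neg (i := 1) (j := 2) (by decide) rfl rfl
  obtain ⟨_, _, -, -, e⟩ := e3_sound hc H h12 htk
    (flt := fun r => fl6 r && r.1 != 3840 && decide (cf 1 r * cf 2 r ≤ 0)) (fun θ a => by
      simp only [hf θ a, Bool.true_and, Bool.and_eq_true, bne_iff_ne, decide_eq_true_eq]
      exact ⟨fun e => h ⟨θ, e⟩, prod_le H (fun ψ a => ⟨h12 ψ (Finset.ne_of_mem_erase a), h45 ψ,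
        fun e => h ⟨ψ, e⟩⟩) (Finset.mem_erase.2 ⟨a, Finset.mem_univ _⟩)⟩) hV (k := 4) le_rfl
    (ucol_sound hc b5 b11 b23 b7 hu he hC [] rfl) (cs := [ψ]) (by simp) (by simpa using a1)
    (Ls := []) (fun _ h => by simp at h) (F := fun _ _ => false)
    (st := fun A => (A.filter fun r => decide (cf 1 r * cf 2 r < 0)).map fun r => ([r], []))
    (fun A h => List.mem_map.2 ⟨_, List.mem_filter.2 ⟨h ψ a1, decide_eq_true a2⟩, rfl⟩) (by
      rcases hk with rfl | rfl <;> rcases hl with rfl | rfl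
      exacts [k24_c'11, k24_c'12, k24_c'21, k24_c'22])
  simp at e

end H21.Eng
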