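import Mathlib
import Cfsg.Agent.H21.M23c

/-! Simple groups of order 244823040 with a subgroup of index 24. -/

set_option autoImplicit false
set_option linter.unusedSectionVars false

open Cfsg H4 H17 H18 Subgroup MulAction
open scoped Classical

namespace H21.Eng

def x24 : ℕ → ℕ := ap 956302485175575353788796878166559809
def q24 : ℕ → ℕ := ap 983435072843990828779021698901151808
def r24 : ℕ → ℕ := ap 980668730378935070469623699575545984
def lg24 : ℕ → ℕ := ap 6736580137028735938643161793168384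
def rp24 : ℕ → ℕ := ap 45558216358317871524697707378706496
def w24 : ℕ → ℕ := ap 15678632630496079850456276719587511
def n24 : ℕ → ℕ := ap 956765793662171983829532039519557312

/-- Three explicit permutations of 24 points (choose them). -/
def fs24 : List (ℕ → ℕ) := [x24, q24, w24]

def certs24 : List (List ℕ × ℕ) := [([0, 2], 17), ([2, 2, 0, 2], 16), ([0, 0, 2], 0),
  ([0, 2, 1], 17), ([0, 2, 2, 2, 1], 4), ([0, 2, 0, 1, 2], 19), ([0, 0, 2, 1], 22),
  ([2, 0, 2, 1, 2], 14), ([0, 1, 2, 2, 2], 19), ([0, 2, 0, 2, 2, 1], 10), ([0, 2, 1, 1, 1], 10),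
  ([0, 2, 0, 1, 2, 1], 1), ([0, 2, 0, 2, 2], 1), ([0, 0, 0, 2, 1], 1), ([0, 0, 0, 0, 0, 2], 0)]

theorem chk24 : ([0, 23].all fun A => (List.range 23).all fun B => B == 0 ||
    (List.range 23).all fun C => C == 0 || (orb r24 11 B).contains C ||
      fN (cnd 24 r24 lg24 rp24 [A, 23 - A, B, C]) fun T : ℕ =>
      certs24.any (badW 24 [23, 11, 960, 2688, 27648] [x24, q24, ap T]) ||
        (List.range 11).any fun j : ℕ => decide (∀ i < (24 : ℕ), (ap T ∘ q24^[j]) i = w24 i) ||
        decide (∀ i < (24 : ℕ), w24 (n24 i) = n24 ((ap T ∘ q24^[j]) i))) = true := by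
  decide +kernel

def u11 : (ZMod 11)ˣ := Units.mk0 2 (by decide)
theorem orderOf_u11 : orderOf u11 = 10 := (orderOf_eq_iff (by decide)).2 (by decide)

theorem m24_iso_of {G : Type*} [Group G] [Finite G] [IsSimpleGroup G] (hc : Nat.card G = 244823040)
    {x q : G} (hx : SC 23 x) (hq : SC 11 q) (he : Nat.card (Aut hx.ord) = 11)
    (he' : Nat.card (Aut hq.ord) = 10) (hqx : q * x * q⁻¹ = xp x (2 : ZMod 23))
    (h5 : ∀ g : G, 5 ∣ orderOf g → orderOf g ∣ 960) (h7 : ∀ g : G, 7 ∣ orderOf g → orderOf g ∣ 2688)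
    (hmin : ∀ ψ ≠ irrOne G, 23 ≤ deg ψ) {K : Subgroup G} (hK : K.index = 24) :
    Nonempty (G ≃* cl 24 fs24) := by
  obtain ⟨w, -, hwq⟩ := exists_act hq.ord (a := u11) (by rw [he', ← orderOf_u11, pow_orderOf_eq_one])
  have hgen : ∀ (x' : G) (j : ℕ), x ∈ zpowers x' → closure {g | g ∈ [x', q, w * q ^ j]} = ⊤ :=
    fun x' j h => by
    set Y := closure {g | g ∈ [x', q, w * q ^ j]}
    have h1 : x ∈ Y := zpowers_le.2 (subset_closure (by simp)) h
    have h2 : q ∈ Y := subset_closure (by simp)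
    have h3 : w ∈ Y := (mul_mem_cancel_right (pow_mem h2 j)).1 (subset_closure (by simp))
    obtain ⟨n, e1, e2⟩ := D1.card_sub' hx.d1 (normalizer_le hx.ord (a := u23) hqx
      (by rw [he, orderOf_u23]) (by rw [hx.cent]; exact zpowers_le.2 h1) h2)
    obtain ⟨m, e3, e4⟩ := D1.card_sub' hq.d1 (normalizer_le hq.ord (a := u11) hwq
      (by rw [he', orderOf_u11]) (by rw [hq.cent]; exact zpowers_le.2 h2) h3)
    have e6 := card_subgroup_dvd_card Y
    rw [hx.card_normalizer, he] at e2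
    rw [hq.card_normalizer, he'] at e4
    refine eq_top_of_card_eq _ ?_
    rw [hc] at e6 ⊢
    rw [e2] at e4 e6 ⊢
    have e7 : ∀ n ∈ divs [1023, 26, 4, 6], n % 23 = 1 → n % 10 = 0 →
        n = 70 ∨ n = 1680 ∨ n = 40320 ∨ n = 967680 := by
      decide +kernel
    have := e7 n (mem_divs _ (Nat.dvd_of_mul_dvd_mul_left (k := 253) (by norm_num) e6)) e1 (by omega)
    omega
  have hexp : ∀ g : G, ∃ N ∈ [23, 11, 960, 2688, 27648], g ^ N = 1 := fun g => by
    suffices ∃ N ∈ [23, 11, 960, 2688, 27648], orderOf g ∣ N from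
      this.imp fun N h => ⟨h.1, orderOf_dvd_iff_pow_eq_one.1 h.2⟩
    by_cases a : 23 ∣ orderOf g
    · exact ⟨23, by simp, (hx.orderOf_eq a).dvd⟩
    by_cases b : 11 ∣ orderOf g
    · exact ⟨11, by simp, (hq.orderOf_eq b).dvd⟩
    by_cases c : 5 ∣ orderOf g
    · exact ⟨960, by simp, h5 g c⟩
    by_cases d : 7 ∣ orderOf g
    · exact ⟨2688, by simp, h7 g d⟩
    have k : ∀ {p : ℕ}, p.Prime → ¬ p ∣ orderOf g → (orderOf g).Coprime p := fun hp h =>
      (hp.coprime_iff_not_dvd.2 h).symm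
    have := orderOf_dvd_natCard g
    rw [hc, show 244823040 = 27648 * 5 * 7 * 11 * 23 by norm_num] at this
    exact ⟨27648, by simp, (k (by norm_num) c).dvd_of_dvd_mul_right ((k (by norm_num) d).dvd_of_dvd_mul_right
      ((k (by norm_num) b).dvd_of_dvd_mul_right ((k (by norm_num) a).dvd_of_dvd_mul_right this)))⟩
  have hΩ : Nat.card (G ⧸ K) = 24 := hK
  have hK' : K ≠ ⊤ := fun e => by simp [e] at hK
  obtain ⟨η1, f1⟩ := (Nat.card_pos_iff.1 (hΩ ▸ le_card_fix (Ω := G ⧸ K) hx.ord)).1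
  have f2 : ∀ k : ℕ, x ^ k • η1 = η1 := fun k => pow_mem (show x ∈ stabilizer G η1 from f1) k
  have li : ∀ ω : G ⧸ K, x • ω ≠ ω → ∀ i < 24, ∀ j < 24,
      x ^ i • (if i / 23 = 0 then ω else η1) = x ^ j • (if j / 23 = 0 then ω else η1) → i = j :=
    fun ω hω i hi j hj e => by
    have k : ∀ i j : ℕ, x ^ i • ω ≠ x ^ j • η1 := fun i j e => hω (by
      rw [f2, ← f2 i, smul_left_cancel_iff] at e; rw [e, f1])
    split_ifs at e
    · have := pow_smul_inj hx.ord hω e; omega
    · exact absurd e (k i j)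
    · exact absurd e.symm (k j i)
    · omega
  have un : ∀ β : G ⧸ K, x • β = β → β = η1 := fun β hβ => by
    obtain ⟨ω, hω⟩ : ∃ ω : G ⧸ K, x • ω ≠ ω := by
      by_contra! e
      refine ne_one_of_orderOf hx.ord (?_ : x ∈ (⊥ : Subgroup G))
      rw [← normalCore_eq_bot_of_simple hK', normalCore_eq_ker]
      exact Equiv.ext e
    obtain ⟨i, e⟩ := ((Nat.bijective_iff_injective_and_card fun i : Fin 24 =>
      x ^ (i : ℕ) • (if (i : ℕ) / 23 = 0 then ω else η1)).2 ⟨fun i j e =>
        Fin.ext (li ω hω i i.2 j j.2 e), by rw [hΩ, Nat.card_fin]⟩).2 β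
    simp only at e
    split_ifs at e
    · rw [← e, ← mul_smul, ← pow_succ', pow_succ, mul_smul, smul_left_cancel_iff] at hβ
      exact absurd hβ hω
    · rw [← e, f2]
  have hqx' : q * x * q⁻¹ = x ^ 2 := hqx
  have q1 : q • η1 = η1 := un _ (by
    by_contra c
    have := pow_smul_inj hx.ord c (i := 2) (j := 0) (by
      rw [← hqx', mul_smul, inv_smul_smul, mul_smul, f1, pow_zero, one_smul])
    omega)
  have : Nontrivial {a : G ⧸ K // q • a = a} := Finite.one_lt_card_iff_nontrivial.1 (by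
    have := le_card_fix (Ω := G ⧸ K) hq.ord
    rw [hΩ] at this; omega)
  obtain ⟨⟨η, h1⟩, hη⟩ := exists_ne (⟨η1, q1⟩ : {a : G ⧸ K // q • a = a})
  obtain ⟨φ, hφ, -, hrep⟩ := exists_lab hx.ord hK' hK (fun k => if k = 0 then η else η1)
    (li η fun e => hη (Subtype.ext (un η e)))
  have rx : Rep φ x x24 := hrep x (fun i => if i / 23 = 0 then i + 1 else 0) _ (fun i _ => by
    split_ifs
    · rw [← mul_smul, ← pow_succ']
    · rw [f2, f1, f2]) (by decide +kernel)
  have rq : Rep φ q q24 := hrep q (2 * · % 23) _ (fun i _ => smul_pow_smul hx.ord hqx'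
    (by split_ifs <;> assumption) i) (by decide +kernel)
  have rr : Rep φ (xp q (2 : ZMod 11)) r24 := (rq.pow 2).congr (by decide +kernel)
  have h2 : ∀ y < 24, q24 y = y → fn φ w y = 0 ∨ fn φ w y = 23 := fun y hy e =>
    (by decide +kernel : ∀ A < 24, r24 A = A → A = 0 ∨ A = 23) _ (fn_lt w hy)
      (by simpa [e] using (fn_iter rq rr hwq 1 hy).symm)
  have a0 := h2 0 (by decide) (by decide +kernel)
  have a1 := h2 23 (by decide) (by decide +kernel)
  have a2 : fn φ w 23 = 23 - fn φ w 0 := by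
    have := fn_inj (φ := φ) w (i := 0) (j := 23) (by decide) (by decide)
    omega
  have h3 : ∀ i < 23, i ≠ 0 → fn φ w i ≠ 0 ∧ fn φ w i < 23 := fun i hi a => by
    have := fn_inj (φ := φ) w (i := i) (j := 0) (by omega) (by decide)
    have := fn_inj (φ := φ) w (i := i) (j := 23) (by omega) (by decide)
    have := fn_lt (φ := φ) w (i := i) (by omega)
    omega
  have rw' := rep_cnd rq rr hwq (lg := lg24) (rp := rp24) (reps := [0, 23, 1, 5]) (by decide)
    (by decide +kernel)
  simp only [List.map_cons, List.map_nil, a2] at rw'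
  have h4 := List.all_eq_true.1 (List.all_eq_true.1 chk24 (fn φ w 0) (by simpa using a0)) _
    (List.mem_range.2 (h3 1 (by decide) (by decide)).2)
  simp only [Bool.or_eq_true, beq_iff_eq, (h3 1 (by decide) (by decide)).1, false_or] at h4
  replace h4 := List.all_eq_true.1 h4 _ (List.mem_range.2 (h3 5 (by decide) (by decide)).2)
  simp only [Bool.or_eq_true, Bool.false_eq_true, beq_iff_eq, (h3 5 (by decide) (by decide)).1,
    false_or, not_mem_orb rq rr hwq (m := 11) (y := 1) (z := 5) (by decide) (by decide)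
      (by decide +kernel), fN_eq, not_badW (.cons rx (.cons rq (.cons rw' .nil))) hexp] at h4
  obtain ⟨j, -, h4⟩ := List.any_eq_true.1 h4
  rw [Bool.or_eq_true, decide_eq_true_eq, decide_eq_true_eq] at h4
  rcases h4 with e | e
  · exact iso_cl hφ (.cons rx (.cons rq (.cons ((rw'.mul (rq.pow j)).congr e) .nil)))
      (hgen x j (mem_zpowers x))
  let σ : Equiv.Perm (Fin 24) :=
    Function.Involutive.toPerm (fun i => Fin.ofNat 24 (n24 i))
      (by unfold Function.Involutive; decide +kernel)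
  have hs : ∀ i : Fin 24, (σ i : ℕ) = n24 i := by decide +kernel
  exact iso_cl ((MulAut.conj _).injective.comp hφ)
    (.cons ((rx.pow 22).conj _ hs (by decide +kernel)) (.cons (rq.conj _ hs (by decide +kernel))
    (.cons ((rw'.mul (rq.pow j)).conj _ hs e) .nil)))
    (hgen _ j (mem_zpowers_pow_iff.2 (by rw [hx.ord]; decide)))

end H21.Eng
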