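import Mathlib
import Cfsg.Agent.H21.M24c

/-! Simple groups of order 244823040: runs of the last search. -/

set_option autoImplicit false
set_option Elab.async false

namespace H21.Eng

theorem k24_d12 : ph3d 1 2 = true := by decide +kernel

theorem k24_d14 : ph3d 1 4 = true := by decide +kernel

theorem k24_d22 : ph3d 2 2 = true := by decide +kernel

theorem k24_d24 : ph3d 2 4 = true := by decide +kernel

theorem k24_s0 : ((SV.drop 0).take 2).all scol = true := by decide +kernel

theorem k24_s1 : ((SV.drop 2).take 2).all scol = true := by decide +kernel

theorem k24_s2 : ((SV.drop 4).take 2).all scol = true := by decide +kernel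

theorem k24_s3 : ((SV.drop 6).take 2).all scol = true := by decide +kernel

theorem k24_s4 : ((SV.drop 8).take 2).all scol = true := by decide +kernel

theorem k24_s5 : ((SV.drop 10).take 2).all scol = true := by decide +kernel

theorem k24_s : SV.all scol = true := show ((SV.drop 0).take 2 ++ ((SV.drop 2).take 2 ++ ((SV.drop
    4).take 2 ++ ((SV.drop 6).take 2 ++ ((SV.drop 8).take 2 ++ ((SV.drop 10).take 2)))))).all scol =
    true by simp only [List.all_append, k24_s0, k24_s1, k24_s2, k24_s3, k24_s4, k24_s5,
    Bool.and_self]

end H21.Eng
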