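import Mathlib
import Cfsg.Agent.H21.M24h
import Cfsg.Agent.H21.M24k5
import Cfsg.Agent.H21.M24id
import Cfsg.Agent.H21.M23b

/-! Simple groups of order 244823040 are isomorphic. -/

set_option autoImplicit false
set_option linter.unusedSectionVars false

open Cfsg H4 H17 H18 Subgroup
open scoped Classical

namespace H21.Eng

variable {G : Type*} [Group G] [Finite G]

theorem orderOf_dvd_cent {p : ℕ} [Fact p.Prime] {x : G} (h : D1 p x) {g : G} (hg : p ∣ orderOf g) :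
    orderOf g ∣ Nat.card (centralizer ({x} : Set G)) := by
  rw [← D1.card_centralizer_eq h (orderOf_pow_orderOf_div (orderOf_pos g).ne' hg)]
  exact orderOf_dvd_natCard _ (mem_centralizer_singleton_iff.2 (Commute.self_pow g _))

variable [IsSimpleGroup G]

theorem m24_73 (hc : Nat.card G = 244823040) {f5 f7 f11 f23 : Irr G → ℤ} (b11 : IsBlk G p11 f11)
    (b23 : IsBlk G p23 f23) (k11 : Kap 11 1 0 f11) (k23 : Kap 23 2 0 f23)
    (h12 : ∀ ψ ≠ irrOne G, 12 < deg ψ) {c5 : ℕ} (h5 : c5 = 12 ∨ c5 = 192)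
    (b5 : IsBlk G ⟨5, 4, c5⟩ f5) {k : ℕ} (hk : k = 1 ∨ k = 2) (k5 : Kap 5 1 k f5) {c : ℕ}
    (h7 : c = 6 ∨ c = 48 ∨ c = 384) (b7 : IsBlk G ⟨7, 3, c⟩ f7) {l : ℕ} (hl : l = 2 ∨ l = 4)
    (k7 : Kap 7 2 l f7) (h4 : ∀ ψ ≠ irrOne G, f5 ψ ≠ 0 → deg ψ ∈ [1771, 2024, 5544, 5796]) {q s : G}
    (hq : orderOf q = 11) (hs : orderOf s = 2) (h1 : s ∈ normalizer (zpowers q : Set G))
    (h2 : s ∉ centralizer ({q} : Set G)) (h3 : 5 ∣ Nat.card (centralizer ({s} : Set G))) :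
    (∀ ψ ≠ irrOne G, 23 ≤ deg ψ) ∧ ∃ K : Subgroup G, K.index = 24 := by
  have H : Hyp 244823040 P24 (allRecs P24) _ _ := (hyp4 hc b11 b23 h5 b5 b7 (c := 6) fun _ _ h => by
    rcases h7 with rfl | rfl | rfl
    exacts [h, cfs_mono (by decide) (by decide) (by decide) h,
      cfs_mono (by decide) (by decide) (by decide) h]).1
  obtain ⟨cs, Ls, c1, c2, hF⟩ := e3_sound hc H h12 (ks := [k, l, 0, 0]) (fun u v w ty T => by
      simp only [tok, tokL, rho, P24, List.map_cons, List.map_nil, Bool.and_eq_true, and_true]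
      exact ⟨k5 T, k7 T, k11 T, k23 T⟩) (flt := deg4) (fun ψ a => by
      rw [deg4, Bool.or_eq_true, beq_iff_eq, List.contains_iff_mem]
      exact or_iff_not_imp_left.2 (h4 ψ a)) (V := (· = (iv · s)))
    (fun v e => ⟨s, by rw [hs]; decide, fun ψ => e ▸ iv_inv ψ (mul_self_of_two hs)⟩) (k := 4) le_rfl
    (post := fun _ _ _ => false) (fun _ _ _ _ _ => by simp) (cs := []) (st := fun _ => [([], [])])
    (by simp) (by simp) (Ls := []) (fun _ h => by simp at h) (by simp)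
    (F := fun U Ls => SV.contains (U, Ls)) (by
      rcases hk with rfl | rfl <;> rcases hl with rfl | rfl
      exacts [k24_d12, k24_d14, k24_d22, k24_d24])
  replace hF := scol_sound hc h5 h7 b5 b7 b11 b23 hq hs h1 h2 h3 c1 (fun L a => (c2 L a).2 _ rfl)
    (List.all_eq_true.1 k24_s _ (List.contains_iff_mem.1 hF))
  simp only [fin24, List.reverse_reverse, List.zip_map', Bool.and_eq_true, beq_iff_eq,
    List.all_eq_true, List.forall_mem_map, Bool.or_eq_true, bne_iff_ne, decide_eq_true_eq,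
    List.contains_iff_mem] at hF
  obtain ⟨⟨d1, d2⟩, d3⟩ := hF
  have hin : ∀ ψ ≠ irrOne G, ψ ∈ cs ∨ 253 ∣ deg ψ := fun ψ a => or_iff_not_imp_left.2 fun b =>
    (by decide : Nat.Coprime 11 23).mul_dvd_of_dvd_of_dvd
      (b11.dvd_deg a (not_not.1 fun e => b (c1.all ψ (by simpa using a) 2 (by decide) e)))
      (b23.dvd_deg a (not_not.1 fun e => b (c1.all ψ (by simpa using a) 3 (by decide) e)))
  have hin' : ∀ ψ : Irr G, deg ψ = 23 ∨ deg ψ = 252 → ψ ∈ cs := fun ψ a =>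
    (hin ψ fun e => by rw [e, H17.deg_irrOne] at a; omega).resolve_right (by omega)
  have hl : ∀ ψ ≠ irrOne G, 276 < deg ψ ∨ deg ψ ∈ [23, 45, 231, 252, 253] := fun ψ a => by
    simp only [List.mem_cons, List.not_mem_nil, or_false]
    rcases hin ψ a with b | b
    · have := d2 ψ b
      simp only [List.mem_cons, List.not_mem_nil, or_false, rho_eq'] at this
      change 276 < deg ψ ∨ _ at this
      omega
    · have := deg_ne_zero ψ
      omega
  obtain ⟨χ, a1, a2⟩ : ∃ χ ∈ cs, deg χ = 23 := by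
    obtain ⟨r, a1, a2⟩ := List.countP_pos_iff.1 (d1.symm ▸ one_pos :
      0 < (cs.map (rho [f5, f7, f11, f23])).countP (·.1 == 23))
    obtain ⟨χ, a3, rfl⟩ := List.mem_map.1 a1
    exact ⟨χ, a3, beq_iff_eq.1 a2⟩
  refine ⟨fun ψ a => ?_, m24_index hc b11 b23 hs a2 (fun ψ a => eq_of_countP d1 (hin' ψ (Or.inl a))
    (beq_iff_eq.2 a) a1 (beq_iff_eq.2 a2)) ((d3 χ a1).1.resolve_left (· a2))
    (fun ψ a => (d3 ψ (hin' ψ (Or.inr a))).2.resolve_left (· a)) hl⟩
  have := hl ψ a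
  simp only [List.mem_cons, List.not_mem_nil, or_false] at this
  omega

theorem m24_iso (hc : Nat.card G = 244823040) : Nonempty (G ≃* cl 24 fs24) := by
  obtain ⟨x, hx, f23, he, b23⟩ := m24_23 hc
  obtain ⟨q, -, hqx⟩ := exists_act hx.ord (a := u23) (by rw [he, ← orderOf_u23, pow_orderOf_eq_one])
  obtain ⟨hq, f11, he', b11⟩ := m24_11 hc b23 (q := q)
    ⟨by rw [SC.orderOf_of_act hx hqx (by decide), orderOf_u23], by rw [hc]; decide⟩
  obtain ⟨r, hr, hrq⟩ := exists_act hq.ord (a := u11) (by rw [he', ← orderOf_u11, pow_orderOf_eq_one])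
  have r10 : orderOf r = 10 := by rw [SC.orderOf_of_act hq hrq (by decide), orderOf_u11]
  have hs : orderOf (r ^ 5) = 2 := by rw [orderOf_pow' _ (by decide), r10]; rfl
  have hw : D1 5 (r ^ 2) := ⟨by rw [orderOf_pow' _ (by decide), r10]; rfl, by rw [hc]; decide⟩
  have h3 : 5 ∣ Nat.card (centralizer ({r ^ 5} : Set G)) := hw.ord.symm.dvd.trans
    (Subgroup.orderOf_dvd_natCard _ (mem_centralizer_singleton_iff.2 (Commute.pow_pow_self r 2 5)))
  have k11 : Kap 11 1 0 f11 := kap_sc hq.d1 (by decide) b11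
  have k23 : Kap 23 2 0 f23 := kap_sc hx.d1 (by decide) b23
  have h12 := ban12 hc hx he b11 b23
  obtain ⟨c5, f5, h5, hcw, b5, h8⟩ := m24_5 hc b11 b23 k11 k23 h12 hw hs h3
  obtain ⟨k, hk, k5⟩ := exists_kap hw (by decide) b5
  replace hk : k = 1 ∨ k = 2 := by
    rcases h5 with rfl | rfl <;> revert hk <;> simp [kaps, Pr.t] <;> omega
  rw [show Pr.t ⟨5, 4, c5⟩ = 1 by simp [Pr.t]] at k5
  obtain ⟨u, hu⟩ := exists_D1 (G := G) (p := 7) (by rw [hc]; norm_num) (by rw [hc]; norm_num)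
  obtain ⟨e, c, f7, l, h6, heu, hcu, b7, hl, k7, hl', h4⟩ :=
    m24_7 hc b11 b23 k11 k23 h12 h5 b5 h8 hk k5 hu
  obtain ⟨rfl, h7⟩ | ⟨rfl, h7⟩ : e = 3 ∧ (c = 6 ∨ c = 48 ∨ c = 384) ∨
      e = 6 ∧ (c = 3 ∨ c = 24 ∨ c = 192) := by
    simp only [List.mem_cons, Prod.mk.injEq, List.not_mem_nil, or_false] at h6
    omega
  · rw [show Pr.t ⟨7, 3, c⟩ = 2 by simp [Pr.t]] at k7
    obtain ⟨hmin, K, hK⟩ := m24_73 hc b11 b23 k11 k23 h12 h5 b5 hk k5 h7 b7 (by omega) k7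
      (fun ψ a b => (h4 ψ a b).1) hq.ord hs (pow_mem hr 5)
      ((mem_cent_iff hq.ord (pow_conj_xp hq.ord hrq 5)).not.2 (by decide)) h3
    refine m24_iso_of hc hx hq he he' hqx (fun g a => (orderOf_dvd_cent hw a).trans ?_)
      (fun g a => (orderOf_dvd_cent hu a).trans ?_) hmin hK
    · rcases h5 with rfl | rfl <;> rw [hcw] <;> decide
    · rcases h7 with rfl | rfl | rfl <;> rw [hcu] <;> decide
  · rw [show Pr.t ⟨7, 6, c⟩ = 1 by simp [Pr.t]] at k7
    refine (m24_76 hc b11 b23 k11 k23 h12 h5 b5 hk k5 hu.ord heu h7 hcu b7 ?_ k7 h4).elim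
    rcases h7 with rfl | rfl | rfl <;> revert hl <;> simp [kaps, Pr.t] <;> omega

theorem m24_unique {G : Type*} [Group G] [Finite G] {H : Type*} [Group H] [Finite H] (hG : IsM24 G)
    (hH : IsM24 H) : Nonempty (G ≃* H) := by
  have := hG.1
  have := hH.1
  obtain ⟨e⟩ := m24_iso hG.2
  obtain ⟨e'⟩ := m24_iso hH.2
  exact ⟨e.trans e'.symm⟩

end H21.Eng
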