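import Mathlib
import Cfsg.Agent.H21.Mat11b
import Cfsg.Agent.H22.SuzII1

/-! Simple groups of order 7920: the Sylow 3-normaliser. -/

set_option autoImplicit false
set_option linter.unusedSectionVars false
set_option synthInstance.maxSize 4000

open Cfsg H4 H17 H18 Subgroup Module

namespace H21

variable {G : Type*} [Group G] [Finite G]

/-- A self-centralising prime does not divide the order of the normaliser of a `p'`-subgroup
whose order is not `1` modulo `p`. -/
theorem SC.not_dvd_normalizer {p : ℕ} [Fact p.Prime] {x : G} (h : SC p x) {U : Subgroup G}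
    (hU : ¬ p ∣ Nat.card U) (hU1 : ¬ Nat.card U ≡ 1 [MOD p]) :
    ¬ p ∣ Nat.card (normalizer (U : Set G)) := fun e => by
  obtain ⟨⟨y, hy⟩, hy2⟩ := exists_prime_orderOf_dvd_card' p e
  rw [Subgroup.orderOf_mk] at hy2
  have hP : IsPGroup p (zpowers y) := IsPGroup.of_card (n := 1) (by rw [Nat.card_zpowers, hy2, pow_one])
  have h1 := H22.card_modEq_cent hP (U := U) fun g hg u hu =>
    ((mem_normalizer_iff.1 (zpowers_le.2 hy hg)) u).1 hu
  have h2 : U ⊓ centralizer (zpowers y : Set G) ≠ ⊥ := fun e => by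
    rw [e, card_bot] at h1
    exact hU1 h1
  obtain ⟨⟨u, hu1, hu2⟩, hu⟩ := (ne_bot_iff_exists_ne_one).1 h2
  refine SC.not_dvd_centralizer h (w := u) (fun e => hU (e.trans (orderOf_dvd_natCard _ hu1)))
    (fun e => hu (Subtype.ext e)) ?_
  rw [← hy2]
  exact orderOf_dvd_natCard _ (mem_centralizer_singleton_iff.2 (hu2 y (mem_zpowers y)))

theorem exists_sylow3 (h9 : (Nat.card G).factorization 3 = 2) {x y g : G} (hx : x ^ 3 = 1)
    (hy : y ^ 3 = 1) (hxy : x * y = y * x) (h1 : x ≠ 1) (h2 : y ≠ 1) (h3 : y ≠ x)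
    (h4 : x * y ≠ 1) (h5 : g * x * g⁻¹ = y) (h6 : g * y * g⁻¹ = x * y) :
    ∃ P : Sylow 3 G, g ∈ normalizer ((P : Subgroup G) : Set G) := by
  classical
  have : Fact (Nat.Prime 3) := ⟨by norm_num⟩
  set Q := closure {x, y}
  have hxQ : x ∈ Q := subset_closure (by simp)
  have hyQ : y ∈ Q := subset_closure (by simp)
  have hc : ∀ a ∈ ({x, y} : Set G), ∀ b ∈ ({x, y} : Set G), a * b = b * a := by
    rintro a (rfl | rfl) b (rfl | rfl) <;> simp [hxy]
  have hcQ : ∀ a ∈ Q, ∀ b ∈ Q, a * b = b * a := fun a ha b hb =>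
    congrArg Subtype.val ((isMulCommutative_closure hc).is_comm.comm ⟨a, ha⟩ ⟨b, hb⟩)
  have hQ : IsPGroup 3 Q := by
    rintro ⟨a, ha⟩
    refine ⟨1, Subtype.ext ?_⟩
    change a ^ 3 ^ 1 = 1
    rw [pow_one]
    induction ha using closure_induction with
    | mem z hz => rcases hz with rfl | rfl <;> assumption
    | one => simp
    | mul a b ha hb h h' => rw [Commute.mul_pow (hcQ a ha b hb), h, h', one_mul]
    | inv a ha h => rw [inv_pow, h, inv_one]
  obtain ⟨P, hP⟩ := hQ.exists_le_sylow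
  have hP9 : Nat.card P = 9 := by rw [Sylow.card_eq_multiplicity, h9]; norm_num
  have hQP : Q = P := by
    refine eq_of_le_of_card_ge hP ?_
    have h7 : Nat.card Q ∣ 3 ^ 2 := by
      rw [show 3 ^ 2 = 9 by norm_num, ← hP9]; exact card_dvd_of_le hP
    have h8 : ({1, x, y, x * y} : Finset G).card ≤ Nat.card Q := by
      rw [← Nat.card_eq_finsetCard]
      refine Nat.card_le_card_of_injective (Set.inclusion ?_) (Set.inclusion_injective _)
      intro z hz
      simp only [Finset.mem_insert, Finset.mem_singleton, SetLike.setOf_mem_eq, Finset.coe_insert,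
        Finset.coe_singleton, Set.mem_insert_iff, Set.mem_singleton_iff] at hz
      rcases hz with rfl | rfl | rfl | rfl
      exacts [one_mem _, hxQ, hyQ, mul_mem hxQ hyQ]
    rw [Finset.card_insert_of_notMem (by simp [h1.symm, h2.symm, h4.symm]),
      Finset.card_insert_of_notMem (by simp [h3.symm, h2]),
      Finset.card_insert_of_notMem (by simp [h1]), Finset.card_singleton] at h8
    obtain ⟨i, hi, e⟩ := (Nat.dvd_prime_pow Nat.prime_three).1 h7
    rw [hP9, e]
    rw [e] at h8
    interval_cases i <;> simp_all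
  refine ⟨P, ?_⟩
  rw [← hQP]
  refine mem_normalizer_fintype fun n hn => ?_
  change n ∈ Q at hn
  change _ ∈ Q
  induction hn using closure_induction with
  | mem z hz =>
    rcases hz with rfl | rfl
    · rwa [h5]
    · rw [h6]; exact mul_mem hxQ hyQ
  | one => simp
  | mul a b ha hb h h' => rw [← conj_mul]; exact mul_mem h h'
  | inv a ha h => rw [← conj_inv]; exact inv_mem h

theorem m11_rel : let g : Equiv.Perm Ω11 := shP * shP * mlP u3 * s11
    let x : Equiv.Perm Ω11 := shP * mlP u3 * s11 * mlP u3 * s11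
    let y := g * x * g⁻¹
    x ^ 3 = 1 ∧ y ^ 3 = 1 ∧ x * y = y * x ∧ x ≠ 1 ∧ y ≠ 1 ∧ y ≠ x ∧ x * y ≠ 1 ∧
      g * y * g⁻¹ = x * y ∧ g ^ 2 ^ 2 ≠ 1 ∧ g ^ 2 ^ 3 = 1 := by
  decide +kernel

theorem m11_norm3 [IsSimpleGroup G] (hc : Nat.card G = 7920) (P : Sylow 3 G) :
    Nat.card (normalizer ((P : Subgroup G) : Set G)) = 144 := by
  have : Fact (Nat.Prime 3) := ⟨by norm_num⟩
  obtain ⟨e⟩ := m11_iso hc
  let ψ : G →* Equiv.Perm Ω11 := X11.subtype.comp e.toMonoidHom
  have hψ : Function.Injective ψ := X11.subtype_injective.comp e.injective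
  have hs : ∀ z ∈ X11, ∃ g, ψ g = z := fun z hz => ⟨e.symm ⟨z, hz⟩, by simp [ψ]⟩
  obtain ⟨a, ha⟩ := hs shP (subset_closure (by simp))
  obtain ⟨b, hb⟩ := hs (mlP u3) (subset_closure (by simp))
  obtain ⟨s, hs⟩ := hs s11 (subset_closure (by simp))
  have h := m11_rel
  simp only [← ha, ← hb, ← hs, ← map_mul, ← map_inv, ← map_pow, hψ.eq_iff, ne_eq,
    map_eq_one_iff ψ hψ] at h
  obtain ⟨h1, h2, h3, h4, h5, h6, h7, h8, h9, h10⟩ := h
  have h3f : (Nat.card G).factorization 3 = 2 := by
    rw [hc, show 7920 = 3 ^ 2 * 880 by norm_num, Nat.factorization_mul (by norm_num) (by norm_num),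
      Nat.Prime.factorization_pow Nat.prime_three]
    simp [Nat.factorization_eq_zero_of_not_dvd]
  obtain ⟨Q, hQ⟩ := exists_sylow3 h3f h1 h2 h3 h4 h5 h6 h7 rfl h8
  have h11 := orderOf_dvd_natCard _ hQ
  rw [orderOf_eq_prime_pow h9 h10] at h11
  obtain ⟨x, w, f, hx, hw, -⟩ := m11_local hc
  have hQ9 : Nat.card Q = 9 := by rw [Sylow.card_eq_multiplicity, h3f]; norm_num
  have h12 := SC.not_dvd_normalizer hx (U := Q) (by rw [hQ9]; decide) (by rw [hQ9]; decide)
  have h13 := SC.not_dvd_normalizer hw (U := Q) (by rw [hQ9]; decide) (by rw [hQ9]; decide)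
  have h14 := card_sylow_modEq_one 3 G
  have h15 := card_mul_index (normalizer ((P : Subgroup G) : Set G))
  have h16 := card_mul_index (normalizer ((Q : Subgroup G) : Set G))
  rw [show (normalizer ((P : Subgroup G) : Set G)).index = _ from
    (Sylow.card_eq_index_normalizer P).symm, hc] at h15
  rw [show (normalizer ((Q : Subgroup G) : Set G)).index = _ from
    (Sylow.card_eq_index_normalizer Q).symm, hc] at h16
  have h17 := card_dvd_of_le (le_normalizer (H := (Q : Subgroup G)))
  rw [hQ9] at h17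
  have h18 : Nat.card (normalizer ((Q : Subgroup G) : Set G)) = 144 := by
    generalize Nat.card (normalizer ((Q : Subgroup G) : Set G)) = n at *
    generalize Nat.card (Sylow 3 G) = m at *
    obtain ⟨k, rfl⟩ : 72 ∣ n := by omega
    have h19 : k ∣ 110 := ⟨m, by linarith⟩
    have h20 : k = 1 ∨ k = 2 := by
      have := Nat.le_of_dvd (by norm_num) h19
      revert h12 h13 h19
      clear * - this
      revert k
      decide +kernel
    rcases h20 with rfl | rfl
    · obtain rfl : m = 110 := by omega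
      exact absurd h14 (by decide)
    · rfl
  rw [h18] at h16
  rw [show Nat.card (Sylow 3 G) = 55 by omega] at h15
  omega

end H21
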